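/-
Canonical ideals, part I: the `Ext`-theoretic input.  For a finite module `W` of injective
dimension at most one over a Noetherian local ring, and injections `N → M`, `N' → M'` of finite
modules with isomorphic cokernels and with a regular element of the maximal ideal on `M`, `M'`, the
cokernels of the restriction maps `Hom(M, W) → Hom(N, W)` and `Hom(M', W) → Hom(N', W)` are
isomorphic (both are `Ext^1(M/N, W)`).
Author: helper88
-/
import Groth.Agent.Lib.Helper85.CanonDual
import Groth.Agent.Lib.Helper4.InjDim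

set_option autoImplicit false
set_option linter.style.haveILetI false

namespace Groth.Agent.Lib.Helper88.CanonExt

open CategoryTheory Abelian IsLocalRing

universe u

variable {R : Type u} [CommRing R] [IsNoetherianRing R] [IsLocalRing R]

/-- `Ext^1(N, Y) = 0` when `Y` has injective dimension `≤ 1` and `N` admits a regular element. -/
theorem ext_one_subsingleton_of_regular (Y : ModuleCat.{u} R) [Module.Finite R Y]
    (hY : HasInjectiveDimensionLT Y 2)
    (N : ModuleCat.{u} R) [Module.Finite R N] (x : R) (hx : x ∈ maximalIdeal R)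
    (hreg : IsSMulRegular N x) : Subsingleton (Ext N Y 1) := by
  let S := N.smulShortComplex x
  have hS : S.ShortExact := hreg.smulShortComplex_shortExact
  have h3 : Subsingleton (Ext S.X₃ Y 2) := HasInjectiveDimensionLT.subsingleton Y 2 2 le_rfl S.X₃
  let E := Ext N Y 1
  have hle : (⊤ : Submodule R E) ≤ maximalIdeal R • (⊤ : Submodule R E) := by
    intro e _
    obtain ⟨e₂, he₂⟩ := Ext.contravariant_sequence_exact₁ hS Y e (add_comm 1 1)
      (Subsingleton.elim (h := h3) _ _)
    have : e = x • e₂ := by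
      rw [← he₂]
      change (Ext.mk₀ (x • 𝟙 N)).comp e₂ (zero_add 1) = x • e₂
      simp [Ext.mk₀_smul]
      rfl
    rw [this]
    exact Submodule.smul_mem_smul hx Submodule.mem_top
  have hbot := Submodule.eq_bot_of_le_smul_of_le_jacobson_bot (maximalIdeal R)
    (⊤ : Submodule R E) Module.Finite.fg_top hle
    (by rw [IsLocalRing.jacobson_eq_maximalIdeal ⊥ bot_ne_top])
  refine ⟨fun a b => ?_⟩
  have ha : a ∈ (⊤ : Submodule R E) := Submodule.mem_top
  have hb : b ∈ (⊤ : Submodule R E) := Submodule.mem_top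
  rw [hbot, Submodule.mem_bot] at ha hb
  rw [ha, hb]

omit [IsNoetherianRing R] [IsLocalRing R] in
/-- The cokernel of restriction is `Ext^1` of the quotient. -/
theorem nonempty_coker_equiv {S : ShortComplex (ModuleCat.{u} R)} (hS : S.ShortExact)
    (Y : ModuleCat.{u} R) (h2 : Subsingleton (Ext S.X₂ Y 1)) :
    Nonempty (((S.X₁ →ₗ[R] Y) ⧸ LinearMap.range (LinearMap.lcomp R Y S.f.hom)) ≃ₗ[R]
      Ext S.X₃ Y 1) := by
  have hsurj : Function.Surjective (Groth.Agent.Lib.Helper85.Canon.extδ₀ hS Y) := by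
    intro x₃
    obtain ⟨x₁, hx₁⟩ := Ext.contravariant_sequence_exact₃ hS Y x₃
      (Subsingleton.elim (h := h2) _ _) (add_comm 1 0)
    obtain ⟨φ, rfl⟩ := (Ext.mk₀_bijective _ _).2 x₁
    exact ⟨φ.hom, hx₁⟩
  have hker : LinearMap.ker (Groth.Agent.Lib.Helper85.Canon.extδ₀ hS Y) =
      LinearMap.range (LinearMap.lcomp R Y S.f.hom) :=
    (LinearMap.exact_iff.1 (Groth.Agent.Lib.Helper85.Canon.extδ₀_exact hS Y))
  rw [← hker]
  exact ⟨LinearMap.quotKerEquivOfSurjective _ hsurj⟩

omit [IsNoetherianRing R] [IsLocalRing R] in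
/-- Isomorphic first arguments give linearly isomorphic `Ext` modules. -/
theorem nonempty_ext_equiv_of_iso {X X' : ModuleCat.{u} R} (e : X ≅ X') (Y : ModuleCat.{u} R)
    (n : ℕ) : Nonempty (Ext X Y n ≃ₗ[R] Ext X' Y n) := by
  refine ⟨LinearEquiv.ofLinearMap
    (Ext.precompOfLinear (Ext.mk₀ e.inv) R Y (zero_add n))
    (Ext.precompOfLinear (Ext.mk₀ e.hom) R Y (zero_add n)) ?_ ?_⟩
  · ext x
    show (Ext.mk₀ e.inv).comp ((Ext.mk₀ e.hom).comp x (zero_add n)) (zero_add n) = x
    rw [← Ext.comp_assoc_of_second_deg_zero, Ext.mk₀_comp_mk₀, e.inv_hom_id]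
    simp
  · ext x
    show (Ext.mk₀ e.hom).comp ((Ext.mk₀ e.inv).comp x (zero_add n)) (zero_add n) = x
    rw [← Ext.comp_assoc_of_second_deg_zero, Ext.mk₀_comp_mk₀, e.hom_inv_id]
    simp

/-- **Transfer of the cokernel of restriction.** -/
theorem nonempty_coker_equiv_coker
    (W : Type u) [AddCommGroup W] [Module R W] [Module.Finite R W]
    (hW : HasInjectiveDimensionLT (ModuleCat.of R W) 2)
    {N M N' M' : Type u} [AddCommGroup N] [Module R N] [AddCommGroup M] [Module R M]
    [AddCommGroup N'] [Module R N'] [AddCommGroup M'] [Module R M']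
    [Module.Finite R M] [Module.Finite R M']
    (f : N →ₗ[R] M) (hf : Function.Injective f) (f' : N' →ₗ[R] M') (hf' : Function.Injective f')
    (e : (M ⧸ LinearMap.range f) ≃ₗ[R] (M' ⧸ LinearMap.range f'))
    (x : R) (hx : x ∈ maximalIdeal R) (hreg : IsSMulRegular M x) (hreg' : IsSMulRegular M' x) :
    Nonempty (((N →ₗ[R] W) ⧸ LinearMap.range (LinearMap.lcomp R W f)) ≃ₗ[R]
      ((N' →ₗ[R] W) ⧸ LinearMap.range (LinearMap.lcomp R W f'))) := by
  let S : ShortComplex (ModuleCat.{u} R) :=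
    ModuleCat.shortComplexOfCompEqZero f (LinearMap.range f).mkQ (by
      ext a
      simp)
  have hS : S.ShortExact := ModuleCat.shortComplex_shortExact S
    (by
      intro y
      show (LinearMap.range f).mkQ y = 0 ↔ y ∈ Set.range f
      rw [Submodule.mkQ_apply, Submodule.Quotient.mk_eq_zero]
      rfl) hf (Submodule.mkQ_surjective _)
  let S' : ShortComplex (ModuleCat.{u} R) :=
    ModuleCat.shortComplexOfCompEqZero f' (LinearMap.range f').mkQ (by
      ext a
      simp)
  have hS' : S'.ShortExact := ModuleCat.shortComplex_shortExact S'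
    (by
      intro y
      show (LinearMap.range f').mkQ y = 0 ↔ y ∈ Set.range f'
      rw [Submodule.mkQ_apply, Submodule.Quotient.mk_eq_zero]
      rfl) hf' (Submodule.mkQ_surjective _)
  haveI : Module.Finite R (ModuleCat.of R W) := ‹Module.Finite R W›
  haveI : Module.Finite R (ModuleCat.of R M) := ‹Module.Finite R M›
  haveI : Module.Finite R (ModuleCat.of R M') := ‹Module.Finite R M'›
  have h2 : Subsingleton (Ext S.X₂ (ModuleCat.of R W) 1) :=
    ext_one_subsingleton_of_regular (ModuleCat.of R W) hW (ModuleCat.of R M) x hx hreg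
  have h2' : Subsingleton (Ext S'.X₂ (ModuleCat.of R W) 1) :=
    ext_one_subsingleton_of_regular (ModuleCat.of R W) hW (ModuleCat.of R M') x hx hreg'
  obtain ⟨e1⟩ := nonempty_coker_equiv hS (ModuleCat.of R W) h2
  obtain ⟨e1'⟩ := nonempty_coker_equiv hS' (ModuleCat.of R W) h2'
  obtain ⟨e2⟩ := nonempty_ext_equiv_of_iso (X := S.X₃) (X' := S'.X₃) e.toModuleIso
    (ModuleCat.of R W) 1
  exact ⟨(e1.trans e2).trans e1'.symm⟩

section Explicit

variable {R' : Type u} [CommRing R']

/-- Two quotients that are cyclic with the same annihilator data are isomorphic. -/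
theorem nonempty_quot_equiv_of_cyclic {N M N' M' : Type u} [AddCommGroup N] [Module R' N]
    [AddCommGroup M] [Module R' M] [AddCommGroup N'] [Module R' N'] [AddCommGroup M']
    [Module R' M'] (f : N →ₗ[R'] M) (f' : N' →ₗ[R'] M') (p₀ : M) (p₀' : M')
    (hs : ∀ y : M, ∃ a : R', y - a • p₀ ∈ LinearMap.range f)
    (hs' : ∀ y : M', ∃ a : R', y - a • p₀' ∈ LinearMap.range f')
    (hk : ∀ a : R', a • p₀ ∈ LinearMap.range f ↔ a • p₀' ∈ LinearMap.range f') :
    Nonempty ((M ⧸ LinearMap.range f) ≃ₗ[R'] (M' ⧸ LinearMap.range f')) := by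
  set φ₁ : R' →ₗ[R'] (M ⧸ LinearMap.range f) :=
    (LinearMap.range f).mkQ ∘ₗ LinearMap.toSpanSingleton R' M p₀ with hφ₁
  set φ₂ : R' →ₗ[R'] (M' ⧸ LinearMap.range f') :=
    (LinearMap.range f').mkQ ∘ₗ LinearMap.toSpanSingleton R' M' p₀' with hφ₂
  have hk₁ : ∀ a : R', a ∈ LinearMap.ker φ₁ ↔ a • p₀ ∈ LinearMap.range f := by
    intro a
    rw [LinearMap.mem_ker, hφ₁, LinearMap.comp_apply, Submodule.mkQ_apply,
      Submodule.Quotient.mk_eq_zero, LinearMap.toSpanSingleton_apply]
  have hk₂ : ∀ a : R', a ∈ LinearMap.ker φ₂ ↔ a • p₀' ∈ LinearMap.range f' := by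
    intro a
    rw [LinearMap.mem_ker, hφ₂, LinearMap.comp_apply, Submodule.mkQ_apply,
      Submodule.Quotient.mk_eq_zero, LinearMap.toSpanSingleton_apply]
  have hker : LinearMap.ker φ₁ = LinearMap.ker φ₂ := by
    ext a
    rw [hk₁, hk₂, hk]
  have hs₁ : Function.Surjective φ₁ := by
    intro q
    obtain ⟨y, rfl⟩ := Submodule.mkQ_surjective _ q
    obtain ⟨a, ha⟩ := hs y
    refine ⟨a, ?_⟩
    rw [hφ₁, LinearMap.comp_apply, Submodule.mkQ_apply, Submodule.mkQ_apply, eq_comm,
      Submodule.Quotient.eq, LinearMap.toSpanSingleton_apply]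
    exact ha
  have hs₂ : Function.Surjective φ₂ := by
    intro q
    obtain ⟨y, rfl⟩ := Submodule.mkQ_surjective _ q
    obtain ⟨a, ha⟩ := hs' y
    refine ⟨a, ?_⟩
    rw [hφ₂, LinearMap.comp_apply, Submodule.mkQ_apply, Submodule.mkQ_apply, eq_comm,
      Submodule.Quotient.eq, LinearMap.toSpanSingleton_apply]
    exact ha
  exact ⟨((φ₁.quotKerEquivOfSurjective hs₁).symm.trans
    (Submodule.quotEquivOfEq _ _ hker)).trans (φ₂.quotKerEquivOfSurjective hs₂)⟩

/-- **Existence of a non-extendable homomorphism**, with all class hypotheses explicit. -/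
theorem exists_nonextendable (hnoeth : IsNoetherianRing R') (hloc : IsLocalRing R')
    (W : Type u) [AddCommGroup W] [Module R' W] (hWfin : Module.Finite R' W)
    (hW : HasInjectiveDimensionLT (ModuleCat.of R' W) 2)
    {N M N' M' : Type u} [AddCommGroup N] [Module R' N] [AddCommGroup M] [Module R' M]
    [AddCommGroup N'] [Module R' N'] [AddCommGroup M'] [Module R' M']
    (hMfin : Module.Finite R' M) (hM'fin : Module.Finite R' M')
    (f : N →ₗ[R'] M) (hf : Function.Injective f) (f' : N' →ₗ[R'] M')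
    (hf' : Function.Injective f') (p₀ : M) (p₀' : M')
    (hs : ∀ y : M, ∃ a : R', y - a • p₀ ∈ LinearMap.range f)
    (hs' : ∀ y : M', ∃ a : R', y - a • p₀' ∈ LinearMap.range f')
    (hk : ∀ a : R', a • p₀ ∈ LinearMap.range f ↔ a • p₀' ∈ LinearMap.range f')
    (x : R') (hx : x ∈ maximalIdeal R') (hreg : IsSMulRegular M x) (hreg' : IsSMulRegular M' x)
    (φ₀ : N' →ₗ[R'] W) (hφ₀ : ¬ ∃ φ : M' →ₗ[R'] W, φ ∘ₗ f' = φ₀) :
    ∃ ψ : N →ₗ[R'] W, ¬ ∃ ψ' : M →ₗ[R'] W, ψ' ∘ₗ f = ψ := by
  obtain ⟨e⟩ := nonempty_quot_equiv_of_cyclic f f' p₀ p₀' hs hs' hk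
  obtain ⟨E⟩ := nonempty_coker_equiv_coker W hW f hf f' hf' e x hx hreg hreg'
  by_contra hall
  push Not at hall
  apply hφ₀
  have h0 : (Submodule.Quotient.mk φ₀ :
      (N' →ₗ[R'] W) ⧸ LinearMap.range (LinearMap.lcomp R' W f')) = 0 := by
    apply E.symm.injective
    rw [map_zero]
    obtain ⟨ψ, hψ⟩ := Submodule.Quotient.mk_surjective _ (E.symm (Submodule.Quotient.mk φ₀))
    rw [← hψ, Submodule.Quotient.mk_eq_zero]
    obtain ⟨ψ', hψ'⟩ := hall ψ
    exact ⟨ψ', hψ'⟩
  rw [Submodule.Quotient.mk_eq_zero] at h0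
  obtain ⟨φ, hφ⟩ := h0
  exact ⟨φ, hφ⟩

end Explicit

end Groth.Agent.Lib.Helper88.CanonExt
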