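/-
Abstract tools for computing the length of `Ext^1` of two-generated modules:
`Ext^1(M, N)` as a cokernel of restriction from a projective cover, and the length of a quotient
along a filtration with simple or trivial steps.
Author: helper88
-/
import Groth.Agent.Lib.Helper88.CanonExt

set_option autoImplicit false
set_option linter.style.haveILetI false

namespace Groth.Agent.Lib.Helper88.ExtLen

open CategoryTheory Abelian IsLocalRing

universe u

section ExtCoker

variable {R : Type u} [CommRing R]

/-- `Ext^1(M, N)` is the cokernel of restriction `Hom(F, N) → Hom(K, N)` for a projective `F`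
mapping onto `M` with kernel `K`. -/
theorem nonempty_coker_equiv_ext_one {F M N : Type u} [AddCommGroup F] [Module R F]
    [Module.Projective R F] [AddCommGroup M] [Module R M] [AddCommGroup N] [Module R N]
    (π : F →ₗ[R] M) (hπ : Function.Surjective π) :
    Nonempty ((((LinearMap.ker π) →ₗ[R] N) ⧸
      LinearMap.range (LinearMap.lcomp R N (LinearMap.ker π).subtype)) ≃ₗ[R]
      Ext (ModuleCat.of R M) (ModuleCat.of R N) 1) := by
  let S : ShortComplex (ModuleCat.{u} R) :=
    ModuleCat.shortComplexOfCompEqZero (LinearMap.ker π).subtype π (by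
      ext a
      exact a.2)
  have hS : S.ShortExact := ModuleCat.shortComplex_shortExact S
    (by
      intro y
      show π y = 0 ↔ y ∈ Set.range (LinearMap.ker π).subtype
      constructor
      · intro hy
        exact ⟨⟨y, hy⟩, rfl⟩
      · rintro ⟨z, rfl⟩
        exact z.2) Subtype.val_injective hπ
  haveI : Projective (ModuleCat.of R F) := (IsProjective.iff_projective F).1 inferInstance
  have h2 : Subsingleton (Ext S.X₂ (ModuleCat.of R N) 1) :=
    Ext.subsingleton_of_projective (ModuleCat.of R F) (ModuleCat.of R N) 0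
  exact CanonExt.nonempty_coker_equiv hS (ModuleCat.of R N) h2

end ExtCoker

section Length

variable {R : Type*} [CommRing R] {P : Type*} [AddCommGroup P] [Module R P]

/-- Third isomorphism theorem as a length identity. -/
theorem length_quot_step (G₁ G₂ : Submodule R P) (hle : G₂ ≤ G₁) :
    Module.length R (P ⧸ G₂) =
      Module.length R (↥G₁ ⧸ Submodule.comap G₁.subtype G₂) + Module.length R (P ⧸ G₁) := by
  refine Module.length_eq_add_of_exact (Submodule.mapQ _ _ G₁.subtype le_rfl)
    (Submodule.factor hle) ?_ (Submodule.factor_surjective hle) ?_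
  · rw [← LinearMap.ker_eq_bot, LinearMap.ker_eq_bot']
    intro q hq
    obtain ⟨x, rfl⟩ := Submodule.Quotient.mk_surjective _ q
    rw [Submodule.mapQ_apply, Submodule.Quotient.mk_eq_zero] at hq
    rw [Submodule.Quotient.mk_eq_zero]
    exact hq
  · intro q
    obtain ⟨x, rfl⟩ := Submodule.Quotient.mk_surjective _ q
    have hfm : Submodule.factor hle (Submodule.Quotient.mk x) = Submodule.Quotient.mk x :=
      Submodule.factor_mk hle x
    rw [hfm, Submodule.Quotient.mk_eq_zero]
    constructor
    · intro hx
      exact ⟨Submodule.Quotient.mk ⟨x, hx⟩, rfl⟩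
    · rintro ⟨q', hq'⟩
      obtain ⟨y, rfl⟩ := Submodule.Quotient.mk_surjective _ q'
      rw [Submodule.mapQ_apply, Submodule.Quotient.eq] at hq'
      have : x = (y : P) - ((y : P) - x) := by abel
      rw [this]
      exact G₁.sub_mem y.2 (hle hq')

/-- A cyclic module whose annihilator data is the maximal ideal has length one. -/
theorem length_quot_eq_one_of_cyclic (hloc : IsLocalRing R) (S' : Submodule R P) (p₀ : P)
    (hk : ∀ a : R, a • p₀ ∈ S' ↔ a ∈ maximalIdeal R)
    (hs : ∀ y : P, ∃ a : R, y - a • p₀ ∈ S') : Module.length R (P ⧸ S') = 1 := by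
  set φ : R →ₗ[R] (P ⧸ S') := S'.mkQ ∘ₗ LinearMap.toSpanSingleton R P p₀ with hφ
  have hker : LinearMap.ker φ = maximalIdeal R := by
    ext a
    rw [LinearMap.mem_ker, hφ, LinearMap.comp_apply, Submodule.mkQ_apply,
      Submodule.Quotient.mk_eq_zero, LinearMap.toSpanSingleton_apply, hk]
  have hsurj : Function.Surjective φ := by
    intro q
    obtain ⟨y, rfl⟩ := Submodule.mkQ_surjective _ q
    obtain ⟨a, ha⟩ := hs y
    refine ⟨a, ?_⟩
    rw [hφ, LinearMap.comp_apply, Submodule.mkQ_apply, Submodule.mkQ_apply, eq_comm,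
      Submodule.Quotient.eq, LinearMap.toSpanSingleton_apply]
    exact ha
  have e : (R ⧸ maximalIdeal R) ≃ₗ[R] (P ⧸ S') :=
    (Submodule.quotEquivOfEq _ _ hker.symm).trans (φ.quotKerEquivOfSurjective hsurj)
  rw [← e.length_eq, Module.length_eq_one_iff]
  exact isSimpleModule_iff_quot_maximal.2 ⟨maximalIdeal R, inferInstance, ⟨LinearEquiv.refl _ _⟩⟩

/-- **Length along a filtration** whose steps are trivial outside `D` and simple on `D`. -/
theorem length_quot_of_filtration (hloc : IsLocalRing R) (G : ℕ → Submodule R P)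
    (h0 : G 0 = ⊤)
    (hanti : ∀ n, G (n + 1) ≤ G n) (D : Set ℕ) [DecidablePred (· ∈ D)]
    (htriv : ∀ n, n ∉ D → G n ≤ G (n + 1))
    (hsimple : ∀ n, n ∈ D → ∃ p₀ ∈ G n, (∀ a : R, a • p₀ ∈ G (n + 1) ↔ a ∈ maximalIdeal R) ∧
      ∀ y ∈ G n, ∃ a : R, y - a • p₀ ∈ G (n + 1)) (N : ℕ) :
    Module.length R (P ⧸ G N) = (((Finset.range N).filter (· ∈ D)).card : ℕ∞) := by
  induction N with
  | zero =>
    rw [h0, Finset.range_zero, Finset.filter_empty, Finset.card_empty, Nat.cast_zero,
      Module.length_eq_zero_iff]
    infer_instance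
  | succ N ih =>
    rw [length_quot_step (G N) (G (N + 1)) (hanti N), ih, Finset.range_add_one,
      Finset.filter_insert]
    by_cases hN : N ∈ D
    · rw [if_pos hN, Finset.card_insert_of_notMem (by simp)]
      obtain ⟨p₀, hp₀, hk, hs⟩ := hsimple N hN
      have h1 : Module.length R (↥(G N) ⧸ Submodule.comap (G N).subtype (G (N + 1))) = 1 := by
        refine length_quot_eq_one_of_cyclic hloc _ ⟨p₀, hp₀⟩ ?_ ?_
        · intro a
          rw [Submodule.mem_comap]
          exact hk a
        · intro y
          obtain ⟨a, ha⟩ := hs y y.2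
          exact ⟨a, ha⟩
      rw [h1]
      push_cast
      rw [add_comm]
    · rw [if_neg hN]
      have h1 : Module.length R (↥(G N) ⧸ Submodule.comap (G N).subtype (G (N + 1))) = 0 := by
        rw [Module.length_eq_zero_iff]
        refine ⟨fun q q' => ?_⟩
        obtain ⟨x, rfl⟩ := Submodule.Quotient.mk_surjective _ q
        obtain ⟨x', rfl⟩ := Submodule.Quotient.mk_surjective _ q'
        rw [Submodule.Quotient.eq, Submodule.mem_comap]
        exact htriv N hN ((G N).sub_mem x.2 x'.2)
      rw [h1, zero_add]

end Length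

end Groth.Agent.Lib.Helper88.ExtLen
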