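/-
Function fields of one variable: nonconstant elements are transcendental and `K` is finite over
`k(y)` for every transcendental `y`.
Author: helper88
-/
import Groth.Prelude.Def_W4bk4goldsch23FF
import Mathlib.RingTheory.AlgebraicIndependent.TranscendenceBasis
import Mathlib.RingTheory.AlgebraicIndependent.Transcendental
import Mathlib.FieldTheory.IntermediateField.Adjoin.Algebra
import Mathlib.FieldTheory.IntermediateField.Adjoin.Basic

set_option autoImplicit false

namespace Groth.Agent.Lib.Helper88.FF

open FunFld
open scoped IntermediateField.algebraAdjoinAdjoin

variable {k K : Type*} [Field k] [Field K] [Algebra k K]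

/-- Nonconstant elements of a function field are transcendental. -/
lemma transcendental_of_not_mem_range (hK : IsFunctionField k K) {y : K}
    (hy : y ∉ Set.range (algebraMap k K)) : Transcendental k y :=
  fun h => hy (hK.2 y h)

/-- Transcendental elements are not constants. -/
lemma not_mem_range_of_transcendental {y : K} (hy : Transcendental k y) :
    y ∉ Set.range (algebraMap k K) := by
  rintro ⟨c, rfl⟩
  exact hy (isAlgebraic_algebraMap c)

/-- In a function field of one variable, `K` is finite over `k(y)` for every transcendental `y`. -/
theorem finiteDimensional_adjoin_of_transcendental (hK : IsFunctionField k K) {y : K}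
    (hy : Transcendental k y) : FiniteDimensional (IntermediateField.adjoin k ({y} : Set K)) K := by
  obtain ⟨⟨x₀, hx₀, hfin⟩, -⟩ := hK
  -- `K` is algebraic over the subalgebra `k[x₀]`
  have halg0 : Algebra.IsAlgebraic (IntermediateField.adjoin k ({x₀} : Set K)) K :=
    Algebra.IsAlgebraic.of_finite _ _
  have halg1 : Algebra.IsAlgebraic (Algebra.adjoin k ({x₀} : Set K)) K :=
    Algebra.IsAlgebraic.trans (Algebra.adjoin k ({x₀} : Set K))
      (IntermediateField.adjoin k ({x₀} : Set K)) K
  have htr : Algebra.trdeg k K ≤ 1 := by
    have := Algebra.IsAlgebraic.trdeg_le_cardinalMk k ({x₀} : Set K)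
    simpa using this
  have hind : AlgebraicIndependent k (fun _ : Unit => y) :=
    algebraicIndependent_unique_type_iff.2 hy
  have hbasis : IsTranscendenceBasis k (fun _ : Unit => y) :=
    hind.isTranscendenceBasis_of_lift_trdeg_le_of_finite (by simpa using htr)
  have halg2 : Algebra.IsAlgebraic (IntermediateField.adjoin k ({y} : Set K)) K := by
    have := hbasis.isAlgebraic_field
    rwa [Set.range_const] at this
  -- finite generation
  obtain ⟨m, s, hs⟩ := Module.Finite.exists_fin (R := IntermediateField.adjoin k ({x₀} : Set K))
    (M := K)
  set S : Set K := {x₀} ∪ Set.range s with hS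
  have hSfin : Finite S := by
    rw [hS]
    exact Set.finite_coe_iff.2 ((Set.finite_singleton _).union (Set.finite_range s))
  have htop : IntermediateField.adjoin k S = ⊤ := by
    rw [eq_top_iff]
    intro w hwtop
    clear hwtop
    have hw : w ∈ Submodule.span (IntermediateField.adjoin k ({x₀} : Set K)) (Set.range s) := by
      rw [hs]; trivial
    induction hw using Submodule.span_induction with
    | mem w hw => exact IntermediateField.subset_adjoin k S (Or.inr hw)
    | zero => exact zero_mem _
    | add a b _ _ ha hb => exact add_mem ha hb
    | smul c w _ hw =>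
      have hc : (c : K) ∈ IntermediateField.adjoin k S :=
        IntermediateField.adjoin.mono k _ _ Set.subset_union_left c.2
      exact mul_mem hc hw
  have htop' : IntermediateField.adjoin (IntermediateField.adjoin k ({y} : Set K)) S = ⊤ :=
    IntermediateField.adjoin_eq_top_of_adjoin_eq_top (F := k) htop
  have hfd : FiniteDimensional (IntermediateField.adjoin k ({y} : Set K))
      (IntermediateField.adjoin (IntermediateField.adjoin k ({y} : Set K)) S) :=
    IntermediateField.finiteDimensional_adjoin
      (fun w _ => (halg2.isAlgebraic w).isIntegral)
  rw [htop'] at hfd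
  exact Module.Finite.equiv (IntermediateField.topEquiv (F := IntermediateField.adjoin k ({y} : Set K))
    (E := K)).toLinearEquiv

end Groth.Agent.Lib.Helper88.FF
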