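/-
Relative quotients `↥B ⧸ comap B.subtype A` of submodules and short exact sequences between them.
Author: helper88
-/
import Mathlib.LinearAlgebra.Isomorphisms
import Mathlib.LinearAlgebra.Dimension.RankNullity
import Mathlib.LinearAlgebra.Dimension.Finite
import Mathlib.LinearAlgebra.FiniteDimensional.Lemmas
import Mathlib.LinearAlgebra.Dimension.DivisionRing

set_option autoImplicit false

namespace Groth.Agent.Lib.Helper88

open Submodule

section Ring
variable {R M : Type*} [Ring R] [AddCommGroup M] [Module R M]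

/-- The relative quotient `B / (A ∩ B)` of two submodules. -/
abbrev RelQuot (A B : Submodule R M) : Type _ := ↥B ⧸ Submodule.comap B.subtype A

/-- The map `B/A → D/C` induced by an inclusion `B ≤ D`. -/
def relMap {A B C D : Submodule R M} (hBD : B ≤ D) (h : ∀ b ∈ B, b ∈ A → b ∈ C) :
    RelQuot A B →ₗ[R] RelQuot C D :=
  Submodule.mapQ _ _ (Submodule.inclusion hBD) (by
    rintro ⟨b, hb⟩ hbA
    exact h b hb hbA)

@[simp] lemma relMap_mk {A B C D : Submodule R M} (hBD : B ≤ D) (h : ∀ b ∈ B, b ∈ A → b ∈ C)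
    (b : B) : relMap hBD h (Submodule.Quotient.mk b) = Submodule.Quotient.mk (Submodule.inclusion hBD b) :=
  rfl

lemma relMap_injective {A B C D : Submodule R M} (hBD : B ≤ D) (h : ∀ b ∈ B, b ∈ A → b ∈ C)
    (h' : ∀ b ∈ B, b ∈ C → b ∈ A) : Function.Injective (relMap hBD h) := by
  rw [← LinearMap.ker_eq_bot, LinearMap.ker_eq_bot']
  intro x hx
  induction x using Submodule.Quotient.induction_on with
  | _ b =>
    rw [relMap_mk, Submodule.Quotient.mk_eq_zero] at hx
    rw [Submodule.Quotient.mk_eq_zero]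
    exact h' b.1 b.2 hx

lemma relMap_surjective {A B C D : Submodule R M} (hBD : B ≤ D) (h : ∀ b ∈ B, b ∈ A → b ∈ C)
    (h' : ∀ d ∈ D, ∃ b ∈ B, d - b ∈ C) : Function.Surjective (relMap hBD h) := by
  intro y
  induction y using Submodule.Quotient.induction_on with
  | _ d =>
    obtain ⟨b, hb, hdb⟩ := h' d.1 d.2
    refine ⟨Submodule.Quotient.mk ⟨b, hb⟩, ?_⟩
    rw [relMap_mk, Submodule.Quotient.eq]
    show ((Submodule.inclusion hBD ⟨b, hb⟩ - d : D) : M) ∈ C
    have : ((Submodule.inclusion hBD ⟨b, hb⟩ - d : D) : M) = -(d.1 - b) := by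
      simp
    rw [this]
    exact C.neg_mem hdb

lemma relMap_eq_zero_iff {A B C D : Submodule R M} (hBD : B ≤ D) (h : ∀ b ∈ B, b ∈ A → b ∈ C)
    (b : B) : relMap hBD h (Submodule.Quotient.mk b) = 0 ↔ (b : M) ∈ C := by
  rw [relMap_mk, Submodule.Quotient.mk_eq_zero]
  rfl

/-- Exactness in the middle for relative quotients. -/
lemma relMap_ker_eq_range {A₀ B₀ A B C D : Submodule R M} (h1 : B₀ ≤ B) (h2 : B ≤ D)
    (hg : ∀ b ∈ B₀, b ∈ A₀ → b ∈ A) (hf : ∀ b ∈ B, b ∈ A → b ∈ C)
    (hgf : ∀ b ∈ B₀, b ∈ C) (hex : ∀ b ∈ B, b ∈ C → ∃ b₀ ∈ B₀, b - b₀ ∈ A) :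
    LinearMap.ker (relMap h2 hf) = LinearMap.range (relMap h1 hg) := by
  ext x
  induction x using Submodule.Quotient.induction_on with
  | _ b =>
    rw [LinearMap.mem_ker, relMap_eq_zero_iff, LinearMap.mem_range]
    constructor
    · intro hb
      obtain ⟨b₀, hb₀, hbb⟩ := hex b.1 b.2 hb
      refine ⟨Submodule.Quotient.mk ⟨b₀, hb₀⟩, ?_⟩
      rw [relMap_mk, Submodule.Quotient.eq]
      show ((Submodule.inclusion h1 ⟨b₀, hb₀⟩ - b : B) : M) ∈ A
      have : ((Submodule.inclusion h1 ⟨b₀, hb₀⟩ - b : B) : M) = -(b.1 - b₀) := by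
        simp
      rw [this]
      exact A.neg_mem hbb
    · rintro ⟨y, hy⟩
      induction y using Submodule.Quotient.induction_on with
      | _ b₀ =>
        rw [relMap_mk, Submodule.Quotient.eq] at hy
        have hy' : ((Submodule.inclusion h1 b₀ - b : B) : M) ∈ A := hy
        have e : (b : M) = (b₀ : M) - ((Submodule.inclusion h1 b₀ - b : B) : M) := by
          simp
        rw [e]
        exact C.sub_mem (hgf b₀.1 b₀.2) (hf _ (Submodule.coe_mem _) hy')

end Ring

section Field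
variable {k M : Type*} [DivisionRing k] [AddCommGroup M] [Module k M]

/-- Short exact sequence of relative quotients: finiteness. -/
theorem relQuot_exact_finite {A₀ B₀ A B C D : Submodule k M} (h1 : B₀ ≤ B) (h2 : B ≤ D)
    (hg : ∀ b ∈ B₀, b ∈ A₀ → b ∈ A) (hf : ∀ b ∈ B, b ∈ A → b ∈ C)
    (hgf : ∀ b ∈ B₀, b ∈ C) (hex : ∀ b ∈ B, b ∈ C → ∃ b₀ ∈ B₀, b - b₀ ∈ A)
    [FiniteDimensional k (RelQuot A₀ B₀)] [FiniteDimensional k (RelQuot C D)] :
    FiniteDimensional k (RelQuot A B) := by
  have hker := relMap_ker_eq_range h1 h2 hg hf hgf hex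
  have : Module.Finite k (LinearMap.ker (relMap h2 hf)) := by
    rw [hker]
    exact Module.Finite.range _
  have : Module.Finite k (RelQuot A B ⧸ LinearMap.ker (relMap h2 hf)) :=
    Module.Finite.equiv (LinearMap.quotKerEquivRange (relMap h2 hf)).symm
  exact Module.Finite.of_submodule_quotient (LinearMap.ker (relMap h2 hf))

/-- Short exact sequence of relative quotients: additivity of `finrank`. -/
theorem relQuot_exact_finrank {A₀ B₀ A B C D : Submodule k M} (h1 : B₀ ≤ B) (h2 : B ≤ D)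
    (hg : ∀ b ∈ B₀, b ∈ A₀ → b ∈ A) (hg' : ∀ b ∈ B₀, b ∈ A → b ∈ A₀)
    (hf : ∀ b ∈ B, b ∈ A → b ∈ C) (hf' : ∀ d ∈ D, ∃ b ∈ B, d - b ∈ C)
    (hgf : ∀ b ∈ B₀, b ∈ C) (hex : ∀ b ∈ B, b ∈ C → ∃ b₀ ∈ B₀, b - b₀ ∈ A)
    [FiniteDimensional k (RelQuot A B)] :
    Module.finrank k (RelQuot A B) =
      Module.finrank k (RelQuot A₀ B₀) + Module.finrank k (RelQuot C D) := by
  have hker := relMap_ker_eq_range h1 h2 hg hf hgf hex
  have h := LinearMap.finrank_range_add_finrank_ker (relMap h2 hf)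
  rw [LinearMap.range_eq_top.mpr (relMap_surjective h2 hf hf'), finrank_top, hker,
    LinearMap.finrank_range_of_inj (relMap_injective h1 hg hg')] at h
  omega

/-- Tower law for relative quotients: finiteness. -/
theorem relQuot_tower_finite {A B C : Submodule k M} (hAB : A ≤ B) (hBC : B ≤ C)
    [FiniteDimensional k (RelQuot A B)] [FiniteDimensional k (RelQuot B C)] :
    FiniteDimensional k (RelQuot A C) :=
  relQuot_exact_finite (A₀ := A) (B₀ := B) (A := A) (B := C) (C := B) (D := C) hBC le_rfl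
    (fun _ _ h => h) (fun b _ h => hAB h) (fun _ h => h)
    (fun b _ hb => ⟨b, hb, by simp⟩)

/-- Tower law for relative quotients: additivity. -/
theorem relQuot_tower_finrank {A B C : Submodule k M} (hAB : A ≤ B) (hBC : B ≤ C)
    [FiniteDimensional k (RelQuot A C)] :
    Module.finrank k (RelQuot A C) =
      Module.finrank k (RelQuot A B) + Module.finrank k (RelQuot B C) :=
  relQuot_exact_finrank (A₀ := A) (B₀ := B) (A := A) (B := C) (C := B) (D := C) hBC le_rfl
    (fun _ _ h => h) (fun _ _ h => h) (fun b _ h => hAB h) (fun d hd => ⟨d, hd, by simp⟩)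
    (fun _ h => h) (fun b _ hb => ⟨b, hb, by simp⟩)

/-- Finiteness of the left term of a short exact sequence of relative quotients. -/
theorem relQuot_finite_of_injective {A₀ B₀ A B : Submodule k M} (h1 : B₀ ≤ B)
    (hg : ∀ b ∈ B₀, b ∈ A₀ → b ∈ A) (hg' : ∀ b ∈ B₀, b ∈ A → b ∈ A₀)
    [FiniteDimensional k (RelQuot A B)] : FiniteDimensional k (RelQuot A₀ B₀) :=
  FiniteDimensional.of_injective (relMap h1 hg) (relMap_injective h1 hg hg')

/-- Finiteness of the right term of a short exact sequence of relative quotients. -/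
theorem relQuot_finite_of_surjective {A B C D : Submodule k M} (h2 : B ≤ D)
    (hf : ∀ b ∈ B, b ∈ A → b ∈ C) (hf' : ∀ d ∈ D, ∃ b ∈ B, d - b ∈ C)
    [FiniteDimensional k (RelQuot A B)] : FiniteDimensional k (RelQuot C D) :=
  Module.Finite.of_surjective (relMap h2 hf) (relMap_surjective h2 hf hf')

/-- `dim A₂/A₁ = dim (A₂ ∩ N)/(A₁ ∩ N) + dim (A₂ + N)/(A₁ + N)`. -/
theorem relQuot_inf_sup_finrank {A₁ A₂ : Submodule k M} (N : Submodule k M) (h : A₁ ≤ A₂)
    [FiniteDimensional k (RelQuot A₁ A₂)] :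
    Module.finrank k (RelQuot A₁ A₂) =
      Module.finrank k (RelQuot (A₁ ⊓ N) (A₂ ⊓ N)) +
        Module.finrank k (RelQuot (A₁ ⊔ N) (A₂ ⊔ N)) := by
  refine relQuot_exact_finrank (A₀ := A₁ ⊓ N) (B₀ := A₂ ⊓ N) (A := A₁) (B := A₂)
    (C := A₁ ⊔ N) (D := A₂ ⊔ N) inf_le_left le_sup_left (fun _ _ hb => hb.1)
    (fun _ hb hb' => ⟨hb', hb.2⟩) (fun _ _ hb => Submodule.mem_sup_left hb) ?_
    (fun _ hb => Submodule.mem_sup_right hb.2) ?_
  · intro d hd
    obtain ⟨a, ha, n, hn, rfl⟩ := Submodule.mem_sup.1 hd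
    exact ⟨a, ha, by simpa using Submodule.mem_sup_right hn⟩
  · intro b hb hb'
    obtain ⟨a, ha, n, hn, rfl⟩ := Submodule.mem_sup.1 hb'
    refine ⟨n, ⟨?_, hn⟩, by simpa using ha⟩
    have : n = (a + n) - a := by abel
    rw [this]
    exact A₂.sub_mem hb (h ha)

theorem relQuot_inf_finite {A₁ A₂ : Submodule k M} (N : Submodule k M)
    [FiniteDimensional k (RelQuot A₁ A₂)] :
    FiniteDimensional k (RelQuot (A₁ ⊓ N) (A₂ ⊓ N)) :=
  relQuot_finite_of_injective (A := A₁) (B := A₂) inf_le_left (fun _ _ hb => hb.1)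
    (fun _ hb hb' => ⟨hb', hb.2⟩)

theorem relQuot_sup_finite {A₁ A₂ : Submodule k M} (N : Submodule k M)
    [FiniteDimensional k (RelQuot A₁ A₂)] :
    FiniteDimensional k (RelQuot (A₁ ⊔ N) (A₂ ⊔ N)) := by
  refine relQuot_finite_of_surjective (A := A₁) (B := A₂) le_sup_left
    (fun _ _ hb => Submodule.mem_sup_left hb) ?_
  intro d hd
  obtain ⟨a, ha, n, hn, rfl⟩ := Submodule.mem_sup.1 hd
  exact ⟨a, ha, by simpa using Submodule.mem_sup_right hn⟩

/-- If `A ≤ B`, `A` and `B/A` are finite-dimensional then so is `B`. -/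
theorem relQuot_finite_total {A B : Submodule k M} (hAB : A ≤ B) [FiniteDimensional k A]
    [FiniteDimensional k (RelQuot A B)] : FiniteDimensional k B := by
  have : Module.Finite k (Submodule.comap B.subtype A) :=
    Module.Finite.equiv (Submodule.comapSubtypeEquivOfLe hAB).symm
  exact Module.Finite.of_submodule_quotient (Submodule.comap B.subtype A)

/-- If `A ≤ B` with `B` finite-dimensional then `dim B = dim A + dim B/A`. -/
theorem relQuot_finrank_total {A B : Submodule k M} (hAB : A ≤ B) [FiniteDimensional k B] :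
    Module.finrank k B = Module.finrank k A + Module.finrank k (RelQuot A B) := by
  have h := Submodule.finrank_quotient_add_finrank (Submodule.comap B.subtype A)
  have h2 := LinearEquiv.finrank_eq (Submodule.comapSubtypeEquivOfLe hAB)
  change Module.finrank k (RelQuot A B) + _ = _ at h
  omega

/-- A surjective linear map `B → V` with kernel `A ∩ B` identifies `B/A` with `V`. -/
noncomputable def relQuotEquivOfSurjective {A B : Submodule k M} {V : Type*} [AddCommGroup V]
    [Module k V] (ψ : B →ₗ[k] V) (hsurj : Function.Surjective ψ)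
    (hker : ∀ b : B, ψ b = 0 ↔ (b : M) ∈ A) : RelQuot A B ≃ₗ[k] V :=
  (Submodule.quotEquivOfEq _ _ (by
    ext b
    rw [LinearMap.mem_ker, hker]
    rfl)).trans (LinearMap.quotKerEquivOfSurjective ψ hsurj)

/-- A linear map `B → V` with kernel `A ∩ B` embeds `B/A` into `V`. -/
theorem relQuot_finite_of_ker {A B : Submodule k M} {V : Type*} [AddCommGroup V]
    [Module k V] [FiniteDimensional k V] (ψ : B →ₗ[k] V)
    (hker : ∀ b : B, ψ b = 0 ↔ (b : M) ∈ A) : FiniteDimensional k (RelQuot A B) := by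
  have e : Submodule.comap B.subtype A = LinearMap.ker ψ := by
    ext b
    rw [LinearMap.mem_ker, hker]
    rfl
  have : FiniteDimensional k (↥B ⧸ LinearMap.ker ψ) :=
    Module.Finite.equiv (LinearMap.quotKerEquivRange ψ).symm
  exact Module.Finite.equiv (Submodule.quotEquivOfEq _ _ e).symm

theorem relQuot_finrank_le_of_ker {A B : Submodule k M} {V : Type*} [AddCommGroup V]
    [Module k V] [FiniteDimensional k V] (ψ : B →ₗ[k] V)
    (hker : ∀ b : B, ψ b = 0 ↔ (b : M) ∈ A) :
    Module.finrank k (RelQuot A B) ≤ Module.finrank k V := by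
  have e : Submodule.comap B.subtype A = LinearMap.ker ψ := by
    ext b
    rw [LinearMap.mem_ker, hker]
    rfl
  rw [LinearEquiv.finrank_eq (Submodule.quotEquivOfEq _ _ e),
    LinearEquiv.finrank_eq (LinearMap.quotKerEquivRange ψ)]
  exact Submodule.finrank_le _

/-- Two linear maps into a space of too small dimension have a nontrivial coincidence. -/
theorem exists_eq_of_finrank_lt {V₁ V₂ W : Type*} [AddCommGroup V₁] [Module k V₁]
    [AddCommGroup V₂] [Module k V₂] [AddCommGroup W] [Module k W]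
    [FiniteDimensional k V₁] [FiniteDimensional k V₂] [FiniteDimensional k W]
    (φ₁ : V₁ →ₗ[k] W) (φ₂ : V₂ →ₗ[k] W)
    (h : Module.finrank k W < Module.finrank k V₁ + Module.finrank k V₂) :
    ∃ x₁ x₂, (x₁ ≠ 0 ∨ x₂ ≠ 0) ∧ φ₁ x₁ = φ₂ x₂ := by
  have h' : Module.finrank k W < Module.finrank k (V₁ × V₂) := by
    rw [Module.finrank_prod]
    exact h
  have hker := LinearMap.ker_ne_bot_of_finrank_lt (f := φ₁.coprod (-φ₂)) h'
  obtain ⟨p, hp, hp0⟩ := (Submodule.ne_bot_iff _).1 hker
  rw [LinearMap.mem_ker, LinearMap.coprod_apply, LinearMap.neg_apply] at hp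
  refine ⟨p.1, p.2, ?_, ?_⟩
  · by_contra hcon
    push Not at hcon
    exact hp0 (Prod.ext hcon.1 hcon.2)
  · exact eq_of_sub_eq_zero (by rw [sub_eq_add_neg]; exact hp)

end Field

end Groth.Agent.Lib.Helper88
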