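/-
Function fields of one variable: local theory at a place.
Author: helper88
-/
import Groth.Prelude.Def_W4bk4goldsch23FF
import Groth.Agent.Lib.Helper88.RelQuot

set_option autoImplicit false

namespace Groth.Agent.Lib.Helper88.FF

open FunFld WithZero

variable {k K : Type*} [Field k] [Field K] [Algebra k K]

/-- In `ℤᵐ⁰`, `x < exp (n+1) ↔ x ≤ exp n`. -/
lemma lt_exp_succ_iff {x : ℤᵐ⁰} {n : ℤ} : x < exp (n + 1) ↔ x ≤ exp n := by
  rcases eq_or_ne x 0 with rfl | hx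
  · simp
  · rw [← log_lt_iff_lt_exp hx, ← log_le_iff_le_exp hx, Int.lt_add_one_iff]

lemma lt_one_iff_le_exp_neg_one {x : ℤᵐ⁰} : x < 1 ↔ x ≤ exp (-1 : ℤ) := by
  have := lt_exp_succ_iff (x := x) (n := -1)
  simpa using this

/-- Nonzero constants have value `1` at every place. -/
lemma val_algebraMap (P : Place k K) {c : k} (hc : c ≠ 0) : P.1 (algebraMap k K c) = 1 := by
  have h1 := P.2.1 c
  have h2 := P.2.1 c⁻¹
  have h3 : P.1 (algebraMap k K c) * P.1 (algebraMap k K c⁻¹) = 1 := by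
    rw [← map_mul, ← map_mul, mul_inv_cancel₀ hc, map_one, map_one]
  apply le_antisymm h1
  by_contra hlt
  rw [not_le] at hlt
  have : P.1 (algebraMap k K c) * P.1 (algebraMap k K c⁻¹) < 1 :=
    calc P.1 (algebraMap k K c) * P.1 (algebraMap k K c⁻¹)
        ≤ P.1 (algebraMap k K c) * 1 := mul_le_mul' le_rfl h2
      _ = P.1 (algebraMap k K c) := mul_one _
      _ < 1 := hlt
  exact absurd h3 this.ne

lemma val_algebraMap_le (P : Place k K) (c : k) : P.1 (algebraMap k K c) ≤ 1 := P.2.1 c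

lemma val_smul (P : Place k K) {c : k} (hc : c ≠ 0) (x : K) : P.1 (c • x) = P.1 x := by
  rw [Algebra.smul_def, map_mul, val_algebraMap P hc, one_mul]

lemma val_smul_le (P : Place k K) (c : k) (x : K) : P.1 (c • x) ≤ P.1 x := by
  rw [Algebra.smul_def, map_mul]
  exact (mul_le_mul' (P.2.1 c) le_rfl).trans_eq (one_mul _)

/-- Every place has a uniformizer. -/
lemma exists_uniformizer (P : Place k K) : ∃ t : K, P.1 t = exp (-1 : ℤ) := P.2.2 _

lemma exists_val_eq_exp (P : Place k K) (n : ℤ) : ∃ t : K, P.1 t = exp n := P.2.2 _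

lemma val_eq_exp_neg_ord (P : Place k K) {x : K} (hx : x ≠ 0) : P.1 x = exp (-P.ord x) := by
  have : P.1 x ≠ 0 := (Valuation.ne_zero_iff _).2 hx
  rw [Place.ord, neg_neg, exp_log this]

lemma ord_zero (P : Place k K) : P.ord (0 : K) = 0 := by simp [Place.ord]

lemma ord_one (P : Place k K) : P.ord (1 : K) = 0 := by simp [Place.ord]

lemma ord_mul (P : Place k K) {x y : K} (hx : x ≠ 0) (hy : y ≠ 0) :
    P.ord (x * y) = P.ord x + P.ord y := by
  have hx' : P.1 x ≠ 0 := (Valuation.ne_zero_iff _).2 hx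
  have hy' : P.1 y ≠ 0 := (Valuation.ne_zero_iff _).2 hy
  simp only [Place.ord, map_mul, log_mul hx' hy']
  ring

lemma ord_inv (P : Place k K) (x : K) : P.ord x⁻¹ = -P.ord x := by
  simp only [Place.ord, map_inv₀, log_inv]

lemma ord_pow (P : Place k K) (x : K) (n : ℕ) : P.ord (x ^ n) = n * P.ord x := by
  simp only [Place.ord, map_pow, log_pow, nsmul_eq_mul]
  ring

lemma ord_zpow (P : Place k K) (x : K) (n : ℤ) : P.ord (x ^ n) = n * P.ord x := by
  simp only [Place.ord, map_zpow₀, log_zpow, smul_eq_mul]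
  ring

lemma ord_algebraMap (P : Place k K) (c : k) : P.ord (algebraMap k K c) = 0 := by
  rcases eq_or_ne c 0 with rfl | hc
  · simp [Place.ord]
  · simp [Place.ord, val_algebraMap P hc]

lemma val_le_exp_iff (P : Place k K) {x : K} (hx : x ≠ 0) (n : ℤ) :
    P.1 x ≤ exp n ↔ -n ≤ P.ord x := by
  rw [val_eq_exp_neg_ord P hx, exp_le_exp]
  constructor <;> intro h <;> linarith

lemma val_le_one_iff (P : Place k K) {x : K} (hx : x ≠ 0) : P.1 x ≤ 1 ↔ 0 ≤ P.ord x := by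
  have := val_le_exp_iff P hx 0
  simpa using this

lemma val_lt_one_iff (P : Place k K) {x : K} (hx : x ≠ 0) : P.1 x < 1 ↔ 0 < P.ord x := by
  rw [val_eq_exp_neg_ord P hx, ← exp_zero, exp_lt_exp]
  constructor <;> intro h <;> linarith

lemma one_lt_val_iff (P : Place k K) {x : K} (hx : x ≠ 0) : 1 < P.1 x ↔ P.ord x < 0 := by
  rw [val_eq_exp_neg_ord P hx, ← exp_zero, exp_lt_exp]
  constructor <;> intro h <;> linarith

/-- The `k`-subspace `{x | v_P x ≤ exp n}` of `K`. -/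
def ball (P : Place k K) (n : ℤ) : Submodule k K where
  carrier := {x | P.1 x ≤ exp n}
  add_mem' {x y} hx hy := (P.1.map_add x y).trans (max_le hx hy)
  zero_mem' := by simp
  smul_mem' c x hx := (val_smul_le P c x).trans hx

lemma mem_ball {P : Place k K} {n : ℤ} {x : K} : x ∈ ball P n ↔ P.1 x ≤ exp n := Iff.rfl

lemma ball_mono (P : Place k K) {m n : ℤ} (h : m ≤ n) : ball P m ≤ ball P n :=
  fun _ hx => hx.trans (exp_le_exp.2 h)

lemma mem_L_iff {D : Divisor k K} {x : K} : x ∈ L D ↔ ∀ P : Place k K, x ∈ ball P (D P) := Iff.rfl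

lemma mem_AD_iff {D : Divisor k K} {a : Place k K → K} :
    a ∈ AD D ↔ ∀ P : Place k K, a P ∈ ball P (D P) := Iff.rfl

lemma L_mono {D₁ D₂ : Divisor k K} (h : D₁ ≤ D₂) : L D₁ ≤ L D₂ :=
  fun _ hx P => ball_mono P (h P) (hx P)

lemma AD_mono {D₁ D₂ : Divisor k K} (h : D₁ ≤ D₂) : AD D₁ ≤ AD D₂ :=
  fun _ hx P => ball_mono P (h P) (hx P)

/-- For `x ∈ ball P n` and `v t = exp (-1)`, `x * t ^ n` lies in the valuation ring. -/
lemma mul_zpow_mem_O (P : Place k K) {t : K} (ht : P.1 t = exp (-1 : ℤ)) {n : ℤ} {x : K}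
    (hx : x ∈ ball P n) : x * t ^ n ∈ P.O := by
  show P.1 (x * t ^ n) ≤ 1
  rw [map_mul, map_zpow₀, ht, ← exp_zsmul]
  calc P.1 x * exp (n • (-1 : ℤ)) ≤ exp n * exp (n • (-1 : ℤ)) := mul_le_mul' hx le_rfl
    _ = 1 := by rw [← exp_add]; simp

/-- The residue map `ball P n → κ(P)`, `x ↦ residue (x t^n)`. -/
noncomputable def resAt (P : Place k K) {t : K} (ht : P.1 t = exp (-1 : ℤ)) (n : ℤ) :
    ball P n →ₗ[k] IsLocalRing.ResidueField P.O where
  toFun x := IsLocalRing.residue P.O ⟨x.1 * t ^ n, mul_zpow_mem_O P ht x.2⟩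
  map_add' x y := by
    rw [← map_add]
    congr 1
    apply Subtype.ext
    simp [add_mul]
  map_smul' c x := by
    simp only [RingHom.id_apply]
    refine Eq.trans ?_ (Algebra.smul_def c (IsLocalRing.residue P.O ⟨x.1 * t ^ n, mul_zpow_mem_O P ht x.2⟩)).symm
    rw [show algebraMap k (IsLocalRing.ResidueField P.O) c =
      IsLocalRing.residue P.O (algebraMap k P.O c) from rfl, ← map_mul]
    congr 1
    apply Subtype.ext
    show (c • x.1) * t ^ n = algebraMap k K c * (x.1 * t ^ n)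
    rw [Algebra.smul_def, mul_assoc]

lemma resAt_apply (P : Place k K) {t : K} (ht : P.1 t = exp (-1 : ℤ)) (n : ℤ) (x : ball P n) :
    resAt P ht n x = IsLocalRing.residue P.O ⟨x.1 * t ^ n, mul_zpow_mem_O P ht x.2⟩ := rfl

lemma resAt_eq_zero_iff (P : Place k K) {t : K} (ht : P.1 t = exp (-1 : ℤ)) (n : ℤ)
    (x : ball P n) : resAt P ht n x = 0 ↔ x.1 ∈ ball P (n - 1) := by
  rw [resAt_apply, IsLocalRing.residue_eq_zero_iff, Valuation.mem_maximalIdeal_iff]
  show P.1 (x.1 * t ^ n) < 1 ↔ P.1 x.1 ≤ exp (n - 1)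
  rw [map_mul, map_zpow₀, ht, ← exp_zsmul]
  generalize P.1 x.1 = y
  have h1 : (1 : ℤᵐ⁰) = exp n * exp (n • (-1 : ℤ)) := by rw [← exp_add]; simp
  have h2 : exp (n • (-1 : ℤ)) ≠ 0 := exp_ne_zero
  rw [h1, mul_lt_mul_iff_left₀ (zero_lt_iff.2 h2)]
  have := lt_exp_succ_iff (x := y) (n := n - 1)
  simpa using this

lemma resAt_surjective (P : Place k K) {t : K} (ht : P.1 t = exp (-1 : ℤ)) (n : ℤ) :
    Function.Surjective (resAt P ht n) := by
  intro r
  obtain ⟨u, rfl⟩ := IsLocalRing.residue_surjective r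
  have ht0 : t ≠ 0 := by
    intro h
    rw [h, map_zero] at ht
    exact exp_ne_zero ht.symm
  have hu : u.1 * t ^ (-n) ∈ ball P n := by
    show P.1 (u.1 * t ^ (-n)) ≤ exp n
    rw [map_mul, map_zpow₀, ht, ← exp_zsmul]
    calc P.1 u.1 * exp ((-n) • (-1 : ℤ)) ≤ 1 * exp ((-n) • (-1 : ℤ)) := mul_le_mul' u.2 le_rfl
      _ = exp n := by simp
  refine ⟨⟨u.1 * t ^ (-n), hu⟩, ?_⟩
  rw [resAt_apply]
  congr 1
  apply Subtype.ext
  show u.1 * t ^ (-n) * t ^ n = u.1
  rw [mul_assoc, ← zpow_add₀ ht0]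
  simp

end Groth.Agent.Lib.Helper88.FF
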