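/-
Function fields of one variable: independence of places and weak approximation.
Author: helper88
-/
import Groth.Agent.Lib.Helper88.FunFldLocal
import Mathlib.Data.Finset.Order

set_option autoImplicit false

namespace Groth.Agent.Lib.Helper88.FF

open FunFld WithZero

variable {k K : Type*} [Field k] [Field K] [Algebra k K]

lemma val_eq_one_iff_ord (P : Place k K) {x : K} (hx : x ≠ 0) : P.1 x = 1 ↔ P.ord x = 0 := by
  rw [val_eq_exp_neg_ord P hx, exp_eq_one]
  constructor <;> intro h <;> linarith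

/-- If `O_P ⊆ O_Q` then `P = Q`. -/
theorem place_eq_of_le {P Q : Place k K} (h : ∀ y : K, P.1 y ≤ 1 → Q.1 y ≤ 1) : P = Q := by
  -- (a) `m_Q ⊆ m_P`
  have ha : ∀ y : K, Q.1 y < 1 → P.1 y < 1 := by
    intro y hy
    rcases eq_or_ne y 0 with rfl | hy0
    · simp
    · by_contra hcon
      rw [not_lt] at hcon
      have h1 : P.1 y⁻¹ ≤ 1 := by
        rw [map_inv₀]
        exact inv_le_one_of_one_le₀ hcon
      have h2 := h _ h1
      rw [map_inv₀] at h2
      have hQ0 : Q.1 y ≠ 0 := (Valuation.ne_zero_iff _).2 hy0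
      have h3 : 1 ≤ Q.1 y := (inv_le_one₀ (zero_lt_iff.2 hQ0)).1 h2
      exact absurd hy (not_lt.2 h3)
  -- (b) units
  have hb : ∀ y : K, P.1 y = 1 → Q.1 y = 1 := by
    intro y hy
    have hy0 : y ≠ 0 := by
      rintro rfl
      simp at hy
    have h1 := h y hy.le
    have h2 : Q.1 y⁻¹ ≤ 1 := h _ (by rw [map_inv₀, hy, inv_one])
    rw [map_inv₀] at h2
    have hQ0 : Q.1 y ≠ 0 := (Valuation.ne_zero_iff _).2 hy0
    have h3 : 1 ≤ Q.1 y := (inv_le_one₀ (zero_lt_iff.2 hQ0)).1 h2
    exact le_antisymm h1 h3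
  obtain ⟨s, hs⟩ := exists_uniformizer Q
  obtain ⟨t, ht⟩ := exists_uniformizer P
  have hs0 : s ≠ 0 := by
    rintro rfl
    rw [map_zero] at hs
    exact exp_ne_zero hs.symm
  have ht0 : t ≠ 0 := by
    rintro rfl
    rw [map_zero] at ht
    exact exp_ne_zero ht.symm
  -- (c) `Q.1 t = exp (-1)`
  have hordPt : P.ord t = 1 := by simp [Place.ord, ht]
  have hordQs : Q.ord s = 1 := by simp [Place.ord, hs]
  have hPs : 0 < P.ord s := by
    rw [← val_lt_one_iff P hs0]
    apply ha
    rw [hs, ← exp_zero, exp_lt_exp]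
    omega
  have key : ∀ w : K, w ≠ 0 → Q.ord w = P.ord w * Q.ord t := by
    intro w hw
    have hw' : w * t ^ (-P.ord w) ≠ 0 := mul_ne_zero hw (zpow_ne_zero _ ht0)
    have h1 : P.1 (w * t ^ (-P.ord w)) = 1 := by
      rw [val_eq_one_iff_ord P hw', ord_mul P hw (zpow_ne_zero _ ht0), ord_zpow, hordPt]
      ring
    have h2 := hb _ h1
    rw [val_eq_one_iff_ord Q hw', ord_mul Q hw (zpow_ne_zero _ ht0), ord_zpow] at h2
    linarith
  have hc : P.ord s * Q.ord t = 1 := by
    rw [← key s hs0, hordQs]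
  have hQt : Q.ord t = 1 := by
    have h1 : P.ord s = 1 ∨ P.ord s = -1 := Int.isUnit_iff.1 (IsUnit.of_mul_eq_one _ hc)
    rcases h1 with h1 | h1
    · rw [h1] at hc; linarith
    · omega
  apply Subtype.ext
  apply Valuation.ext
  intro w
  rcases eq_or_ne w 0 with rfl | hw
  · simp
  · rw [val_eq_exp_neg_ord P hw, val_eq_exp_neg_ord Q hw, key w hw, hQt, mul_one]

/-- Distinct places have incomparable valuation rings. -/
theorem exists_val_le_one_lt (P Q : Place k K) (h : P ≠ Q) : ∃ y : K, P.1 y ≤ 1 ∧ 1 < Q.1 y := by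
  by_contra hcon
  push Not at hcon
  exact h (place_eq_of_le hcon)

/-- Two distinct places are separated by an element. -/
theorem exists_val_lt_one_lt (P Q : Place k K) (h : P ≠ Q) : ∃ z : K, P.1 z < 1 ∧ 1 < Q.1 z := by
  obtain ⟨y₁, h1P, h1Q⟩ := exists_val_le_one_lt P Q h
  obtain ⟨y₂, h2Q, h2P⟩ := exists_val_le_one_lt Q P (Ne.symm h)
  refine ⟨y₁ / y₂, ?_, ?_⟩
  · rw [map_div₀]
    have h0 : 0 < P.1 y₂ := zero_lt_one.trans h2P
    rw [div_lt_one₀ h0]
    exact lt_of_le_of_lt h1P h2P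
  · rw [map_div₀]
    have hy2 : y₂ ≠ 0 := by
      rintro rfl
      simp at h2P
    have h0 : 0 < Q.1 y₂ := zero_lt_iff.2 ((Valuation.ne_zero_iff _).2 hy2)
    rw [one_lt_div₀ h0]
    exact lt_of_le_of_lt h2Q h1Q

/-- Step 1 of weak approximation: an element small at `P` and large at the places of `S`. -/
theorem exists_sep (P : Place k K) (S : Finset (Place k K)) (hP : P ∉ S) :
    ∃ u : K, P.1 u < 1 ∧ ∀ Q ∈ S, 1 < Q.1 u := by
  classical
  induction S using Finset.induction_on with
  | empty =>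
    obtain ⟨t, ht⟩ := exists_uniformizer P
    refine ⟨t, ?_, by simp⟩
    rw [ht, ← exp_zero, exp_lt_exp]
    omega
  | insert Q₀ S' hQ₀ ih =>
    rw [Finset.mem_insert, not_or] at hP
    obtain ⟨y, hyP, hyS⟩ := ih hP.2
    obtain ⟨z, hzP, hzQ⟩ := exists_val_lt_one_lt P Q₀ hP.1
    by_cases hcase : 1 < Q₀.1 y
    · refine ⟨y, hyP, ?_⟩
      intro Q hQ
      rcases Finset.mem_insert.1 hQ with rfl | hQ
      · exact hcase
      · exact hyS Q hQ
    · rw [not_lt] at hcase
      have hz0 : z ≠ 0 := by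
        rintro rfl
        simp at hzQ
      set r : ℕ := 1 + ∑ Q ∈ S', (Q.ord y).natAbs with hr
      have hr0 : r ≠ 0 := by omega
      refine ⟨y + z ^ r, ?_, ?_⟩
      · apply P.1.map_add_lt hyP
        rw [map_pow]
        exact pow_lt_one₀ zero_le hzP hr0
      · intro Q hQ
        rcases Finset.mem_insert.1 hQ with rfl | hQ
        · have h1 : 1 < Q.1 (z ^ r) := by
            rw [map_pow]
            exact one_lt_pow₀ hzQ hr0
          rw [Valuation.map_add_eq_of_lt_right _ (lt_of_le_of_lt hcase h1)]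
          exact h1
        · have hy1 := hyS Q hQ
          have hy0 : y ≠ 0 := by
            rintro rfl
            simp at hy1
          have hne : Q.1 y ≠ Q.1 (z ^ r) := by
            intro heq
            have hord : Q.ord y = Q.ord (z ^ r) := by
              simp only [Place.ord, heq]
            rw [ord_pow] at hord
            have hnat : (Q.ord y).natAbs = r * (Q.ord z).natAbs := by
              rw [hord, Int.natAbs_mul, Int.natAbs_natCast]
            have hlt : (Q.ord y).natAbs < r := by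
              have := Finset.single_le_sum (f := fun Q : Place k K => (Q.ord y).natAbs)
                (fun _ _ => Nat.zero_le _) hQ
              omega
            rcases Nat.eq_zero_or_pos (Q.ord z).natAbs with h0 | hpos
            · rw [h0, mul_zero, Int.natAbs_eq_zero] at hnat
              have : Q.1 y = 1 := (val_eq_one_iff_ord Q hy0).2 hnat
              rw [this] at hy1
              exact lt_irrefl _ hy1
            · have : r ≤ r * (Q.ord z).natAbs := Nat.le_mul_of_pos_right r hpos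
              omega
          rw [Valuation.map_add_of_distinct_val _ hne]
          exact lt_of_lt_of_le hy1 (le_max_left _ _)

/-- Step 2 of weak approximation: an element close to `1` at `P` and close to `0` on `S`. -/
theorem exists_approx_one (P : Place k K) (S : Finset (Place k K)) (hP : P ∉ S) (N : ℤ) :
    ∃ w : K, P.1 (w - 1) ≤ exp (-N) ∧ ∀ Q ∈ S, Q.1 w ≤ exp (-N) := by
  obtain ⟨u, huP, huS⟩ := exists_sep P S hP
  set s : ℕ := N.toNat + 1 with hs
  have hs0 : s ≠ 0 := by omega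
  have hsN : N ≤ (s : ℤ) := by
    have := Int.self_le_toNat N
    omega
  have huP' : P.1 u ≤ exp (-1 : ℤ) := lt_one_iff_le_exp_neg_one.1 huP
  have hus : P.1 (u ^ s) ≤ exp (-(s : ℤ)) := by
    rw [map_pow]
    calc P.1 u ^ s ≤ exp (-1 : ℤ) ^ s := pow_le_pow_left₀ zero_le huP' s
      _ = exp (-(s : ℤ)) := by rw [← exp_nsmul]; simp
  have hus1 : P.1 (u ^ s) < 1 := by
    rw [map_pow]
    exact pow_lt_one₀ zero_le huP hs0
  have h1 : P.1 (1 + u ^ s) = 1 := Valuation.map_one_add_of_lt _ hus1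
  have hne : 1 + u ^ s ≠ 0 := by
    intro h
    rw [h, map_zero] at h1
    exact zero_ne_one h1
  refine ⟨(1 + u ^ s)⁻¹, ?_, ?_⟩
  · have e : (1 + u ^ s)⁻¹ - 1 = -(u ^ s) * (1 + u ^ s)⁻¹ := by
      field_simp
      ring
    rw [e, map_mul, map_inv₀, h1, inv_one, mul_one, Valuation.map_neg]
    exact hus.trans (exp_le_exp.2 (by omega))
  · intro Q hQ
    have hu1 := huS Q hQ
    have hu' : exp (1 : ℤ) ≤ Q.1 u := by
      by_contra hcon
      rw [not_le] at hcon
      have := lt_exp_succ_iff (x := Q.1 u) (n := 0)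
      rw [zero_add] at this
      have h2 := this.1 hcon
      rw [exp_zero] at h2
      exact absurd hu1 (not_lt.2 h2)
    have hus' : exp (s : ℤ) ≤ Q.1 (u ^ s) := by
      rw [map_pow]
      calc exp (s : ℤ) = exp (1 : ℤ) ^ s := by rw [← exp_nsmul]; simp
        _ ≤ Q.1 u ^ s := pow_le_pow_left₀ zero_le hu' s
    have hgt : 1 < Q.1 (u ^ s) := by
      rw [map_pow]
      exact one_lt_pow₀ hu1 hs0
    have h2 : Q.1 (1 + u ^ s) = Q.1 (u ^ s) := by
      apply Valuation.map_add_eq_of_lt_right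
      rw [map_one]
      exact hgt
    rw [map_inv₀, h2]
    have hpos : 0 < Q.1 (u ^ s) := zero_lt_one.trans hgt
    rw [inv_le_comm₀ hpos (by simp), ← exp_neg, neg_neg]
    exact (exp_le_exp.2 hsN).trans hus'

/-- **Weak approximation**: for finitely many places `S`, a family `a` and `N`, there is `z` with
`ord_P (z - a P) ≥ N` for all `P ∈ S`. -/
theorem weak_approx (S : Finset (Place k K)) (a : Place k K → K) (N : ℤ) :
    ∃ z : K, ∀ P ∈ S, P.1 (z - a P) ≤ exp (-N) := by
  classical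
  -- a common bound for the values of the `a Q`
  obtain ⟨B, hB⟩ := Finset.exists_le ((S ×ˢ S).image fun pq => pq.1.1 (a pq.2))
  set M : ℤ := log B with hM
  have hBM : ∀ P ∈ S, ∀ Q ∈ S, P.1 (a Q) ≤ exp M := by
    intro P hP Q hQ
    have h1 : P.1 (a Q) ≤ B := hB _ (Finset.mem_image.2 ⟨(P, Q), Finset.mem_product.2 ⟨hP, hQ⟩, rfl⟩)
    exact h1.trans le_exp_log
  have hw : ∀ P : Place k K, ∃ w : K, P.1 (w - 1) ≤ exp (-(N + M)) ∧
      ∀ Q ∈ S.erase P, Q.1 w ≤ exp (-(N + M)) :=
    fun P => exists_approx_one P (S.erase P) (Finset.notMem_erase P S) (N + M)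
  choose w hw1 hw2 using hw
  refine ⟨∑ Q ∈ S, a Q * w Q, ?_⟩
  intro P hP
  have e : ∑ Q ∈ S, a Q * w Q - a P = a P * (w P - 1) + ∑ Q ∈ S.erase P, a Q * w Q := by
    rw [← Finset.add_sum_erase S _ hP]
    ring
  rw [e]
  have hexp : exp M * exp (-(N + M)) = exp (-N) := by
    rw [← exp_add]
    congr 1
    ring
  apply P.1.map_add_le
  · rw [map_mul, ← hexp]
    exact mul_le_mul' (hBM P hP P hP) (hw1 P)
  · apply P.1.map_sum_le
    intro Q hQ
    rw [map_mul, ← hexp]
    have hQS : Q ∈ S := Finset.mem_of_mem_erase hQ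
    have hPQ : P ∈ S.erase Q := Finset.mem_erase.2 ⟨(Finset.ne_of_mem_erase hQ).symm, hP⟩
    exact mul_le_mul' (hBM P hP Q hQS) (hw2 Q P hPQ)

end Groth.Agent.Lib.Helper88.FF
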