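/-
Function fields of one variable: divisors, degree, one-step comparison of `A(D)` and `L(D)`.
Author: helper88
-/
import Groth.Agent.Lib.Helper88.FunFldLocal

set_option autoImplicit false

namespace Groth.Agent.Lib.Helper88.FF

open FunFld WithZero

variable {k K : Type*} [Field k] [Field K] [Algebra k K]

/-! ### Degree -/

lemma deg_zero : (0 : Divisor k K).deg = 0 := by simp [Divisor.deg]

lemma deg_add (D E : Divisor k K) : (D + E).deg = D.deg + E.deg := by
  unfold Divisor.deg
  exact Finsupp.sum_add_index' (fun _ => by simp) (fun _ _ _ => by ring)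

lemma deg_neg (D : Divisor k K) : (-D).deg = -D.deg := by
  have h := deg_add D (-D)
  rw [add_neg_cancel, deg_zero] at h
  linarith

lemma deg_sub (D E : Divisor k K) : (D - E).deg = D.deg - E.deg := by
  rw [sub_eq_add_neg, deg_add, deg_neg]; ring

lemma deg_single (P : Place k K) (n : ℤ) :
    Divisor.deg (Finsupp.single P n : Divisor k K) = n * P.deg := by
  unfold Divisor.deg
  exact Finsupp.sum_single_index (by simp)

lemma deg_nsmul (n : ℕ) (D : Divisor k K) : (n • D).deg = n * D.deg := by
  induction n with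
  | zero => simp [deg_zero]
  | succ n ih => rw [succ_nsmul, deg_add, ih]; push_cast; ring

lemma deg_nonneg {D : Divisor k K} (h : 0 ≤ D) : 0 ≤ D.deg := by
  unfold Divisor.deg Finsupp.sum
  exact Finset.sum_nonneg fun P _ => mul_nonneg (h P) (Int.natCast_nonneg _)

lemma deg_mono {D E : Divisor k K} (h : D ≤ E) : D.deg ≤ E.deg := by
  have := deg_nonneg (sub_nonneg.2 h)
  rw [deg_sub] at this
  linarith

/-! ### Induction along `D₁ ≤ D₂` -/

/-- Cast of an effective divisor with natural coefficients. -/
noncomputable def castD : (Place k K →₀ ℕ) →+ Divisor k K :=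
  Finsupp.mapRange.addMonoidHom (Nat.castAddMonoidHom ℤ)

lemma castD_single (P : Place k K) (n : ℕ) :
    castD (Finsupp.single P n) = Finsupp.single P (n : ℤ) := by
  simp [castD]

theorem divisor_le_induction {motive : Divisor k K → Divisor k K → Prop}
    (refl : ∀ D, motive D D)
    (step : ∀ D₁ D₂ P, D₁ ≤ D₂ → motive D₁ D₂ → motive D₁ (D₂ + Finsupp.single P 1))
    {D₁ D₂ : Divisor k K} (h : D₁ ≤ D₂) : motive D₁ D₂ := by
  have key : ∀ F : Place k K →₀ ℕ, ∀ D₂, D₁ ≤ D₂ → motive D₁ D₂ → motive D₁ (D₂ + castD F) := by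
    intro F
    induction F using Finsupp.induction_linear with
    | zero => intro D₂ _ hm; simpa using hm
    | add f g hf hg =>
      intro D₂ hle hm
      rw [map_add, ← add_assoc]
      refine hg _ (hle.trans ?_) (hf _ hle hm)
      intro P
      simp [castD]
    | single P n =>
      induction n with
      | zero => intro D₂ _ hm; simpa using hm
      | succ n ih =>
        intro D₂ hle hm
        have : castD (Finsupp.single P (n + 1)) =
            castD (Finsupp.single P n) + Finsupp.single P 1 := by
          rw [castD_single, castD_single, ← Finsupp.single_add]; push_cast; rfl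
        rw [this, ← add_assoc]
        refine step _ _ _ (hle.trans ?_) (ih _ hle hm)
        intro Q
        simp only [castD_single, Finsupp.coe_add, Pi.add_apply, le_add_iff_nonneg_right]
        have h0 : (0 : Divisor k K) ≤ Finsupp.single P (n : ℤ) :=
          Finsupp.single_nonneg.2 (Int.natCast_nonneg n)
        exact h0 Q
  have hE : D₂ = D₁ + castD ((D₂ - D₁).mapRange Int.toNat rfl) := by
    ext P
    have hP : 0 ≤ D₂ P - D₁ P := sub_nonneg.2 (h P)
    simp [castD, Int.toNat_of_nonneg hP]
  rw [hE]
  exact key _ _ le_rfl (refl _)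

/-! ### One step: `A(D + P) / A(D) ≅ κ(P)` -/

section step
open Classical in
/-- The map `A(D') → κ(P)`, `a ↦ residue (a_P t^{D'(P)})`. -/
noncomputable def adRes (P : Place k K) {t : K} (ht : P.1 t = exp (-1 : ℤ)) (D' : Divisor k K) :
    AD D' →ₗ[k] IsLocalRing.ResidueField P.O :=
  (resAt P ht (D' P)).comp
    ({ toFun := fun a => ⟨a.1 P, a.2 P⟩
       map_add' := fun _ _ => rfl
       map_smul' := fun _ _ => rfl } : AD D' →ₗ[k] ball P (D' P))

lemma adRes_apply (P : Place k K) {t : K} (ht : P.1 t = exp (-1 : ℤ)) (D' : Divisor k K)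
    (a : AD D') : adRes P ht D' a = resAt P ht (D' P) ⟨a.1 P, a.2 P⟩ := rfl

lemma adRes_eq_zero_iff (P : Place k K) {t : K} (ht : P.1 t = exp (-1 : ℤ)) (D : Divisor k K)
    (a : AD (D + Finsupp.single P 1)) :
    adRes P ht (D + Finsupp.single P 1) a = 0 ↔ a.1 ∈ AD D := by
  rw [adRes_apply, resAt_eq_zero_iff]
  have hP : (D + Finsupp.single P 1 : Divisor k K) P - 1 = D P := by simp
  rw [hP]
  constructor
  · intro h Q
    by_cases hQ : Q = P
    · subst hQ; exact h
    · have := a.2 Q
      have hQ' : (D + Finsupp.single P 1 : Divisor k K) Q = D Q := by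
        simp [Finsupp.single_eq_of_ne hQ]
      rw [hQ'] at this
      exact this
  · intro h
    exact h P

open Classical in
lemma adRes_surjective (P : Place k K) {t : K} (ht : P.1 t = exp (-1 : ℤ)) (D' : Divisor k K) :
    Function.Surjective (adRes P ht D') := by
  intro r
  obtain ⟨x, rfl⟩ := resAt_surjective P ht (D' P) r
  refine ⟨⟨Pi.single P x.1, ?_⟩, ?_⟩
  · intro Q
    by_cases hQ : Q = P
    · subst hQ; rw [Pi.single_eq_same]; exact x.2
    · rw [Pi.single_eq_of_ne hQ]; simp
  · rw [adRes_apply]
    congr 1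
    apply Subtype.ext
    simp

/-- `A(D + P) / A(D) ≅ κ(P)`. -/
noncomputable def adStepEquiv (P : Place k K) {t : K} (ht : P.1 t = exp (-1 : ℤ))
    (D : Divisor k K) :
    RelQuot (AD D) (AD (D + Finsupp.single P 1)) ≃ₗ[k] IsLocalRing.ResidueField P.O :=
  relQuotEquivOfSurjective (adRes P ht _) (adRes_surjective P ht _) (adRes_eq_zero_iff P ht D)

/-- The map `L(D') → κ(P)`, `x ↦ residue (x t^{D'(P)})`. -/
noncomputable def lRes (P : Place k K) {t : K} (ht : P.1 t = exp (-1 : ℤ)) (D' : Divisor k K) :
    L D' →ₗ[k] IsLocalRing.ResidueField P.O :=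
  (resAt P ht (D' P)).comp
    ({ toFun := fun a => ⟨a.1, a.2 P⟩
       map_add' := fun _ _ => rfl
       map_smul' := fun _ _ => rfl } : L D' →ₗ[k] ball P (D' P))

lemma lRes_eq_zero_iff (P : Place k K) {t : K} (ht : P.1 t = exp (-1 : ℤ)) (D : Divisor k K)
    (a : L (D + Finsupp.single P 1)) :
    lRes P ht (D + Finsupp.single P 1) a = 0 ↔ a.1 ∈ L D := by
  change resAt P ht _ ⟨a.1, a.2 P⟩ = 0 ↔ _
  rw [resAt_eq_zero_iff]
  have hP : (D + Finsupp.single P 1 : Divisor k K) P - 1 = D P := by simp
  rw [hP]
  constructor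
  · intro h Q
    by_cases hQ : Q = P
    · subst hQ; exact h
    · have := a.2 Q
      have hQ' : (D + Finsupp.single P 1 : Divisor k K) Q = D Q := by
        simp [Finsupp.single_eq_of_ne hQ]
      rw [hQ'] at this
      exact this
  · intro h
    exact h P

end step

end Groth.Agent.Lib.Helper88.FF
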