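/-
Linear independence over `k(x)` from a "primitive relation" criterion.
Author: helper88
-/
import Groth.Agent.Lib.Helper88.FunFldLocal
import Mathlib.FieldTheory.IntermediateField.Adjoin.Algebra
import Mathlib.RingTheory.Localization.Module
import Mathlib.Algebra.Polynomial.Inductions
import Mathlib.RingTheory.Adjoin.Polynomial.Basic

set_option autoImplicit false

namespace Groth.Agent.Lib.Helper88.FF

open Polynomial
open scoped IntermediateField.algebraAdjoinAdjoin

variable {k K : Type*} [Field k] [Field K] [Algebra k K]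

/-- A nontrivial polynomial relation can be normalised so that some constant term is nonzero. -/
lemma exists_poly_rel_coeff_zero_ne {ι : Type*} {x : K} (hx0 : x ≠ 0) (z : ι → K)
    (s : Finset ι) :
    ∀ (N : ℕ) (p : ι → k[X]), (∑ i ∈ s, (p i).natDegree ≤ N) →
      (∑ i ∈ s, aeval x (p i) * z i = 0) → (∃ i ∈ s, p i ≠ 0) →
      ∃ q : ι → k[X], (∑ i ∈ s, aeval x (q i) * z i = 0) ∧ ∃ i ∈ s, (q i).coeff 0 ≠ 0 := by
  intro N
  induction N with
  | zero =>
    intro p hN hrel ⟨i₀, hi₀, hp₀⟩
    by_cases hc : ∃ i ∈ s, (p i).coeff 0 ≠ 0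
    · exact ⟨p, hrel, hc⟩
    · exfalso
      push Not at hc
      have h0 : (p i₀).natDegree = 0 := by
        have := Finset.single_le_sum (f := fun i => (p i).natDegree) (fun _ _ => Nat.zero_le _) hi₀
        omega
      apply hp₀
      rw [eq_C_of_natDegree_eq_zero h0, hc i₀ hi₀, C_0]
  | succ N ih =>
    intro p hN hrel ⟨i₀, hi₀, hp₀⟩
    by_cases hc : ∃ i ∈ s, (p i).coeff 0 ≠ 0
    · exact ⟨p, hrel, hc⟩
    · push Not at hc
      have hpX : ∀ i ∈ s, p i = X * divX (p i) := by
        intro i hi
        have := X_mul_divX_add (p i)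
        rw [hc i hi, C_0, add_zero] at this
        exact this.symm
      have hq₀ : divX (p i₀) ≠ 0 := by
        intro h
        apply hp₀
        rw [hpX i₀ hi₀, h, mul_zero]
      have hdeg₀ : 1 ≤ (p i₀).natDegree := by
        by_contra hlt
        have h0 : (p i₀).natDegree = 0 := by omega
        apply hp₀
        rw [eq_C_of_natDegree_eq_zero h0, hc i₀ hi₀, C_0]
      refine ih (fun i => divX (p i)) ?_ ?_ ⟨i₀, hi₀, hq₀⟩
      · have hlt : ∑ i ∈ s, (divX (p i)).natDegree < ∑ i ∈ s, (p i).natDegree := by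
          apply Finset.sum_lt_sum
          · intro i _
            exact natDegree_divX_le
          · refine ⟨i₀, hi₀, ?_⟩
            rw [natDegree_divX_eq_natDegree_tsub_one]
            omega
        omega
      · have : x * ∑ i ∈ s, aeval x (divX (p i)) * z i = 0 := by
          rw [Finset.mul_sum, ← hrel]
          apply Finset.sum_congr rfl
          intro i hi
          conv_rhs => rw [hpX i hi]
          rw [map_mul, aeval_X, mul_assoc]
        exact (mul_eq_zero.1 this).resolve_left hx0

/-- Criterion for linear independence over `k(x)`: every `k`-linear combination lying in `x R`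
is trivial, where `R` is a `k`-subalgebra containing `x` and the family. -/
theorem linearIndependent_adjoin_simple (R : Subalgebra k K) {x : K} (hxR : x ∈ R) (hx0 : x ≠ 0)
    {ι : Type*} (z : ι → K) (hz : ∀ i, z i ∈ R)
    (H : ∀ (s : Finset ι) (c : ι → k), (∃ r ∈ R, ∑ i ∈ s, c i • z i = x * r) →
      ∀ i ∈ s, c i = 0) :
    LinearIndependent (IntermediateField.adjoin k ({x} : Set K)) z := by
  rw [← LinearIndependent.iff_fractionRing (Algebra.adjoin k ({x} : Set K))
    (IntermediateField.adjoin k ({x} : Set K))]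
  by_contra hdep
  rw [not_linearIndependent_iff] at hdep
  obtain ⟨s, g, hg, i₀, hi₀, hg₀⟩ := hdep
  have hmem : ∀ i, ∃ p : k[X], aeval x p = (g i : K) := by
    intro i
    have h1 : ∀ y : K, y ∈ Algebra.adjoin k ({x} : Set K) → ∃ p : k[X], aeval x p = y := by
      intro y hy
      rw [Algebra.adjoin_singleton_eq_range_aeval] at hy
      exact hy
    exact h1 _ (g i).2
  choose p hp using hmem
  have hrel : ∑ i ∈ s, aeval x (p i) * z i = 0 := by
    rw [← hg]
    apply Finset.sum_congr rfl
    intro i _
    rw [hp i]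
    rfl
  have hp₀ : p i₀ ≠ 0 := by
    intro h
    apply hg₀
    apply Subtype.ext
    rw [← hp i₀, h, map_zero]
    rfl
  obtain ⟨q, hq, i₁, hi₁, hq₁⟩ :=
    exists_poly_rel_coeff_zero_ne hx0 z s _ p le_rfl hrel ⟨i₀, hi₀, hp₀⟩
  apply hq₁
  refine H s (fun i => (q i).coeff 0) ⟨-∑ i ∈ s, aeval x (divX (q i)) * z i, ?_, ?_⟩ i₁ hi₁
  · apply R.neg_mem
    apply R.sum_mem
    intro i _
    apply R.mul_mem _ (hz i)
    have h1 : aeval x (divX (q i)) ∈ Algebra.adjoin k ({x} : Set K) :=
      aeval_mem_adjoin_singleton k x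
    exact (Algebra.adjoin_le (Set.singleton_subset_iff.2 hxR)) h1
  · rw [mul_neg, eq_neg_iff_add_eq_zero, Finset.mul_sum, ← Finset.sum_add_distrib, ← hq]
    apply Finset.sum_congr rfl
    intro i _
    conv_rhs => rw [← X_mul_divX_add (q i)]
    rw [map_add, map_mul, aeval_X, aeval_C, Algebra.smul_def]
    ring

end Groth.Agent.Lib.Helper88.FF
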