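/-
Function fields of one variable: the fundamental inequality (local version), finiteness of
residue fields, and `dim A(D₂)/A(D₁) = deg D₂ - deg D₁`.
Author: helper88
-/
import Groth.Agent.Lib.Helper88.FunFldDiv
import Groth.Agent.Lib.Helper88.FunFldIndep
import Groth.Agent.Lib.Helper88.FunFldTransc

set_option autoImplicit false

namespace Groth.Agent.Lib.Helper88.FF

open FunFld WithZero

variable {k K : Type*} [Field k] [Field K] [Algebra k K]

/-- Finite-dimensionality and a bound on `finrank` from a bound on independent finite families. -/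
lemma finite_and_finrank_le_of_forall_card_le {V : Type*} [AddCommGroup V] [Module k V] (n : ℕ)
    (H : ∀ s : Finset V, (LinearIndependent k fun i : s => (i : V)) → s.card ≤ n) :
    FiniteDimensional k V ∧ Module.finrank k V ≤ n := by
  have h := rank_le H
  refine ⟨?_, Module.finrank_le_of_rank_le h⟩
  exact Module.rank_lt_aleph0_iff.1 (h.trans_lt (Cardinal.natCast_lt_aleph0))

/-- The semilocal ring of a set of places, as a `k`-subalgebra of `K`. -/
def Rsub (S : Set (Place k K)) : Subalgebra k K where
  carrier := {w | ∀ P ∈ S, P.1 w ≤ 1}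
  mul_mem' {a b} ha hb P hP := by
    rw [map_mul]; exact mul_le_one' (ha P hP) (hb P hP)
  add_mem' {a b} ha hb P hP := (P.1.map_add a b).trans (max_le (ha P hP) (hb P hP))
  algebraMap_mem' c P _ := P.2.1 c

lemma mem_Rsub {S : Set (Place k K)} {w : K} : w ∈ Rsub S ↔ ∀ P ∈ S, P.1 w ≤ 1 := Iff.rfl

/-- **Fundamental inequality, abstract form.** Let `S` be a set of places, `x ≠ 0` integral at
the places of `S`, `D ≥ 0` a divisor supported in `S` with `D ≤ ord x` on `S`, and assume every
repartition in `A(0)` can be approximated modulo `x` on `S` by an element of `K`. Then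
`A(0)/A(-D)` is finite-dimensional of dimension at most `[K : k(x)]`. -/
theorem finrank_AD_quot_le (S : Set (Place k K)) {x : K} (hx0 : x ≠ 0)
    [FiniteDimensional (IntermediateField.adjoin k ({x} : Set K)) K]
    (D : Divisor k K) (hDS : ∀ P, P ∉ S → D P = 0)
    (hD : ∀ P ∈ S, P.1 x ≤ exp (-D P)) (hx1 : ∀ P ∈ S, P.1 x ≤ 1)
    (happrox : ∀ a ∈ AD (0 : Divisor k K), ∃ z : K, ∀ P ∈ S, P.1 (z - a P) ≤ P.1 x) :
    FiniteDimensional k (RelQuot (AD (-D)) (AD (0 : Divisor k K))) ∧
      Module.finrank k (RelQuot (AD (-D)) (AD (0 : Divisor k K))) ≤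
        Module.finrank (IntermediateField.adjoin k ({x} : Set K)) K := by
  apply finite_and_finrank_le_of_forall_card_le
  intro s hs
  -- lift to repartitions and approximate
  have hlift : ∀ i : s, ∃ a : AD (0 : Divisor k K),
      (Submodule.Quotient.mk a : RelQuot (AD (-D)) (AD (0 : Divisor k K))) = i.1 :=
    fun i => Submodule.Quotient.mk_surjective _ i.1
  choose a ha using hlift
  have happ : ∀ i : s, ∃ z : K, ∀ P ∈ S, P.1 (z - (a i).1 P) ≤ P.1 x :=
    fun i => happrox _ (a i).2
  choose z hz using happ
  have hzR : ∀ i, z i ∈ Rsub S := by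
    intro i P hP
    have h1 : P.1 ((z i - (a i).1 P) + (a i).1 P) ≤ 1 := by
      apply P.1.map_add_le ((hz i P hP).trans (hx1 P hP))
      have := (a i).2 P
      simpa using this
    simpa using h1
  have hli : LinearIndependent (IntermediateField.adjoin k ({x} : Set K)) z := by
    refine linearIndependent_adjoin_simple (Rsub S) hx1 hx0 z hzR ?_
    rintro t c ⟨r, hr, hrel⟩
    -- the combination of the `a i` lies in `A(-D)`
    have hmem : (∑ i ∈ t, c i • (a i).1) ∈ AD (-D) := by
      intro P
      by_cases hP : P ∈ S
      · have e : (∑ i ∈ t, c i • (a i).1) P =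
            x * r - ∑ i ∈ t, c i • (z i - (a i).1 P) := by
          rw [← hrel, ← Finset.sum_sub_distrib, Finset.sum_apply]
          apply Finset.sum_congr rfl
          intro i _
          rw [Pi.smul_apply, smul_sub]; ring
        rw [e]
        have hle : P.1 (x * r - ∑ i ∈ t, c i • (z i - (a i).1 P)) ≤ P.1 x := by
          apply P.1.map_sub_le
          · rw [map_mul]
            exact (mul_le_mul' le_rfl (hr P hP)).trans_eq (mul_one _)
          · apply P.1.map_sum_le
            intro i _
            exact (val_smul_le P _ _).trans (hz i P hP)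
        exact hle.trans (by simpa using hD P hP)
      · have e : (-D) P = 0 := by simp [hDS P hP]
        rw [e, Finset.sum_apply]
        apply P.1.map_sum_le
        intro i _
        refine (val_smul_le P _ _).trans ?_
        exact (a i).2 P
    -- hence the combination of the classes vanishes
    have hzero : ∑ i ∈ t, c i • (i : RelQuot (AD (-D)) (AD (0 : Divisor k K))) = 0 := by
      have e : ∑ i ∈ t, c i • (i : RelQuot (AD (-D)) (AD (0 : Divisor k K))) =
          Submodule.Quotient.mk (∑ i ∈ t, c i • a i) := by
        rw [← Submodule.mkQ_apply, map_sum]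
        apply Finset.sum_congr rfl
        intro i _
        rw [map_smul, Submodule.mkQ_apply, ha]
      rw [e, Submodule.Quotient.mk_eq_zero]
      show ((∑ i ∈ t, c i • a i : AD (0 : Divisor k K)) : Place k K → K) ∈ AD (-D)
      have e2 : ((∑ i ∈ t, c i • a i : AD (0 : Divisor k K)) : Place k K → K) =
          ∑ i ∈ t, c i • (a i).1 := by
        rw [Submodule.coe_sum]
        rfl
      rw [e2]
      exact hmem
    exact linearIndependent_iff'.1 hs t c hzero
  have := hli.fintype_card_le_finrank
  simpa using this

/-- `A(D') / A(D) ≅ κ(P)` when `D' = D + P`. -/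
noncomputable def adStepEquiv' (P : Place k K) {t : K} (ht : P.1 t = exp (-1 : ℤ))
    {D D' : Divisor k K} (h : D' = D + Finsupp.single P 1) :
    RelQuot (AD D) (AD D') ≃ₗ[k] IsLocalRing.ResidueField P.O := by
  subst h
  exact adStepEquiv P ht D

lemma uniformizer_ne_zero (P : Place k K) {t : K} (ht : P.1 t = exp (-1 : ℤ)) : t ≠ 0 := by
  intro h
  rw [h, map_zero] at ht
  exact exp_ne_zero ht.symm

lemma uniformizer_not_mem_range (P : Place k K) {t : K} (ht : P.1 t = exp (-1 : ℤ)) :
    t ∉ Set.range (algebraMap k K) := by
  rintro ⟨c, rfl⟩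
  rcases eq_or_ne c 0 with rfl | hc
  · exact uniformizer_ne_zero P ht (map_zero _)
  · rw [val_algebraMap P hc, ← exp_zero, exp_inj] at ht
    omega

/-- An element that is not a unit at some place is not a constant. -/
lemma not_mem_range_of_val_ne_one (P : Place k K) {x : K} (hx0 : x ≠ 0) (hx : P.1 x ≠ 1) :
    x ∉ Set.range (algebraMap k K) := by
  rintro ⟨c, rfl⟩
  rcases eq_or_ne c 0 with rfl | hc
  · exact hx0 (map_zero _)
  · exact hx (val_algebraMap P hc)

/-- The residue field of a place is finite over `k`, of degree at most `[K : k(t)]` for a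
uniformizer `t`. -/
theorem residueField_finite_aux (hK : IsFunctionField k K) (P : Place k K) {t : K}
    (ht : P.1 t = exp (-1 : ℤ)) :
    ∃ _ : FiniteDimensional (IntermediateField.adjoin k ({t} : Set K)) K,
      FiniteDimensional k (IsLocalRing.ResidueField P.O) ∧
        P.deg ≤ Module.finrank (IntermediateField.adjoin k ({t} : Set K)) K := by
  have htr : Transcendental k t :=
    transcendental_of_not_mem_range hK (uniformizer_not_mem_range P ht)
  have hfd := finiteDimensional_adjoin_of_transcendental hK htr
  refine ⟨hfd, ?_⟩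
  have key := finrank_AD_quot_le ({P} : Set (Place k K)) (uniformizer_ne_zero P ht)
    (Finsupp.single P 1) (fun Q hQ => Finsupp.single_eq_of_ne (by simpa using hQ))
    (by
      intro Q hQ
      rw [Set.mem_singleton_iff] at hQ
      subst hQ
      simp [ht])
    (by
      intro Q hQ
      rw [Set.mem_singleton_iff] at hQ
      subst hQ
      rw [ht, ← exp_zero, exp_le_exp]
      omega)
    (by
      intro a _
      refine ⟨a P, ?_⟩
      intro Q hQ
      rw [Set.mem_singleton_iff] at hQ
      subst hQ
      simp)
  have e : RelQuot (AD (-(Finsupp.single P 1 : Divisor k K))) (AD (0 : Divisor k K)) ≃ₗ[k]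
      IsLocalRing.ResidueField P.O :=
    adStepEquiv' P ht (by simp)
  refine ⟨?_, ?_⟩
  · have := key.1
    exact Module.Finite.equiv e
  · have := key.2
    rw [LinearEquiv.finrank_eq e] at this
    exact this

/-- **S10971**: the residue field of a place of a function field of one variable is finite. -/
theorem finiteDimensional_residueField (hK : IsFunctionField k K) (P : Place k K) :
    FiniteDimensional k (IsLocalRing.ResidueField P.O) := by
  obtain ⟨t, ht⟩ := exists_uniformizer P
  obtain ⟨_, h, -⟩ := residueField_finite_aux hK P ht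
  exact h

lemma deg_pos (hK : IsFunctionField k K) (P : Place k K) : 0 < P.deg := by
  have := finiteDimensional_residueField hK P
  exact Module.finrank_pos

/-- **S10974**: `dim A(D₂)/A(D₁) = deg D₂ - deg D₁` for `D₁ ≤ D₂`. -/
theorem finrank_AD_quot (hK : IsFunctionField k K) {D₁ D₂ : Divisor k K} (h : D₁ ≤ D₂) :
    FiniteDimensional k (RelQuot (AD D₁) (AD D₂)) ∧
      (Module.finrank k (RelQuot (AD D₁) (AD D₂)) : ℤ) = D₂.deg - D₁.deg := by
  refine divisor_le_induction (motive := fun D₁ D₂ =>
    FiniteDimensional k (RelQuot (AD D₁) (AD D₂)) ∧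
      (Module.finrank k (RelQuot (AD D₁) (AD D₂)) : ℤ) = D₂.deg - D₁.deg) ?_ ?_ h
  · intro D
    have : Subsingleton (RelQuot (AD D) (AD D)) := by
      apply Submodule.Quotient.subsingleton_iff.2
      rw [eq_top_iff]
      intro a _
      exact a.2
    refine ⟨inferInstance, ?_⟩
    rw [Module.finrank_zero_of_subsingleton]
    simp
  · intro D₁ D₂ P hle ih
    obtain ⟨t, ht⟩ := exists_uniformizer P
    have hfin := finiteDimensional_residueField hK P
    obtain ⟨ih1, ih2⟩ := ih
    have hle2 : D₂ ≤ D₂ + Finsupp.single P 1 := by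
      intro Q
      have h0 : (0 : Divisor k K) ≤ Finsupp.single P (1 : ℤ) :=
        Finsupp.single_nonneg.2 zero_le_one
      have := h0 Q
      simp only [Finsupp.coe_add, Pi.add_apply, le_add_iff_nonneg_right]
      exact this
    have hstep : FiniteDimensional k (RelQuot (AD D₂) (AD (D₂ + Finsupp.single P 1))) :=
      Module.Finite.equiv (adStepEquiv P ht D₂).symm
    have hfd : FiniteDimensional k (RelQuot (AD D₁) (AD (D₂ + Finsupp.single P 1))) :=
      relQuot_tower_finite (AD_mono hle) (AD_mono hle2)
    refine ⟨hfd, ?_⟩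
    rw [relQuot_tower_finrank (AD_mono hle) (AD_mono hle2),
      LinearEquiv.finrank_eq (adStepEquiv P ht D₂), deg_add, deg_single]
    push_cast
    rw [ih2]
    simp only [Place.deg]
    ring

end Groth.Agent.Lib.Helper88.FF
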