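/-
Function fields of one variable: nontrivial valuations trivial on `k` are discrete; existence of
places; zeros and poles of nonconstant elements; `L(0) = k`.
Author: helper88
-/
import Groth.Agent.Lib.Helper88.FunFldResidue
import Mathlib.GroupTheory.ArchimedeanDensely
import Mathlib.RingTheory.Valuation.LocalSubring
import Mathlib.Order.Interval.Set.Infinite

set_option autoImplicit false

namespace Groth.Agent.Lib.Helper88.FF

open FunFld WithZero

variable {k K : Type*} [Field k] [Field K] [Algebra k K]

section general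
variable {Γ : Type*} [LinearOrderedCommGroupWithZero Γ] (v : Valuation K Γ)

lemma gval_algebraMap (hk : ∀ c : k, v (algebraMap k K c) ≤ 1) {c : k} (hc : c ≠ 0) :
    v (algebraMap k K c) = 1 := by
  have h1 := hk c
  have h2 := hk c⁻¹
  have h3 : v (algebraMap k K c) * v (algebraMap k K c⁻¹) = 1 := by
    rw [← map_mul, ← map_mul, mul_inv_cancel₀ hc, map_one, map_one]
  apply le_antisymm h1
  by_contra hlt
  rw [not_le] at hlt
  have : v (algebraMap k K c) * v (algebraMap k K c⁻¹) < 1 :=
    calc v (algebraMap k K c) * v (algebraMap k K c⁻¹)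
        ≤ v (algebraMap k K c) * 1 := mul_le_mul' le_rfl h2
      _ = v (algebraMap k K c) := mul_one _
      _ < 1 := hlt
  exact absurd h3 this.ne

lemma gval_smul (hk : ∀ c : k, v (algebraMap k K c) ≤ 1) {c : k} (hc : c ≠ 0) (x : K) :
    v (c • x) = v x := by
  rw [Algebra.smul_def, map_mul, gval_algebraMap v hk hc, one_mul]

/-- The valuation ring of `v` as a `k`-subalgebra. -/
def Vsub (hk : ∀ c : k, v (algebraMap k K c) ≤ 1) : Subalgebra k K where
  carrier := {w | v w ≤ 1}
  mul_mem' {a b} ha hb := by
    show v (a * b) ≤ 1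
    rw [map_mul]; exact mul_le_one' ha hb
  add_mem' {a b} ha hb := (v.map_add a b).trans (max_le ha hb)
  algebraMap_mem' c := hk c

/-- Between `v x₀ < 1` and `1` there are only finitely many values. -/
theorem finite_Ioo_val (hK : IsFunctionField k K) (hsurj : Function.Surjective v)
    (hk : ∀ c : k, v (algebraMap k K c) ≤ 1) {x₀ : K} (hx0 : x₀ ≠ 0) (hx1 : v x₀ < 1) :
    (Set.Ioo (v x₀) 1).Finite := by
  have hnotk : x₀ ∉ Set.range (algebraMap k K) := by
    rintro ⟨c, rfl⟩
    rcases eq_or_ne c 0 with rfl | hc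
    · exact hx0 (map_zero _)
    · rw [gval_algebraMap v hk hc] at hx1
      exact lt_irrefl _ hx1
  have hfd := finiteDimensional_adjoin_of_transcendental hK
    (transcendental_of_not_mem_range hK hnotk)
  by_contra hinf
  obtain ⟨T, hT, hcard⟩ := Set.Infinite.exists_subset_card_eq hinf
    (Module.finrank (IntermediateField.adjoin k ({x₀} : Set K)) K + 1)
  have hz : ∀ γ : T, ∃ z : K, v z = γ.1 := fun γ => hsurj γ.1
  choose z hz using hz
  have hli : LinearIndependent (IntermediateField.adjoin k ({x₀} : Set K)) z := by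
    refine linearIndependent_adjoin_simple (Vsub v hk) hx1.le hx0 z ?_ ?_
    · intro i
      show v (z i) ≤ 1
      rw [hz i]
      exact (hT i.2).2.le
    · rintro t c ⟨r, hr, hrel⟩
      by_contra hne
      push Not at hne
      obtain ⟨i₀, hi₀, hci₀⟩ := hne
      classical
      set t' := t.filter (fun i => c i ≠ 0) with ht'
      have hne' : t'.Nonempty := ⟨i₀, by simp [ht', hi₀, hci₀]⟩
      set j := t'.max' hne' with hj
      have hjt' : j ∈ t' := Finset.max'_mem _ _
      have hjt : j ∈ t := (Finset.mem_filter.1 hjt').1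
      have hcj : c j ≠ 0 := (Finset.mem_filter.1 hjt').2
      have hj0 : (j.1 : Γ) ≠ 0 := by
        have := (hT j.2).1
        exact (lt_of_le_of_lt zero_le this).ne'
      have hsplit : c j • z j = x₀ * r - ∑ i ∈ t.erase j, c i • z i := by
        rw [← hrel, ← Finset.add_sum_erase t _ hjt]
        ring
      have h1 : v (c j • z j) = j.1 := by
        rw [gval_smul v hk hcj, hz]
      have h2 : v (x₀ * r - ∑ i ∈ t.erase j, c i • z i) < j.1 := by
        apply v.map_sub_lt
        · rw [map_mul]
          calc v x₀ * v r ≤ v x₀ * 1 := mul_le_mul' le_rfl hr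
            _ = v x₀ := mul_one _
            _ < j.1 := (hT j.2).1
        · apply v.map_sum_lt hj0
          intro i hi
          rw [Finset.mem_erase] at hi
          by_cases hci : c i = 0
          · rw [hci, zero_smul, map_zero]
            exact zero_lt_iff.2 hj0
          · rw [gval_smul v hk hci, hz]
            have hit' : i ∈ t' := Finset.mem_filter.2 ⟨hi.2, hci⟩
            have hle : i ≤ j := Finset.le_max' _ _ hit'
            have hlt : i < j := lt_of_le_of_ne hle hi.1
            exact hlt
      rw [← hsplit, h1] at h2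
      exact lt_irrefl _ h2
  have := hli.fintype_card_le_finrank
  rw [Fintype.card_coe, hcard] at this
  omega

/-- A nontrivial surjective valuation of a function field that is trivial on `k` is equivalent to
a place. -/
theorem exists_place_of_valuation (hK : IsFunctionField k K) (hsurj : Function.Surjective v)
    (hk : ∀ c : k, v (algebraMap k K c) ≤ 1) {x₀ : K} (hx0 : x₀ ≠ 0) (hx1 : v x₀ < 1) :
    ∃ P : Place k K, ∀ w : K, P.1 w ≤ 1 ↔ v w ≤ 1 := by
  have hvx0 : v x₀ ≠ 0 := (Valuation.ne_zero_iff v).2 hx0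
  have : Nontrivial Γˣ := ⟨⟨Units.mk0 (v x₀) hvx0, 1, by
    intro h
    have := congrArg Units.val h
    simp only [Units.val_mk0, Units.val_one] at this
    exact hx1.ne this⟩⟩
  have : MulArchimedean Γ := by
    constructor
    intro a y hy
    by_contra hcon
    push Not at hcon
    have ha1 : 1 < a := by simpa using hcon 0
    have ha0 : a ≠ 0 := (zero_lt_one.trans ha1).ne'
    have hy0 : y ≠ 0 := (zero_lt_one.trans hy).ne'
    obtain ⟨xa, hxa⟩ := hsurj a⁻¹
    have hxa0 : xa ≠ 0 := by
      rw [← Valuation.ne_zero_iff v, hxa]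
      exact inv_ne_zero ha0
    have hxa1 : v xa < 1 := by
      rw [hxa]
      exact inv_lt_one_of_one_lt₀ ha1
    have hfin := finite_Ioo_val v hK hsurj hk hxa0 hxa1
    apply hfin.not_infinite
    have hyinv : y⁻¹ < 1 := inv_lt_one_of_one_lt₀ hy
    have hyinv0 : 0 < y⁻¹ := zero_lt_iff.2 (inv_ne_zero hy0)
    refine Set.infinite_of_injective_forall_mem (f := fun n : ℕ => (y⁻¹) ^ (n + 1)) ?_ ?_
    · have hanti : StrictAnti (fun n : ℕ => (y⁻¹) ^ (n + 1)) := by
        intro m n hmn
        exact pow_lt_pow_right_of_lt_one₀ hyinv0 hyinv (by omega)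
      exact hanti.injective
    · intro n
      constructor
      · rw [hxa, inv_pow]
        have h1 := hcon (n + 1)
        have h2 : 0 < y ^ (n + 1) := zero_lt_iff.2 (pow_ne_zero _ hy0)
        exact (inv_lt_inv₀ (zero_lt_one.trans ha1) h2).2 h1
      · exact pow_lt_one₀ hyinv0.le hyinv (by omega)
  have hnd : ¬ DenselyOrdered Γ := by
    intro hd
    exact (Set.Ioo_infinite hx1) (finite_Ioo_val v hK hsurj hk hx0 hx1)
  obtain ⟨⟨e⟩⟩ | hd := LinearOrderedCommGroupWithZero.discrete_or_denselyOrdered Γ
  swap
  · exact absurd hd hnd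
  let e' : Γ →*₀ ℤᵐ⁰ :=
    { toFun := e
      map_zero' := map_zero e
      map_one' := map_one e
      map_mul' := map_mul e }
  have hmono : Monotone e' := fun a b hab => (map_le_map_iff e).2 hab
  refine ⟨⟨v.map e' hmono, ?_, ?_⟩, ?_⟩
  · intro c
    show e (v (algebraMap k K c)) ≤ 1
    rw [← map_one e, map_le_map_iff]
    exact hk c
  · intro γ
    obtain ⟨w, hw⟩ := hsurj (e.symm γ)
    refine ⟨w, ?_⟩
    show e (v w) = γ
    rw [hw]
    exact e.apply_symm_apply γ
  · intro w
    show e (v w) ≤ 1 ↔ _
    rw [← map_one e, map_le_map_iff]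

end general

/-- The image of `k` in a function field `K` is integrally closed in `K`. -/
lemma isIntegrallyClosedIn_range (hK : IsFunctionField k K) :
    IsIntegrallyClosedIn (algebraMap k K).range K := by
  rw [Subring.isIntegrallyClosedIn_iff]
  intro x hx
  have halg : IsAlgebraic (algebraMap k K).range x := hx.isAlgebraic
  have halg' : IsAlgebraic k x := by
    refine IsAlgebraic.of_ringHom_of_comp_eq (S := (algebraMap k K).range) (B := K)
      (algebraMap k K).rangeRestrict (RingHom.id K) (a := x) halg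
      (algebraMap k K).rangeRestrict_surjective Function.injective_id ?_
    ext c
    rfl
  exact hK.2 x halg'

/-- Every valuation subring of `K` containing `k` and different from `K` is the valuation ring
of a place. -/
theorem exists_place_of_valuationSubring (hK : IsFunctionField k K) (V : ValuationSubring K)
    (hkV : ∀ c : k, algebraMap k K c ∈ V) {x : K} (hxV : x ∉ V) :
    ∃ P : Place k K, ∀ w : K, P.1 w ≤ 1 ↔ w ∈ V := by
  have hx0 : x ≠ 0 := by
    rintro rfl
    exact hxV (zero_mem _)
  have hv : 1 < V.valuation x := by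
    rw [← not_le, ValuationSubring.valuation_le_one_iff]
    exact hxV
  have hv' : V.valuation x⁻¹ < 1 := by
    rw [map_inv₀]
    exact inv_lt_one_of_one_lt₀ hv
  obtain ⟨P, hP⟩ := exists_place_of_valuation V.valuation hK V.valuation_surjective
    (fun c => (V.valuation_le_one_iff _).2 (hkV c)) (inv_ne_zero hx0) hv'
  exact ⟨P, fun w => (hP w).trans (V.valuation_le_one_iff w)⟩

/-- A nonconstant element has a pole. -/
theorem exists_pole (hK : IsFunctionField k K) {x : K} (hx : x ∉ Set.range (algebraMap k K)) :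
    ∃ Q : Place k K, Q.ord x < 0 := by
  have hx0 : x ≠ 0 := by
    rintro rfl
    exact hx ⟨0, map_zero _⟩
  have := isIntegrallyClosedIn_range hK
  have hxR : x ∉ (algebraMap k K).range := hx
  obtain ⟨V, hRV, hxV⟩ := Subring.exists_le_valuationSubring_of_isIntegrallyClosedIn hxR
  obtain ⟨P, hP⟩ := exists_place_of_valuationSubring hK V (fun c => hRV ⟨c, rfl⟩) hxV
  refine ⟨P, ?_⟩
  rw [← one_lt_val_iff P hx0, ← not_le, hP]
  exact hxV

/-- A nonconstant element has a zero. -/
theorem exists_zero (hK : IsFunctionField k K) {x : K} (hx : x ∉ Set.range (algebraMap k K)) :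
    ∃ P : Place k K, 0 < P.ord x := by
  have hx0 : x ≠ 0 := by
    rintro rfl
    exact hx ⟨0, map_zero _⟩
  have hinv : x⁻¹ ∉ Set.range (algebraMap k K) := by
    rintro ⟨c, hc⟩
    apply hx
    refine ⟨c⁻¹, ?_⟩
    rw [map_inv₀, hc, inv_inv]
  obtain ⟨P, hP⟩ := exists_pole hK hinv
  refine ⟨P, ?_⟩
  rw [ord_inv] at hP
  linarith

/-- `L(0) = k`. -/
theorem L_zero_eq (hK : IsFunctionField k K) : L (0 : Divisor k K) = 1 := by
  ext x
  rw [Submodule.mem_one]
  constructor
  · intro hx
    by_contra hne
    have hx' : x ∉ Set.range (algebraMap k K) := hne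
    obtain ⟨Q, hQ⟩ := exists_pole hK hx'
    have hx0 : x ≠ 0 := by
      rintro rfl
      exact hx' ⟨0, map_zero _⟩
    have h1 := hx Q
    simp only [Finsupp.coe_zero, Pi.zero_apply, exp_zero] at h1
    rw [val_le_one_iff Q hx0] at h1
    linarith
  · rintro ⟨c, rfl⟩
    intro P
    simpa using P.2.1 c

/-- Elements with the same order at every place differ by a constant. -/
theorem exists_eq_smul_of_ord_eq (hK : IsFunctionField k K) {x y : K} (hx : x ≠ 0) (hy : y ≠ 0)
    (h : ∀ P : Place k K, P.ord x = P.ord y) : ∃ c : k, x = c • y := by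
  have hmem : x / y ∈ L (0 : Divisor k K) := by
    intro P
    have hxy : x / y ≠ 0 := div_ne_zero hx hy
    simp only [Finsupp.coe_zero, Pi.zero_apply, exp_zero]
    rw [val_le_one_iff P hxy, div_eq_mul_inv, ord_mul P hx (inv_ne_zero hy), ord_inv, h P]
    simp
  rw [L_zero_eq hK, Submodule.mem_one] at hmem
  obtain ⟨c, hc⟩ := hmem
  refine ⟨c, ?_⟩
  rw [Algebra.smul_def, hc, div_mul_cancel₀ _ hy]

end Groth.Agent.Lib.Helper88.FF
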