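/-
Function fields of one variable: finite-dimensionality of `L(D)`, the inequality
`ℓ(D₂) - ℓ(D₁) ≤ deg D₂ - deg D₁`, and the dimension of `(A(D₂)+K)/(A(D₁)+K)`.
Author: helper88
-/
import Groth.Agent.Lib.Helper88.FunFldExist

set_option autoImplicit false

namespace Groth.Agent.Lib.Helper88.FF

open FunFld WithZero

variable {k K : Type*} [Field k] [Field K] [Algebra k K]

lemma le_add_single (D : Divisor k K) (P : Place k K) : D ≤ D + Finsupp.single P 1 := by
  intro Q
  have h0 : (0 : Divisor k K) ≤ Finsupp.single P (1 : ℤ) :=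
    Finsupp.single_nonneg.2 zero_le_one
  have := h0 Q
  simp only [Finsupp.coe_add, Pi.add_apply, le_add_iff_nonneg_right]
  exact this

/-- `L(D₂)/L(D₁)` is finite-dimensional of dimension at most `deg D₂ - deg D₁`. -/
theorem finrank_L_quot_le (hK : IsFunctionField k K) {D₁ D₂ : Divisor k K} (h : D₁ ≤ D₂) :
    FiniteDimensional k (RelQuot (L D₁) (L D₂)) ∧
      (Module.finrank k (RelQuot (L D₁) (L D₂)) : ℤ) ≤ D₂.deg - D₁.deg := by
  refine divisor_le_induction (motive := fun D₁ D₂ =>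
    FiniteDimensional k (RelQuot (L D₁) (L D₂)) ∧
      (Module.finrank k (RelQuot (L D₁) (L D₂)) : ℤ) ≤ D₂.deg - D₁.deg) ?_ ?_ h
  · intro D
    have : Subsingleton (RelQuot (L D) (L D)) := by
      apply Submodule.Quotient.subsingleton_iff.2
      rw [eq_top_iff]
      intro a _
      exact a.2
    refine ⟨inferInstance, ?_⟩
    rw [Module.finrank_zero_of_subsingleton]
    simp
  · intro D₁ D₂ P hle ih
    obtain ⟨t, ht⟩ := exists_uniformizer P
    have hfin := finiteDimensional_residueField hK P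
    obtain ⟨ih1, ih2⟩ := ih
    have hle2 := le_add_single D₂ P
    have hstep : FiniteDimensional k (RelQuot (L D₂) (L (D₂ + Finsupp.single P 1))) :=
      relQuot_finite_of_ker (lRes P ht _) (lRes_eq_zero_iff P ht D₂)
    have hstep2 : Module.finrank k (RelQuot (L D₂) (L (D₂ + Finsupp.single P 1))) ≤ P.deg :=
      relQuot_finrank_le_of_ker (lRes P ht _) (lRes_eq_zero_iff P ht D₂)
    have hfd : FiniteDimensional k (RelQuot (L D₁) (L (D₂ + Finsupp.single P 1))) :=
      relQuot_tower_finite (L_mono hle) (L_mono hle2)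
    refine ⟨hfd, ?_⟩
    rw [relQuot_tower_finrank (L_mono hle) (L_mono hle2), deg_add, deg_single]
    push_cast
    have : (Module.finrank k (RelQuot (L D₂) (L (D₂ + Finsupp.single P 1))) : ℤ) ≤ P.deg := by
      exact_mod_cast hstep2
    linarith

/-- **S10976**: `L(D)` is finite-dimensional. -/
theorem finiteDimensional_L (hK : IsFunctionField k K) (D : Divisor k K) :
    FiniteDimensional k (L D) := by
  have h0 : FiniteDimensional k (L (0 : Divisor k K)) := by
    rw [L_zero_eq hK, Submodule.one_eq_span]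
    infer_instance
  have h1 : FiniteDimensional k (L (D ⊓ 0)) :=
    Submodule.finiteDimensional_of_le (L_mono (inf_le_right : D ⊓ 0 ≤ 0))
  have h2 := (finrank_L_quot_le hK (inf_le_left : D ⊓ 0 ≤ D)).1
  exact relQuot_finite_total (L_mono (inf_le_left : D ⊓ 0 ≤ D))

/-- **S10977**: `ℓ(D₂) - ℓ(D₁) ≤ deg D₂ - deg D₁` for `D₁ ≤ D₂`. -/
theorem ell_sub_ell_le (hK : IsFunctionField k K) {D₁ D₂ : Divisor k K} (h : D₁ ≤ D₂) :
    (ell D₂ : ℤ) - ell D₁ ≤ D₂.deg - D₁.deg := by
  have := finiteDimensional_L hK D₂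
  have h1 := relQuot_finrank_total (L_mono h)
  have h2 := (finrank_L_quot_le hK h).2
  unfold ell
  rw [h1]
  push_cast
  linarith

lemma ell_zero (hK : IsFunctionField k K) : ell (0 : Divisor k K) = 1 := by
  unfold ell
  rw [L_zero_eq hK, Submodule.one_eq_span]
  exact finrank_span_singleton one_ne_zero

/-- `ℓ(D) ≤ deg D + 1` for `D ≥ 0`. -/
lemma ell_le_deg_add_one (hK : IsFunctionField k K) {D : Divisor k K} (h : 0 ≤ D) :
    (ell D : ℤ) ≤ D.deg + 1 := by
  have := ell_sub_ell_le hK h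
  rw [ell_zero hK, deg_zero] at this
  push_cast at this
  linarith

lemma diag_mem_AD_iff {D : Divisor k K} {x : K} : diag k K x ∈ AD D ↔ x ∈ L D := Iff.rfl

/-- `(A(D₂) ∩ K)/(A(D₁) ∩ K) ≅ L(D₂)/L(D₁)`. -/
noncomputable def lQuotEquiv (D₁ D₂ : Divisor k K) :
    RelQuot (L D₁) (L D₂) ≃ₗ[k]
      RelQuot (AD D₁ ⊓ LinearMap.range (diag k K)) (AD D₂ ⊓ LinearMap.range (diag k K)) := by
  let ψ : L D₂ →ₗ[k]
      RelQuot (AD D₁ ⊓ LinearMap.range (diag k K)) (AD D₂ ⊓ LinearMap.range (diag k K)) :=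
    (Submodule.mkQ _).comp
      (LinearMap.codRestrict (AD D₂ ⊓ LinearMap.range (diag k K))
        ((diag k K).comp (L D₂).subtype)
        (fun x => ⟨diag_mem_AD_iff.2 x.2, ⟨x.1, rfl⟩⟩))
  refine relQuotEquivOfSurjective ψ ?_ ?_
  · intro y
    induction y using Submodule.Quotient.induction_on with
    | _ b =>
      obtain ⟨hb1, x, hx⟩ := b.2
      refine ⟨⟨x, ?_⟩, ?_⟩
      · rw [← diag_mem_AD_iff, hx]; exact hb1
      · show Submodule.Quotient.mk _ = Submodule.Quotient.mk b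
        congr 1
        apply Subtype.ext
        exact hx
  · intro x
    show Submodule.Quotient.mk _ = 0 ↔ _
    rw [Submodule.Quotient.mk_eq_zero]
    show diag k K x.1 ∈ AD D₁ ⊓ LinearMap.range (diag k K) ↔ _
    constructor
    · intro h; exact diag_mem_AD_iff.1 h.1
    · intro h; exact ⟨diag_mem_AD_iff.2 h, ⟨x.1, rfl⟩⟩

/-- **S10979**: `dim (A(D₂)+K)/(A(D₁)+K) = δ(D₂) - δ(D₁)` with `δ(D) = deg D + 1 - ℓ(D)`. -/
theorem finrank_AD_sup_K_quot (hK : IsFunctionField k K) {D₁ D₂ : Divisor k K} (h : D₁ ≤ D₂) :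
    FiniteDimensional k (RelQuot (AD D₁ ⊔ LinearMap.range (diag k K))
        (AD D₂ ⊔ LinearMap.range (diag k K))) ∧
    (Module.finrank k (RelQuot (AD D₁ ⊔ LinearMap.range (diag k K))
        (AD D₂ ⊔ LinearMap.range (diag k K))) : ℤ) =
      (D₂.deg + 1 - ell D₂) - (D₁.deg + 1 - ell D₁) := by
  obtain ⟨hfd, hrk⟩ := finrank_AD_quot hK h
  refine ⟨relQuot_sup_finite _, ?_⟩
  have h1 := relQuot_inf_sup_finrank (LinearMap.range (diag k K)) (AD_mono h)
  rw [← LinearEquiv.finrank_eq (lQuotEquiv D₁ D₂)] at h1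
  have := finiteDimensional_L hK D₂
  have h2 := relQuot_finrank_total (L_mono h)
  unfold ell
  have h1' : (Module.finrank k (RelQuot (AD D₁) (AD D₂)) : ℤ) =
      Module.finrank k (RelQuot (L D₁) (L D₂)) +
        Module.finrank k (RelQuot (AD D₁ ⊔ LinearMap.range (diag k K))
          (AD D₂ ⊔ LinearMap.range (diag k K))) := by
    exact_mod_cast h1
  have h2' : (Module.finrank k (L D₂) : ℤ) =
      Module.finrank k (L D₁) + Module.finrank k (RelQuot (L D₁) (L D₂)) := by
    exact_mod_cast h2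
  linarith

end Groth.Agent.Lib.Helper88.FF
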