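/-
Function fields of one variable: the fundamental inequality `∑ ord_P(x) deg P ≤ [K : k(x)]`,
finiteness of zeros and poles, principal divisors.
Author: helper88
-/
import Groth.Agent.Lib.Helper88.FunFldL
import Groth.Agent.Lib.Helper88.FunFldApprox

set_option autoImplicit false

namespace Groth.Agent.Lib.Helper88.FF

open FunFld WithZero

variable {k K : Type*} [Field k] [Field K] [Algebra k K]

/-- The degree as an additive homomorphism. -/
noncomputable def degHom : Divisor k K →+ ℤ where
  toFun := Divisor.deg
  map_zero' := deg_zero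
  map_add' := deg_add

@[simp] lemma degHom_apply (D : Divisor k K) : degHom D = D.deg := rfl

lemma deg_sum {ι : Type*} (s : Finset ι) (f : ι → Divisor k K) :
    (∑ i ∈ s, f i).deg = ∑ i ∈ s, (f i).deg := by
  rw [← degHom_apply, map_sum]
  rfl

/-- **Fundamental inequality**: for zeros `P ∈ S` of `x`, `∑ ord_P(x) deg P ≤ [K : k(x)]`. -/
theorem sum_ord_mul_deg_le (hK : IsFunctionField k K) {x : K}
    [FiniteDimensional (IntermediateField.adjoin k ({x} : Set K)) K]
    (S : Finset (Place k K)) (hS : ∀ P ∈ S, 0 < P.ord x) :
    ∑ P ∈ S, P.ord x * (P.deg : ℤ) ≤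
      Module.finrank (IntermediateField.adjoin k ({x} : Set K)) K := by
  classical
  rcases S.eq_empty_or_nonempty with rfl | hne
  · simp
  have hx0 : x ≠ 0 := by
    rintro rfl
    obtain ⟨P, hP⟩ := hne
    have := hS P hP
    rw [ord_zero] at this
    exact lt_irrefl _ this
  set D : Divisor k K := ∑ P ∈ S, Finsupp.single P (P.ord x) with hD
  have hDapp : ∀ P, D P = if P ∈ S then P.ord x else 0 := by
    intro P
    rw [hD, Finsupp.finsetSum_apply]
    simp only [Finsupp.single_apply]
    rw [Finset.sum_ite_eq' S P]
  have hDnonneg : (0 : Divisor k K) ≤ D := by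
    intro P
    rw [hDapp]
    split_ifs with h
    · exact (hS P h).le
    · exact le_rfl
  have key := finrank_AD_quot_le (↑S : Set (Place k K)) hx0 D
    (by
      intro P hP
      rw [hDapp, if_neg (by simpa using hP)])
    (by
      intro P hP
      rw [hDapp, if_pos (by simpa using hP), val_eq_exp_neg_ord P hx0])
    (by
      intro P hP
      exact ((val_lt_one_iff P hx0).2 (hS P (by simpa using hP))).le)
    (by
      intro a _
      obtain ⟨z, hz⟩ := weak_approx S a (∑ P ∈ S, P.ord x)
      refine ⟨z, ?_⟩
      intro P hP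
      have hP' : P ∈ S := by simpa using hP
      refine (hz P hP').trans ?_
      rw [val_eq_exp_neg_ord P hx0, exp_le_exp, neg_le_neg_iff]
      exact Finset.single_le_sum (f := fun P : Place k K => P.ord x)
        (fun Q hQ => (hS Q hQ).le) hP')
  have h2 := finrank_AD_quot hK (neg_nonpos.2 hDnonneg)
  have h3 : (Module.finrank k (RelQuot (AD (-D)) (AD (0 : Divisor k K))) : ℤ) = D.deg := by
    rw [h2.2, deg_zero, deg_neg]
    ring
  have h4 : D.deg = ∑ P ∈ S, P.ord x * (P.deg : ℤ) := by
    rw [hD, deg_sum]
    apply Finset.sum_congr rfl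
    intro P _
    rw [deg_single]
  rw [← h4, ← h3]
  exact_mod_cast key.2

/-- A nonconstant element has only finitely many zeros. -/
theorem finite_zeros (hK : IsFunctionField k K) {x : K} (hx : x ∉ Set.range (algebraMap k K)) :
    {P : Place k K | 0 < P.ord x}.Finite := by
  have hfd := finiteDimensional_adjoin_of_transcendental hK
    (transcendental_of_not_mem_range hK hx)
  by_contra hinf
  obtain ⟨S, hS, hcard⟩ := Set.Infinite.exists_subset_card_eq hinf
    (Module.finrank (IntermediateField.adjoin k ({x} : Set K)) K + 1)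
  have h1 := sum_ord_mul_deg_le hK S (fun P hP => hS hP)
  have h2 : ((S.card : ℕ) : ℤ) ≤ ∑ P ∈ S, P.ord x * (P.deg : ℤ) := by
    rw [Finset.card_eq_sum_ones]
    push_cast
    apply Finset.sum_le_sum
    intro P hP
    have hp1 : 0 < P.ord x := hS hP
    have hp2 : (1 : ℤ) ≤ P.deg := by exact_mod_cast deg_pos hK P
    nlinarith
  rw [hcard] at h2
  push_cast at h2
  omega

/-- **S10970**: an element has only finitely many zeros and poles. -/
theorem finite_support_ord (hK : IsFunctionField k K) (x : K) :
    (Function.support fun P : Place k K => P.ord x).Finite := by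
  by_cases hx : x ∈ Set.range (algebraMap k K)
  · obtain ⟨c, rfl⟩ := hx
    have : (Function.support fun P : Place k K => P.ord (algebraMap k K c)) = ∅ := by
      ext P
      simp [ord_algebraMap]
    rw [this]
    exact Set.finite_empty
  · have hinv : x⁻¹ ∉ Set.range (algebraMap k K) := by
      rintro ⟨c, hc⟩
      apply hx
      refine ⟨c⁻¹, ?_⟩
      rw [map_inv₀, hc, inv_inv]
    refine ((finite_zeros hK hx).union (finite_zeros hK hinv)).subset ?_
    intro P hP
    rw [Function.mem_support] at hP
    rcases lt_or_gt_of_ne hP with h | h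
    · right
      show 0 < P.ord x⁻¹
      rw [ord_inv]
      omega
    · left
      exact h

/-- The principal divisor of `x` has `P`-coefficient `ord_P x`. -/
theorem div_apply (hK : IsFunctionField k K) (x : K) (P : Place k K) : FunFld.div k x P = P.ord x := by
  unfold FunFld.div
  rw [dif_pos (finite_support_ord hK x)]
  rfl

lemma div_zero' (hK : IsFunctionField k K) : FunFld.div k (0 : K) = 0 := by
  ext P
  rw [div_apply hK, ord_zero]
  rfl

lemma div_mul (hK : IsFunctionField k K) {x y : K} (hx : x ≠ 0) (hy : y ≠ 0) :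
    FunFld.div k (x * y) = FunFld.div k x + FunFld.div k y := by
  ext P
  rw [Finsupp.add_apply, div_apply hK, div_apply hK, div_apply hK, ord_mul P hx hy]

lemma div_inv (hK : IsFunctionField k K) (x : K) : FunFld.div k x⁻¹ = -FunFld.div k x := by
  ext P
  rw [Finsupp.neg_apply, div_apply hK, div_apply hK, ord_inv]

lemma div_pow (hK : IsFunctionField k K) (x : K) (n : ℕ) : FunFld.div k (x ^ n) = n • FunFld.div k x := by
  ext P
  rw [Finsupp.smul_apply, div_apply hK, div_apply hK, ord_pow]
  simp

lemma div_algebraMap (hK : IsFunctionField k K) (c : k) : FunFld.div k (algebraMap k K c) = 0 := by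
  ext P
  rw [div_apply hK, ord_algebraMap]
  rfl

/-- For `x ≠ 0`, `x ∈ L(D)` iff `div x + D ≥ 0`. -/
lemma mem_L_iff_div (hK : IsFunctionField k K) {x : K} (hx : x ≠ 0) (D : Divisor k K) :
    x ∈ L D ↔ 0 ≤ FunFld.div k x + D := by
  constructor
  · intro h P
    have := (val_le_exp_iff P hx (D P)).1 (h P)
    rw [Finsupp.add_apply, div_apply hK]
    simp only [Finsupp.coe_zero, Pi.zero_apply]
    linarith
  · intro h P
    rw [val_le_exp_iff P hx]
    have := h P
    rw [Finsupp.add_apply, div_apply hK] at this
    simp only [Finsupp.coe_zero, Pi.zero_apply] at this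
    linarith

end Groth.Agent.Lib.Helper88.FF
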