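/-
Function fields of one variable: `deg (x)_0 = deg (x)_∞ = [K : k(x)]` and `deg (x) = 0`.
Author: helper88
-/
import Groth.Agent.Lib.Helper88.FunFldZeros
import Mathlib.RingTheory.AlgebraTower
import Mathlib.Algebra.Polynomial.Basis

set_option autoImplicit false

namespace Groth.Agent.Lib.Helper88.FF

open FunFld WithZero

variable {k K : Type*} [Field k] [Field K] [Algebra k K]

lemma deg_eq_sum_of_support_subset (D : Divisor k K) {T : Finset (Place k K)}
    (hT : D.support ⊆ T) : D.deg = ∑ P ∈ T, D P * (P.deg : ℤ) := by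
  unfold Divisor.deg
  exact Finsupp.sum_of_support_subset D hT _ (fun _ _ => by simp)

/-- Powers of a transcendental element are linearly independent. -/
lemma linearIndependent_pow_of_transcendental {A : Type*} [CommRing A] [Algebra k A] {x : A}
    (hx : Transcendental k x) : LinearIndependent k (fun i : ℕ => x ^ i) := by
  have h1 := (Polynomial.basisMonomials k).linearIndependent
  have h2 := h1.map' (Polynomial.aeval x).toLinearMap
    (LinearMap.ker_eq_bot.2 (transcendental_iff_injective.1 hx))
  have e : (fun i : ℕ => x ^ i) =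
      (Polynomial.aeval x).toLinearMap ∘ (Polynomial.basisMonomials k) := by
    ext i
    simp [Polynomial.coe_basisMonomials]
  rw [e]
  exact h2

lemma adjoin_inv_eq (x : K) :
    IntermediateField.adjoin k ({x⁻¹} : Set K) = IntermediateField.adjoin k ({x} : Set K) := by
  apply le_antisymm
  · rw [IntermediateField.adjoin_le_iff, Set.singleton_subset_iff]
    exact inv_mem (IntermediateField.mem_adjoin_simple_self k x)
  · rw [IntermediateField.adjoin_le_iff, Set.singleton_subset_iff]
    have := inv_mem (IntermediateField.mem_adjoin_simple_self k x⁻¹)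
    rwa [inv_inv] at this

/-- For transcendental `x` with pole divisor `B` and `n = [K : k(x)]` there is `C ≥ 0` with
`ℓ(l B + C) ≥ (l + 1) n` for all `l`. -/
theorem exists_C_ell_ge (hK : IsFunctionField k K) {x : K} (hx : Transcendental k x) :
    ∃ C : Divisor k K, 0 ≤ C ∧ ∀ l : ℕ,
      (l + 1) * Module.finrank (IntermediateField.adjoin k ({x} : Set K)) K ≤
        ell (l • ((-FunFld.div k x) ⊔ 0 : Divisor k K) + C) := by
  classical
  have hfd := finiteDimensional_adjoin_of_transcendental hK hx
  have hx0 : x ≠ 0 := by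
    rintro rfl
    exact hx (isAlgebraic_zero)
  set F := IntermediateField.adjoin k ({x} : Set K) with hF
  set n := Module.finrank F K with hn
  set B : Divisor k K := (-FunFld.div k x) ⊔ 0 with hB
  let u := Module.finBasis F K
  have hu0 : ∀ j, u j ≠ 0 := fun j => u.ne_zero j
  set C : Divisor k K := ∑ j, ((-FunFld.div k (u j)) ⊔ 0 : Divisor k K) with hC
  have hC0 : (0 : Divisor k K) ≤ C := Finset.sum_nonneg fun j _ => le_sup_right
  have hCj : ∀ j, 0 ≤ FunFld.div k (u j) + C := by
    intro j
    have h1 : (-FunFld.div k (u j)) ⊔ 0 ≤ C :=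
      Finset.single_le_sum (f := fun j => ((-FunFld.div k (u j)) ⊔ 0 : Divisor k K))
        (fun i _ => le_sup_right) (Finset.mem_univ j)
    have h2 : -FunFld.div k (u j) ≤ C := le_sup_left.trans h1
    have := add_le_add_left h2 (FunFld.div k (u j))
    rw [add_comm]
    simpa using this
  have hB0 : (0 : Divisor k K) ≤ B := le_sup_right
  -- the elements `x^i u_j` lie in `L(l B + C)`
  have hmem : ∀ (l : ℕ) (i : Fin (l + 1)) (j : Fin n), x ^ (i : ℕ) * u j ∈ L (l • B + C) := by
    intro l i j
    have hne : x ^ (i : ℕ) * u j ≠ 0 := mul_ne_zero (pow_ne_zero _ hx0) (hu0 j)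
    rw [mem_L_iff_div hK hne, div_mul hK (pow_ne_zero _ hx0) (hu0 j), div_pow hK]
    have h1 : 0 ≤ (i : ℕ) • FunFld.div k x + l • B := by
      intro P
      rw [Finsupp.add_apply, Finsupp.smul_apply, Finsupp.smul_apply, hB, Finsupp.sup_apply,
        Finsupp.neg_apply, nsmul_eq_mul, nsmul_eq_mul]
      simp only [Finsupp.coe_zero, Pi.zero_apply]
      have hi : ((i : ℕ) : ℤ) ≤ l := by
        have := i.2
        exact_mod_cast Nat.lt_succ_iff.1 this
      have hi0 : (0 : ℤ) ≤ ((i : ℕ) : ℤ) := Int.natCast_nonneg _
      rcases le_total 0 (FunFld.div k x P) with h | h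
      · have : (-FunFld.div k x P) ⊔ 0 = 0 := sup_eq_right.2 (by linarith)
        rw [this]
        nlinarith
      · have : (-FunFld.div k x P) ⊔ 0 = -FunFld.div k x P := sup_eq_left.2 (by linarith)
        rw [this]
        nlinarith
    have h2 := add_nonneg h1 (hCj j)
    have e : (i : ℕ) • FunFld.div k x + FunFld.div k (u j) + (l • B + C) =
        ((i : ℕ) • FunFld.div k x + l • B) + (FunFld.div k (u j) + C) := by abel
    rw [e]
    exact h2
  -- linear independence over `k`
  have hli : ∀ l : ℕ, LinearIndependent k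
      (fun p : Fin (l + 1) × Fin n => x ^ (p.1 : ℕ) * u p.2) := by
    intro l
    have hgen : Transcendental k (IntermediateField.AdjoinSimple.gen k x) := by
      intro halg
      apply hx
      have := halg.algebraMap (A := K)
      simpa using this
    have hb : LinearIndependent k (fun i : Fin (l + 1) =>
        (IntermediateField.AdjoinSimple.gen k x) ^ (i : ℕ)) :=
      (linearIndependent_pow_of_transcendental hgen).comp _ Fin.val_injective
    have := linearIndependent_smul hb u.linearIndependent
    convert this using 1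
    funext p
    rfl
  refine ⟨C, hC0, ?_⟩
  intro l
  have hfdL := finiteDimensional_L hK (l • B + C)
  let f : Fin (l + 1) × Fin n → L (l • B + C) := fun p => ⟨_, hmem l p.1 p.2⟩
  have hf : LinearIndependent k f := by
    apply LinearIndependent.of_comp (L (l • B + C)).subtype
    exact hli l
  have h1 := hf.fintype_card_le_finrank
  rw [Fintype.card_prod, Fintype.card_fin, Fintype.card_fin] at h1
  exact h1

/-- The degree of the pole divisor of `x` is at least `[K : k(x)]`. -/
theorem finrank_le_deg_poleDiv (hK : IsFunctionField k K) {x : K} (hx : Transcendental k x) :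
    (Module.finrank (IntermediateField.adjoin k ({x} : Set K)) K : ℤ) ≤
      ((-FunFld.div k x) ⊔ 0 : Divisor k K).deg := by
  obtain ⟨C, hC0, hC⟩ := exists_C_ell_ge hK hx
  set n := Module.finrank (IntermediateField.adjoin k ({x} : Set K)) K with hn
  set B : Divisor k K := (-FunFld.div k x) ⊔ 0 with hB
  have hB0 : (0 : Divisor k K) ≤ B := le_sup_right
  have hcount : ∀ l : ℕ, ((l + 1) * n : ℤ) ≤ l * B.deg + C.deg + 1 := by
    intro l
    have h1 := hC l
    have h2 := ell_le_deg_add_one hK (D := l • B + C)
      (add_nonneg (nsmul_nonneg hB0 l) hC0)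
    rw [deg_add, deg_nsmul] at h2
    have h1' : (((l + 1) * n : ℕ) : ℤ) ≤ (ell (l • B + C) : ℤ) := by
      exact_mod_cast h1
    push_cast at h1'
    linarith
  by_contra hcon
  rw [not_le] at hcon
  have hC1 : 0 ≤ C.deg := deg_nonneg hC0
  have h := hcount (C.deg.toNat + 1)
  have hl : ((C.deg.toNat + 1 : ℕ) : ℤ) = C.deg + 1 := by
    push_cast
    rw [Int.toNat_of_nonneg hC1]
  rw [hl] at h
  have hB1 : 0 ≤ B.deg := deg_nonneg hB0
  nlinarith

/-- The degree of the zero divisor of `x` is at most `[K : k(x)]`. -/
theorem deg_zeroDiv_le (hK : IsFunctionField k K) {x : K} (hx : Transcendental k x) :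
    ((FunFld.div k x) ⊔ 0 : Divisor k K).deg ≤
      (Module.finrank (IntermediateField.adjoin k ({x} : Set K)) K : ℤ) := by
  classical
  have hfd := finiteDimensional_adjoin_of_transcendental hK hx
  have hxk := not_mem_range_of_transcendental hx
  set S := (finite_zeros hK hxk).toFinset with hS
  have hsub : ((FunFld.div k x) ⊔ 0 : Divisor k K).support ⊆ S := by
    intro P hP
    rw [Finsupp.mem_support_iff, Finsupp.sup_apply, div_apply hK] at hP
    rw [hS, Set.Finite.mem_toFinset, Set.mem_ofPred_eq]
    by_contra hcon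
    rw [not_lt] at hcon
    apply hP
    simpa using hcon
  rw [deg_eq_sum_of_support_subset _ hsub]
  have h1 := sum_ord_mul_deg_le hK (x := x) S (by
    intro P hP
    rw [hS, Set.Finite.mem_toFinset] at hP
    exact hP)
  refine le_trans (le_of_eq ?_) h1
  apply Finset.sum_congr rfl
  intro P hP
  rw [hS, Set.Finite.mem_toFinset, Set.mem_ofPred_eq] at hP
  rw [Finsupp.sup_apply, div_apply hK]
  congr 1
  simpa using hP.le

/-- `deg (x)_∞ = [K : k(x)]`. -/
theorem deg_poleDiv_eq (hK : IsFunctionField k K) {x : K} (hx : Transcendental k x) :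
    ((-FunFld.div k x) ⊔ 0 : Divisor k K).deg =
      (Module.finrank (IntermediateField.adjoin k ({x} : Set K)) K : ℤ) := by
  apply le_antisymm _ (finrank_le_deg_poleDiv hK hx)
  have hinv : Transcendental k x⁻¹ := by
    intro h
    exact hx (by simpa using h.inv)
  have := deg_zeroDiv_le hK hinv
  rwa [div_inv hK, adjoin_inv_eq] at this

/-- `deg (x)_0 = [K : k(x)]`. -/
theorem deg_zeroDiv_eq (hK : IsFunctionField k K) {x : K} (hx : Transcendental k x) :
    ((FunFld.div k x) ⊔ 0 : Divisor k K).deg =
      (Module.finrank (IntermediateField.adjoin k ({x} : Set K)) K : ℤ) := by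
  apply le_antisymm (deg_zeroDiv_le hK hx)
  have hinv : Transcendental k x⁻¹ := by
    intro h
    exact hx (by simpa using h.inv)
  have := finrank_le_deg_poleDiv hK hinv
  rwa [div_inv hK, adjoin_inv_eq, neg_neg] at this

lemma sup_zero_sub_neg_sup_zero (D : Divisor k K) : D ⊔ 0 - ((-D) ⊔ 0) = D := by
  ext P
  simp only [Finsupp.coe_sub, Pi.sub_apply, Finsupp.sup_apply, Finsupp.coe_neg, Pi.neg_apply,
    Finsupp.coe_zero, Pi.zero_apply]
  rcases le_total 0 (D P) with h | h
  · rw [sup_eq_left.2 h, sup_eq_right.2 (by linarith)]; ring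
  · rw [sup_eq_right.2 h, sup_eq_left.2 (by linarith)]; ring

/-- **S10968**: principal divisors have degree `0`. -/
theorem deg_div (hK : IsFunctionField k K) (x : K) : (FunFld.div k x).deg = 0 := by
  by_cases hx : x ∈ Set.range (algebraMap k K)
  · obtain ⟨c, rfl⟩ := hx
    rw [div_algebraMap hK, deg_zero]
  · have htr := transcendental_of_not_mem_range hK hx
    rw [← sup_zero_sub_neg_sup_zero (FunFld.div k x), deg_sub, deg_zeroDiv_eq hK htr,
      deg_poleDiv_eq hK htr, sub_self]

end Groth.Agent.Lib.Helper88.FF
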