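/-
Function fields of one variable: linear equivalence, `L(D) = 0` for `deg D < 0`,
Riemann's theorem and the genus.
Author: helper88
-/
import Groth.Agent.Lib.Helper88.FunFldDeg

set_option autoImplicit false

namespace Groth.Agent.Lib.Helper88.FF

open FunFld WithZero

variable {k K : Type*} [Field k] [Field K] [Algebra k K]

/-- Multiplication by a nonzero element as a `k`-linear automorphism of `K`. -/
noncomputable def mulEquiv (z : K) (hz : z ≠ 0) : K ≃ₗ[k] K where
  toFun x := z * x
  map_add' := mul_add z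
  map_smul' c x := by simp
  invFun y := z⁻¹ * y
  left_inv x := by simp [hz]
  right_inv y := by simp [hz]

@[simp] lemma mulEquiv_apply (z : K) (hz : z ≠ 0) (x : K) : mulEquiv (k := k) z hz x = z * x := rfl

lemma mul_mem_L_iff (hK : IsFunctionField k K) {z : K} (hz : z ≠ 0) (D : Divisor k K) (x : K) :
    z * x ∈ L D ↔ x ∈ L (D + FunFld.div k z) := by
  rcases eq_or_ne x 0 with rfl | hx
  · simp
  · constructor
    · intro h P
      have h1 := (val_le_exp_iff P (mul_ne_zero hz hx) (D P)).1 (h P)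
      rw [ord_mul P hz hx] at h1
      rw [val_le_exp_iff P hx, Finsupp.add_apply, div_apply hK]
      linarith
    · intro h P
      have h1 := (val_le_exp_iff P hx _).1 (h P)
      rw [Finsupp.add_apply, div_apply hK] at h1
      rw [val_le_exp_iff P (mul_ne_zero hz hx), ord_mul P hz hx]
      linarith

/-- `L(D + (z)) ≅ L(D)` via multiplication by `z`. -/
noncomputable def LEquivOfDiv (hK : IsFunctionField k K) {z : K} (hz : z ≠ 0) (D : Divisor k K) :
    L (D + FunFld.div k z) ≃ₗ[k] L D :=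
  (LinearEquiv.ofEq _ _ (by
    ext x
    rw [Submodule.mem_comap]
    exact (mul_mem_L_iff hK hz D x).symm)).trans
    (LinearEquiv.ofSubmodule' (mulEquiv (k := k) z hz) (L D))

lemma ell_add_div (hK : IsFunctionField k K) {z : K} (hz : z ≠ 0) (D : Divisor k K) :
    ell (D + FunFld.div k z) = ell D :=
  LinearEquiv.finrank_eq (LEquivOfDiv hK hz D)

/-- `δ(D) = deg D + 1 - ℓ(D)`. -/
noncomputable def delta (D : Divisor k K) : ℤ := D.deg + 1 - (ell D : ℤ)

lemma delta_mono (hK : IsFunctionField k K) {D₁ D₂ : Divisor k K} (h : D₁ ≤ D₂) :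
    delta D₁ ≤ delta D₂ := by
  have := ell_sub_ell_le hK h
  unfold delta
  linarith

lemma delta_add_div (hK : IsFunctionField k K) {z : K} (hz : z ≠ 0) (D : Divisor k K) :
    delta (D + FunFld.div k z) = delta D := by
  unfold delta
  rw [ell_add_div hK hz, deg_add, deg_div hK, add_zero]

lemma delta_zero (hK : IsFunctionField k K) : delta (0 : Divisor k K) = 0 := by
  unfold delta
  rw [deg_zero, ell_zero hK]
  simp

/-- **S10980**: `L(D) = 0` if `deg D < 0`. -/
theorem L_eq_bot_of_deg_neg (hK : IsFunctionField k K) {D : Divisor k K} (h : D.deg < 0) :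
    L D = ⊥ := by
  rw [Submodule.eq_bot_iff]
  intro x hx
  by_contra hx0
  have h1 := (mem_L_iff_div hK hx0 D).1 hx
  have h2 := deg_nonneg h1
  rw [deg_add, deg_div hK] at h2
  linarith

lemma ell_eq_zero_of_deg_neg (hK : IsFunctionField k K) {D : Divisor k K} (h : D.deg < 0) :
    ell D = 0 := by
  unfold ell
  rw [L_eq_bot_of_deg_neg hK h]
  exact finrank_bot k K

/-- If `ℓ(D) > 0` there is a nonzero element in `L(D)`. -/
lemma exists_ne_zero_mem_L (hK : IsFunctionField k K) {D : Divisor k K} (h : 0 < ell D) :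
    ∃ z : K, z ≠ 0 ∧ z ∈ L D := by
  have := finiteDimensional_L hK D
  have hnt : Nontrivial (L D) := Module.finrank_pos_iff.1 h
  obtain ⟨z, hz⟩ := exists_ne (0 : L D)
  exact ⟨z.1, fun h0 => hz (Subtype.ext h0), z.2⟩

/-- `deg D - ℓ(D)` is bounded above. -/
theorem exists_delta_bound (hK : IsFunctionField k K) : ∃ γ : ℤ, ∀ D : Divisor k K, delta D ≤ γ := by
  have hK' : IsFunctionField k K := hK
  obtain ⟨⟨x, hx, hfd⟩, -⟩ := hK
  obtain ⟨C, hC0, hC⟩ := exists_C_ell_ge hK' hx
  set n := Module.finrank (IntermediateField.adjoin k ({x} : Set K)) K with hn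
  set B : Divisor k K := (-FunFld.div k x) ⊔ 0 with hB
  have hB0 : (0 : Divisor k K) ≤ B := le_sup_right
  have hBdeg : B.deg = n := deg_poleDiv_eq hK' hx
  have hnpos : 0 < n := Module.finrank_pos
  -- bound along the multiples of `B`
  have hlB : ∀ l : ℕ, delta (l • B) ≤ C.deg - n + 1 := by
    intro l
    have h1 := hC l
    have h2 := ell_sub_ell_le hK' (D₁ := l • B) (D₂ := l • B + C) (by
      simpa using hC0)
    rw [deg_add] at h2
    have h1' : (((l + 1) * n : ℕ) : ℤ) ≤ (ell (l • B + C) : ℤ) := by exact_mod_cast h1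
    push_cast at h1'
    unfold delta
    rw [deg_nsmul, hBdeg]
    linarith
  refine ⟨C.deg - n + 1, ?_⟩
  intro A
  set A₁ : Divisor k K := A ⊔ 0 with hA₁
  have hA₁0 : (0 : Divisor k K) ≤ A₁ := le_sup_right
  have hAA₁ : A ≤ A₁ := le_sup_left
  -- choose `l` large
  set l : ℕ := (C.deg - n + 1 + A₁.deg).toNat + 1 with hl
  have hlbig : C.deg - n + 1 + A₁.deg < l := by
    have := Int.self_le_toNat (C.deg - n + 1 + A₁.deg)
    rw [hl]
    push_cast
    linarith
  have h3 := ell_sub_ell_le hK' (D₁ := l • B - A₁) (D₂ := l • B) (by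
    simpa using hA₁0)
  rw [deg_sub] at h3
  have h4 := hlB l
  unfold delta at h4
  rw [deg_nsmul, hBdeg] at h4
  have hpos : 0 < ell (l • B - A₁) := by
    have hn1 : (1 : ℤ) ≤ n := by exact_mod_cast hnpos
    have hl0 : (0 : ℤ) ≤ l := Int.natCast_nonneg _
    have : (0 : ℤ) < ell (l • B - A₁) := by nlinarith
    exact_mod_cast this
  obtain ⟨z, hz0, hz⟩ := exists_ne_zero_mem_L hK' hpos
  have h5 := (mem_L_iff_div hK' hz0 _).1 hz
  -- `A₁ + (z⁻¹) ≤ l B`
  have h6 : A₁ + FunFld.div k z⁻¹ ≤ l • B := by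
    rw [div_inv hK']
    have : A₁ + -FunFld.div k z = l • B - (FunFld.div k z + (l • B - A₁)) := by abel
    rw [this]
    exact sub_le_self _ h5
  calc delta A ≤ delta A₁ := delta_mono hK' hAA₁
    _ = delta (A₁ + FunFld.div k z⁻¹) := (delta_add_div hK' (inv_ne_zero hz0) A₁).symm
    _ ≤ delta (l • B) := delta_mono hK' h6
    _ ≤ C.deg - n + 1 := hlB l

lemma bddAbove_range_delta (hK : IsFunctionField k K) :
    BddAbove (Set.range fun D : Divisor k K => (D.deg + 1 - (ell D : ℤ)).toNat) := by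
  obtain ⟨γ, hγ⟩ := exists_delta_bound hK
  refine ⟨γ.toNat, ?_⟩
  rintro _ ⟨D, rfl⟩
  exact Int.toNat_le_toNat (hγ D)

/-- `δ(D) ≤ g` for all `D`. -/
theorem delta_le_genus (hK : IsFunctionField k K) (D : Divisor k K) :
    delta D ≤ genus k K := by
  have h1 : (delta D).toNat ≤ genus k K :=
    le_csSup (bddAbove_range_delta hK) ⟨D, rfl⟩
  have := Int.self_le_toNat (delta D)
  have h2 : ((delta D).toNat : ℤ) ≤ genus k K := by exact_mod_cast h1
  linarith

/-- The genus is attained. -/
theorem exists_delta_eq_genus (hK : IsFunctionField k K) :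
    ∃ D : Divisor k K, delta D = genus k K := by
  have hne : (Set.range fun D : Divisor k K => (D.deg + 1 - (ell D : ℤ)).toNat).Nonempty :=
    ⟨_, ⟨0, rfl⟩⟩
  obtain ⟨D, hD⟩ := Nat.sSup_mem hne (bddAbove_range_delta hK)
  change (delta D).toNat = genus k K at hD
  by_cases h : 0 ≤ delta D
  · refine ⟨D, ?_⟩
    rw [← hD, Int.toNat_of_nonneg h]
  · rw [not_le] at h
    refine ⟨0, ?_⟩
    rw [delta_zero hK, ← hD, Int.toNat_of_nonpos h.le]
    rfl

/-- **Riemann's theorem**: `δ(D) = g` for `deg D` large. -/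
theorem exists_delta_eq_genus_of_le (hK : IsFunctionField k K) :
    ∃ N : ℤ, ∀ D : Divisor k K, N ≤ D.deg → delta D = genus k K := by
  obtain ⟨D₀, hD₀⟩ := exists_delta_eq_genus hK
  refine ⟨D₀.deg + genus k K, ?_⟩
  intro D hD
  apply le_antisymm (delta_le_genus hK D)
  have h1 := delta_le_genus hK (D - D₀)
  unfold delta at h1
  rw [deg_sub] at h1
  have hpos : 0 < ell (D - D₀) := by
    have : (0 : ℤ) < ell (D - D₀) := by linarith
    exact_mod_cast this
  obtain ⟨z, hz0, hz⟩ := exists_ne_zero_mem_L hK hpos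
  have h5 := (mem_L_iff_div hK hz0 _).1 hz
  have h6 : D₀ ≤ D + FunFld.div k z := by
    have : D + FunFld.div k z = D₀ + (FunFld.div k z + (D - D₀)) := by abel
    rw [this]
    exact le_add_of_nonneg_right h5
  rw [← hD₀, ← delta_add_div hK hz0 D]
  exact delta_mono hK h6

end Groth.Agent.Lib.Helper88.FF
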