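/-
Function fields of one variable: adeles (repartitions), the index of speciality, Weil
differentials and their divisors.
Author: helper88
-/
import Groth.Agent.Lib.Helper88.FunFldRiemann
import Mathlib.LinearAlgebra.Dual.Lemmas

set_option autoImplicit false

namespace Groth.Agent.Lib.Helper88.FF

open FunFld WithZero

variable {k K : Type*} [Field k] [Field K] [Algebra k K]

/-! ### The adele space -/

lemma mem_adele_iff {a : Place k K → K} :
    a ∈ adele k K ↔ {P : Place k K | ¬ P.1 (a P) ≤ 1}.Finite := Iff.rfl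

lemma AD_le_adele (D : Divisor k K) : AD D ≤ adele k K := by
  intro a ha
  rw [mem_adele_iff]
  refine D.support.finite_toSet.subset ?_
  intro P hP
  rw [Set.mem_ofPred_eq] at hP
  rw [Finset.mem_coe, Finsupp.mem_support_iff]
  intro h0
  apply hP
  have := ha P
  rwa [h0, exp_zero] at this

lemma diag_mem_adele (hK : IsFunctionField k K) (x : K) : diag k K x ∈ adele k K := by
  rw [mem_adele_iff]
  refine (finite_support_ord hK x).subset ?_
  intro P hP
  rw [Set.mem_ofPred_eq] at hP
  rw [Function.mem_support]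
  intro h0
  apply hP
  show P.1 x ≤ 1
  rcases eq_or_ne x 0 with rfl | hx
  · simp
  · rw [val_le_one_iff P hx, h0]

lemma range_diag_le_adele (hK : IsFunctionField k K) :
    LinearMap.range (diag k K) ≤ adele k K := by
  rintro _ ⟨x, rfl⟩
  exact diag_mem_adele hK x

lemma AD_sup_diag_le_adele (hK : IsFunctionField k K) (D : Divisor k K) :
    AD D ⊔ LinearMap.range (diag k K) ≤ adele k K :=
  sup_le (AD_le_adele D) (range_diag_le_adele hK)

/-- Every adele lies in some `A(D)`, with `D` above a given divisor. -/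
lemma exists_mem_AD (a : Place k K → K) (ha : a ∈ adele k K) (D₁ : Divisor k K) :
    ∃ D : Divisor k K, D₁ ≤ D ∧ a ∈ AD D := by
  classical
  rw [mem_adele_iff] at ha
  set T := ha.toFinset with hT
  set D₀ : Divisor k K := ∑ P ∈ T, Finsupp.single P (-P.ord (a P)) with hD₀
  have hD₀app : ∀ P, D₀ P = if P ∈ T then -P.ord (a P) else 0 := by
    intro P
    rw [hD₀, Finsupp.finsetSum_apply]
    simp only [Finsupp.single_apply]
    rw [Finset.sum_ite_eq' T P]
  have h0 : a ∈ AD D₀ := by
    intro P
    rw [hD₀app]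
    split_ifs with h
    · have hne : a P ≠ 0 := by
        intro h0
        rw [hT, Set.Finite.mem_toFinset, Set.mem_ofPred_eq, h0] at h
        simp at h
      rw [val_eq_exp_neg_ord P hne]
    · rw [hT, Set.Finite.mem_toFinset, Set.mem_ofPred_eq, not_not] at h
      simpa using h
  exact ⟨D₁ ⊔ D₀, le_sup_left, AD_mono le_sup_right h0⟩

/-- Multiplication by an element of `K` preserves the adele space. -/
lemma smul_mem_adele (hK : IsFunctionField k K) (x : K) {a : Place k K → K}
    (ha : a ∈ adele k K) : x • a ∈ adele k K := by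
  rw [mem_adele_iff] at ha ⊢
  refine (ha.union (finite_support_ord hK x)).subset ?_
  intro P hP
  rw [Set.mem_ofPred_eq] at hP
  by_contra hcon
  rw [Set.mem_union, not_or, Set.mem_ofPred_eq, not_not, Function.mem_support, not_not] at hcon
  apply hP
  rw [Pi.smul_apply, smul_eq_mul, map_mul]
  rcases eq_or_ne x 0 with rfl | hx
  · simp
  · have : P.1 x = 1 := (val_eq_one_iff_ord P hx).2 hcon.2
    rw [this, one_mul]
    exact hcon.1

/-! ### The index of speciality -/

/-- If `δ(D₁) = g` then `A(D₁) + K` is the whole adele space. -/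
theorem AD_sup_diag_eq_adele (hK : IsFunctionField k K) {D₁ : Divisor k K}
    (hD₁ : delta D₁ = genus k K) :
    AD D₁ ⊔ LinearMap.range (diag k K) = adele k K := by
  apply le_antisymm (AD_sup_diag_le_adele hK D₁)
  intro a ha
  obtain ⟨D₂, hle, haD₂⟩ := exists_mem_AD a ha D₁
  obtain ⟨hfd, hrk⟩ := finrank_AD_sup_K_quot hK hle
  have h1 := delta_le_genus hK D₂
  have h2 := delta_mono hK hle
  have h0 : Module.finrank k (RelQuot (AD D₁ ⊔ LinearMap.range (diag k K))
      (AD D₂ ⊔ LinearMap.range (diag k K))) = 0 := by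
    have : (Module.finrank k (RelQuot (AD D₁ ⊔ LinearMap.range (diag k K))
      (AD D₂ ⊔ LinearMap.range (diag k K))) : ℤ) = 0 := by
      rw [hrk]
      unfold delta at h1 h2 hD₁
      linarith
    exact_mod_cast this
  have hsub : Subsingleton (RelQuot (AD D₁ ⊔ LinearMap.range (diag k K))
      (AD D₂ ⊔ LinearMap.range (diag k K))) := Module.finrank_zero_iff.1 h0
  have htop := Submodule.Quotient.subsingleton_iff.1 hsub
  have hmem : (⟨a, Submodule.mem_sup_left haD₂⟩ : ↥(AD D₂ ⊔ LinearMap.range (diag k K))) ∈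
      Submodule.comap (AD D₂ ⊔ LinearMap.range (diag k K)).subtype
        (AD D₁ ⊔ LinearMap.range (diag k K)) := by
    rw [htop]
    trivial
  exact hmem

/-- **S10983**: `dim A/(A(D)+K) = g - δ(D)`. -/
theorem finrank_adele_quot (hK : IsFunctionField k K) (D : Divisor k K) :
    FiniteDimensional k (↥(adele k K) ⧸ ADK D) ∧
      (Module.finrank k (↥(adele k K) ⧸ ADK D) : ℤ) = (genus k K : ℤ) - delta D := by
  obtain ⟨D₀, hD₀⟩ := exists_delta_eq_genus hK
  set D₁ := D ⊔ D₀ with hD₁
  have hδ : delta D₁ = genus k K :=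
    le_antisymm (delta_le_genus hK D₁) (hD₀ ▸ delta_mono hK le_sup_right)
  have heq := AD_sup_diag_eq_adele hK hδ
  have key : ∀ B : Submodule k (Place k K → K), B = AD D₁ ⊔ LinearMap.range (diag k K) →
      FiniteDimensional k (RelQuot (AD D ⊔ LinearMap.range (diag k K)) B) ∧
      (Module.finrank k (RelQuot (AD D ⊔ LinearMap.range (diag k K)) B) : ℤ) =
        (genus k K : ℤ) - delta D := by
    rintro B rfl
    obtain ⟨hfd, hrk⟩ := finrank_AD_sup_K_quot hK (le_sup_left : D ≤ D₁)
    refine ⟨hfd, ?_⟩
    rw [hrk, ← hδ]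
    rfl
  exact key (adele k K) heq.symm

/-- **S10984**: `dim W(D) = g - δ(D)`. -/
theorem finrank_WD (hK : IsFunctionField k K) (D : Divisor k K) :
    FiniteDimensional k (WD D) ∧
      (Module.finrank k (WD D) : ℤ) = (genus k K : ℤ) - delta D := by
  obtain ⟨hfd, hrk⟩ := finrank_adele_quot hK D
  have e := Submodule.dualQuotEquivDualAnnihilator (ADK D)
  refine ⟨Module.Finite.equiv e, ?_⟩
  show (Module.finrank k ((ADK D).dualAnnihilator) : ℤ) = _
  rw [← LinearEquiv.finrank_eq e, Subspace.dual_finrank_eq, hrk]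

end Groth.Agent.Lib.Helper88.FF
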