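/-
Function fields of one variable: Weil differentials, their divisors, multiplication by `K`.
Author: helper88
-/
import Groth.Agent.Lib.Helper88.FunFldWeil

set_option autoImplicit false

namespace Groth.Agent.Lib.Helper88.FF

open FunFld WithZero

variable {k K : Type*} [Field k] [Field K] [Algebra k K]

/-! ### `mulW` -/

lemma mulW_apply (x : K) (hx : ∀ a ∈ adele k K, x • a ∈ adele k K)
    (ω : Module.Dual k (adele k K)) (a : adele k K) :
    mulW x hx ω a = ω ⟨x • a.1, hx a.1 a.2⟩ := rfl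

lemma mulW_zero (hx : ∀ a ∈ adele k K, (0 : K) • a ∈ adele k K)
    (ω : Module.Dual k (adele k K)) : mulW 0 hx ω = 0 := by
  ext a
  rw [mulW_apply]
  have : (⟨(0 : K) • a.1, hx a.1 a.2⟩ : adele k K) = 0 := by
    apply Subtype.ext
    simp
  rw [this, map_zero]
  rfl

lemma mulW_one (hx : ∀ a ∈ adele k K, (1 : K) • a ∈ adele k K)
    (ω : Module.Dual k (adele k K)) : mulW 1 hx ω = ω := by
  ext a
  rw [mulW_apply]
  congr 1
  apply Subtype.ext
  simp

lemma mulW_mul (x y : K) (hx : ∀ a ∈ adele k K, x • a ∈ adele k K)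
    (hy : ∀ a ∈ adele k K, y • a ∈ adele k K) (hxy : ∀ a ∈ adele k K, (x * y) • a ∈ adele k K)
    (ω : Module.Dual k (adele k K)) : mulW (x * y) hxy ω = mulW y hy (mulW x hx ω) := by
  ext a
  rw [mulW_apply, mulW_apply, mulW_apply]
  congr 1
  apply Subtype.ext
  simp [mul_smul]

lemma mulW_add (x y : K) (hx : ∀ a ∈ adele k K, x • a ∈ adele k K)
    (hy : ∀ a ∈ adele k K, y • a ∈ adele k K) (hxy : ∀ a ∈ adele k K, (x + y) • a ∈ adele k K)
    (ω : Module.Dual k (adele k K)) : mulW (x + y) hxy ω = mulW x hx ω + mulW y hy ω := by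
  ext a
  rw [LinearMap.add_apply, mulW_apply, mulW_apply, mulW_apply, ← map_add]
  congr 1
  apply Subtype.ext
  simp [add_smul]

lemma mulW_smul (c : k) (x : K) (hx : ∀ a ∈ adele k K, x • a ∈ adele k K)
    (hcx : ∀ a ∈ adele k K, (c • x) • a ∈ adele k K)
    (ω : Module.Dual k (adele k K)) : mulW (c • x) hcx ω = c • mulW x hx ω := by
  ext a
  rw [LinearMap.smul_apply, mulW_apply, mulW_apply, ← map_smul]
  congr 1
  apply Subtype.ext
  simp [smul_assoc]

lemma mulW_congr {x y : K} (h : x = y) (hx : ∀ a ∈ adele k K, x • a ∈ adele k K)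
    (hy : ∀ a ∈ adele k K, y • a ∈ adele k K) (ω : Module.Dual k (adele k K)) :
    mulW x hx ω = mulW y hy ω := by
  subst h
  rfl

/-- If `x ≠ 0` and `x ω = 0` then `ω = 0`. -/
lemma eq_zero_of_mulW_eq_zero (hK : IsFunctionField k K) {x : K} (hx0 : x ≠ 0)
    (hx : ∀ a ∈ adele k K, x • a ∈ adele k K)
    (ω : Module.Dual k (adele k K)) (h : mulW x hx ω = 0) : ω = 0 := by
  have h1 := mulW_mul x x⁻¹ hx (fun a ha => smul_mem_adele hK x⁻¹ ha)
    (fun a ha => smul_mem_adele hK (x * x⁻¹) ha) ω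
  rw [h] at h1
  have h2 : mulW (x * x⁻¹) (fun a ha => smul_mem_adele hK (x * x⁻¹) ha) ω = ω := by
    rw [mulW_congr (mul_inv_cancel₀ hx0) _ (fun a ha => smul_mem_adele hK 1 ha), mulW_one]
  rw [h2] at h1
  rw [h1]
  ext a
  rw [mulW_apply]
  rfl

/-! ### The spaces `W(D)` -/

lemma mem_WD_iff {ω : Module.Dual k (adele k K)} {D : Divisor k K} :
    ω ∈ WD D ↔ ∀ a : adele k K, a.1 ∈ AD D ⊔ LinearMap.range (diag k K) → ω a = 0 := by
  unfold WD
  rw [Submodule.mem_dualAnnihilator]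
  rfl

lemma WD_anti {D D' : Divisor k K} (h : D ≤ D') : WD D' ≤ WD D := by
  intro ω hω
  rw [mem_WD_iff] at hω ⊢
  intro a ha
  exact hω a (sup_le_sup_right (AD_mono h) _ ha)

lemma AD_sup_eq (D₁ D₂ : Divisor k K) : AD (D₁ ⊔ D₂) = AD D₁ ⊔ AD D₂ := by
  classical
  apply le_antisymm
  · intro a ha
    rw [Submodule.mem_sup]
    refine ⟨fun P => if D₂ P ≤ D₁ P then a P else 0, ?_,
      fun P => if D₂ P ≤ D₁ P then 0 else a P, ?_, ?_⟩
    · intro P
      have h := ha P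
      rw [Finsupp.sup_apply] at h
      by_cases hP : D₂ P ≤ D₁ P
      · simp only [hP, if_true]
        rwa [sup_eq_left.2 hP] at h
      · simp [hP]
    · intro P
      have h := ha P
      rw [Finsupp.sup_apply] at h
      by_cases hP : D₂ P ≤ D₁ P
      · simp [hP]
      · simp only [hP, if_false]
        rwa [sup_eq_right.2 (le_of_not_ge hP)] at h
    · funext P
      by_cases hP : D₂ P ≤ D₁ P <;> simp [hP]
  · exact sup_le (AD_mono le_sup_left) (AD_mono le_sup_right)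

/-- `W(D₁) ∩ W(D₂) ⊆ W(D₁ ⊔ D₂)`. -/
lemma mem_WD_sup (hK : IsFunctionField k K) {ω : Module.Dual k (adele k K)} {D₁ D₂ : Divisor k K}
    (h₁ : ω ∈ WD D₁) (h₂ : ω ∈ WD D₂) : ω ∈ WD (D₁ ⊔ D₂) := by
  rw [mem_WD_iff] at h₁ h₂ ⊢
  intro a ha
  rw [AD_sup_eq, Submodule.mem_sup] at ha
  obtain ⟨b, hb, c, hc, hbc⟩ := ha
  obtain ⟨b₁, hb₁, b₂, hb₂, rfl⟩ := Submodule.mem_sup.1 hb
  have hb₁' : b₁ ∈ adele k K := AD_le_adele D₁ hb₁
  have hc' : b₂ + c ∈ adele k K :=
    (adele k K).add_mem (AD_le_adele D₂ hb₂) (range_diag_le_adele hK hc)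
  have e : a = (⟨b₁, hb₁'⟩ : adele k K) + ⟨b₂ + c, hc'⟩ := by
    apply Subtype.ext
    show a.1 = b₁ + (b₂ + c)
    rw [← hbc]
    abel
  rw [e, map_add, h₁ _ (Submodule.mem_sup_left hb₁),
    h₂ _ (Submodule.mem_sup.2 ⟨b₂, hb₂, c, hc, rfl⟩), add_zero]

/-- `L(D) · W(C) ⊆ W(C - D)`. -/
lemma mulW_mem_WD {C D : Divisor k K} {x : K} (hxD : x ∈ L D)
    (hx : ∀ a ∈ adele k K, x • a ∈ adele k K)
    {ω : Module.Dual k (adele k K)} (hω : ω ∈ WD C) : mulW x hx ω ∈ WD (C - D) := by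
  rw [mem_WD_iff] at hω ⊢
  intro a ha
  rw [mulW_apply]
  apply hω
  show x • a.1 ∈ _
  rw [Submodule.mem_sup] at ha ⊢
  obtain ⟨b, hb, c, ⟨y, rfl⟩, hbc⟩ := ha
  refine ⟨x • b, ?_, x • diag k K y, ⟨x * y, ?_⟩, ?_⟩
  · intro P
    rw [Pi.smul_apply, smul_eq_mul, map_mul]
    have h1 := hxD P
    have h2 := hb P
    calc P.1 x * P.1 (b P) ≤ exp (D P) * exp ((C - D) P) := mul_le_mul' h1 h2
      _ = exp (C P) := by
          rw [← exp_add, Finsupp.sub_apply]
          congr 1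
          ring
  · funext P
    simp [diag]
  · rw [← smul_add, hbc]

lemma mem_L_neg_div (hK : IsFunctionField k K) {x : K} (hx : x ≠ 0) : x ∈ L (-FunFld.div k x) := by
  rw [mem_L_iff_div hK hx]
  simp

/-- For `x ≠ 0`: `x ω ∈ W(E) ↔ ω ∈ W(E - (x))`. -/
lemma mulW_mem_WD_iff (hK : IsFunctionField k K) {x : K} (hx0 : x ≠ 0)
    (hx : ∀ a ∈ adele k K, x • a ∈ adele k K) (ω : Module.Dual k (adele k K)) (E : Divisor k K) :
    mulW x hx ω ∈ WD E ↔ ω ∈ WD (E - FunFld.div k x) := by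
  constructor
  · intro h
    have h1 := mulW_mem_WD (mem_L_neg_div hK (inv_ne_zero hx0))
      (fun a ha => smul_mem_adele hK x⁻¹ ha) h
    rw [div_inv hK, neg_neg] at h1
    have h2 := mulW_mul x x⁻¹ hx (fun a ha => smul_mem_adele hK x⁻¹ ha)
      (fun a ha => smul_mem_adele hK (x * x⁻¹) ha) ω
    rw [← h2, mulW_congr (mul_inv_cancel₀ hx0) _ (fun a ha => smul_mem_adele hK 1 ha),
      mulW_one] at h1
    exact h1
  · intro h
    have h1 := mulW_mem_WD (mem_L_neg_div hK hx0) hx h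
    have e : E - FunFld.div k x - -FunFld.div k x = E := by abel
    rwa [e] at h1

end Groth.Agent.Lib.Helper88.FF
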