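/-
Function fields of one variable: the divisor of a Weil differential, `dim_K W_K = 1`,
canonical divisors and the Riemann–Roch theorem.
Author: helper88
-/
import Groth.Agent.Lib.Helper88.FunFldWeil2

set_option autoImplicit false

namespace Groth.Agent.Lib.Helper88.FF

open FunFld WithZero

variable {k K : Type*} [Field k] [Field K] [Algebra k K]

/-- A nonzero effective divisor has positive degree. -/
lemma deg_pos_of_nonneg_of_ne_zero (hK : IsFunctionField k K) {D : Divisor k K} (h0 : 0 ≤ D)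
    (hne : D ≠ 0) : 0 < D.deg := by
  unfold Divisor.deg Finsupp.sum
  obtain ⟨P, hP⟩ : ∃ P, D P ≠ 0 := by
    by_contra hcon
    push Not at hcon
    exact hne (Finsupp.ext hcon)
  apply Finset.sum_pos'
  · intro Q _
    exact mul_nonneg (h0 Q) (Int.natCast_nonneg _)
  · refine ⟨P, Finsupp.mem_support_iff.2 hP, ?_⟩
    have h1 : 0 < D P := lt_of_le_of_ne (h0 P) (Ne.symm hP)
    have h2 : (0 : ℤ) < P.deg := by exact_mod_cast deg_pos hK P
    exact mul_pos h1 h2

/-- An effective divisor of degree `0` is `0`. -/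
lemma eq_zero_of_nonneg_of_deg_eq_zero (hK : IsFunctionField k K) {D : Divisor k K} (h0 : 0 ≤ D)
    (hdeg : D.deg = 0) : D = 0 := by
  by_contra hne
  have := deg_pos_of_nonneg_of_ne_zero hK h0 hne
  omega

/-- If `W(D)` contains a nonzero form then `δ(D) < g`. -/
lemma delta_lt_genus_of_mem_WD (hK : IsFunctionField k K) {ω : Module.Dual k (adele k K)}
    (h0 : ω ≠ 0) {D : Divisor k K} (hω : ω ∈ WD D) : delta D < genus k K := by
  obtain ⟨hfd, hrk⟩ := finrank_WD hK D
  have hnt : Nontrivial (WD D) := ⟨⟨⟨ω, hω⟩, 0, fun h => h0 (congrArg Subtype.val h)⟩⟩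
  have hpos : 0 < Module.finrank k (WD D) := Module.finrank_pos_iff.2 hnt
  have : (0 : ℤ) < Module.finrank k (WD D) := by exact_mod_cast hpos
  linarith

/-- **S10985**: a nonzero Weil differential has a divisor. -/
theorem exists_isDivOf (hK : IsFunctionField k K) {ω : Module.Dual k (adele k K)}
    (hω : IsWeil ω) (h0 : ω ≠ 0) : ∃ C : Divisor k K, IsDivOf ω C := by
  obtain ⟨N, hN⟩ := exists_delta_eq_genus_of_le hK
  have hbdd : ∃ b : ℤ, ∀ z : ℤ, (∃ D : Divisor k K, ω ∈ WD D ∧ D.deg = z) → z ≤ b := by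
    refine ⟨N, ?_⟩
    rintro z ⟨D, hD, rfl⟩
    by_contra hcon
    rw [not_le] at hcon
    have h1 := hN D hcon.le
    have h2 := delta_lt_genus_of_mem_WD hK h0 hD
    omega
  have hinh : ∃ z : ℤ, ∃ D : Divisor k K, ω ∈ WD D ∧ D.deg = z := by
    obtain ⟨D, hD⟩ := hω
    exact ⟨D.deg, D, hD, rfl⟩
  obtain ⟨_, ⟨W, hW, rfl⟩, hmax⟩ := Int.exists_greatest_of_bdd hbdd hinh
  refine ⟨W, ?_⟩
  intro E
  constructor
  · intro hE
    have hsup := mem_WD_sup hK hE hW
    have h1 := hmax _ ⟨E ⊔ W, hsup, rfl⟩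
    have h2 : (0 : Divisor k K) ≤ E ⊔ W - W := sub_nonneg.2 le_sup_right
    have h3 : (E ⊔ W - W).deg = 0 := by
      have := deg_nonneg h2
      rw [deg_sub] at this ⊢
      omega
    have h4 := eq_zero_of_nonneg_of_deg_eq_zero hK h2 h3
    have h5 : E ⊔ W = W := sub_eq_zero.1 h4
    exact sup_eq_right.1 h5
  · intro hE
    exact WD_anti hE hW

/-- **S10987**: `[xω] = [ω] + [x]`. -/
theorem isDivOf_mulW (hK : IsFunctionField k K) {x : K} (hx0 : x ≠ 0)
    (hx : ∀ a ∈ adele k K, x • a ∈ adele k K) {ω : Module.Dual k (adele k K)}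
    {C : Divisor k K} (hω : IsDivOf ω C) : IsDivOf (mulW x hx ω) (C + FunFld.div k x) := by
  intro E
  rw [mulW_mem_WD_iff hK hx0, hω]
  exact sub_le_iff_le_add

/-- There is at least one place. -/
lemma exists_place (hK : IsFunctionField k K) : Nonempty (Place k K) := by
  obtain ⟨⟨x, hx, -⟩, -⟩ := id hK
  obtain ⟨P, -⟩ := exists_pole hK (not_mem_range_of_transcendental hx)
  exact ⟨P⟩

/-- A form with a divisor is nonzero. -/
lemma ne_zero_of_isDivOf (hK : IsFunctionField k K) {ω : Module.Dual k (adele k K)}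
    {C : Divisor k K} (hω : IsDivOf ω C) : ω ≠ 0 := by
  rintro rfl
  obtain ⟨P⟩ := exists_place hK
  have h1 : (0 : Module.Dual k (adele k K)) ∈ WD (C + Finsupp.single P 1) := Submodule.zero_mem _
  have h2 := (hω _).1 h1
  have h3 := h2 P
  simp at h3

lemma isWeil_of_isDivOf {ω : Module.Dual k (adele k K)} {C : Divisor k K} (hω : IsDivOf ω C) :
    IsWeil ω := ⟨C, (hω C).2 le_rfl⟩

lemma isDivOf_unique {ω : Module.Dual k (adele k K)} {C₁ C₂ : Divisor k K}
    (h₁ : IsDivOf ω C₁) (h₂ : IsDivOf ω C₂) : C₁ = C₂ :=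
  le_antisymm ((h₂ C₁).1 ((h₁ C₁).2 le_rfl)) ((h₁ C₂).1 ((h₂ C₂).2 le_rfl))

/-! ### `dim_K W_K = 1` -/

/-- `mulW` with the canonical proof that multiplication preserves adeles. -/
noncomputable def mulW' (hK : IsFunctionField k K) (x : K) (ω : Module.Dual k (adele k K)) :
    Module.Dual k (adele k K) :=
  mulW x (fun _ ha => smul_mem_adele hK x ha) ω

lemma mulW'_eq (hK : IsFunctionField k K) (x : K) (hx : ∀ a ∈ adele k K, x • a ∈ adele k K)
    (ω : Module.Dual k (adele k K)) : mulW x hx ω = mulW' hK x ω := rfl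

lemma mulW'_zero (hK : IsFunctionField k K) (ω : Module.Dual k (adele k K)) :
    mulW' hK 0 ω = 0 := mulW_zero _ ω

lemma mulW'_one (hK : IsFunctionField k K) (ω : Module.Dual k (adele k K)) :
    mulW' hK 1 ω = ω := mulW_one _ ω

lemma mulW'_mul (hK : IsFunctionField k K) (x y : K) (ω : Module.Dual k (adele k K)) :
    mulW' hK (x * y) ω = mulW' hK y (mulW' hK x ω) := mulW_mul x y _ _ _ ω

lemma mulW'_add (hK : IsFunctionField k K) (x y : K) (ω : Module.Dual k (adele k K)) :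
    mulW' hK (x + y) ω = mulW' hK x ω + mulW' hK y ω := mulW_add x y _ _ _ ω

lemma mulW'_smul (hK : IsFunctionField k K) (c : k) (x : K) (ω : Module.Dual k (adele k K)) :
    mulW' hK (c • x) ω = c • mulW' hK x ω := mulW_smul c x _ _ ω

lemma mulW'_neg (hK : IsFunctionField k K) (x : K) (ω : Module.Dual k (adele k K)) :
    mulW' hK (-x) ω = -mulW' hK x ω := by
  have h := mulW'_add hK x (-x) ω
  rw [add_neg_cancel, mulW'_zero] at h
  exact eq_neg_of_add_eq_zero_right h.symm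

lemma mulW'_sub (hK : IsFunctionField k K) (x y : K) (ω : Module.Dual k (adele k K)) :
    mulW' hK (x - y) ω = mulW' hK x ω - mulW' hK y ω := by
  rw [sub_eq_add_neg, mulW'_add, mulW'_neg, sub_eq_add_neg]

lemma eq_zero_of_mulW'_eq_zero (hK : IsFunctionField k K) {x : K} (hx0 : x ≠ 0)
    {ω : Module.Dual k (adele k K)} (h : mulW' hK x ω = 0) : ω = 0 :=
  eq_zero_of_mulW_eq_zero hK hx0 _ ω h

/-- The `k`-linear map `L(A + B) → W(-B)`, `x ↦ xω`, for `ω ∈ W(A)`. -/
noncomputable def mulWLin (hK : IsFunctionField k K) {ω : Module.Dual k (adele k K)}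
    {A : Divisor k K} (hω : ω ∈ WD A) (B : Divisor k K) : L (A + B) →ₗ[k] WD (-B) where
  toFun x := ⟨mulW' hK x.1 ω, by
    have := mulW_mem_WD x.2 (fun _ ha => smul_mem_adele hK x.1 ha) hω
    have e : A - (A + B) = -B := by abel
    rwa [e] at this⟩
  map_add' x y := by
    apply Subtype.ext
    exact mulW'_add hK x.1 y.1 ω
  map_smul' c x := by
    apply Subtype.ext
    exact mulW'_smul hK c x.1 ω

lemma mulWLin_injective (hK : IsFunctionField k K) {ω : Module.Dual k (adele k K)}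
    (h0 : ω ≠ 0) {A : Divisor k K} (hω : ω ∈ WD A) (B : Divisor k K) :
    Function.Injective (mulWLin hK hω B) := by
  rw [injective_iff_map_eq_zero]
  intro x hx
  by_contra hne
  have hx0 : x.1 ≠ 0 := fun h => hne (Subtype.ext h)
  have : mulW' hK x.1 ω = 0 := congrArg Subtype.val hx
  exact h0 (eq_zero_of_mulW'_eq_zero hK hx0 this)

/-- **S10988**: any Weil differential is a `K`-multiple of a fixed nonzero one. -/
theorem exists_mulW'_eq (hK : IsFunctionField k K) {ω₁ ω₂ : Module.Dual k (adele k K)}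
    (h₁ : IsWeil ω₁) (h0 : ω₁ ≠ 0) (h₂ : IsWeil ω₂) : ∃ x : K, mulW' hK x ω₁ = ω₂ := by
  by_cases h20 : ω₂ = 0
  · exact ⟨0, by rw [mulW'_zero, h20]⟩
  obtain ⟨A₁, hA₁⟩ := h₁
  obtain ⟨A₂, hA₂⟩ := h₂
  obtain ⟨P⟩ := exists_place hK
  set g : ℤ := ((genus k K : ℕ) : ℤ) with hg
  set m : ℕ := (|3 * g - 3 - A₁.deg - A₂.deg| + 1).toNat with hm
  set B : Divisor k K := m • Finsupp.single P 1 with hB
  have hP1 : (1 : ℤ) ≤ P.deg := by exact_mod_cast deg_pos hK P
  have hmZ : (m : ℤ) = |3 * g - 3 - A₁.deg - A₂.deg| + 1 := by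
    rw [hm, Int.toNat_of_nonneg]
    positivity
  have hBdeg : B.deg = m * P.deg := by
    rw [hB, deg_nsmul, deg_single]; ring
  have hBbig : 3 * g - 3 - A₁.deg - A₂.deg < B.deg := by
    rw [hBdeg, hmZ]
    have := le_abs_self (3 * g - 3 - A₁.deg - A₂.deg)
    have h3 : (0 : ℤ) ≤ |3 * g - 3 - A₁.deg - A₂.deg| := abs_nonneg _
    nlinarith
  have hBpos : 0 < B.deg := by
    rw [hBdeg, hmZ]
    have h3 : (0 : ℤ) ≤ |3 * g - 3 - A₁.deg - A₂.deg| := abs_nonneg _
    nlinarith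
  -- dimensions
  obtain ⟨hfdW, hrkW⟩ := finrank_WD hK (-B)
  have hW : (Module.finrank k (WD (-B)) : ℤ) = g + B.deg - 1 := by
    rw [hrkW]
    unfold delta
    rw [deg_neg, ell_eq_zero_of_deg_neg hK (by rw [deg_neg]; omega)]
    push_cast
    ring
  have hfd1 := finiteDimensional_L hK (A₁ + B)
  have hfd2 := finiteDimensional_L hK (A₂ + B)
  have hl1 := delta_le_genus hK (A₁ + B)
  have hl2 := delta_le_genus hK (A₂ + B)
  unfold delta at hl1 hl2
  rw [deg_add] at hl1 hl2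
  have hlt : Module.finrank k (WD (-B)) <
      Module.finrank k (L (A₁ + B)) + Module.finrank k (L (A₂ + B)) := by
    have : (Module.finrank k (WD (-B)) : ℤ) <
        (Module.finrank k (L (A₁ + B)) : ℤ) + Module.finrank k (L (A₂ + B)) := by
      rw [hW]
      change _ < (ell (A₁ + B) : ℤ) + (ell (A₂ + B) : ℤ)
      linarith
    exact_mod_cast this
  obtain ⟨x₁, x₂, hne, heq⟩ :=
    exists_eq_of_finrank_lt (k := k) (V₁ := ↥(L (A₁ + B))) (V₂ := ↥(L (A₂ + B)))
      (W := ↥(WD (-B))) (mulWLin hK hA₁ B) (mulWLin hK hA₂ B) hlt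
  have e : mulW' hK x₁.1 ω₁ = mulW' hK x₂.1 ω₂ := congrArg Subtype.val heq
  have hx20 : x₂.1 ≠ 0 := by
    intro h
    have hx2 : x₂ = 0 := Subtype.ext h
    rw [hx2, map_zero] at heq
    have hx1 : x₁ = 0 := (injective_iff_map_eq_zero _).1 (mulWLin_injective hK h0 hA₁ B) x₁ heq
    rcases hne with h1 | h2
    · exact h1 hx1
    · exact h2 hx2
  refine ⟨x₁.1 * x₂.1⁻¹, ?_⟩
  rw [mulW'_mul, e, ← mulW'_mul, mul_inv_cancel₀ hx20, mulW'_one]

end Groth.Agent.Lib.Helper88.FF
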