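/-
Function fields of one variable: canonical divisors and the Riemann–Roch theorem.
Author: helper88
-/
import Groth.Agent.Lib.Helper88.FunFldWeil3

set_option autoImplicit false

namespace Groth.Agent.Lib.Helper88.FF

open FunFld WithZero

variable {k K : Type*} [Field k] [Field K] [Algebra k K]

/-- **S10989**: two canonical divisors are linearly equivalent. -/
theorem canonical_linearly_equiv (hK : IsFunctionField k K) {C₁ C₂ : Divisor k K}
    (h₁ : IsCanonical k K C₁) (h₂ : IsCanonical k K C₂) :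
    ∃ x : K, x ≠ 0 ∧ C₂ = C₁ + FunFld.div k x := by
  obtain ⟨ω₁, hω₁0, hω₁⟩ := h₁
  obtain ⟨ω₂, hω₂0, hω₂⟩ := h₂
  obtain ⟨x, hx⟩ := exists_mulW'_eq hK (isWeil_of_isDivOf hω₁) hω₁0 (isWeil_of_isDivOf hω₂)
  have hx0 : x ≠ 0 := by
    rintro rfl
    rw [mulW'_zero] at hx
    exact hω₂0 hx.symm
  refine ⟨x, hx0, ?_⟩
  have h3 := isDivOf_mulW hK hx0 (fun _ ha => smul_mem_adele hK x ha) hω₁
  rw [mulW'_eq hK, hx] at h3
  exact isDivOf_unique hω₂ h3

/-- **S10991**: for `ω` with divisor `C`, every element of `W(D)` is `xω` for a unique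
`x ∈ L(C - D)`. -/
theorem existsUnique_mulW'_eq (hK : IsFunctionField k K) {ω : Module.Dual k (adele k K)}
    {C : Divisor k K} (hω : IsDivOf ω C) (D : Divisor k K) {ω' : Module.Dual k (adele k K)}
    (hω' : ω' ∈ WD D) : ∃! x : K, x ∈ L (C - D) ∧ mulW' hK x ω = ω' := by
  have hω0 := ne_zero_of_isDivOf hK hω
  obtain ⟨x, hx⟩ := exists_mulW'_eq hK (isWeil_of_isDivOf hω) hω0 ⟨D, hω'⟩
  refine ⟨x, ⟨?_, hx⟩, ?_⟩
  · rcases eq_or_ne x 0 with rfl | hx0
    · exact Submodule.zero_mem _
    · have h3 := isDivOf_mulW hK hx0 (fun _ ha => smul_mem_adele hK x ha) hω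
      rw [mulW'_eq hK, hx] at h3
      have h4 := (h3 D).1 hω'
      rw [mem_L_iff_div hK hx0]
      have : FunFld.div k x + (C - D) = C + FunFld.div k x - D := by abel
      rw [this]
      exact sub_nonneg.2 h4
  · rintro y ⟨-, hy⟩
    by_contra hne
    have h5 : mulW' hK (y - x) ω = 0 := by
      rw [mulW'_sub, hx, hy, sub_self]
    exact hω0 (eq_zero_of_mulW'_eq_zero hK (sub_ne_zero.2 hne) h5)

/-- The isomorphism `L(C - D) ≅ W(D)`, `x ↦ xω`. -/
theorem finrank_WD_eq_ell (hK : IsFunctionField k K) {ω : Module.Dual k (adele k K)}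
    {C : Divisor k K} (hω : IsDivOf ω C) (D : Divisor k K) :
    Module.finrank k (WD D) = ell (C - D) := by
  have hmem : ω ∈ WD C := (hω C).2 le_rfl
  have e : C + -D = C - D := by abel
  -- the linear map `L(C + (-D)) → W(D)`
  have hbij : Function.Bijective (mulWLin hK hmem (-D)) := by
    constructor
    · exact mulWLin_injective hK (ne_zero_of_isDivOf hK hω) hmem (-D)
    · rintro ⟨ω', hω'⟩
      rw [neg_neg] at hω'
      obtain ⟨x, ⟨hx1, hx2⟩, -⟩ := existsUnique_mulW'_eq hK hω D hω'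
      rw [← e] at hx1
      exact ⟨⟨x, hx1⟩, Subtype.ext hx2⟩
  have h1 := LinearEquiv.finrank_eq (LinearEquiv.ofBijective _ hbij)
  rw [neg_neg] at h1
  rw [← h1]
  unfold ell
  rw [e]

/-- **S10990 (Riemann–Roch)**: `ℓ(D) = deg D + 1 - g + ℓ(C - D)`. -/
theorem riemann_roch (hK : IsFunctionField k K) {C : Divisor k K} (hC : IsCanonical k K C)
    (D : Divisor k K) : (ell D : ℤ) = D.deg + 1 - genus k K + ell (C - D) := by
  obtain ⟨ω, -, hω⟩ := hC
  have h1 := (finrank_WD hK D).2
  rw [finrank_WD_eq_ell hK hω D] at h1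
  unfold delta at h1
  linarith

/-- There is a canonical divisor. -/
theorem exists_isCanonical (hK : IsFunctionField k K) : ∃ W : Divisor k K, IsCanonical k K W := by
  obtain ⟨P⟩ := exists_place hK
  set D : Divisor k K := -(2 • Finsupp.single P 1) with hD
  have hP1 : (1 : ℤ) ≤ P.deg := by exact_mod_cast deg_pos hK P
  have hdeg : D.deg ≤ -2 := by
    rw [hD, deg_neg, deg_nsmul, deg_single]
    push_cast
    linarith
  obtain ⟨hfd, hrk⟩ := finrank_WD hK D
  have hpos : 0 < Module.finrank k (WD D) := by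
    have : (0 : ℤ) < Module.finrank k (WD D) := by
      rw [hrk]
      unfold delta
      rw [ell_eq_zero_of_deg_neg hK (by omega)]
      have := Int.natCast_nonneg (genus k K)
      push_cast
      linarith
    exact_mod_cast this
  have hnt : Nontrivial (WD D) := Module.finrank_pos_iff.1 hpos
  obtain ⟨η, hη⟩ := exists_ne (0 : WD D)
  have hη0 : η.1 ≠ 0 := fun h => hη (Subtype.ext h)
  obtain ⟨W, hW⟩ := exists_isDivOf hK ⟨D, η.2⟩ hη0
  exact ⟨W, η.1, hη0, hW⟩

/-- **S10992**: `C` is canonical iff `ℓ(C) = g` and `deg C = 2g - 2`. -/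
theorem isCanonical_iff (hK : IsFunctionField k K) (C : Divisor k K) :
    IsCanonical k K C ↔ (ell C = genus k K ∧ C.deg = 2 * genus k K - 2) := by
  have hfwd : ∀ W : Divisor k K, IsCanonical k K W →
      (ell W = genus k K ∧ W.deg = 2 * genus k K - 2) := by
    intro W hW
    have h1 := riemann_roch hK hW 0
    have h2 := riemann_roch hK hW W
    rw [sub_zero, deg_zero, ell_zero hK] at h1
    rw [sub_self, ell_zero hK] at h2
    push_cast at h1 h2
    have h3 : (ell W : ℤ) = genus k K := by linarith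
    refine ⟨by exact_mod_cast h3, ?_⟩
    linarith
  constructor
  · exact hfwd C
  · rintro ⟨hl, hd⟩
    obtain ⟨W, hW⟩ := exists_isCanonical hK
    obtain ⟨hWl, hWd⟩ := hfwd W hW
    have h1 := riemann_roch hK hW C
    have h2 : ell (W - C) = 1 := by
      have : (ell (W - C) : ℤ) = 1 := by
        rw [hl] at h1
        linarith
      exact_mod_cast this
    obtain ⟨x, hx0, hx⟩ := exists_ne_zero_mem_L hK (D := W - C) (by omega)
    have h3 := (mem_L_iff_div hK hx0 _).1 hx
    have h4 : (FunFld.div k x + (W - C)).deg = 0 := by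
      rw [deg_add, deg_div hK, deg_sub, hWd, hd]
      ring
    have h5 := eq_zero_of_nonneg_of_deg_eq_zero hK h3 h4
    have h6 : C = W + FunFld.div k x := by
      have : C = C + (FunFld.div k x + (W - C)) := by rw [h5, add_zero]
      rw [this]
      abel
    obtain ⟨ω, hω0, hω⟩ := hW
    refine ⟨mulW' hK x ω, ?_, ?_⟩
    · intro h
      exact hω0 (eq_zero_of_mulW'_eq_zero hK hx0 h)
    · rw [h6]
      exact isDivOf_mulW hK hx0 _ hω

end Groth.Agent.Lib.Helper88.FF
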