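/-
Function fields of one variable: consequences of Riemann–Roch.
Author: helper88
-/
import Groth.Agent.Lib.Helper88.FunFldRR

set_option autoImplicit false

namespace Groth.Agent.Lib.Helper88.FF

open FunFld WithZero

variable {k K : Type*} [Field k] [Field K] [Algebra k K]

/-- Divisors of degree `≥ 2g - 1` are nonspecial. -/
theorem ell_eq_of_le_deg (hK : IsFunctionField k K) {D : Divisor k K}
    (h : 2 * (genus k K : ℤ) - 1 ≤ D.deg) : (ell D : ℤ) = D.deg + 1 - genus k K := by
  obtain ⟨C, hC⟩ := exists_isCanonical hK
  have h1 := riemann_roch hK hC D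
  have h2 := ((isCanonical_iff hK C).1 hC).2
  have h3 : ell (C - D) = 0 := ell_eq_zero_of_deg_neg hK (by rw [deg_sub]; omega)
  rw [h3] at h1
  simpa using h1

lemma mul_mem_L {D E : Divisor k K} {x y : K} (hx : x ∈ L D) (hy : y ∈ L E) :
    x * y ∈ L (D + E) := by
  intro P
  rw [map_mul, Finsupp.add_apply, exp_add]
  exact mul_le_mul' (hx P) (hy P)

lemma one_mem_L_zero : (1 : K) ∈ L (0 : Divisor k K) := by
  intro P
  simp

lemma pow_mem_L {D : Divisor k K} {x : K} (hx : x ∈ L D) (n : ℕ) : x ^ n ∈ L (n • D) := by
  induction n with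
  | zero => simpa using one_mem_L_zero
  | succ n ih =>
    rw [pow_succ, succ_nsmul]
    exact mul_mem_L ih hx

/-- If a transcendental `x` lies in `L(Q)` for a place `Q` of degree one, the genus is `0`. -/
theorem genus_eq_zero_of_mem_L_place (hK : IsFunctionField k K) {Q : Place k K} (hQ : Q.deg = 1)
    {x : K} (hx : Transcendental k x) (hxQ : x ∈ L (Finsupp.single Q 1 : Divisor k K)) :
    genus k K = 0 := by
  set g := genus k K with hg
  set l : ℕ := 2 * g + 1 with hl
  set D : Divisor k K := l • Finsupp.single Q 1 with hD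
  have hdeg : D.deg = l := by
    rw [hD, deg_nsmul, deg_single, hQ]
    simp
  have hnonneg : (0 : Divisor k K) ≤ Finsupp.single Q 1 := Finsupp.single_nonneg.2 zero_le_one
  have hmem : ∀ i : Fin (l + 1), x ^ (i : ℕ) ∈ L D := by
    intro i
    have h1 := pow_mem_L hxQ (i : ℕ)
    refine L_mono ?_ h1
    rw [hD]
    have hi : (i : ℕ) ≤ l := Nat.lt_succ_iff.1 i.2
    have key : ∀ a b : ℕ, a ≤ b →
        a • (Finsupp.single Q 1 : Divisor k K) ≤ b • (Finsupp.single Q 1 : Divisor k K) := by
      intro a b hab
      obtain ⟨j, rfl⟩ := Nat.exists_eq_add_of_le hab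
      rw [add_nsmul]
      exact le_add_of_nonneg_right (nsmul_nonneg hnonneg j)
    exact key _ _ hi
  have hfd := finiteDimensional_L hK D
  let f : Fin (l + 1) → L D := fun i => ⟨_, hmem i⟩
  have hf : LinearIndependent k f := by
    apply LinearIndependent.of_comp (L D).subtype
    exact (linearIndependent_pow_of_transcendental hx).comp _ Fin.val_injective
  have h1 := hf.fintype_card_le_finrank
  rw [Fintype.card_fin] at h1
  have h2 := ell_eq_of_le_deg hK (D := D) (by rw [hdeg, hl]; push_cast; omega)
  rw [hdeg] at h2
  have h1' : ((l + 1 : ℕ) : ℤ) ≤ (ell D : ℤ) := by exact_mod_cast h1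
  rw [h2] at h1'
  push_cast at h1'
  omega

/-- For transcendental `x`: the pole divisor of `x` is a single place of degree one iff
`[K : k(x)] = 1`. -/
theorem exists_simple_pole_iff (hK : IsFunctionField k K) {x : K} (hx : Transcendental k x) :
    (∃ P : Place k K, P.deg = 1 ∧ P.ord x = -1 ∧ ∀ Q : Place k K, Q ≠ P → 0 ≤ Q.ord x) ↔
      Module.finrank (IntermediateField.adjoin k ({x} : Set K)) K = 1 := by
  classical
  have hdeg := deg_poleDiv_eq hK hx
  constructor
  · rintro ⟨P, hP, hordP, hQ⟩
    have e : ((-FunFld.div k x) ⊔ 0 : Divisor k K) = Finsupp.single P 1 := by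
      ext Q
      rw [Finsupp.sup_apply, Finsupp.neg_apply, div_apply hK, Finsupp.single_apply]
      simp only [Finsupp.coe_zero, Pi.zero_apply]
      split_ifs with h
      · subst h
        rw [hordP]
        simp
      · have := hQ Q (Ne.symm h)
        exact sup_eq_right.2 (by linarith)
    rw [e, deg_single, hP] at hdeg
    have : ((Module.finrank (IntermediateField.adjoin k ({x} : Set K)) K : ℕ) : ℤ) = 1 := by
      rw [← hdeg]; simp
    exact_mod_cast this
  · intro h1
    rw [h1] at hdeg
    set D : Divisor k K := (-FunFld.div k x) ⊔ 0 with hD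
    have hD0 : (0 : Divisor k K) ≤ D := le_sup_right
    have hDne : D ≠ 0 := by
      intro h
      rw [h, deg_zero] at hdeg
      simp at hdeg
    obtain ⟨P, hP⟩ : ∃ P, D P ≠ 0 := by
      by_contra hcon
      push Not at hcon
      exact hDne (Finsupp.ext hcon)
    have hP1 : 1 ≤ D P := by
      have := hD0 P
      simp only [Finsupp.coe_zero, Pi.zero_apply] at this
      omega
    have hle : (0 : Divisor k K) ≤ D - Finsupp.single P 1 := by
      intro Q
      rw [Finsupp.sub_apply, Finsupp.single_apply]
      simp only [Finsupp.coe_zero, Pi.zero_apply]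
      split_ifs with h
      · subst h; omega
      · have := hD0 Q
        simp only [Finsupp.coe_zero, Pi.zero_apply] at this
        omega
    have hdeg2 := deg_nonneg hle
    rw [deg_sub, deg_single, hdeg] at hdeg2
    have hPdeg : (1 : ℤ) ≤ P.deg := by exact_mod_cast deg_pos hK P
    have hPdeg1 : (P.deg : ℤ) = 1 := by push_cast at hdeg2; linarith
    have hzero : D - Finsupp.single P 1 = 0 := by
      apply eq_zero_of_nonneg_of_deg_eq_zero hK hle
      rw [deg_sub, deg_single, hdeg, hPdeg1]
      simp
    have hDeq : D = Finsupp.single P 1 := sub_eq_zero.1 hzero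
    refine ⟨P, by exact_mod_cast hPdeg1, ?_, ?_⟩
    · have := congrArg (fun E : Divisor k K => E P) hDeq
      simp only [hD, Finsupp.sup_apply, Finsupp.neg_apply, div_apply hK, Finsupp.single_eq_same,
        Finsupp.coe_zero, Pi.zero_apply] at this
      rcases le_total (-P.ord x) 0 with h | h
      · rw [sup_eq_right.2 h] at this
        omega
      · rw [sup_eq_left.2 h] at this
        omega
    · intro Q hQ
      have := congrArg (fun E : Divisor k K => E Q) hDeq
      simp only [hD, Finsupp.sup_apply, Finsupp.neg_apply, div_apply hK,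
        Finsupp.single_eq_of_ne hQ, Finsupp.coe_zero, Pi.zero_apply] at this
      have h2 : -Q.ord x ≤ (-Q.ord x) ⊔ 0 := le_sup_left
      omega

/-- A generator of `K` over `k` is transcendental. -/
lemma transcendental_of_adjoin_eq_top (hK : IsFunctionField k K) {x : K}
    (hx : IntermediateField.adjoin k ({x} : Set K) = ⊤) : Transcendental k x := by
  intro halg
  obtain ⟨c, rfl⟩ := hK.2 x halg
  obtain ⟨⟨y, hy, -⟩, -⟩ := id hK
  apply not_mem_range_of_transcendental hy
  have h1 : y ∈ IntermediateField.adjoin k ({algebraMap k K c} : Set K) := by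
    rw [hx]; trivial
  have h2 : IntermediateField.adjoin k ({algebraMap k K c} : Set K) = ⊥ := by
    rw [IntermediateField.adjoin_simple_eq_bot_iff]
    exact IntermediateField.algebraMap_mem _ c
  rw [h2, IntermediateField.mem_bot] at h1
  exact h1

/-- **S10995**. -/
theorem exists_simple_pole_iff_rational (hK : IsFunctionField k K) :
    (∃ (x : K) (P : Place k K), P.deg = 1 ∧ P.ord x = -1 ∧
        ∀ Q : Place k K, Q ≠ P → 0 ≤ Q.ord x) ↔
      ∃ x : K, IntermediateField.adjoin k ({x} : Set K) = ⊤ := by
  constructor
  · rintro ⟨x, P, hP, hord, hQ⟩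
    have hx0 : x ≠ 0 := by
      rintro rfl
      rw [ord_zero] at hord
      omega
    have hxk : x ∉ Set.range (algebraMap k K) := by
      rintro ⟨c, rfl⟩
      rw [ord_algebraMap] at hord
      omega
    have htr := transcendental_of_not_mem_range hK hxk
    refine ⟨x, ?_⟩
    rw [← IntermediateField.finrank_eq_one_iff_eq_top]
    exact (exists_simple_pole_iff hK htr).1 ⟨P, hP, hord, hQ⟩
  · rintro ⟨x, hx⟩
    have htr := transcendental_of_adjoin_eq_top hK hx
    have h1 := IntermediateField.finrank_eq_one_iff_eq_top.2 hx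
    obtain ⟨P, hP⟩ := (exists_simple_pole_iff hK htr).2 h1
    exact ⟨x, P, hP⟩

/-- **S10994**. -/
theorem genus_zero_iff_rational (hK : IsFunctionField k K) :
    (genus k K = 0 ∧ ∃ P : Place k K, P.deg = 1) ↔
      ∃ x : K, IntermediateField.adjoin k ({x} : Set K) = ⊤ := by
  constructor
  · rintro ⟨hg, P, hP⟩
    -- `ℓ(P) = 2`
    have h1 := ell_eq_of_le_deg hK (D := (Finsupp.single P 1 : Divisor k K)) (by
      rw [hg, deg_single, hP]; simp)
    rw [deg_single, hP, hg] at h1
    have h2 : ell (Finsupp.single P 1 : Divisor k K) = 2 := by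
      have : (ell (Finsupp.single P 1 : Divisor k K) : ℤ) = 2 := by
        rw [h1]; simp
      exact_mod_cast this
    -- an element of `L(P)` outside `k`
    have hfd := finiteDimensional_L hK (Finsupp.single P 1 : Divisor k K)
    have hex : ∃ x ∈ L (Finsupp.single P 1 : Divisor k K), x ∉ Set.range (algebraMap k K) := by
      by_contra hcon
      push Not at hcon
      have hle : L (Finsupp.single P 1 : Divisor k K) ≤ L (0 : Divisor k K) := by
        intro x hx
        rw [L_zero_eq hK, Submodule.mem_one]
        exact hcon x hx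
      have hfd0 := finiteDimensional_L hK (0 : Divisor k K)
      have := Submodule.finrank_mono hle
      have h0 : Module.finrank k (L (0 : Divisor k K)) = 1 := ell_zero hK
      change ell _ ≤ _ at this
      omega
    obtain ⟨x, hxL, hxk⟩ := hex
    have htr := transcendental_of_not_mem_range hK hxk
    have hx0 : x ≠ 0 := by
      rintro rfl
      exact hxk ⟨0, map_zero _⟩
    refine ⟨x, ?_⟩
    rw [← IntermediateField.finrank_eq_one_iff_eq_top]
    apply (exists_simple_pole_iff hK htr).1
    have hdiv := (mem_L_iff_div hK hx0 _).1 hxL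
    obtain ⟨Q, hQ⟩ := exists_pole hK hxk
    have hQP : Q = P := by
      by_contra hne
      have := hdiv Q
      rw [Finsupp.add_apply, div_apply hK, Finsupp.single_eq_of_ne hne] at this
      simp only [Finsupp.coe_zero, Pi.zero_apply] at this
      omega
    subst hQP
    refine ⟨Q, hP, ?_, ?_⟩
    · have := hdiv Q
      rw [Finsupp.add_apply, div_apply hK, Finsupp.single_eq_same] at this
      simp only [Finsupp.coe_zero, Pi.zero_apply] at this
      omega
    · intro R hR
      have := hdiv R
      rw [Finsupp.add_apply, div_apply hK, Finsupp.single_eq_of_ne hR] at this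
      simp only [Finsupp.coe_zero, Pi.zero_apply] at this
      omega
  · rintro ⟨x, hx⟩
    have htr := transcendental_of_adjoin_eq_top hK hx
    have h1 := IntermediateField.finrank_eq_one_iff_eq_top.2 hx
    obtain ⟨P, hP, hord, hQ⟩ := (exists_simple_pole_iff hK htr).2 h1
    refine ⟨?_, P, hP⟩
    apply genus_eq_zero_of_mem_L_place hK hP htr
    have hx0 : x ≠ 0 := by
      rintro rfl
      rw [ord_zero] at hord
      omega
    rw [mem_L_iff_div hK hx0]
    intro R
    rw [Finsupp.add_apply, div_apply hK]
    simp only [Finsupp.coe_zero, Pi.zero_apply]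
    by_cases hR : R = P
    · subst hR
      rw [Finsupp.single_eq_same, hord]
      simp
    · rw [Finsupp.single_eq_of_ne hR, add_zero]
      exact hQ R hR

/-- **S10996**: in positive genus, distinct places of degree one are not linearly equivalent. -/
theorem place_eq_of_linearly_equiv (hK : IsFunctionField k K) (hg : 0 < genus k K)
    {P P' : Place k K} (hP' : P'.deg = 1) {x : K} (hx : x ≠ 0)
    (h : (Finsupp.single P 1 - Finsupp.single P' 1 : Divisor k K) = FunFld.div k x) : P = P' := by
  by_contra hne
  have hxk : x ∉ Set.range (algebraMap k K) := by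
    rintro ⟨c, rfl⟩
    rw [div_algebraMap hK] at h
    have := congrArg (fun E : Divisor k K => E P) h
    simp [Finsupp.single_eq_of_ne hne] at this
  have htr := transcendental_of_not_mem_range hK hxk
  have hmem : x ∈ L (Finsupp.single P' 1 : Divisor k K) := by
    rw [mem_L_iff_div hK hx, ← h]
    have : (Finsupp.single P 1 - Finsupp.single P' 1 + Finsupp.single P' 1 : Divisor k K) =
        Finsupp.single P 1 := by abel
    rw [this]
    exact Finsupp.single_nonneg.2 zero_le_one
  have := genus_eq_zero_of_mem_L_place hK hP' htr hmem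
  omega

/-- **S11031**: an effective divisor of degree `< g` is special. -/
theorem exists_ne_zero_mem_WD_of_deg_lt (hK : IsFunctionField k K) {D : Divisor k K} (hD : 0 ≤ D)
    (hdeg : D.deg < genus k K) : ∃ ω : Module.Dual k (adele k K), ω ≠ 0 ∧ ω ∈ WD D := by
  obtain ⟨hfd, hrk⟩ := finrank_WD hK D
  have hfdL := finiteDimensional_L hK D
  have h1 : 1 ≤ ell D := by
    have := Submodule.finrank_mono (L_mono hD)
    have h0 : Module.finrank k (L (0 : Divisor k K)) = 1 := ell_zero hK
    change _ ≤ ell D at this
    omega
  have hpos : 0 < Module.finrank k (WD D) := by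
    have : (0 : ℤ) < Module.finrank k (WD D) := by
      rw [hrk]
      unfold delta
      have : (1 : ℤ) ≤ ell D := by exact_mod_cast h1
      linarith
    exact_mod_cast this
  have hnt : Nontrivial (WD D) := Module.finrank_pos_iff.1 hpos
  obtain ⟨η, hη⟩ := exists_ne (0 : WD D)
  exact ⟨η.1, fun h => hη (Subtype.ext h), η.2⟩

end Groth.Agent.Lib.Helper88.FF
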