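/-
Function fields of one variable: the strong approximation theorem.
Author: helper88
-/
import Groth.Agent.Lib.Helper88.FunFldApps

set_option autoImplicit false

namespace Groth.Agent.Lib.Helper88.FF

open FunFld WithZero

variable {k K : Type*} [Field k] [Field K] [Algebra k K]

/-- Strong approximation, inequality form. -/
theorem strong_approx_le (hK : IsFunctionField k K) (Pinf : Place k K) (T : Finset (Place k K))
    (hinf : Pinf ∉ T) (a : Place k K → K) (e : Place k K → ℤ) :
    ∃ z : K, (∀ P ∈ T, P.1 (z - a P) ≤ exp (e P)) ∧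
      ∀ Q : Place k K, Q ≠ Pinf → Q ∉ T → Q.1 z ≤ 1 := by
  classical
  obtain ⟨N, hN⟩ := exists_delta_eq_genus_of_le hK
  set E : Divisor k K := ∑ P ∈ T, Finsupp.single P (e P) with hE
  have hEapp : ∀ P, E P = if P ∈ T then e P else 0 := by
    intro P
    rw [hE, Finsupp.finsetSum_apply]
    simp only [Finsupp.single_apply]
    rw [Finset.sum_ite_eq' T P]
  set m : ℕ := (N - E.deg).toNat with hm
  set D : Divisor k K := m • Finsupp.single Pinf 1 + E with hD
  have hP1 : (1 : ℤ) ≤ Pinf.deg := by exact_mod_cast deg_pos hK Pinf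
  have hdeg : N ≤ D.deg := by
    rw [hD, deg_add, deg_nsmul, deg_single]
    have h1 := Int.self_le_toNat (N - E.deg)
    have h2 : (0 : ℤ) ≤ m := Int.natCast_nonneg _
    rw [← hm] at h1
    nlinarith
  have hδ := hN D hdeg
  have htop := AD_sup_diag_eq_adele hK hδ
  set α : Place k K → K := fun P => if P ∈ T then a P else 0 with hα
  have hαmem : α ∈ adele k K := by
    rw [mem_adele_iff]
    refine T.finite_toSet.subset ?_
    intro P hP
    rw [Set.mem_ofPred_eq] at hP
    by_contra hcon
    apply hP
    simp only [hα]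
    rw [if_neg (by simpa using hcon)]
    simp
  rw [← htop, Submodule.mem_sup] at hαmem
  obtain ⟨b, hb, _, ⟨z, rfl⟩, hbz⟩ := hαmem
  refine ⟨z, ?_, ?_⟩
  · intro P hP
    have h1 := congrFun hbz P
    have h2 : z - a P = -b P := by
      simp only [Pi.add_apply, hα, if_pos hP] at h1
      have : diag k K z P = z := rfl
      rw [this] at h1
      rw [← h1]; ring
    rw [h2, Valuation.map_neg]
    have h3 := hb P
    have hPne : P ≠ Pinf := fun h => hinf (h ▸ hP)
    have h4 : D P = e P := by
      rw [hD, Finsupp.add_apply, Finsupp.smul_apply, Finsupp.single_eq_of_ne hPne, hEapp,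
        if_pos hP]
      simp
    rwa [h4] at h3
  · intro Q hQ1 hQ2
    have h1 := congrFun hbz Q
    have h2 : z = -b Q := by
      simp only [Pi.add_apply, hα, if_neg hQ2] at h1
      have : diag k K z Q = z := rfl
      rw [this] at h1
      linear_combination h1
    rw [h2, Valuation.map_neg]
    have h3 := hb Q
    have h4 : D Q = 0 := by
      rw [hD, Finsupp.add_apply, Finsupp.smul_apply, Finsupp.single_eq_of_ne hQ1, hEapp,
        if_neg hQ2]
      simp
    rwa [h4, exp_zero] at h3

/-- **S10997 (strong approximation)**. -/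
theorem strong_approx (hK : IsFunctionField k K) (Pinf : Place k K) (n : ℕ)
    (P : Fin n → Place k K) (hP : Function.Injective P) (hinf : Pinf ∉ Set.range P)
    (x : Fin n → K) (m : Fin n → ℤ) :
    ∃ y : K, (∀ i, (P i).1 (y - x i) = exp (-(m i))) ∧
      ∀ Q : Place k K, Q ≠ Pinf → Q ∉ Set.range P → Q.1 y ≤ 1 := by
  classical
  set T : Finset (Place k K) := Finset.univ.image P with hT
  have hTmem : ∀ Q, Q ∈ T ↔ Q ∈ Set.range P := by
    intro Q
    rw [hT, Finset.mem_image]
    simp
  have hinfT : Pinf ∉ T := fun h => hinf ((hTmem _).1 h)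
  have hy : ∀ i, ∃ w : K, (P i).1 w = exp (-(m i)) := fun i => (P i).2.2 _
  choose w hw using hy
  set e : Place k K → ℤ := Function.extend P (fun i => -(m i + 1)) 0 with he
  have heP : ∀ i, e (P i) = -(m i + 1) := fun i => hP.extend_apply _ _ i
  obtain ⟨z, hz1, hz2⟩ := strong_approx_le hK Pinf T hinfT (Function.extend P x 0) e
  obtain ⟨z', hz1', hz2'⟩ := strong_approx_le hK Pinf T hinfT (Function.extend P w 0) e
  have hlt : ∀ i, exp (e (P i)) < exp (-(m i)) := by
    intro i
    rw [heP, exp_lt_exp]
    omega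
  refine ⟨z + z', ?_, ?_⟩
  · intro i
    have hi : P i ∈ T := (hTmem _).2 ⟨i, rfl⟩
    have h1 := hz1 (P i) hi
    have h2 := hz1' (P i) hi
    rw [hP.extend_apply] at h1 h2
    have h3 : (P i).1 z' = exp (-(m i)) := by
      have : z' = w i + (z' - w i) := by ring
      rw [this, Valuation.map_add_eq_of_lt_left, hw]
      rw [hw]
      exact lt_of_le_of_lt h2 (hlt i)
    have e1 : z + z' - x i = z' + (z - x i) := by ring
    rw [e1, Valuation.map_add_eq_of_lt_left, h3]
    rw [h3]
    exact lt_of_le_of_lt h1 (hlt i)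
  · intro Q hQ1 hQ2
    have hQT : Q ∉ T := fun h => hQ2 ((hTmem _).1 h)
    exact (Q.1.map_add _ _).trans (max_le (hz2 Q hQ1 hQT) (hz2' Q hQ1 hQT))

end Groth.Agent.Lib.Helper88.FF
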