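/-
Function fields of one variable: genus one.
Author: helper88
-/
import Groth.Agent.Lib.Helper88.FunFldStrong
import Mathlib.FieldTheory.Relrank
import Mathlib.Algebra.Polynomial.Degree.SmallDegree

set_option autoImplicit false

namespace Groth.Agent.Lib.Helper88.FF

open FunFld WithZero

variable {k K : Type*} [Field k] [Field K] [Algebra k K]

/-- An effective divisor of degree one is a place of degree one. -/
theorem effective_deg_one (hK : IsFunctionField k K) {D : Divisor k K} (hD0 : 0 ≤ D)
    (hdeg : D.deg = 1) : ∃ P : Place k K, P.deg = 1 ∧ D = Finsupp.single P 1 := by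
  classical
  have hDne : D ≠ 0 := by
    intro h
    rw [h, deg_zero] at hdeg
    omega
  obtain ⟨P, hP⟩ : ∃ P, D P ≠ 0 := by
    by_contra hcon
    push Not at hcon
    exact hDne (Finsupp.ext hcon)
  have hP1 : 1 ≤ D P := by
    have := hD0 P
    simp only [Finsupp.coe_zero, Pi.zero_apply] at this
    omega
  have hle : (0 : Divisor k K) ≤ D - Finsupp.single P 1 := by
    intro Q
    rw [Finsupp.sub_apply, Finsupp.single_apply]
    simp only [Finsupp.coe_zero, Pi.zero_apply]
    split_ifs with h
    · subst h; omega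
    · have := hD0 Q
      simp only [Finsupp.coe_zero, Pi.zero_apply] at this
      omega
  have hdeg2 := deg_nonneg hle
  rw [deg_sub, deg_single, hdeg] at hdeg2
  have hPdeg : (1 : ℤ) ≤ P.deg := by exact_mod_cast deg_pos hK P
  have hPdeg1 : (P.deg : ℤ) = 1 := by linarith
  have hzero : D - Finsupp.single P 1 = 0 := by
    apply eq_zero_of_nonneg_of_deg_eq_zero hK hle
    rw [deg_sub, deg_single, hdeg, hPdeg1]
    simp
  exact ⟨P, by exact_mod_cast hPdeg1, sub_eq_zero.1 hzero⟩

/-- **S10999**: in genus one with a rational place `P₀`, every divisor class of degree zero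
contains a unique `P - P₀`. -/
theorem existsUnique_place_of_deg_zero (hK : IsFunctionField k K) (hg : genus k K = 1)
    (P₀ : Place k K) (hP : P₀.deg = 1) (D : Divisor k K) (hD : D.deg = 0) :
    ∃! P : Place k K, P.deg = 1 ∧
      ∃ x : K, x ≠ 0 ∧ D = Finsupp.single P 1 - Finsupp.single P₀ 1 + FunFld.div k x := by
  have hdeg : (D + Finsupp.single P₀ 1).deg = 1 := by
    rw [deg_add, deg_single, hD, hP]; simp
  have hell := ell_eq_of_le_deg hK (D := D + Finsupp.single P₀ 1) (by rw [hdeg, hg]; simp)
  rw [hdeg, hg] at hell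
  have hpos : 0 < ell (D + Finsupp.single P₀ 1) := by
    have : (0 : ℤ) < ell (D + Finsupp.single P₀ 1) := by rw [hell]; simp
    exact_mod_cast this
  obtain ⟨z, hz0, hz⟩ := exists_ne_zero_mem_L hK hpos
  have hE := (mem_L_iff_div hK hz0 _).1 hz
  have hEdeg : (FunFld.div k z + (D + Finsupp.single P₀ 1)).deg = 1 := by
    rw [deg_add, deg_div hK, hdeg]; simp
  obtain ⟨P, hPdeg, hPeq⟩ := effective_deg_one hK hE hEdeg
  refine ⟨P, ⟨hPdeg, z⁻¹, inv_ne_zero hz0, ?_⟩, ?_⟩
  · rw [div_inv hK, ← hPeq]
    abel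
  · rintro P' ⟨hP'deg, x', hx'0, hx'⟩
    have hx : x' * z ≠ 0 := mul_ne_zero hx'0 hz0
    have heq : (Finsupp.single P 1 - Finsupp.single P' 1 : Divisor k K) = FunFld.div k (x' * z) := by
      rw [div_mul hK hx'0 hz0, ← hPeq]
      have : FunFld.div k x' = D - (Finsupp.single P' 1 - Finsupp.single P₀ 1) := by
        rw [hx']; abel
      rw [this]
      abel
    exact (place_eq_of_linearly_equiv hK (by omega) hP'deg hx heq).symm

/-- Nonzero elements with pairwise distinct values at a place are `k`-linearly independent. -/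
theorem linearIndependent_of_val_injective (P : Place k K) {ι : Type*} (z : ι → K)
    (hz0 : ∀ i, z i ≠ 0) (hinj : Function.Injective fun i => P.1 (z i)) :
    LinearIndependent k z := by
  classical
  rw [linearIndependent_iff']
  intro s c hsum
  by_contra hne
  push Not at hne
  obtain ⟨i₀, hi₀, hci₀⟩ := hne
  set t' := s.filter (fun i => c i ≠ 0) with ht'
  have hne' : t'.Nonempty := ⟨i₀, by simp [ht', hi₀, hci₀]⟩
  obtain ⟨j, hjt', hjmax⟩ := Finset.exists_max_image t' (fun i => P.1 (z i)) hne'
  have hjs : j ∈ s := (Finset.mem_filter.1 hjt').1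
  have hcj : c j ≠ 0 := (Finset.mem_filter.1 hjt').2
  have hj0 : P.1 (z j) ≠ 0 := (Valuation.ne_zero_iff _).2 (hz0 j)
  have hsplit : c j • z j = -∑ i ∈ s.erase j, c i • z i := by
    rw [← Finset.add_sum_erase s _ hjs] at hsum
    exact eq_neg_of_add_eq_zero_left hsum
  have h1 : P.1 (c j • z j) = P.1 (z j) := val_smul P hcj _
  have h2 : P.1 (-∑ i ∈ s.erase j, c i • z i) < P.1 (z j) := by
    rw [Valuation.map_neg]
    apply P.1.map_sum_lt hj0
    intro i hi
    rw [Finset.mem_erase] at hi
    by_cases hci : c i = 0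
    · rw [hci, zero_smul, map_zero]
      exact zero_lt_iff.2 hj0
    · rw [val_smul P hci]
      have hit' : i ∈ t' := Finset.mem_filter.2 ⟨hi.2, hci⟩
      exact lt_of_le_of_ne (hjmax i hit') (fun h => hi.1 (hinj h))
  rw [← hsplit, h1] at h2
  exact lt_irrefl _ h2

/-- An element of `L(nP₀)` not in `L((n-1)P₀)` has a pole of order exactly `n` at `P₀` and no
other poles. -/
lemma ord_of_mem_L_single (hK : IsFunctionField k K) {P₀ : Place k K} {n : ℤ} {z : K}
    (hz : z ∈ L (Finsupp.single P₀ n : Divisor k K))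
    (hz' : z ∉ L (Finsupp.single P₀ (n - 1) : Divisor k K)) :
    z ≠ 0 ∧ P₀.ord z = -n ∧ ∀ Q : Place k K, Q ≠ P₀ → 0 ≤ Q.ord z := by
  have hz0 : z ≠ 0 := by
    rintro rfl
    exact hz' (Submodule.zero_mem _)
  have h1 := (mem_L_iff_div hK hz0 _).1 hz
  have hQ : ∀ Q : Place k K, Q ≠ P₀ → 0 ≤ Q.ord z := by
    intro Q hQ
    have := h1 Q
    rw [Finsupp.add_apply, div_apply hK, Finsupp.single_eq_of_ne hQ] at this
    simpa using this
  refine ⟨hz0, ?_, hQ⟩
  have h2 := h1 P₀
  rw [Finsupp.add_apply, div_apply hK, Finsupp.single_eq_same] at h2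
  simp only [Finsupp.coe_zero, Pi.zero_apply] at h2
  by_contra hne
  apply hz'
  rw [mem_L_iff_div hK hz0]
  intro Q
  rw [Finsupp.add_apply, div_apply hK]
  simp only [Finsupp.coe_zero, Pi.zero_apply]
  by_cases hQP : Q = P₀
  · subst hQP
    rw [Finsupp.single_eq_same]
    omega
  · rw [Finsupp.single_eq_of_ne hQP, add_zero]
    exact hQ Q hQP

/-- An element whose only pole is at a rational place `P₀`, of order `n ≥ 1`, has
`[K : k(z)] = n`. -/
lemma finrank_adjoin_of_single_pole (hK : IsFunctionField k K) {P₀ : Place k K} (hP : P₀.deg = 1)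
    {n : ℕ} (hn : 1 ≤ n) {z : K} (hz0 : z ≠ 0) (hord : P₀.ord z = -(n : ℤ))
    (hQ : ∀ Q : Place k K, Q ≠ P₀ → 0 ≤ Q.ord z) :
    Transcendental k z ∧ Module.finrank (IntermediateField.adjoin k ({z} : Set K)) K = n := by
  classical
  have hzk : z ∉ Set.range (algebraMap k K) := by
    rintro ⟨c, rfl⟩
    rw [ord_algebraMap] at hord
    omega
  have htr := transcendental_of_not_mem_range hK hzk
  refine ⟨htr, ?_⟩
  have hdeg := deg_poleDiv_eq hK htr
  have e : ((-FunFld.div k z) ⊔ 0 : Divisor k K) = Finsupp.single P₀ (n : ℤ) := by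
    ext Q
    rw [Finsupp.sup_apply, Finsupp.neg_apply, div_apply hK, Finsupp.single_apply]
    simp only [Finsupp.coe_zero, Pi.zero_apply]
    split_ifs with h
    · subst h
      rw [hord, neg_neg]
      exact sup_eq_left.2 (Int.natCast_nonneg n)
    · have := hQ Q (Ne.symm h)
      exact sup_eq_right.2 (by linarith)
  rw [e, deg_single, hP] at hdeg
  have : ((Module.finrank (IntermediateField.adjoin k ({z} : Set K)) K : ℕ) : ℤ) = n := by
    rw [← hdeg]; simp
  exact_mod_cast this

lemma exists_mem_not_mem_of_finrank_lt {V : Type*} [AddCommGroup V] [Module k V]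
    {A B : Submodule k V} [FiniteDimensional k B] (hAB : A ≤ B)
    (h : Module.finrank k A < Module.finrank k B) : ∃ x ∈ B, x ∉ A := by
  by_contra hcon
  push Not at hcon
  have hBA : B ≤ A := hcon
  have : A = B := le_antisymm hAB hBA
  rw [this] at h
  exact lt_irrefl _ h

/-- **S10998**: Weierstrass form of a genus-one function field with a rational place. -/
theorem exists_weierstrass (hK : IsFunctionField k K) (hg : genus k K = 1) (P₀ : Place k K)
    (hP : P₀.deg = 1) :
    ∃ x y : K, x ∈ L (Finsupp.single P₀ 2 : Divisor k K) ∧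
      y ∈ L (Finsupp.single P₀ 3 : Divisor k K) ∧
      P₀.ord x = -2 ∧ P₀.ord y = -3 ∧
      IntermediateField.adjoin k ({x, y} : Set K) = ⊤ ∧
      ∃ f g : Polynomial k, f.natDegree ≤ 1 ∧ g.natDegree = 3 ∧
        y ^ 2 + Polynomial.aeval x f * y + Polynomial.aeval x g = 0 := by
  classical
  -- dimensions
  have hell : ∀ n : ℕ, 1 ≤ n → ell (Finsupp.single P₀ (n : ℤ) : Divisor k K) = n := by
    intro n hn
    have h1 := ell_eq_of_le_deg hK (D := (Finsupp.single P₀ (n : ℤ) : Divisor k K)) (by
      rw [hg, deg_single, hP]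
      push_cast
      have : (1 : ℤ) ≤ n := by exact_mod_cast hn
      linarith)
    rw [deg_single, hP, hg] at h1
    have : (ell (Finsupp.single P₀ (n : ℤ) : Divisor k K) : ℤ) = n := by
      rw [h1]; push_cast; ring
    exact_mod_cast this
  have hmono : ∀ a b : ℤ, a ≤ b →
      L (Finsupp.single P₀ a : Divisor k K) ≤ L (Finsupp.single P₀ b : Divisor k K) := by
    intro a b hab
    apply L_mono
    intro Q
    rw [Finsupp.single_apply, Finsupp.single_apply]
    split_ifs
    · exact hab
    · exact le_rfl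
  -- `x`
  have hfd2 := finiteDimensional_L hK (Finsupp.single P₀ ((2 : ℕ) : ℤ) : Divisor k K)
  obtain ⟨x, hx2, hx1⟩ := exists_mem_not_mem_of_finrank_lt
    (hmono ((1 : ℕ) : ℤ) ((2 : ℕ) : ℤ) (by norm_num)) (by
      change ell _ < ell _
      rw [hell 1 le_rfl, hell 2 (by norm_num)]
      norm_num)
  have hfd3 := finiteDimensional_L hK (Finsupp.single P₀ ((3 : ℕ) : ℤ) : Divisor k K)
  obtain ⟨y, hy3, hy2⟩ := exists_mem_not_mem_of_finrank_lt
    (hmono ((2 : ℕ) : ℤ) ((3 : ℕ) : ℤ) (by norm_num)) (by
      change ell _ < ell _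
      rw [hell 2 (by norm_num), hell 3 (by norm_num)]
      norm_num)
  obtain ⟨hx0, hxord, hxQ⟩ := ord_of_mem_L_single hK (n := 2) hx2 (by simpa using hx1)
  obtain ⟨hy0, hyord, hyQ⟩ := ord_of_mem_L_single hK (n := 3) hy3 (by simpa using hy2)
  refine ⟨x, y, hx2, hy3, hxord, hyord, ?_, ?_⟩
  · -- generation
    obtain ⟨-, hfx⟩ := finrank_adjoin_of_single_pole hK hP (n := 2) (by norm_num) hx0 hxord hxQ
    obtain ⟨-, hfy⟩ := finrank_adjoin_of_single_pole hK hP (n := 3) (by norm_num) hy0 hyord hyQ
    have hle1 : IntermediateField.adjoin k ({x} : Set K) ≤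
        IntermediateField.adjoin k ({x, y} : Set K) :=
      IntermediateField.adjoin.mono k _ _ (by simp)
    have hle2 : IntermediateField.adjoin k ({y} : Set K) ≤
        IntermediateField.adjoin k ({x, y} : Set K) :=
      IntermediateField.adjoin.mono k _ _ (by simp)
    have h1 := IntermediateField.relfinrank_mul_finrank_top hle1
    have h2 := IntermediateField.relfinrank_mul_finrank_top hle2
    rw [hfx] at h1
    rw [hfy] at h2
    rw [← IntermediateField.finrank_eq_one_iff_eq_top]
    have hd2 : Module.finrank (IntermediateField.adjoin k ({x, y} : Set K)) K ∣ 2 :=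
      Dvd.intro_left _ h1
    have hd3 : Module.finrank (IntermediateField.adjoin k ({x, y} : Set K)) K ∣ 3 :=
      Dvd.intro_left _ h2
    have hd1 : Module.finrank (IntermediateField.adjoin k ({x, y} : Set K)) K ∣ 1 := by
      have := Nat.dvd_sub hd3 hd2
      simpa using this
    exact Nat.dvd_one.1 hd1
  · -- the equation
    have hfd6 := finiteDimensional_L hK (Finsupp.single P₀ ((6 : ℕ) : ℤ) : Divisor k K)
    have hfd5 := finiteDimensional_L hK (Finsupp.single P₀ ((5 : ℕ) : ℤ) : Divisor k K)
    set e : Fin 6 → K := ![1, x, y, x ^ 2, x * y, x ^ 3] with he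
    have heord : ∀ i, e i ≠ 0 ∧ P₀.ord (e i) = -(![0, 2, 3, 4, 5, 6] i : ℤ) ∧
        ∀ Q : Place k K, Q ≠ P₀ → 0 ≤ Q.ord (e i) := by
      intro i
      fin_cases i
      · refine ⟨one_ne_zero, by simp [he, ord_one], fun Q _ => by simp [he, ord_one]⟩
      · exact ⟨hx0, by simp [he, hxord], fun Q hQ => by simpa [he] using hxQ Q hQ⟩
      · exact ⟨hy0, by simp [he, hyord], fun Q hQ => by simpa [he] using hyQ Q hQ⟩
      · refine ⟨pow_ne_zero _ hx0, by simp [he, ord_pow, hxord], fun Q hQ => ?_⟩
        have := hxQ Q hQ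
        simp only [he]
        show 0 ≤ Q.ord (x ^ 2)
        rw [ord_pow]
        positivity
      · refine ⟨mul_ne_zero hx0 hy0, by simp [he, ord_mul P₀ hx0 hy0, hxord, hyord], fun Q hQ => ?_⟩
        have h1 := hxQ Q hQ
        have h2 := hyQ Q hQ
        show 0 ≤ Q.ord (x * y)
        rw [ord_mul Q hx0 hy0]
        omega
      · refine ⟨pow_ne_zero _ hx0, by simp [he, ord_pow, hxord], fun Q hQ => ?_⟩
        have := hxQ Q hQ
        show 0 ≤ Q.ord (x ^ 3)
        rw [ord_pow]
        positivity
    have hmemL : ∀ (z : K) (m : ℕ), z ≠ 0 → -(m : ℤ) ≤ P₀.ord z →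
        (∀ Q : Place k K, Q ≠ P₀ → 0 ≤ Q.ord z) →
        z ∈ L (Finsupp.single P₀ (m : ℤ) : Divisor k K) := by
      intro z m hz0 hzord hzQ
      rw [mem_L_iff_div hK hz0]
      intro Q
      rw [Finsupp.add_apply, div_apply hK]
      simp only [Finsupp.coe_zero, Pi.zero_apply]
      by_cases hQP : Q = P₀
      · subst hQP
        rw [Finsupp.single_eq_same]
        omega
      · rw [Finsupp.single_eq_of_ne hQP, add_zero]
        exact hzQ Q hQP
    have hemem : ∀ i, e i ∈ L (Finsupp.single P₀ ((6 : ℕ) : ℤ) : Divisor k K) := by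
      intro i
      obtain ⟨h0, h1, h2⟩ := heord i
      apply hmemL _ 6 h0 _ h2
      rw [h1]
      fin_cases i <;> simp
    have heli : LinearIndependent k e := by
      apply linearIndependent_of_val_injective P₀ e (fun i => (heord i).1)
      intro i j hij
      have h1 : P₀.ord (e i) = P₀.ord (e j) := by
        simp only [Place.ord]
        simp only at hij
        rw [hij]
      rw [(heord i).2.1, (heord j).2.1] at h1
      fin_cases i <;> fin_cases j <;> simp at h1 <;> rfl
    let f6 : Fin 6 → L (Finsupp.single P₀ ((6 : ℕ) : ℤ) : Divisor k K) := fun i => ⟨e i, hemem i⟩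
    have hf6 : LinearIndependent k f6 := by
      apply LinearIndependent.of_comp (L (Finsupp.single P₀ ((6 : ℕ) : ℤ) : Divisor k K)).subtype
      exact heli
    have hspan := hf6.span_eq_top_of_card_eq_finrank' (by
      rw [Fintype.card_fin]
      exact (hell 6 (by norm_num)).symm)
    have hy2ne : y ^ 2 ≠ 0 := pow_ne_zero _ hy0
    have hy2ord : P₀.ord (y ^ 2) = -6 := by rw [ord_pow, hyord]; norm_num
    have hy2mem : y ^ 2 ∈ L (Finsupp.single P₀ ((6 : ℕ) : ℤ) : Divisor k K) := by
      apply hmemL _ 6 hy2ne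
      · rw [hy2ord]; norm_num
      · intro Q hQ
        rw [ord_pow]
        have := hyQ Q hQ
        positivity
    have hin : (⟨y ^ 2, hy2mem⟩ : L (Finsupp.single P₀ ((6 : ℕ) : ℤ) : Divisor k K)) ∈
        Submodule.span k (Set.range f6) := by
      rw [hspan]; trivial
    rw [Submodule.mem_span_range_iff_exists_fun] at hin
    obtain ⟨c, hc⟩ := hin
    have hc' : c 0 • (1 : K) + c 1 • x + c 2 • y + c 3 • x ^ 2 + c 4 • (x * y) + c 5 • x ^ 3 =
        y ^ 2 := by
      have := congrArg Subtype.val hc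
      simp only [Fin.sum_univ_six, Submodule.coe_add, Submodule.coe_smul] at this
      simpa [f6, he] using this
    -- the coefficient of `x^3` is nonzero
    have hc5 : c 5 ≠ 0 := by
      intro h5
      have hmem5 : y ^ 2 ∈ L (Finsupp.single P₀ ((5 : ℕ) : ℤ) : Divisor k K) := by
        rw [← hc', h5, zero_smul, add_zero]
        have hm : ∀ i : Fin 6, (i : ℕ) < 5 →
            e i ∈ L (Finsupp.single P₀ ((5 : ℕ) : ℤ) : Divisor k K) := by
          intro i hi
          obtain ⟨h0, h1, h2⟩ := heord i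
          apply hmemL _ 5 h0 _ h2
          rw [h1]
          fin_cases i <;> simp at hi ⊢
        have m0 := hm 0 (by simp)
        have m1 := hm 1 (by simp)
        have m2 := hm 2 (by simp)
        have m3 := hm 3 (by simp)
        have m4 := hm 4 (by simp)
        simp only [he] at m0 m1 m2 m3 m4
        exact Submodule.add_mem _ (Submodule.add_mem _ (Submodule.add_mem _ (Submodule.add_mem _
          (Submodule.smul_mem _ _ m0) (Submodule.smul_mem _ _ m1)) (Submodule.smul_mem _ _ m2))
          (Submodule.smul_mem _ _ m3)) (Submodule.smul_mem _ _ m4)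
      have := (mem_L_iff_div hK hy2ne _).1 hmem5 P₀
      rw [Finsupp.add_apply, div_apply hK, Finsupp.single_eq_same, hy2ord] at this
      simp at this
    refine ⟨-(Polynomial.C (c 4) * Polynomial.X + Polynomial.C (c 2)),
      -(Polynomial.C (c 5) * Polynomial.X ^ 3 + Polynomial.C (c 3) * Polynomial.X ^ 2 +
        Polynomial.C (c 1) * Polynomial.X + Polynomial.C (c 0)), ?_, ?_, ?_⟩
    · rw [Polynomial.natDegree_neg]
      exact Polynomial.natDegree_linear_le
    · rw [Polynomial.natDegree_neg]
      exact Polynomial.natDegree_cubic hc5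
    · rw [← hc']
      simp only [map_neg, map_add, map_mul, Polynomial.aeval_C, Polynomial.aeval_X, map_pow,
        Algebra.smul_def]
      ring

end Groth.Agent.Lib.Helper88.FF
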