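/-
Function fields of one variable: linear series and vanishing at places.
Author: helper88
-/
import Groth.Agent.Lib.Helper88.FunFldApps

set_option autoImplicit false

namespace Groth.Agent.Lib.Helper88.FF

open FunFld WithZero

variable {k K : Type*} [Field k] [Field K] [Algebra k K]

lemma L_inf (A B : Divisor k K) : L A ⊓ L B = L (A ⊓ B) := by
  ext x
  rw [Submodule.mem_inf]
  constructor
  · rintro ⟨h1, h2⟩ P
    rw [Finsupp.inf_apply]
    rcases le_total (A P) (B P) with h | h
    · rw [inf_eq_left.2 h]; exact h1 P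
    · rw [inf_eq_right.2 h]; exact h2 P
  · intro h
    exact ⟨L_mono inf_le_left h, L_mono inf_le_right h⟩

/-- A subspace of `L(D)` is finite-dimensional. -/
lemma finiteDimensional_of_le_L (hK : IsFunctionField k K) {V : Submodule k K} {D : Divisor k K}
    (hV : V ≤ L D) : FiniteDimensional k V :=
  have := finiteDimensional_L hK D
  Submodule.finiteDimensional_of_le hV

/-- Vanishing conditions at two distinct places of total order exceeding `deg D` are
independent. -/
theorem finrank_vanish_add_le (hK : IsFunctionField k K) {V : Submodule k K} {D : Divisor k K}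
    (hV : V ≤ L D) {P Q : Place k K} (hPQ : P ≠ Q) {n m : ℤ} (hn : 0 ≤ n) (hm : 0 ≤ m)
    (h : D.deg < n + m) :
    Module.finrank k ↥(V ⊓ L (D - Finsupp.single P n)) +
      Module.finrank k ↥(V ⊓ L (D - Finsupp.single Q m)) ≤ Module.finrank k V := by
  classical
  have hfd := finiteDimensional_of_le_L hK hV
  set U₁ := V ⊓ L (D - Finsupp.single P n) with hU₁
  set U₂ := V ⊓ L (D - Finsupp.single Q m) with hU₂
  have hfd1 : FiniteDimensional k U₁ := Submodule.finiteDimensional_of_le inf_le_left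
  have hfd2 : FiniteDimensional k U₂ := Submodule.finiteDimensional_of_le inf_le_left
  have hinf : U₁ ⊓ U₂ = ⊥ := by
    rw [eq_bot_iff]
    have hle : U₁ ⊓ U₂ ≤ L ((D - Finsupp.single P n) ⊓ (D - Finsupp.single Q m)) := by
      rw [← L_inf]
      exact inf_le_inf inf_le_right inf_le_right
    refine hle.trans (le_of_eq ?_)
    apply L_eq_bot_of_deg_neg hK
    have hE : (D - Finsupp.single P n) ⊓ (D - Finsupp.single Q m) =
        D - Finsupp.single P n - Finsupp.single Q m := by
      ext R
      rw [Finsupp.inf_apply]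
      simp only [Finsupp.sub_apply, Finsupp.single_apply]
      by_cases h1 : P = R
      · have h2 : Q ≠ R := fun h2 => hPQ (h1.trans h2.symm)
        rw [if_pos h1, if_neg h2]
        simp [hn]
      · by_cases h2 : Q = R
        · rw [if_neg h1, if_pos h2]
          simp [hm]
        · rw [if_neg h1, if_neg h2]
          simp
    rw [hE, deg_sub, deg_sub, deg_single, deg_single]
    have hP1 : (1 : ℤ) ≤ P.deg := by exact_mod_cast deg_pos hK P
    have hQ1 : (1 : ℤ) ≤ Q.deg := by exact_mod_cast deg_pos hK Q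
    nlinarith
  have hsum := Submodule.finrank_sup_add_finrank_inf_eq U₁ U₂
  rw [hinf, finrank_bot, add_zero] at hsum
  rw [← hsum]
  exact Submodule.finrank_mono (sup_le inf_le_left inf_le_left)

/-- **S18176**. -/
theorem weight_pair_le (hK : IsFunctionField k K) (d r : ℕ) {D : Divisor k K} (hD : D.deg = d)
    {V : Submodule k K} (hV : V ≤ L D) (hVr : Module.finrank k ↥V = r + 1)
    {P Q : Place k K} (hPQ : P ≠ Q) :
    (∀ n : ℕ, n ≤ d + 1 →
      Module.finrank k ↥(V ⊓ L (D - Finsupp.single P ((n : ℤ)))) +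
        Module.finrank k ↥(V ⊓ L (D - Finsupp.single Q ((d : ℤ) + 1 - n))) ≤ r + 1) ∧
    (∑ n ∈ Finset.range d, Module.finrank k ↥(V ⊓ L (D - Finsupp.single P ((n : ℤ) + 1)))) +
      (∑ n ∈ Finset.range d, Module.finrank k ↥(V ⊓ L (D - Finsupp.single Q ((n : ℤ) + 1)))) ≤
        (r + 1) * d := by
  have h1 : ∀ n : ℕ, n ≤ d + 1 →
      Module.finrank k ↥(V ⊓ L (D - Finsupp.single P ((n : ℤ)))) +
        Module.finrank k ↥(V ⊓ L (D - Finsupp.single Q ((d : ℤ) + 1 - n))) ≤ r + 1 := by
    intro n hn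
    rw [← hVr]
    apply finrank_vanish_add_le hK hV hPQ (Int.natCast_nonneg n)
    · have : (n : ℤ) ≤ d + 1 := by exact_mod_cast hn
      linarith
    · rw [hD]; linarith
  refine ⟨h1, ?_⟩
  rw [← Finset.sum_range_reflect
    (fun n => Module.finrank k ↥(V ⊓ L (D - Finsupp.single Q ((n : ℤ) + 1)))) d,
    ← Finset.sum_add_distrib]
  calc ∑ n ∈ Finset.range d,
        (Module.finrank k ↥(V ⊓ L (D - Finsupp.single P ((n : ℤ) + 1))) +
          Module.finrank k ↥(V ⊓ L (D - Finsupp.single Q (((d - 1 - n : ℕ) : ℤ) + 1))))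
      ≤ ∑ _n ∈ Finset.range d, (r + 1) := by
        apply Finset.sum_le_sum
        intro n hn
        rw [Finset.mem_range] at hn
        have h2 := h1 (n + 1) (by omega)
        have e : ((d - 1 - n : ℕ) : ℤ) + 1 = (d : ℤ) + 1 - ((n + 1 : ℕ) : ℤ) := by
          push_cast [Nat.cast_sub (show n ≤ d - 1 by omega), Nat.cast_sub (show 1 ≤ d by omega)]
          ring
        rw [e]
        push_cast at h2 ⊢
        exact h2
    _ = (r + 1) * d := by
        rw [Finset.sum_const, Finset.card_range, smul_eq_mul, mul_comm]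

/-- **S18173**. -/
theorem vanish_le_of_compatible {KY KZ : Type*} [Field KY] [Algebra k KY] [Field KZ]
    [Algebra k KZ] (hKY : IsFunctionField k KY)
    (d r : ℕ) {DY : Divisor k KY} (hDY : DY.deg = d) {DZ : Divisor k KZ}
    {VY : Submodule k KY} (hVY : VY ≤ L DY) (hVYr : Module.finrank k ↥VY = r + 1)
    {VZ : Submodule k KZ}
    {P : Place k KY} {Q : Place k KZ}
    (hcomp : ∀ n : ℕ, n ≤ d + 1 →
      Module.finrank k ↥(VY ⊓ L (DY - Finsupp.single P ((n : ℤ)))) +
        Module.finrank k ↥(VZ ⊓ L (DZ - Finsupp.single Q ((d : ℤ) + 1 - n))) = r + 1)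
    {P' : Place k KY} (hP' : P' ≠ P) (n : ℕ) :
    Module.finrank k ↥(VY ⊓ L (DY - Finsupp.single P' ((n : ℤ)))) ≤
      Module.finrank k ↥(VZ ⊓ L (DZ - Finsupp.single Q ((n : ℤ)))) := by
  by_cases hn : n ≤ d + 1
  · have h1 := (weight_pair_le hKY d r hDY hVY hVYr hP').1 n hn
    have h2 := hcomp (d + 1 - n) (by omega)
    have e1 : (d : ℤ) + 1 - ((d + 1 - n : ℕ) : ℤ) = n := by
      push_cast [Nat.cast_sub hn]
      ring
    have e2 : ((d + 1 - n : ℕ) : ℤ) = (d : ℤ) + 1 - n := by
      push_cast [Nat.cast_sub hn]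
      ring
    rw [e1, e2] at h2
    omega
  · have hbot : L (DY - Finsupp.single P' ((n : ℤ))) = ⊥ := by
      apply L_eq_bot_of_deg_neg hKY
      rw [deg_sub, deg_single, hDY]
      have hP1 : (1 : ℤ) ≤ P'.deg := by exact_mod_cast deg_pos hKY P'
      have : (d : ℤ) + 1 < n := by exact_mod_cast not_le.1 hn
      nlinarith
    rw [hbot, inf_bot_eq, finrank_bot]
    exact Nat.zero_le _

end Groth.Agent.Lib.Helper88.FF
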