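/-
Function fields of one variable over an algebraically closed field: linear series, cusps, chains.
Author: helper88
-/
import Groth.Agent.Lib.Helper88.FunFldLinSeries
import Groth.Agent.Lib.Helper88.FunFldElliptic
import Mathlib.FieldTheory.IsAlgClosed.Basic
import Mathlib.Algebra.Polynomial.Identities

set_option autoImplicit false

namespace Groth.Agent.Lib.Helper88.FF

open FunFld WithZero

variable {k K : Type*} [Field k] [Field K] [Algebra k K]

/-- Over an algebraically closed constant field every place has degree one. -/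
lemma algebraMap_residue_surjective [IsAlgClosed k] (hK : IsFunctionField k K) (P : Place k K) :
    Function.Surjective (algebraMap k (IsLocalRing.ResidueField P.O)) := by
  have hfd : FiniteDimensional k (IsLocalRing.ResidueField P.O) :=
    finiteDimensional_residueField hK P
  have : Algebra.IsIntegral k (IsLocalRing.ResidueField P.O) :=
    @Algebra.IsIntegral.of_finite k _ _ _ _ hfd
  exact IsAlgClosed.algebraMap_bijective_of_isIntegral.2

lemma deg_eq_one_of_isAlgClosed [IsAlgClosed k] (hK : IsFunctionField k K) (P : Place k K) :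
    P.deg = 1 := by
  unfold Place.deg
  exact Subalgebra.bot_eq_top_iff_finrank_eq_one.1
    ((Algebra.surjective_algebraMap_iff).1 (algebraMap_residue_surjective hK P)).symm

/-- Over an algebraically closed constant field, an element integral at `P` is congruent to a
constant modulo the maximal ideal. -/
lemma exists_val_sub_lt [IsAlgClosed k] (hK : IsFunctionField k K) (P : Place k K) {x : K}
    (hx : P.1 x ≤ 1) : ∃ τ : k, P.1 (x - algebraMap k K τ) < 1 := by
  obtain ⟨τ, hτ⟩ := algebraMap_residue_surjective hK P (IsLocalRing.residue P.O ⟨x, hx⟩)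
  refine ⟨τ, ?_⟩
  have h1 : IsLocalRing.residue P.O (⟨x, hx⟩ - algebraMap k P.O τ) = 0 := by
    rw [map_sub, ← hτ]
    exact sub_eq_zero.2 rfl
  rw [IsLocalRing.residue_eq_zero_iff, Valuation.mem_maximalIdeal_iff] at h1
  exact h1

/-- One step of vanishing cuts the dimension by at most `deg P`. -/
lemma finrank_inf_step_le (hK : IsFunctionField k K) (V : Submodule k K) (A : Divisor k K)
    (P : Place k K) :
    Module.finrank k ↥(V ⊓ L A) ≤ Module.finrank k ↥(V ⊓ L (A - Finsupp.single P 1)) + P.deg := by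
  have hle : A - Finsupp.single P 1 ≤ A := by
    have := le_add_single (A - Finsupp.single P 1) P
    rwa [sub_add_cancel] at this
  have hfdA := finiteDimensional_L hK A
  have hfdA' := finiteDimensional_L hK (A - Finsupp.single P 1)
  have h1 := ell_sub_ell_le hK hle
  rw [deg_sub, deg_single] at h1
  have hfd1 : FiniteDimensional k ↥(V ⊓ L A) := Submodule.finiteDimensional_of_le inf_le_right
  have h2 := Submodule.finrank_sup_add_finrank_inf_eq (V ⊓ L A) (L (A - Finsupp.single P 1))
  have h3 : (V ⊓ L A) ⊓ L (A - Finsupp.single P 1) = V ⊓ L (A - Finsupp.single P 1) := by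
    rw [inf_assoc, inf_eq_right.2 (L_mono hle)]
  have h4 : Module.finrank k ↥((V ⊓ L A) ⊔ L (A - Finsupp.single P 1)) ≤ ell A :=
    Submodule.finrank_mono (sup_le inf_le_right (L_mono hle))
  rw [h3] at h2
  unfold ell at h1 h4
  have : (Module.finrank k ↥(V ⊓ L A) : ℤ) ≤
      Module.finrank k ↥(V ⊓ L (A - Finsupp.single P 1)) + P.deg := by
    have h2' : (Module.finrank k ↥((V ⊓ L A) ⊔ L (A - Finsupp.single P 1)) : ℤ) +
        Module.finrank k ↥(V ⊓ L (A - Finsupp.single P 1)) =
        Module.finrank k ↥(V ⊓ L A) + Module.finrank k ↥(L (A - Finsupp.single P 1)) := by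
      exact_mod_cast h2
    have h4' : (Module.finrank k ↥((V ⊓ L A) ⊔ L (A - Finsupp.single P 1)) : ℤ) ≤
        Module.finrank k ↥(L A) := by exact_mod_cast h4
    linarith
  exact_mod_cast this

/-- An element with trivial divisor is a constant. -/
lemma exists_algebraMap_eq_of_div_eq_zero (hK : IsFunctionField k K) {x : K} (hx : x ≠ 0)
    (h : FunFld.div k x = 0) : ∃ c : k, c ≠ 0 ∧ x = algebraMap k K c := by
  have hmem : x ∈ L (0 : Divisor k K) := by
    rw [mem_L_iff_div hK hx, h, add_zero]
  rw [L_zero_eq hK, Submodule.mem_one] at hmem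
  obtain ⟨c, rfl⟩ := hmem
  refine ⟨c, ?_, rfl⟩
  rintro rfl
  exact hx (map_zero _)

/-- In positive genus, a divisor of degree one has `ℓ ≤ 1` (given a rational place). -/
lemma ell_le_one_of_deg_one (hK : IsFunctionField k K) (hg : 0 < genus k K) {A : Place k K}
    (hA : A.deg = 1) {E : Divisor k K} (hE : E.deg = 1) : ell E ≤ 1 := by
  by_contra hcon
  push Not at hcon
  have hle : E - Finsupp.single A 1 ≤ E := by
    have := le_add_single (E - Finsupp.single A 1) A
    rwa [sub_add_cancel] at this
  have h1 := ell_sub_ell_le hK hle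
  rw [deg_sub, deg_single, hA] at h1
  have h2 : 0 < ell (E - Finsupp.single A 1) := by
    have : (2 : ℤ) ≤ ell E := by exact_mod_cast hcon
    have : (0 : ℤ) < ell (E - Finsupp.single A 1) := by
      simp only [Nat.cast_one, mul_one] at h1
      linarith
    exact_mod_cast this
  obtain ⟨z, hz0, hz⟩ := exists_ne_zero_mem_L hK h2
  rw [mem_L_iff_div hK hz0] at hz
  have hdeg : (FunFld.div k z + (E - Finsupp.single A 1)).deg = 0 := by
    rw [deg_add, deg_div hK, deg_sub, deg_single, hE, hA]; simp
  have h3 := eq_zero_of_nonneg_of_deg_eq_zero hK hz hdeg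
  -- `E + div z = A`
  have h4 : E + FunFld.div k z = Finsupp.single A 1 := by
    have : E + FunFld.div k z = (FunFld.div k z + (E - Finsupp.single A 1)) + Finsupp.single A 1 := by
      abel
    rw [this, h3, zero_add]
  have h5 := ell_add_div hK hz0 E
  rw [h4] at h5
  -- `ℓ(A) ≥ 2` gives a nonconstant element of `L(A)`
  have hfdA := finiteDimensional_L hK (Finsupp.single A 1 : Divisor k K)
  have hlt : Module.finrank k ↥(L (0 : Divisor k K)) <
      Module.finrank k ↥(L (Finsupp.single A 1 : Divisor k K)) := by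
    have := ell_zero hK
    unfold ell at this h5 hcon
    omega
  have hmono : L (0 : Divisor k K) ≤ L (Finsupp.single A 1 : Divisor k K) :=
    L_mono (Finsupp.single_nonneg.2 zero_le_one)
  obtain ⟨x, hxA, hx0⟩ := exists_mem_not_mem_of_finrank_lt hmono hlt
  have hxk : x ∉ Set.range (algebraMap k K) := by
    rintro ⟨c, rfl⟩
    apply hx0
    rw [L_zero_eq hK, Submodule.mem_one]
    exact ⟨c, rfl⟩
  have htr := transcendental_of_not_mem_range hK hxk
  have := genus_eq_zero_of_mem_L_place hK hA htr hxA
  omega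

/-- In genus zero over an algebraically closed field, `P - P'` is principal. -/
lemma exists_div_eq_sub [IsAlgClosed k] (hK : IsFunctionField k K) (hg : genus k K = 0)
    (P P' : Place k K) :
    ∃ t : K, t ≠ 0 ∧ FunFld.div k t = Finsupp.single P 1 - Finsupp.single P' 1 := by
  have hdeg : (Finsupp.single P' 1 - Finsupp.single P 1 : Divisor k K).deg = 0 := by
    rw [deg_sub, deg_single, deg_single, deg_eq_one_of_isAlgClosed hK P,
      deg_eq_one_of_isAlgClosed hK P']
    simp
  have hell := ell_eq_of_le_deg hK (D := Finsupp.single P' 1 - Finsupp.single P 1)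
    (by rw [hdeg, hg]; simp)
  rw [hdeg, hg] at hell
  have hpos : 0 < ell (Finsupp.single P' 1 - Finsupp.single P 1 : Divisor k K) := by
    have : (ell (Finsupp.single P' 1 - Finsupp.single P 1 : Divisor k K) : ℤ) = 1 := by
      simpa using hell
    omega
  obtain ⟨t, ht0, ht⟩ := exists_ne_zero_mem_L hK hpos
  rw [mem_L_iff_div hK ht0] at ht
  have h0 := eq_zero_of_nonneg_of_deg_eq_zero hK ht (by rw [deg_add, deg_div hK, hdeg]; simp)
  refine ⟨t, ht0, ?_⟩
  have : FunFld.div k t = -(Finsupp.single P' 1 - Finsupp.single P 1) :=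
    eq_neg_of_add_eq_zero_left h0
  rw [this]
  abel

/-- Rigidity: in genus zero and characteristic zero, if `div h = n (P - P')` with `n ≥ 1`, then
no nontrivial combination `a + b h` vanishes to order two at a third place. -/
theorem not_val_affine_le [IsAlgClosed k] [CharZero k] (hK : IsFunctionField k K)
    (hg : genus k K = 0) {P P' Q : Place k K} (hPP' : P ≠ P') (hQP : Q ≠ P) (hQP' : Q ≠ P')
    {h : K} (hh0 : h ≠ 0) {n : ℕ} (hn : 1 ≤ n)
    (hdiv : FunFld.div k h = n • (Finsupp.single P 1 - Finsupp.single P' 1))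
    {a b : k} (hab : a ≠ 0 ∨ b ≠ 0) :
    ¬ Q.1 (algebraMap k K a + b • h) ≤ exp (-2 : ℤ) := by
  classical
  intro hle
  obtain ⟨t, ht0, ht⟩ := exists_div_eq_sub hK hg P P'
  have htn0 : t ^ n ≠ 0 := pow_ne_zero n ht0
  have hd0 : FunFld.div k (h * (t ^ n)⁻¹) = 0 := by
    rw [div_mul hK hh0 (inv_ne_zero htn0), div_inv hK, div_pow hK, hdiv, ht]
    abel
  obtain ⟨c, hc0, hc⟩ := exists_algebraMap_eq_of_div_eq_zero hK
    (mul_ne_zero hh0 (inv_ne_zero htn0)) hd0
  have hh : h = algebraMap k K c * t ^ n := by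
    rw [← hc, mul_assoc, inv_mul_cancel₀ htn0, mul_one]
  -- `t` is a unit at `Q`
  have hQt : Q.1 t = 1 := by
    rw [val_eq_exp_neg_ord Q ht0, ← div_apply hK, ht, Finsupp.sub_apply,
      Finsupp.single_eq_of_ne hQP, Finsupp.single_eq_of_ne hQP']
    simp
  obtain ⟨τ, hτ⟩ := exists_val_sub_lt hK Q (le_of_eq hQt)
  have hτ0 : τ ≠ 0 := by
    rintro rfl
    rw [map_zero, sub_zero, hQt] at hτ
    exact lt_irrefl _ hτ
  set s : K := t - algebraMap k K τ with hs
  have hts : t = algebraMap k K τ + s := by rw [hs]; ring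
  have hs0 : s ≠ 0 := by
    intro h0
    have : t = algebraMap k K τ := by rw [hts, h0, add_zero]
    have h1 : FunFld.div k t = 0 := by rw [this, div_algebraMap hK]
    rw [ht] at h1
    have h2 := DFunLike.congr_fun h1 P
    rw [Finsupp.sub_apply, Finsupp.single_eq_same] at h2
    rw [Finsupp.single_eq_of_ne hPP'] at h2
    simp at h2
  -- `s ∈ L(P')`
  have htL : t ∈ L (Finsupp.single P' 1 : Divisor k K) := by
    rw [mem_L_iff_div hK ht0, ht, sub_add_cancel]
    exact Finsupp.single_nonneg.2 zero_le_one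
  have hcL : algebraMap k K τ ∈ L (Finsupp.single P' 1 : Divisor k K) := by
    have h0 : algebraMap k K τ ∈ L (0 : Divisor k K) := by
      rw [L_zero_eq hK, Submodule.mem_one]
      exact ⟨τ, rfl⟩
    exact L_mono (Finsupp.single_nonneg.2 zero_le_one) h0
  have hsL : s ∈ L (Finsupp.single P' 1 : Divisor k K) := Submodule.sub_mem _ htL hcL
  rw [mem_L_iff_div hK hs0] at hsL
  have hords : 1 ≤ Q.ord s := by
    have h1 : Q.1 s ≤ exp (-1 : ℤ) := by
      rw [val_eq_exp_neg_ord Q hs0] at hτ ⊢
      rw [← exp_zero, exp_lt_exp] at hτ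
      rw [exp_le_exp]
      omega
    have := (val_le_exp_iff Q hs0 (-1)).1 h1
    simpa using this
  have hE : (0 : Divisor k K) ≤ FunFld.div k s + Finsupp.single P' 1 - Finsupp.single Q 1 := by
    intro R
    have h1 := hsL R
    rw [Finsupp.sub_apply]
    by_cases hR : R = Q
    · subst hR
      rw [Finsupp.add_apply, div_apply hK, Finsupp.single_eq_of_ne hQP', Finsupp.single_eq_same]
      simp only [Finsupp.coe_zero, Pi.zero_apply]
      omega
    · rw [Finsupp.single_eq_of_ne hR, sub_zero]
      exact h1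
  have hEdeg : (FunFld.div k s + Finsupp.single P' 1 - Finsupp.single Q 1 : Divisor k K).deg = 0 := by
    rw [deg_sub, deg_add, deg_div hK, deg_single, deg_single, deg_eq_one_of_isAlgClosed hK P',
      deg_eq_one_of_isAlgClosed hK Q]
    simp
  have hE0 := eq_zero_of_nonneg_of_deg_eq_zero hK hE hEdeg
  have hords1 : Q.ord s = 1 := by
    have h2 := DFunLike.congr_fun hE0 Q
    rw [Finsupp.sub_apply, Finsupp.add_apply, div_apply hK, Finsupp.single_eq_of_ne hQP',
      Finsupp.single_eq_same] at h2
    simp only [Finsupp.coe_zero, Pi.zero_apply] at h2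
    omega
  have hQs : Q.1 s = exp (-1 : ℤ) := by rw [val_eq_exp_neg_ord Q hs0, hords1]
  -- binomial expansion inside the valuation ring
  have hτO : Q.1 (algebraMap k K τ) ≤ 1 := val_algebraMap_le Q τ
  have hsO : Q.1 s ≤ 1 := by rw [hQs, ← exp_zero, exp_le_exp]; norm_num
  obtain ⟨w, hw⟩ := Polynomial.binomExpansion (Polynomial.X ^ n : Polynomial Q.O)
    ⟨algebraMap k K τ, hτO⟩ ⟨s, hsO⟩
  have hw' := congrArg (Subtype.val : Q.O → K) hw
  simp only [Polynomial.eval_pow, Polynomial.eval_X, Polynomial.derivative_X_pow,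
    Polynomial.eval_mul, Polynomial.eval_C] at hw'
  push_cast at hw'
  have hu : algebraMap k K a + b • h = algebraMap k K (a + b * c * τ ^ n) +
      (algebraMap k K (b * c * n * τ ^ (n - 1)) * s + algebraMap k K (b * c) * w * s ^ 2) := by
    rw [Algebra.smul_def, hh, hts, hw']
    simp only [map_add, map_mul, map_pow, map_natCast]
    ring
  have hw1 : Q.1 (w : K) ≤ 1 := w.2
  have hs2 : Q.1 (s ^ 2) = exp (-2 : ℤ) := by
    rw [map_pow, hQs, pow_two, ← exp_add]; norm_num
  have hr2 : Q.1 (algebraMap k K (b * c) * w * s ^ 2) ≤ exp (-2 : ℤ) := by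
    rw [map_mul, map_mul, hs2]
    calc Q.1 (algebraMap k K (b * c)) * Q.1 (w : K) * exp (-2 : ℤ)
        ≤ 1 * 1 * exp (-2 : ℤ) :=
          mul_le_mul' (mul_le_mul' (val_algebraMap_le Q _) hw1) le_rfl
      _ = exp (-2 : ℤ) := by simp
  have hr1 : Q.1 (algebraMap k K (b * c * n * τ ^ (n - 1)) * s) ≤ exp (-1 : ℤ) := by
    rw [map_mul, hQs]
    calc Q.1 (algebraMap k K (b * c * n * τ ^ (n - 1))) * exp (-1 : ℤ)
        ≤ 1 * exp (-1 : ℤ) := mul_le_mul' (val_algebraMap_le Q _) le_rfl
      _ = exp (-1 : ℤ) := one_mul _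
  have h21 : exp (-2 : ℤ) < (exp (-1 : ℤ) : WithZero (Multiplicative ℤ)) := by
    rw [exp_lt_exp]; norm_num
  have h10 : exp (-1 : ℤ) < (1 : WithZero (Multiplicative ℤ)) := by
    rw [← exp_zero, exp_lt_exp]; norm_num
  have ha0 : a + b * c * τ ^ n = 0 := by
    by_contra hne
    have hrest : Q.1 (algebraMap k K (b * c * n * τ ^ (n - 1)) * s +
        algebraMap k K (b * c) * w * s ^ 2) < 1 :=
      lt_of_le_of_lt (Q.1.map_add_le hr1 (hr2.trans h21.le)) h10
    have : Q.1 (algebraMap k K a + b • h) = 1 := by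
      rw [hu, Valuation.map_add_eq_of_lt_left _ (by rw [val_algebraMap Q hne]; exact hrest),
        val_algebraMap Q hne]
    rw [this] at hle
    exact absurd hle (not_le.2 (h21.trans h10))
  have ha1 : b * c * n * τ ^ (n - 1) = 0 := by
    by_contra hne
    have h1 : Q.1 (algebraMap k K (b * c * n * τ ^ (n - 1)) * s) = exp (-1 : ℤ) := by
      rw [map_mul, val_algebraMap Q hne, one_mul, hQs]
    have : Q.1 (algebraMap k K a + b • h) = exp (-1 : ℤ) := by
      rw [hu, ha0, map_zero, zero_add,
        Valuation.map_add_eq_of_lt_left _ (by rw [h1]; exact lt_of_le_of_lt hr2 h21), h1]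
    rw [this] at hle
    exact absurd hle (not_le.2 h21)
  have hb : b = 0 := by
    have hn0 : (n : k) ≠ 0 := Nat.cast_ne_zero.2 (by omega)
    have hτn : τ ^ (n - 1) ≠ 0 := pow_ne_zero _ hτ0
    by_contra hb
    exact (mul_ne_zero (mul_ne_zero (mul_ne_zero hb hc0) hn0) hτn) ha1
  have ha : a = 0 := by rw [hb] at ha0; simpa using ha0
  rcases hab with h | h
  · exact h ha
  · exact h hb

/-- A hyperplane `V₂` of `V` meets the span of any two members nontrivially. -/
lemma exists_comb_mem_of_codim_le_one {M : Type*} [AddCommGroup M] [Module k M]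
    {V V₂ : Submodule k M} [FiniteDimensional k V] (hle : V₂ ≤ V) {r : ℕ}
    (hV : Module.finrank k V = r + 1) (hV₂ : r ≤ Module.finrank k V₂) {f g : M} (hf : f ∈ V)
    (hg : g ∈ V) : ∃ a b : k, (a ≠ 0 ∨ b ≠ 0) ∧ a • f + b • g ∈ V₂ := by
  by_cases hfV : f ∈ V₂
  · exact ⟨1, 0, Or.inl one_ne_zero, by simpa using hfV⟩
  · have hlt : V₂ < V₂ ⊔ Submodule.span k {f} := by
      refine lt_of_le_of_ne le_sup_left ?_
      intro heq
      apply hfV
      rw [heq]
      exact Submodule.mem_sup_right (Submodule.mem_span_singleton_self f)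
    have hle2 : V₂ ⊔ Submodule.span k {f} ≤ V :=
      sup_le hle ((Submodule.span_singleton_le_iff_mem f V).2 hf)
    have hfd2 : FiniteDimensional k ↥(V₂ ⊔ Submodule.span k {f}) :=
      Submodule.finiteDimensional_of_le hle2
    have h1 := Submodule.finrank_lt_finrank_of_lt hlt
    have h2 : V₂ ⊔ Submodule.span k {f} = V := by
      apply Submodule.eq_of_le_of_finrank_le hle2
      omega
    rw [← h2] at hg
    obtain ⟨v, hv, w, hw, hvw⟩ := Submodule.mem_sup.1 hg
    obtain ⟨a, rfl⟩ := Submodule.mem_span_singleton.1 hw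
    refine ⟨-a, 1, Or.inr one_ne_zero, ?_⟩
    have : -a • f + (1 : k) • g = v := by
      rw [← hvw, one_smul, neg_smul]
      abel
    rw [this]
    exact hv

/-- **S18175**: on a genus-zero curve, a linear series with a cusp at `Q` has at most one member
(up to scalars) whose divisor is supported on two given places other than `Q`. -/
theorem eq_smul_of_cusp [IsAlgClosed k] [CharZero k] (hK : IsFunctionField k K)
    (hg0 : genus k K = 0) (r : ℕ) {D : Divisor k K}
    {V : Submodule k K} (hV : V ≤ L D) (hVr : Module.finrank k ↥V = r + 1)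
    {Q : Place k K} (hcusp : r ≤ Module.finrank k ↥(V ⊓ L (D - Finsupp.single Q ((2 : ℤ)))))
    {P P' : Place k K} (hP : P ≠ Q) (hP' : P' ≠ Q)
    {f g : K} (hf : f ∈ V) (hg : g ∈ V) (hf0 : f ≠ 0) (hg0' : g ≠ 0)
    (hfs : ∀ R : Place k K, R ≠ P → R ≠ P' → (FunFld.div k f + D) R = 0)
    (hgs : ∀ R : Place k K, R ≠ P → R ≠ P' → (FunFld.div k g + D) R = 0) :
    ∃ c : k, g = c • f := by
  classical
  by_contra hno
  push Not at hno
  have hfd := finiteDimensional_of_le_L hK hV
  set h : K := g * f⁻¹ with hh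
  have hh0 : h ≠ 0 := mul_ne_zero hg0' (inv_ne_zero hf0)
  have hgh : g = h * f := by rw [hh, mul_assoc, inv_mul_cancel₀ hf0, mul_one]
  have hdivh : FunFld.div k h = FunFld.div k g - FunFld.div k f := by
    rw [hh, div_mul hK hg0' (inv_ne_zero hf0), div_inv hK, sub_eq_add_neg]
  have hsupp : ∀ R : Place k K, R ≠ P → R ≠ P' → (FunFld.div k h) R = 0 := by
    intro R h1 h2
    have e1 := hfs R h1 h2
    have e2 := hgs R h1 h2
    rw [Finsupp.add_apply] at e1 e2
    rw [hdivh, Finsupp.sub_apply]
    omega
  have hdne : FunFld.div k h ≠ 0 := by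
    intro h0
    obtain ⟨c, -, hc⟩ := exists_algebraMap_eq_of_div_eq_zero hK hh0 h0
    apply hno c
    rw [hgh, hc, Algebra.smul_def]
  have hdegh := deg_div hK h
  have hPP' : P ≠ P' := by
    rintro rfl
    have e : FunFld.div k h = Finsupp.single P ((FunFld.div k h) P) := by
      ext R
      by_cases hR : R = P
      · subst hR; rw [Finsupp.single_eq_same]
      · rw [Finsupp.single_eq_of_ne hR, hsupp R hR hR]
    rw [e, deg_single, deg_eq_one_of_isAlgClosed hK P] at hdegh
    apply hdne
    rw [e]
    have : (FunFld.div k h) P = 0 := by simpa using hdegh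
    rw [this, Finsupp.single_zero]
  have e : FunFld.div k h = Finsupp.single P ((FunFld.div k h) P) +
      Finsupp.single P' ((FunFld.div k h) P') := by
    ext R
    rw [Finsupp.add_apply]
    by_cases hR : R = P
    · subst hR
      rw [Finsupp.single_eq_same, Finsupp.single_eq_of_ne hPP', add_zero]
    · by_cases hR' : R = P'
      · subst hR'
        rw [Finsupp.single_eq_same, Finsupp.single_eq_of_ne hR, zero_add]
      · rw [Finsupp.single_eq_of_ne hR, Finsupp.single_eq_of_ne hR', hsupp R hR hR', add_zero]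
  have hsum : (FunFld.div k h) P + (FunFld.div k h) P' = 0 := by
    rw [e, deg_add, deg_single, deg_single, deg_eq_one_of_isAlgClosed hK P,
      deg_eq_one_of_isAlgClosed hK P'] at hdegh
    simpa using hdegh
  have hm0 : (FunFld.div k h) P ≠ 0 := by
    intro h0
    apply hdne
    rw [e]
    have : (FunFld.div k h) P' = 0 := by omega
    rw [h0, this, Finsupp.single_zero, Finsupp.single_zero, add_zero]
  -- the cusp gives a combination vanishing doubly at `Q`
  obtain ⟨a, b, hab, hmem⟩ := exists_comb_mem_of_codim_le_one (k := k)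
    (V := V) (V₂ := V ⊓ L (D - Finsupp.single Q ((2 : ℤ)))) inf_le_left hVr hcusp hf hg
  have hmemL := hmem.2 Q
  rw [Finsupp.sub_apply, Finsupp.single_eq_same] at hmemL
  have hu : a • f + b • g = f * (algebraMap k K a + b • h) := by
    rw [hgh, Algebra.smul_def, Algebra.smul_def, Algebra.smul_def]
    ring
  have hfQ : Q.1 f = exp (D Q) := by
    have := hfs Q hP.symm hP'.symm
    rw [Finsupp.add_apply, div_apply hK] at this
    rw [val_eq_exp_neg_ord Q hf0]
    congr 1
    omega
  have hval : Q.1 (algebraMap k K a + b • h) ≤ exp (-2 : ℤ) := by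
    rw [hu, map_mul, hfQ] at hmemL
    have h1 := mul_le_mul' (le_refl (exp (-(D Q)) : WithZero (Multiplicative ℤ))) hmemL
    rw [← mul_assoc, ← exp_add, ← exp_add] at h1
    have e1 : -(D Q) + D Q = 0 := by ring
    have e2 : -(D Q) + (D Q - 2) = -2 := by ring
    rw [e1, e2, exp_zero, one_mul] at h1
    exact h1
  rcases lt_or_gt_of_ne hm0 with hneg | hpos
  · -- `div h = n (P' - P)`
    have hn : 1 ≤ (-(FunFld.div k h) P).toNat := by omega
    refine not_val_affine_le hK hg0 hPP'.symm hP'.symm hP.symm hh0 hn ?_ hab hval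
    ext R
    rw [Finsupp.smul_apply, Finsupp.sub_apply]
    have hcast : (((-(FunFld.div k h) P).toNat : ℕ) : ℤ) = -(FunFld.div k h) P :=
      Int.toNat_of_nonneg (by omega)
    by_cases hR : R = P
    · subst hR
      rw [Finsupp.single_eq_same, Finsupp.single_eq_of_ne hPP']
      simp only [nsmul_eq_mul, hcast]
      ring
    · by_cases hR' : R = P'
      · subst hR'
        rw [Finsupp.single_eq_same, Finsupp.single_eq_of_ne hR]
        simp only [nsmul_eq_mul, hcast]
        omega
      · rw [Finsupp.single_eq_of_ne hR, Finsupp.single_eq_of_ne hR', hsupp R hR hR']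
        simp
  · have hn : 1 ≤ ((FunFld.div k h) P).toNat := by omega
    refine not_val_affine_le hK hg0 hPP' hP.symm hP'.symm hh0 hn ?_ hab hval
    ext R
    rw [Finsupp.smul_apply, Finsupp.sub_apply]
    have hcast : ((((FunFld.div k h) P).toNat : ℕ) : ℤ) = (FunFld.div k h) P :=
      Int.toNat_of_nonneg (by omega)
    by_cases hR : R = P
    · subst hR
      rw [Finsupp.single_eq_same, Finsupp.single_eq_of_ne hPP']
      simp only [nsmul_eq_mul, hcast]
      ring
    · by_cases hR' : R = P'
      · subst hR'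
        rw [Finsupp.single_eq_same, Finsupp.single_eq_of_ne hR]
        simp only [nsmul_eq_mul, hcast]
        omega
      · rw [Finsupp.single_eq_of_ne hR, Finsupp.single_eq_of_ne hR', hsupp R hR hR']
        simp

end Groth.Agent.Lib.Helper88.FF
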