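/-
Derivations of a function field of one variable over its constant field:
existence of a nonzero `k`-derivation `K → K`, and (characteristic zero) its field of
constants is `k`.
Author: helper88
-/
import Groth.Agent.Lib.Helper88.FunFldTransc
import Groth.Agent.Lib.Helper88.FunFldZeros
import Mathlib.RingTheory.Unramified.Field
import Mathlib.RingTheory.Kaehler.Basic
import Mathlib.RingTheory.Derivation.MapCoeffs
import Mathlib.FieldTheory.IntermediateField.Adjoin.Algebra
import Mathlib.FieldTheory.Perfect

set_option autoImplicit false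
set_option linter.unusedSectionVars false

namespace Groth.Agent.Lib.Helper88.FF

open FunFld WithZero

variable {k K : Type*} [Field k] [Field K] [Algebra k K]

/-- A function field of one variable is essentially of finite type over its constants. -/
lemma essFiniteType_of_isFunctionField (hK : IsFunctionField k K) : Algebra.EssFiniteType k K := by
  obtain ⟨⟨x, hx, hfin⟩, -⟩ := hK
  have h1 : Algebra.EssFiniteType k (IntermediateField.adjoin k ({x} : Set K)) := by
    rw [IntermediateField.essFiniteType_iff]
    exact IntermediateField.fg_adjoin_of_finite (Set.finite_singleton x)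
  have h2 : Algebra.EssFiniteType (IntermediateField.adjoin k ({x} : Set K)) K := inferInstance
  exact Algebra.EssFiniteType.comp k (IntermediateField.adjoin k ({x} : Set K)) K

/-- A function field of one variable is not formally unramified over its constants. -/
lemma not_subsingleton_kaehler (hK : IsFunctionField k K) : ¬ Subsingleton (Ω[K⁄k]) := by
  intro hsub
  have hE := essFiniteType_of_isFunctionField hK
  have hU : Algebra.FormallyUnramified k K := ⟨hsub⟩
  have hsep : Algebra.IsSeparable k K := Algebra.FormallyUnramified.isSeparable k K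
  obtain ⟨⟨x, hx, -⟩, -⟩ := hK
  exact hx (Algebra.IsSeparable.isSeparable k x).isIntegral.isAlgebraic

/-- **Existence of a nonzero derivation.** -/
theorem exists_derivation_ne_zero (hK : IsFunctionField k K) :
    ∃ D : Derivation k K K, D ≠ 0 := by
  classical
  have hns := not_subsingleton_kaehler hK
  rw [not_subsingleton_iff_nontrivial] at hns
  obtain ⟨ω, hω⟩ := exists_ne (0 : Ω[K⁄k])
  obtain ⟨ℓ, hℓ⟩ : ∃ ℓ : Ω[K⁄k] →ₗ[K] K, ℓ ω ≠ 0 := by
    by_contra hcon
    push Not at hcon
    exact hω ((Module.forall_dual_apply_eq_zero_iff K ω).1 hcon)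
  refine ⟨ℓ.compDer (KaehlerDifferential.D k K), ?_⟩
  intro h0
  apply hℓ
  have hspan := KaehlerDifferential.span_range_derivation k K
  have hmem : ω ∈ Submodule.span K (Set.range (KaehlerDifferential.D k K)) := by
    rw [hspan]; trivial
  refine Submodule.span_induction ?_ ?_ ?_ ?_ hmem
  · rintro _ ⟨z, rfl⟩
    have := DFunLike.congr_fun h0 z
    simpa using this
  · simp
  · intro a b _ _ ha hb
    rw [map_add, ha, hb, add_zero]
  · intro c a _ ha
    rw [map_smul, ha, smul_zero]

/-- A `k`-derivation killing `z` kills `k(z)`. -/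
lemma derivation_eq_zero_on_adjoin (D : Derivation k K K) {z : K} (hDz : D z = 0) :
    ∀ w ∈ IntermediateField.adjoin k ({z} : Set K), D w = 0 := by
  intro w hw
  induction hw using IntermediateField.adjoin_induction with
  | mem x hx =>
    rw [Set.mem_singleton_iff] at hx
    rw [hx, hDz]
  | algebraMap c => exact D.map_algebraMap c
  | add x y _ _ hx hy => rw [map_add, hx, hy, add_zero]
  | inv x _ hx => rw [Derivation.leibniz_inv, hx, smul_zero]
  | mul x y _ _ hx hy => rw [D.leibniz, hx, hy, smul_zero, smul_zero, add_zero]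

/-- **Constants.** In characteristic zero a `k`-derivation of a function field of one variable
that kills a transcendental element is zero. -/
theorem derivation_eq_zero_of_transcendental [CharZero k] (hK : IsFunctionField k K)
    (D : Derivation k K K) {z : K} (hz : Transcendental k z) (hDz : D z = 0) : D = 0 := by
  classical
  set F := IntermediateField.adjoin k ({z} : Set K) with hF
  have hfin : FiniteDimensional F K := finiteDimensional_adjoin_of_transcendental hK hz
  have hchar : CharZero F := charZero_of_injective_algebraMap (algebraMap k F).injective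
  have hsep : Algebra.IsSeparable F K := Algebra.IsAlgebraic.isSeparable_of_perfectField
  have hU : Algebra.FormallyUnramified F K := Algebra.FormallyUnramified.of_isSeparable F K
  have hvan := derivation_eq_zero_on_adjoin D hDz
  -- `D` as an `F`-derivation
  let D' : Derivation F K K :=
    { toFun := D
      map_add' := fun a b => map_add D a b
      map_smul' := fun c w => by
        simp only [RingHom.id_apply]
        have hc : D ((algebraMap F K) c) = 0 := hvan _ c.2
        rw [Algebra.smul_def, D.leibniz, hc, smul_zero, add_zero, Algebra.smul_def]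
        rfl
      map_one_eq_zero' := D.map_one_eq_zero
      leibniz' := fun a b => D.leibniz a b }
  have hD' : D' = 0 := by
    rw [← Derivation.liftKaehlerDifferential_comp D']
    have : D'.liftKaehlerDifferential = 0 := by
      apply LinearMap.ext
      intro ω
      rw [Subsingleton.elim ω 0, map_zero, map_zero]
    rw [this]
    ext w
    simp
  ext w
  have := DFunLike.congr_fun hD' w
  simpa [D'] using this

/-- In characteristic zero the constants of a nonzero derivation are exactly `k`. -/
theorem derivation_constants [CharZero k] (hK : IsFunctionField k K)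
    {D : Derivation k K K} (hD : D ≠ 0) {z : K} (hDz : D z = 0) :
    z ∈ Set.range (algebraMap k K) := by
  by_contra hz
  exact hD (derivation_eq_zero_of_transcendental hK D (transcendental_of_not_mem_range hK hz) hDz)

/-! ### Good places of a derivation -/

/-- The derivation `D` preserves the valuation ring of the place `Q`. -/
def IsGoodAt (D : Derivation k K K) (Q : Place k K) : Prop :=
  ∀ z : K, Q.1 z ≤ 1 → Q.1 (D z) ≤ 1

lemma val_natCast_le (Q : Place k K) (n : ℕ) : Q.1 (n : K) ≤ 1 := by
  have : (n : K) = algebraMap k K (n : k) := by simp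
  rw [this]
  exact Q.2.1 _

/-- At a good place, differentiation lowers the order of vanishing by at most one. -/
lemma IsGoodAt.val_le {D : Derivation k K K} {Q : Place k K} (hgood : IsGoodAt D Q) (n : ℕ)
    {z : K} (hz : Q.1 z ≤ exp (-((n : ℤ) + 1))) : Q.1 (D z) ≤ exp (-(n : ℤ)) := by
  obtain ⟨t, ht⟩ := exists_uniformizer Q
  have ht0 : t ≠ 0 := by
    rintro rfl
    rw [map_zero] at ht
    exact exp_ne_zero ht.symm
  set w : K := z * (t ^ (n + 1))⁻¹ with hw
  have hzw : z = t ^ (n + 1) * w := by
    rw [hw]; field_simp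
  have hwv : Q.1 w ≤ 1 := by
    rw [hw, map_mul, map_inv₀, map_pow, ht, ← exp_nsmul, ← exp_neg]
    calc Q.1 z * exp (-((n + 1) • (-1 : ℤ))) ≤ exp (-((n : ℤ) + 1)) * exp (-((n + 1) • (-1 : ℤ))) :=
          mul_le_mul' hz le_rfl
      _ = 1 := by
          rw [← exp_add, ← exp_zero]
          congr 1
          simp
  have hDt : Q.1 (D t) ≤ 1 := hgood t (by rw [ht]; exact exp_le_exp.2 (by norm_num) |>.trans_eq exp_zero)
  have hDw : Q.1 (D w) ≤ 1 := hgood w hwv
  have hD : D z = ((n + 1 : ℕ) : K) * t ^ n * D t * w + t ^ (n + 1) * D w := by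
    rw [hzw, D.leibniz, D.leibniz_pow]
    simp only [smul_eq_mul, Nat.add_sub_cancel, nsmul_eq_mul]
    ring
  rw [hD]
  refine (Q.1.map_add _ _).trans (max_le ?_ ?_)
  · rw [map_mul, map_mul, map_mul, map_pow, ht, ← exp_nsmul]
    calc Q.1 ((n + 1 : ℕ) : K) * exp (n • (-1 : ℤ)) * Q.1 (D t) * Q.1 w
        ≤ 1 * exp (n • (-1 : ℤ)) * 1 * 1 :=
          mul_le_mul' (mul_le_mul' (mul_le_mul' (val_natCast_le Q _) le_rfl) hDt) hwv
      _ = exp (-(n : ℤ)) := by simp
  · rw [map_mul, map_pow, ht, ← exp_nsmul]
    calc exp ((n + 1) • (-1 : ℤ)) * Q.1 (D w) ≤ exp ((n + 1) • (-1 : ℤ)) * 1 :=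
          mul_le_mul' le_rfl hDw
      _ ≤ exp (-(n : ℤ)) := by
          rw [mul_one]
          exact exp_le_exp.2 (by simp)

/-- Criterion for goodness: `O_Q` is a localisation of a `D`-stable subalgebra contained in it. -/
lemma isGoodAt_of_subalgebra {D : Derivation k K K} {Q : Place k K} (R : Subalgebra k K)
    (hDR : ∀ z ∈ R, D z ∈ R) (hRQ : ∀ z ∈ R, Q.1 z ≤ 1)
    (hloc : ∀ z : K, Q.1 z ≤ 1 → ∃ b ∈ R, Q.1 b = 1 ∧ b * z ∈ R) : IsGoodAt D Q := by
  intro z hz
  obtain ⟨b, hbR, hb1, hbz⟩ := hloc z hz
  have hb0 : b ≠ 0 := by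
    rintro rfl
    simp at hb1
  have h1 : D (b * z) = b * D z + z * D b := by
    rw [D.leibniz]; simp [smul_eq_mul]
  have h2 : D z = (D (b * z) - z * D b) * b⁻¹ := by
    rw [h1]; field_simp; ring
  rw [h2, map_mul, map_inv₀, hb1, inv_one, mul_one]
  refine (Q.1.map_sub _ _).trans (max_le (hRQ _ (hDR _ hbz)) ?_)
  rw [map_mul]
  calc Q.1 z * Q.1 (D b) ≤ 1 * 1 := mul_le_mul' hz (hRQ _ (hDR _ hbR))
    _ = 1 := one_mul 1

/-- **Finiteness of ramification points of a linear system** (characteristic zero). Let `D` be a
nonzero derivation, `S` a set of good places for `D`, `V` a `k`-subspace of dimension `m` of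
functions regular on `S`. Then only finitely many places of `S` carry a nonzero member of `V`
vanishing to order at least `m`. -/
theorem finite_ramification [CharZero k] (hK : IsFunctionField k K) {D : Derivation k K K}
    (hD : D ≠ 0) (S : Set (Place k K)) (hgood : ∀ Q ∈ S, IsGoodAt D Q) :
    ∀ (m : ℕ) (V : Submodule k K), FiniteDimensional k V → Module.finrank k V = m →
      (∀ f ∈ V, ∀ Q ∈ S, Q.1 f ≤ 1) →
      {Q : Place k K | Q ∈ S ∧ ∃ f ∈ V, f ≠ 0 ∧ Q.1 f ≤ exp (-(m : ℤ))}.Finite := by
  classical
  intro m
  induction m with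
  | zero =>
    intro V hfd hV _
    have hbot : V = ⊥ := Submodule.finrank_eq_zero.1 hV
    convert Set.finite_empty
    ext Q
    simp only [Set.mem_ofPred_eq, Set.mem_empty_iff_false, iff_false, not_and, not_exists]
    intro _ f hf hf0
    rw [hbot, Submodule.mem_bot] at hf
    exact absurd hf hf0
  | succ m ih =>
    intro V hfd hV hreg
    -- a nonzero member
    have hne : V ≠ ⊥ := by
      intro h
      rw [h, finrank_bot] at hV
      omega
    obtain ⟨f₁, hf₁V, hf₁0⟩ := Submodule.exists_mem_ne_zero_of_ne_bot hne
    -- the derived system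
    let Ψ : V →ₗ[k] K :=
      { toFun := fun f => f₁ * D f.1 - f.1 * D f₁
        map_add' := fun a b => by
          simp only [Submodule.coe_add, map_add]; ring
        map_smul' := fun c a => by
          simp only [Submodule.coe_smul, RingHom.id_apply]
          rw [D.map_smul]
          simp only [Algebra.smul_def]
          ring }
    have hΨ : ∀ f : V, Ψ f = f₁ * D f.1 - f.1 * D f₁ := fun _ => rfl
    have hker : ∀ f : V, Ψ f = 0 → ∃ c : k, f.1 = c • f₁ := by
      intro f hf
      have hdq : D (f.1 / f₁) = 0 := by
        rw [Derivation.leibniz_div]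
        rw [hΨ] at hf
        simp only [smul_eq_mul]
        rw [hf, mul_zero]
      obtain ⟨c, hc⟩ := derivation_constants hK hD hdq
      refine ⟨c, ?_⟩
      rw [Algebra.smul_def, hc]
      field_simp
    have hkerdim : Module.finrank k (LinearMap.ker Ψ) = 1 := by
      have hmem : (⟨f₁, hf₁V⟩ : V) ∈ LinearMap.ker Ψ := by
        rw [LinearMap.mem_ker, hΨ]; ring
      have hspan : LinearMap.ker Ψ = Submodule.span k {(⟨f₁, hf₁V⟩ : V)} := by
        apply le_antisymm
        · intro f hf
          obtain ⟨c, hc⟩ := hker f (LinearMap.mem_ker.1 hf)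
          rw [Submodule.mem_span_singleton]
          exact ⟨c, Subtype.ext (by simpa using hc.symm)⟩
        · rw [Submodule.span_singleton_le_iff_mem]
          exact hmem
      rw [hspan]
      exact finrank_span_singleton (by
        intro h
        exact hf₁0 (congrArg Subtype.val h))
    have hrange : Module.finrank k (LinearMap.range Ψ) = m := by
      have := LinearMap.finrank_range_add_finrank_ker Ψ
      rw [hkerdim, hV] at this
      omega
    have hregV' : ∀ g ∈ LinearMap.range Ψ, ∀ Q ∈ S, Q.1 g ≤ 1 := by
      rintro _ ⟨f, rfl⟩ Q hQ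
      rw [hΨ]
      refine (Q.1.map_sub _ _).trans (max_le ?_ ?_)
      · rw [map_mul]
        calc Q.1 f₁ * Q.1 (D f.1) ≤ 1 * 1 :=
              mul_le_mul' (hreg _ hf₁V Q hQ) (hgood Q hQ _ (hreg _ f.2 Q hQ))
          _ = 1 := one_mul 1
      · rw [map_mul]
        calc Q.1 f.1 * Q.1 (D f₁) ≤ 1 * 1 :=
              mul_le_mul' (hreg _ f.2 Q hQ) (hgood Q hQ _ (hreg _ hf₁V Q hQ))
          _ = 1 := one_mul 1
    have ih' := ih (LinearMap.range Ψ) inferInstance hrange hregV'
    -- zeros of `f₁`
    have hzeros : {Q : Place k K | Q.1 f₁ < 1}.Finite := by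
      refine (finite_support_ord hK f₁).subset ?_
      intro Q hQ
      rw [Function.mem_support]
      have := (val_lt_one_iff Q hf₁0).1 hQ
      omega
    refine (ih'.union hzeros).subset ?_
    rintro Q ⟨hQS, f, hfV, hf0, hfQ⟩
    by_cases hz : Q.1 f₁ < 1
    · exact Or.inr hz
    · left
      have hf₁Q : Q.1 f₁ = 1 := le_antisymm (hreg _ hf₁V Q hQS) (not_lt.1 hz)
      refine ⟨hQS, Ψ ⟨f, hfV⟩, ⟨⟨f, hfV⟩, rfl⟩, ?_, ?_⟩
      · intro h0
        obtain ⟨c, hc⟩ := hker _ h0
        simp only at hc
        have hc0 : c ≠ 0 := by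
          rintro rfl
          rw [zero_smul] at hc
          exact hf0 hc
        rw [hc, val_smul Q hc0, hf₁Q] at hfQ
        have : (1 : ℤᵐ⁰) = exp 0 := exp_zero.symm
        rw [this, exp_le_exp] at hfQ
        omega
      · rw [hΨ]
        simp only
        refine (Q.1.map_sub _ _).trans (max_le ?_ ?_)
        · rw [map_mul, hf₁Q, one_mul]
          exact (hgood Q hQS).val_le m (by
            convert hfQ using 2
            push_cast; ring)
        · rw [map_mul]
          calc Q.1 f * Q.1 (D f₁) ≤ exp (-((m + 1 : ℕ) : ℤ)) * 1 :=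
                mul_le_mul' hfQ (hgood Q hQS _ (hreg _ hf₁V Q hQS))
            _ ≤ exp (-(m : ℤ)) := by
                rw [mul_one]
                exact exp_le_exp.2 (by push_cast; omega)

end Groth.Agent.Lib.Helper88.FF
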