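/-
Separating elements of geometric function fields of one variable, and the one-dimensionality of
the space of derivations.
Author: helper88
-/
import Groth.Agent.Lib.Helper88.FunFldDeriv
import Mathlib.FieldTheory.SeparablyGenerated
import Mathlib.RingTheory.Flat.Basic
import Mathlib.FieldTheory.IsAlgClosed.AlgebraicClosure
import Mathlib.Algebra.CharP.Lemmas

set_option autoImplicit false
set_option linter.unusedSectionVars false
set_option linter.style.haveILetI false

namespace Groth.Agent.Lib.Helper88.FF
open FunFld

universe u v
variable {k : Type u} {K : Type v} [Field k] [Field K] [Algebra k K]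

open TensorProduct in
lemma pow_indep_aux {k' : Type*} [Field k'] [Algebra k k'] (hR : IsField (k' ⊗[k] K))
    (p : ℕ) (hp : p.Prime) [CharP k p] {ι : Type*} [Fintype ι] (v : ι → K)
    (hv : LinearIndependent k v) (g : ι → k) (d' : ι → k')
    (hd' : ∀ x, d' x ^ p = algebraMap k k' (g x)) (hsum : ∑ x, g x • v x ^ p = 0) :
    ∀ x, g x = 0 := by
  classical
  have : IsDomain (k' ⊗[k] K) := hR.isDomain
  have : CharP (k' ⊗[k] K) p :=
    charP_of_injective_algebraMap (algebraMap k (k' ⊗[k] K)).injective p
  have : ExpChar (k' ⊗[k] K) p := ExpChar.prime hp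
  set z : k' ⊗[k] K := ∑ x, d' x ⊗ₜ[k] v x with hz
  have hzp : z ^ p = 0 := by
    rw [hz, sum_pow_char p]
    have : ∀ x, (d' x ⊗ₜ[k] v x) ^ p = (1 : k') ⊗ₜ[k] (g x • v x ^ p) := by
      intro x
      rw [Algebra.TensorProduct.tmul_pow, hd', Algebra.algebraMap_eq_smul_one, smul_tmul]
    rw [Finset.sum_congr rfl (fun x _ => this x), ← tmul_sum, hsum, tmul_zero]
  have hz0 : z = 0 := (pow_eq_zero_iff hp.ne_zero).1 hzp
  have hli : LinearIndependent k' (fun x => (1 : k') ⊗ₜ[k] v x) :=
    Module.Flat.linearIndependent_one_tmul hv
  rw [Fintype.linearIndependent_iff] at hli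
  have hsum' : ∑ x, d' x • ((1 : k') ⊗ₜ[k] v x) = 0 := by
    rw [← hz0, hz]
    apply Finset.sum_congr rfl
    intro x _
    rw [TensorProduct.smul_tmul', smul_eq_mul, mul_one]
  intro x
  have h1 := hli d' hsum' x
  have h2 := hd' x
  rw [h1, zero_pow hp.ne_zero] at h2
  exact (map_eq_zero (algebraMap k k')).1 h2.symm

theorem linearIndepOn_pow_of_isGeometric (hg : IsGeometric k K) (p : ℕ) (hp : p.Prime)
    [CharP k p] (s : Finset K) (hs : LinearIndepOn k id (s : Set K)) :
    LinearIndepOn k (· ^ p) (s : Set K) := by
  classical
  unfold LinearIndepOn at hs ⊢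
  rw [Fintype.linearIndependent_iff]
  intro g hgs
  -- p-th roots in the algebraic closure
  have hroot : ∀ c : k, ∃ z : AlgebraicClosure k, z ^ p = algebraMap k (AlgebraicClosure k) c :=
    fun c => IsAlgClosed.exists_pow_nat_eq _ hp.pos
  choose d hd using hroot
  let T : Set (AlgebraicClosure k) := Set.range fun x : {x // x ∈ (s : Set K)} => d (g x)
  have hTfin : T.Finite := Set.finite_range _
  let k' : IntermediateField k (AlgebraicClosure k) := IntermediateField.adjoin k T
  have hfd : FiniteDimensional k k' := by
    have := hTfin.fintype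
    apply IntermediateField.finiteDimensional_adjoin
    intro z _
    exact (Algebra.IsIntegral.isIntegral z)
  have hR := hg k' hfd
  let d' : {x // x ∈ (s : Set K)} → k' :=
    fun x => ⟨d (g x), IntermediateField.subset_adjoin k T ⟨x, rfl⟩⟩
  have hd' : ∀ x, d' x ^ p = algebraMap k k' (g x) := by
    intro x
    apply Subtype.ext
    simp only [d', SubmonoidClass.mk_pow, hd]
    rfl
  exact pow_indep_aux hR p hp (fun x : {x // x ∈ (s : Set K)} => id (x : K)) hs g d' hd' hgs

/-- A finite separating transcendence basis of a function field of one variable is a singleton. -/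
lemma exists_separating_of_finset (hK : IsFunctionField k K) (s : Finset K)
    (hs : IsTranscendenceBasis k ((↑) : s → K))
    (hsep : Algebra.IsSeparable (IntermediateField.adjoin k (s : Set K)) K) :
    ∃ x : K, Transcendental k x ∧
      Algebra.IsSeparable (IntermediateField.adjoin k ({x} : Set K)) K := by
  classical
  obtain ⟨⟨x₀, hx₀, -⟩, -⟩ := id hK
  -- `s` is nonempty
  have hne : s.Nonempty := by
    by_contra hemp
    rw [Finset.not_nonempty_iff_eq_empty] at hemp
    subst hemp
    have hbot : IntermediateField.adjoin k ((∅ : Finset K) : Set K) = ⊥ := by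
      rw [Finset.coe_empty, IntermediateField.adjoin_empty]
    have halg : IsAlgebraic (IntermediateField.adjoin k ((∅ : Finset K) : Set K)) x₀ :=
      (Algebra.IsSeparable.isSeparable _ x₀).isIntegral.isAlgebraic
    rw [hbot] at halg
    have : Algebra.IsAlgebraic k (⊥ : IntermediateField k K) := inferInstance
    exact hx₀ (IsAlgebraic.restrictScalars k halg)
  obtain ⟨x, hx⟩ := hne
  have hxtr : Transcendental k x := hs.1.transcendental ⟨x, hx⟩
  have hfin := finiteDimensional_adjoin_of_transcendental hK hxtr
  have hall : ∀ y ∈ s, y = x := by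
    intro y hy
    by_contra hyx
    have h1 := hs.1.transcendental_adjoin (s := {(⟨x, hx⟩ : s)}) (i := ⟨y, hy⟩) (by
      rw [Set.mem_singleton_iff]
      intro h
      exact hyx (congrArg Subtype.val h))
    rw [Set.image_singleton] at h1
    rw [← IntermediateField.transcendental_adjoin_iff] at h1
    exact h1 (Algebra.IsAlgebraic.isAlgebraic y)
  have hset : (s : Set K) = {x} := by
    ext y
    rw [Finset.mem_coe, Set.mem_singleton_iff]
    exact ⟨hall y, fun h => h ▸ hx⟩
  refine ⟨x, hxtr, ?_⟩
  rw [hset] at hsep
  exact hsep

/-- **Separating elements.** A geometric function field of one variable is separably generated. -/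
theorem exists_separating (hK : IsFunctionField k K) (hg : IsGeometric k K) :
    ∃ x : K, Transcendental k x ∧
      Algebra.IsSeparable (IntermediateField.adjoin k ({x} : Set K)) K := by
  have hE := essFiniteType_of_isFunctionField hK
  obtain h0 | ⟨p, hp, hpk⟩ := CharP.exists' k
  · obtain ⟨⟨x, hx, -⟩, -⟩ := id hK
    refine ⟨x, hx, ?_⟩
    have hfin := finiteDimensional_adjoin_of_transcendental hK hx
    have hchar : CharZero (IntermediateField.adjoin k ({x} : Set K)) :=
      charZero_of_injective_algebraMap (algebraMap k _).injective
    exact Algebra.IsAlgebraic.isSeparable_of_perfectField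
  · have : ExpChar k p := .prime hp.out
    obtain ⟨s, hs, hsep⟩ :=
      exists_isTranscendenceBasis_and_isSeparable_of_linearIndepOn_pow_of_essFiniteType
        (k := k) (K := K) p hp.out
        (fun s hs => linearIndepOn_pow_of_isGeometric hg p hp.out s hs)
    exact exists_separating_of_finset hK s hs hsep

/-- Over a perfect constant field no geometricity assumption is needed. -/
theorem exists_separating_of_perfectField [PerfectField k] (hK : IsFunctionField k K) :
    ∃ x : K, Transcendental k x ∧
      Algebra.IsSeparable (IntermediateField.adjoin k ({x} : Set K)) K := by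
  have hE := essFiniteType_of_isFunctionField hK
  obtain ⟨s, hs, hsep⟩ := exists_isTranscendenceBasis_and_isSeparable_of_perfectField k K
  exact exists_separating_of_finset hK s hs hsep


variable {M : Type*} [AddCommGroup M] [Module K M] [Module k M] [IsScalarTower k K M]

/-- A `k`-derivation into a `K`-module killing `z` kills `k(z)`. -/
lemma derivation_eq_zero_on_adjoin' (D : Derivation k K M) {z : K} (hDz : D z = 0) :
    ∀ w ∈ IntermediateField.adjoin k ({z} : Set K), D w = 0 := by
  intro w hw
  induction hw using IntermediateField.adjoin_induction with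
  | mem x hx =>
    rw [Set.mem_singleton_iff] at hx
    rw [hx, hDz]
  | algebraMap c => exact D.map_algebraMap c
  | add x y _ _ hx hy => rw [map_add, hx, hy, add_zero]
  | inv x _ hx => rw [Derivation.leibniz_inv, hx, smul_zero]
  | mul x y _ _ hx hy => rw [D.leibniz, hx, hy, smul_zero, smul_zero, add_zero]

/-- Abstract form: a derivation of `K` vanishing on a subfield `F` over which `K` is formally
unramified is zero. -/
lemma derivation_eq_zero_of_formallyUnramified {F : Type*} [Field F] [Algebra F K]
    [Algebra.FormallyUnramified F K] (D : Derivation k K M)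
    (hvan : ∀ c : F, D (algebraMap F K c) = 0) : D = 0 := by
  letI : Module F M := Module.compHom M (algebraMap F K)
  haveI : IsScalarTower F K M := IsScalarTower.of_algebraMap_smul fun _ _ => rfl
  let D' : Derivation F K M :=
    { toFun := D
      map_add' := fun a b => map_add D a b
      map_smul' := fun c w => by
        simp only [RingHom.id_apply]
        rw [Algebra.smul_def, D.leibniz, hvan c, smul_zero, add_zero]
        rfl
      map_one_eq_zero' := D.map_one_eq_zero
      leibniz' := fun a b => D.leibniz a b }
  have hD' : D' = 0 := by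
    rw [← Derivation.liftKaehlerDifferential_comp D']
    have : D'.liftKaehlerDifferential = 0 := by
      apply LinearMap.ext
      intro ω
      rw [Subsingleton.elim ω 0, map_zero, map_zero]
    rw [this]
    ext w
    simp
  ext w
  have := DFunLike.congr_fun hD' w
  simpa [D'] using this

/-- A `k`-derivation of `K` into any `K`-module which kills a separating element is zero. -/
theorem derivation_eq_zero_of_separable (x : K)
    [Algebra.IsSeparable (IntermediateField.adjoin k ({x} : Set K)) K]
    (D : Derivation k K M) (hDx : D x = 0) : D = 0 := by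
  have hU : Algebra.FormallyUnramified (IntermediateField.adjoin k ({x} : Set K)) K :=
    Algebra.FormallyUnramified.of_isSeparable _ K
  have hvan := derivation_eq_zero_on_adjoin' D hDx
  exact derivation_eq_zero_of_formallyUnramified (F := IntermediateField.adjoin k ({x} : Set K)) D
    (fun c => hvan _ c.2)

/-- The Kähler differentials are spanned by the differential of a separating element. -/
theorem kaehler_eq_smul_of_separable (x : K)
    [Algebra.IsSeparable (IntermediateField.adjoin k ({x} : Set K)) K] (ω : Ω[K⁄k]) :
    ∃ c : K, ω = c • KaehlerDifferential.D k K x := by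
  set N : Submodule K (Ω[K⁄k]) := Submodule.span K {KaehlerDifferential.D k K x} with hN
  let E : Derivation k K (Ω[K⁄k] ⧸ N) := (N.mkQ).compDer (KaehlerDifferential.D k K)
  have hEx : E x = 0 := by
    show N.mkQ (KaehlerDifferential.D k K x) = 0
    rw [Submodule.mkQ_apply, Submodule.Quotient.mk_eq_zero]
    exact Submodule.subset_span rfl
  have hE := derivation_eq_zero_of_separable x E hEx
  have hall : ∀ u : K, KaehlerDifferential.D k K u ∈ N := by
    intro u
    have : E u = 0 := by rw [hE]; rfl
    have h2 : N.mkQ (KaehlerDifferential.D k K u) = 0 := this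
    rwa [Submodule.mkQ_apply, Submodule.Quotient.mk_eq_zero] at h2
  have htop : (⊤ : Submodule K (Ω[K⁄k])) ≤ N := by
    rw [← KaehlerDifferential.span_range_derivation k K, Submodule.span_le]
    rintro _ ⟨u, rfl⟩
    exact hall u
  have hω : ω ∈ N := htop trivial
  obtain ⟨c, hc⟩ := Submodule.mem_span_singleton.1 hω
  exact ⟨c, hc.symm⟩

/-- In a geometric function field of one variable, a derivation killing an element with nonzero
differential is zero. -/
theorem derivation_eq_zero_of_D_ne_zero (hK : IsFunctionField k K) (hg : IsGeometric k K)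
    {v : K} (hv : KaehlerDifferential.D k K v ≠ 0) (E : Derivation k K M) (hE : E v = 0) :
    E = 0 := by
  obtain ⟨x, -, hsep⟩ := exists_separating hK hg
  obtain ⟨c, hc⟩ := kaehler_eq_smul_of_separable x (KaehlerDifferential.D k K v)
  have hc0 : c ≠ 0 := by
    rintro rfl
    rw [zero_smul] at hc
    exact hv hc
  apply derivation_eq_zero_of_separable x
  have h1 : E.liftKaehlerDifferential (KaehlerDifferential.D k K v) = E v :=
    Derivation.liftKaehlerDifferential_comp_D E v
  rw [hc, map_smul, Derivation.liftKaehlerDifferential_comp_D, hE] at h1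
  exact (smul_eq_zero.1 h1).resolve_left hc0

/-- Proportionality: if `dv' = g dv` then `E v' = g • E v` for every derivation `E`. -/
theorem derivation_apply_eq_smul (E : Derivation k K M) {v v' g : K}
    (h : KaehlerDifferential.D k K v' = g • KaehlerDifferential.D k K v) :
    E v' = g • E v := by
  have h1 : E.liftKaehlerDifferential (KaehlerDifferential.D k K v') = E v' :=
    Derivation.liftKaehlerDifferential_comp_D E v'
  rw [h, map_smul, Derivation.liftKaehlerDifferential_comp_D] at h1
  exact h1.symm

/-- In a geometric function field any differential is a multiple of a nonzero one. -/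
theorem exists_D_eq_smul (hK : IsFunctionField k K) (hg : IsGeometric k K)
    {v : K} (hv : KaehlerDifferential.D k K v ≠ 0) (v' : K) :
    ∃ g : K, KaehlerDifferential.D k K v' = g • KaehlerDifferential.D k K v := by
  obtain ⟨x, -, hsep⟩ := exists_separating hK hg
  obtain ⟨c, hc⟩ := kaehler_eq_smul_of_separable x (KaehlerDifferential.D k K v)
  obtain ⟨c', hc'⟩ := kaehler_eq_smul_of_separable x (KaehlerDifferential.D k K v')
  have hc0 : c ≠ 0 := by
    rintro rfl
    rw [zero_smul] at hc
    exact hv hc
  refine ⟨c' * c⁻¹, ?_⟩
  rw [hc', hc, smul_smul, mul_assoc, inv_mul_cancel₀ hc0, mul_one]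

end Groth.Agent.Lib.Helper88.FF
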