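/-
Traces of finite-rank endomorphisms of arbitrary vector spaces.
Author: helper88
-/
import Mathlib.LinearAlgebra.Trace
import Mathlib.LinearAlgebra.PID
import Mathlib.LinearAlgebra.FiniteDimensional.Basic

set_option autoImplicit false
set_option linter.unusedSectionVars false

namespace Groth.Agent.Lib.Helper88.FRT

open LinearMap

variable {k : Type*} [Field k]
variable {V : Type*} [AddCommGroup V] [Module k V]
variable {W : Type*} [AddCommGroup W] [Module k W]
variable {U : Type*} [AddCommGroup U] [Module k U]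

/-- A linear map of finite rank. -/
def IsFR (θ : V →ₗ[k] W) : Prop := FiniteDimensional k (LinearMap.range θ)

/-- The trace of a finite-rank endomorphism (junk if the rank is infinite). -/
noncomputable def frTrace (θ : V →ₗ[k] V) : k :=
  LinearMap.trace k (LinearMap.range θ)
    (θ.restrict (p := LinearMap.range θ) (q := LinearMap.range θ) (fun x _ => ⟨x, rfl⟩))

lemma isFR_of_range_le {θ : V →ₗ[k] W} {S : Submodule k W} [FiniteDimensional k S]
    (h : LinearMap.range θ ≤ S) : IsFR θ :=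
  Submodule.finiteDimensional_of_le h

lemma isFR_comp_left {θ : V →ₗ[k] W} (h : IsFR θ) (f : W →ₗ[k] U) : IsFR (f ∘ₗ θ) := by
  unfold IsFR at *
  rw [LinearMap.range_comp]
  exact inferInstance

lemma isFR_comp_right {θ : V →ₗ[k] W} (h : IsFR θ) (f : U →ₗ[k] V) : IsFR (θ ∘ₗ f) := by
  unfold IsFR at *
  exact Submodule.finiteDimensional_of_le (LinearMap.range_comp_le_range f θ)

lemma isFR_zero : IsFR (0 : V →ₗ[k] W) := by
  unfold IsFR
  rw [LinearMap.range_zero]
  infer_instance

lemma isFR_add {θ θ' : V →ₗ[k] W} (h : IsFR θ) (h' : IsFR θ') : IsFR (θ + θ') := by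
  unfold IsFR at *
  have : LinearMap.range (θ + θ') ≤ LinearMap.range θ ⊔ LinearMap.range θ' := by
    rintro _ ⟨x, rfl⟩
    exact Submodule.add_mem_sup ⟨x, rfl⟩ ⟨x, rfl⟩
  exact Submodule.finiteDimensional_of_le this

lemma isFR_neg {θ : V →ₗ[k] W} (h : IsFR θ) : IsFR (-θ) := by
  unfold IsFR at *
  rw [LinearMap.range_neg]
  exact h

lemma isFR_sub {θ θ' : V →ₗ[k] W} (h : IsFR θ) (h' : IsFR θ') : IsFR (θ - θ') := by
  rw [sub_eq_add_neg]
  exact isFR_add h (isFR_neg h')

lemma isFR_smul {θ : V →ₗ[k] W} (h : IsFR θ) (c : k) : IsFR (c • θ) := by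
  unfold IsFR at *
  have : LinearMap.range (c • θ) ≤ LinearMap.range θ := by
    rintro _ ⟨x, rfl⟩
    exact ⟨c • x, by simp⟩
  exact Submodule.finiteDimensional_of_le this

lemma isFR_of_finiteDimensional_dom [FiniteDimensional k V] (θ : V →ₗ[k] W) : IsFR θ := by
  unfold IsFR
  infer_instance

lemma isFR_of_finiteDimensional_cod [FiniteDimensional k W] (θ : V →ₗ[k] W) : IsFR θ := by
  unfold IsFR
  infer_instance

/-- **Core lemma**: the trace of a finite-rank map computed through any factorisation over a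
finite-dimensional space. -/
theorem frTrace_eq_of_factor [FiniteDimensional k U] (j : U →ₗ[k] V) (q : V →ₗ[k] U) :
    frTrace (j ∘ₗ q) = LinearMap.trace k U (q ∘ₗ j) := by
  classical
  set θ := j ∘ₗ q with hθ
  -- `U' = range q`
  set U' : Submodule k U := LinearMap.range q with hU'
  have h1 : LinearMap.trace k U' ((q ∘ₗ j).restrict (p := U') (q := U') (fun x _ => ⟨j x, rfl⟩)) =
      LinearMap.trace k U (q ∘ₗ j) :=
    LinearMap.trace_restrict_eq_of_forall_mem U' (q ∘ₗ j) (fun x => ⟨j x, rfl⟩)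
  rw [← h1]
  have hfd : FiniteDimensional k (LinearMap.range θ) := by
    have : LinearMap.range θ ≤ LinearMap.range j := LinearMap.range_comp_le_range q j
    exact Submodule.finiteDimensional_of_le this
  -- `a : range θ → U'`, `b : U' → range θ`
  let a : LinearMap.range θ →ₗ[k] U' :=
    (q ∘ₗ (LinearMap.range θ).subtype).codRestrict U' (fun x => ⟨x.1, rfl⟩)
  let b : U' →ₗ[k] LinearMap.range θ :=
    (j ∘ₗ U'.subtype).codRestrict (LinearMap.range θ) (fun x => by
      obtain ⟨y, hy⟩ := x.2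
      exact ⟨y, by simp [hθ, hy]⟩)
  have e1 : θ.restrict (p := LinearMap.range θ) (q := LinearMap.range θ) (fun x _ => ⟨x, rfl⟩) = b ∘ₗ a := by
    ext x
    simp [a, b, hθ]
  have e2 : (q ∘ₗ j).restrict (p := U') (q := U') (fun x _ => ⟨j x, rfl⟩) = a ∘ₗ b := by
    ext x
    simp [a, b]
  unfold frTrace
  rw [e1, e2]
  exact LinearMap.trace_comp_comm' a b

/-- The trace of a finite-rank map is its trace on any finite-dimensional subspace containing its
range. -/
theorem frTrace_eq_trace_restrict (θ : V →ₗ[k] V) (S : Submodule k V) [FiniteDimensional k S]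
    (h : LinearMap.range θ ≤ S) :
    frTrace θ = LinearMap.trace k S (θ.restrict (p := S) (q := S) (fun x _ => h ⟨x, rfl⟩)) := by
  have e : θ = S.subtype ∘ₗ (θ.codRestrict S (fun x => h ⟨x, rfl⟩)) := by
    ext x; simp
  conv_lhs => rw [e]
  rw [frTrace_eq_of_factor]
  congr 1

theorem frTrace_add {θ θ' : V →ₗ[k] V} (h : IsFR θ) (h' : IsFR θ') :
    frTrace (θ + θ') = frTrace θ + frTrace θ' := by
  classical
  unfold IsFR at h h'
  set S := LinearMap.range θ ⊔ LinearMap.range θ' with hS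
  have hS1 : LinearMap.range θ ≤ S := le_sup_left
  have hS2 : LinearMap.range θ' ≤ S := le_sup_right
  have hS3 : LinearMap.range (θ + θ') ≤ S := by
    rintro _ ⟨x, rfl⟩
    exact Submodule.add_mem_sup ⟨x, rfl⟩ ⟨x, rfl⟩
  rw [frTrace_eq_trace_restrict θ S hS1, frTrace_eq_trace_restrict θ' S hS2,
    frTrace_eq_trace_restrict (θ + θ') S hS3, ← map_add]
  congr 1

theorem frTrace_smul (c : k) {θ : V →ₗ[k] V} (h : IsFR θ) :
    frTrace (c • θ) = c * frTrace θ := by
  classical
  unfold IsFR at h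
  have hS : LinearMap.range (c • θ) ≤ LinearMap.range θ := by
    rintro _ ⟨x, rfl⟩
    exact ⟨c • x, by simp⟩
  rw [frTrace_eq_trace_restrict θ _ le_rfl, frTrace_eq_trace_restrict (c • θ) _ hS, ← smul_eq_mul,
    ← map_smul]
  congr 1

@[simp] theorem frTrace_zero : frTrace (0 : V →ₗ[k] V) = 0 := by
  have := frTrace_smul (0 : k) (isFR_zero (V := V) (W := V))
  simpa using this

theorem frTrace_neg {θ : V →ₗ[k] V} (h : IsFR θ) : frTrace (-θ) = -frTrace θ := by
  have := frTrace_smul (-1 : k) h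
  simpa using this

theorem frTrace_sub {θ θ' : V →ₗ[k] V} (h : IsFR θ) (h' : IsFR θ') :
    frTrace (θ - θ') = frTrace θ - frTrace θ' := by
  rw [sub_eq_add_neg, frTrace_add h (isFR_neg h'), frTrace_neg h', sub_eq_add_neg]

/-- **Cyclicity**. -/
theorem frTrace_comp_comm {R : V →ₗ[k] W} (hR : IsFR R) (S : W →ₗ[k] V) :
    frTrace (R ∘ₗ S) = frTrace (S ∘ₗ R) := by
  classical
  unfold IsFR at hR
  set U := LinearMap.range R with hU
  let q : V →ₗ[k] U := R.rangeRestrict
  have hRq : R = U.subtype ∘ₗ q := by ext x; simp [q]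
  have e1 : R ∘ₗ S = U.subtype ∘ₗ (q ∘ₗ S) := by rw [hRq]; rfl
  have e2 : S ∘ₗ R = (S ∘ₗ U.subtype) ∘ₗ q := by rw [hRq]; rfl
  rw [e1, e2, frTrace_eq_of_factor, frTrace_eq_of_factor]
  rfl

/-- On a finite-dimensional space the finite-rank trace is the usual trace. -/
theorem frTrace_eq_trace [FiniteDimensional k V] (θ : V →ₗ[k] V) :
    frTrace θ = LinearMap.trace k V θ := by
  have := frTrace_eq_of_factor (LinearMap.id : V →ₗ[k] V) θ
  simpa using this

theorem frTrace_finset_sum {ι : Type*} (s : Finset ι) (θ : ι → (V →ₗ[k] V))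
    (h : ∀ i ∈ s, IsFR (θ i)) : frTrace (∑ i ∈ s, θ i) = ∑ i ∈ s, frTrace (θ i) := by
  classical
  induction s using Finset.induction_on with
  | empty => simp
  | insert a s ha ih =>
    rw [Finset.sum_insert ha, Finset.sum_insert ha, frTrace_add (h a (Finset.mem_insert_self a s)),
      ih (fun i hi => h i (Finset.mem_insert_of_mem hi))]
    clear ih
    induction s using Finset.induction_on with
    | empty => simpa using isFR_zero
    | insert b s hb ih =>
      rw [Finset.sum_insert hb]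
      refine isFR_add (h b (by simp)) (ih (fun h' => ha (Finset.mem_insert_of_mem h')) ?_)
      intro i hi
      apply h
      rcases Finset.mem_insert.1 hi with rfl | hi
      · simp
      · simp [hi]

lemma isFR_finset_sum {ι : Type*} (s : Finset ι) (θ : ι → (V →ₗ[k] W))
    (h : ∀ i ∈ s, IsFR (θ i)) : IsFR (∑ i ∈ s, θ i) := by
  classical
  induction s using Finset.induction_on with
  | empty => simpa using isFR_zero
  | insert a s ha ih =>
    rw [Finset.sum_insert ha]
    exact isFR_add (h a (Finset.mem_insert_self a s)) (ih fun i hi => h i (Finset.mem_insert_of_mem hi))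

/-- Perturbation lemma: the trace of a finite-rank commutator does not change when the two
operators are changed by finite-rank operators. -/
theorem frTrace_commutator_perturb {P Q P' Q' : V →ₗ[k] V} (hPQ : IsFR (P ∘ₗ Q - Q ∘ₗ P))
    (hP : IsFR (P' - P)) (hQ : IsFR (Q' - Q)) :
    IsFR (P' ∘ₗ Q' - Q' ∘ₗ P') ∧
      frTrace (P' ∘ₗ Q' - Q' ∘ₗ P') = frTrace (P ∘ₗ Q - Q ∘ₗ P) := by
  set R := P' - P with hR
  set S := Q' - Q with hS
  have hP' : P' = P + R := by rw [hR]; abel
  have hQ' : Q' = Q + S := by rw [hS]; abel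
  have e : P' ∘ₗ Q' - Q' ∘ₗ P' = (P ∘ₗ Q - Q ∘ₗ P) + ((P ∘ₗ S - S ∘ₗ P) + ((R ∘ₗ Q - Q ∘ₗ R) +
      (R ∘ₗ S - S ∘ₗ R))) := by
    rw [hP', hQ']
    simp only [LinearMap.add_comp, LinearMap.comp_add]
    abel
  have h1 : IsFR (P ∘ₗ S - S ∘ₗ P) := isFR_sub (isFR_comp_left hQ P) (isFR_comp_right hQ P)
  have h2 : IsFR (R ∘ₗ Q - Q ∘ₗ R) := isFR_sub (isFR_comp_right hP Q) (isFR_comp_left hP Q)
  have h3 : IsFR (R ∘ₗ S - S ∘ₗ R) := isFR_sub (isFR_comp_right hP S) (isFR_comp_left hP S)
  refine ⟨by rw [e]; exact isFR_add hPQ (isFR_add h1 (isFR_add h2 h3)), ?_⟩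
  rw [e, frTrace_add hPQ (isFR_add h1 (isFR_add h2 h3)), frTrace_add h1 (isFR_add h2 h3),
    frTrace_add h2 h3, frTrace_sub (isFR_comp_left hQ P) (isFR_comp_right hQ P),
    frTrace_sub (isFR_comp_right hP Q) (isFR_comp_left hP Q),
    frTrace_sub (isFR_comp_right hP S) (isFR_comp_left hP S),
    frTrace_comp_comm hQ P, frTrace_comp_comm hP Q, frTrace_comp_comm hP S]
  simp

end Groth.Agent.Lib.Helper88.FRT
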