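/-
Abstract residues (after Tate): traces of commutators of Toeplitz operators.
Author: helper88
-/
import Groth.Agent.Lib.Helper88.FRTrace
import Mathlib.LinearAlgebra.Projection
import Mathlib.LinearAlgebra.Basis.VectorSpace

set_option autoImplicit false
set_option linter.unusedSectionVars false

namespace Groth.Agent.Lib.Helper88.FRT

open LinearMap

variable {k : Type*} [Field k]
variable {V : Type*} [AddCommGroup V] [Module k V]
variable {A : Type*} [AddCommGroup A] [Module k A]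
variable {B : Type*} [AddCommGroup B] [Module k B]

/-- The Toeplitz operator of `f` on the split subspace `(A, i, π)`. -/
def toep (i : A →ₗ[k] V) (π : V →ₗ[k] A) (f : V →ₗ[k] V) : A →ₗ[k] A := π ∘ₗ f ∘ₗ i

@[simp] lemma toep_apply (i : A →ₗ[k] V) (π : V →ₗ[k] A) (f : V →ₗ[k] V) (a : A) :
    toep i π f a = π (f (i a)) := rfl

/-- `f` maps the image of `i` into itself up to a finite-dimensional space. -/
def AlmostPres (i : A →ₗ[k] V) (f : V →ₗ[k] V) : Prop :=
  ∃ W : Submodule k V, FiniteDimensional k W ∧ ∀ a : A, f (i a) ∈ LinearMap.range i ⊔ W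

/-- The abstract residue: the trace of the commutator of the Toeplitz operators. -/
noncomputable def tres (i : A →ₗ[k] V) (π : V →ₗ[k] A) (f g : V →ₗ[k] V) : k :=
  frTrace (toep i π f ∘ₗ toep i π g - toep i π g ∘ₗ toep i π f)

lemma isFR_toep_mul (i : A →ₗ[k] V) (π : V →ₗ[k] A) (hπ : ∀ a, π (i a) = a) (f g : V →ₗ[k] V)
    (hg : AlmostPres i g) : IsFR (toep i π f ∘ₗ toep i π g - toep i π (f ∘ₗ g)) := by
  classical
  obtain ⟨W, hW, hgW⟩ := hg
  -- the operator equals `π f (iπ - 1) g i`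
  set E : V →ₗ[k] V := i ∘ₗ π - LinearMap.id with hE
  have e : toep i π f ∘ₗ toep i π g - toep i π (f ∘ₗ g) = (π ∘ₗ f) ∘ₗ (E ∘ₗ (g ∘ₗ i)) := by
    ext a
    simp [hE, map_sub]
  rw [e]
  apply isFR_comp_left
  -- range of `E ∘ g ∘ i` is inside `E W`
  have hle : LinearMap.range (E ∘ₗ (g ∘ₗ i)) ≤ Submodule.map E W := by
    rintro _ ⟨a, rfl⟩
    obtain ⟨x, hx, w, hw, hxw⟩ := Submodule.mem_sup.1 (hgW a)
    obtain ⟨a', rfl⟩ := hx
    refine ⟨w, hw, ?_⟩
    simp only [LinearMap.comp_apply]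
    rw [← hxw, map_add]
    have : E (i a') = 0 := by simp [hE, hπ]
    rw [this, zero_add]
  exact Submodule.finiteDimensional_of_le hle

/-- For commuting `f`, `g` almost preserving `A`, the commutator of the Toeplitz operators has
finite rank. -/
lemma isFR_toep_comm (i : A →ₗ[k] V) (π : V →ₗ[k] A) (hπ : ∀ a, π (i a) = a) {f g : V →ₗ[k] V}
    (hfg : f ∘ₗ g = g ∘ₗ f) (hf : AlmostPres i f) (hg : AlmostPres i g) :
    IsFR (toep i π f ∘ₗ toep i π g - toep i π g ∘ₗ toep i π f) := by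
  have h1 := isFR_toep_mul i π hπ f g hg
  have h2 := isFR_toep_mul i π hπ g f hf
  have e : toep i π f ∘ₗ toep i π g - toep i π g ∘ₗ toep i π f =
      (toep i π f ∘ₗ toep i π g - toep i π (f ∘ₗ g)) -
        (toep i π g ∘ₗ toep i π f - toep i π (g ∘ₗ f)) := by
    rw [hfg]; abel
  rw [e]
  exact isFR_sub h1 h2

/-- **Independence / commensurability.** If `(B, j, σ)` is a split subspace inside `(A, i, π)` of
finite codimension, the two residues agree. -/
theorem tres_eq_of_le (i : A →ₗ[k] V) (π : V →ₗ[k] A) (hπ : ∀ a, π (i a) = a)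
    (j : B →ₗ[k] V) (σ : V →ₗ[k] B) (hσ : ∀ b, σ (j b) = b)
    (hle : LinearMap.range j ≤ LinearMap.range i)
    (H : Submodule k V) [FiniteDimensional k H] (hH : LinearMap.range i ≤ LinearMap.range j ⊔ H)
    {f g : V →ₗ[k] V} (hfg : f ∘ₗ g = g ∘ₗ f) (hf : AlmostPres j f) (hg : AlmostPres j g) :
    tres i π f g = tres j σ f g := by
  classical
  set β : B →ₗ[k] A := π ∘ₗ j with hβ
  set α : A →ₗ[k] B := σ ∘ₗ i with hα
  have hiβ : ∀ b, i (β b) = j b := by
    intro b
    obtain ⟨a, ha⟩ := hle ⟨b, rfl⟩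
    simp only [hβ, LinearMap.comp_apply]
    rw [← ha, hπ]
  have hαβ : α ∘ₗ β = LinearMap.id := by
    ext b
    simp only [LinearMap.comp_apply, hα, LinearMap.id_apply]
    rw [hiβ, hσ]
  set E : V →ₗ[k] V := LinearMap.id - j ∘ₗ σ with hE
  have hEj : ∀ b, E (j b) = 0 := by
    intro b; simp [hE, hσ]
  set ε : A →ₗ[k] A := LinearMap.id - β ∘ₗ α with hε
  have hiε : i ∘ₗ ε = E ∘ₗ i := by
    ext a
    simp only [LinearMap.comp_apply, hε, hE, LinearMap.sub_apply, LinearMap.id_apply, map_sub, hiβ,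
      hα]
  -- `E ∘ i` has finite rank
  have hEi : IsFR (E ∘ₗ i) := by
    have : LinearMap.range (E ∘ₗ i) ≤ Submodule.map E H := by
      rintro _ ⟨a, rfl⟩
      obtain ⟨x, hx, h, hh, hxh⟩ := Submodule.mem_sup.1 (hH ⟨a, rfl⟩)
      obtain ⟨b, rfl⟩ := hx
      refine ⟨h, hh, ?_⟩
      simp only [LinearMap.comp_apply]
      rw [← hxh, map_add, hEj, zero_add]
    exact Submodule.finiteDimensional_of_le this
  have hεFR : IsFR ε := by
    have : ε = π ∘ₗ (i ∘ₗ ε) := by
      ext a; simp [hπ]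
    rw [this, hiε]
    exact isFR_comp_left hEi π
  -- the transported Toeplitz operators
  have key : ∀ {f : V →ₗ[k] V}, AlmostPres j f →
      IsFR (toep i π f - β ∘ₗ toep j σ f ∘ₗ α) := by
    intro f hf
    obtain ⟨W, hW, hfW⟩ := hf
    have e : toep i π f - β ∘ₗ toep j σ f ∘ₗ α =
        π ∘ₗ (E ∘ₗ f ∘ₗ i) + (π ∘ₗ j ∘ₗ σ ∘ₗ f) ∘ₗ (E ∘ₗ i) := by
      ext a
      simp only [LinearMap.sub_apply, toep_apply, LinearMap.comp_apply, LinearMap.add_apply, hβ, hα,
        hE, LinearMap.id_apply, map_sub]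
      abel
    rw [e]
    refine isFR_add (isFR_comp_left ?_ π) (isFR_comp_left hEi _)
    -- `E f i` has finite rank
    have : LinearMap.range (E ∘ₗ f ∘ₗ i) ≤ Submodule.map E (W ⊔ Submodule.map f H) := by
      rintro _ ⟨a, rfl⟩
      obtain ⟨x, hx, h, hh, hxh⟩ := Submodule.mem_sup.1 (hH ⟨a, rfl⟩)
      obtain ⟨b, rfl⟩ := hx
      obtain ⟨y, hy, w, hw, hyw⟩ := Submodule.mem_sup.1 (hfW b)
      obtain ⟨b', rfl⟩ := hy
      refine ⟨w + f h, Submodule.add_mem_sup hw ⟨h, hh, rfl⟩, ?_⟩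
      simp only [LinearMap.comp_apply]
      rw [← hxh, map_add f, ← hyw, map_add, map_add, map_add, hEj, zero_add]
    exact Submodule.finiteDimensional_of_le this
  have hf' := key hf
  have hg' := key hg
  set Tf := toep j σ f with hTf
  set Tg := toep j σ g with hTg
  set θ : B →ₗ[k] B := Tf ∘ₗ Tg - Tg ∘ₗ Tf with hθ
  have hθFR : IsFR θ := isFR_toep_comm j σ hσ hfg hf hg
  have hcomm : (β ∘ₗ Tf ∘ₗ α) ∘ₗ (β ∘ₗ Tg ∘ₗ α) - (β ∘ₗ Tg ∘ₗ α) ∘ₗ (β ∘ₗ Tf ∘ₗ α) =
      (β ∘ₗ θ) ∘ₗ α := by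
    have h1 : ∀ S T : B →ₗ[k] B, (β ∘ₗ S ∘ₗ α) ∘ₗ (β ∘ₗ T ∘ₗ α) = β ∘ₗ (S ∘ₗ T) ∘ₗ α := by
      intro S T
      calc (β ∘ₗ S ∘ₗ α) ∘ₗ (β ∘ₗ T ∘ₗ α) = β ∘ₗ S ∘ₗ (α ∘ₗ β) ∘ₗ T ∘ₗ α := by
            simp only [LinearMap.comp_assoc]
        _ = β ∘ₗ (S ∘ₗ T) ∘ₗ α := by
            rw [hαβ]; simp only [LinearMap.id_comp, LinearMap.comp_assoc]
    rw [h1, h1, hθ]
    ext a
    simp
  have hFR0 : IsFR ((β ∘ₗ Tf ∘ₗ α) ∘ₗ (β ∘ₗ Tg ∘ₗ α) - (β ∘ₗ Tg ∘ₗ α) ∘ₗ (β ∘ₗ Tf ∘ₗ α)) := by
    rw [hcomm]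
    exact isFR_comp_right (isFR_comp_left hθFR β) α
  have hpert := frTrace_commutator_perturb hFR0 hf' hg'
  unfold tres
  rw [hpert.2, hcomm, frTrace_comp_comm (isFR_comp_left hθFR β) α, ← LinearMap.comp_assoc, hαβ,
    LinearMap.id_comp]

/-- **Vanishing**: if `V = j(B) ⊕ C` with `C` stable under the commuting maps `f`, `g` and `σ` the
projection along `C`, the Toeplitz operators commute exactly. -/
theorem tres_eq_zero_of_compl (j : B →ₗ[k] V) (σ : V →ₗ[k] B)
    (C : Submodule k V) (hC : ∀ v, v - j (σ v) ∈ C) (hσC : ∀ c ∈ C, σ c = 0)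
    {f g : V →ₗ[k] V} (hfg : f ∘ₗ g = g ∘ₗ f) (hfC : ∀ c ∈ C, f c ∈ C) (hgC : ∀ c ∈ C, g c ∈ C) :
    tres j σ f g = 0 := by
  have key : ∀ {f g : V →ₗ[k] V}, (∀ c ∈ C, f c ∈ C) →
      toep j σ f ∘ₗ toep j σ g = toep j σ (f ∘ₗ g) := by
    intro f g hfC
    ext b
    simp only [LinearMap.comp_apply, toep_apply]
    have h1 := hC (g (j b))
    have h2 := hσC _ (hfC _ h1)
    rw [map_sub, map_sub, sub_eq_zero] at h2
    exact h2.symm
  unfold tres
  rw [key hfC, key hgC, hfg, sub_self, frTrace_zero]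

lemma almostPres_of_le {j : B →ₗ[k] V} {i : A →ₗ[k] V} {f : V →ₗ[k] V} (hf : AlmostPres i f)
    (hle : LinearMap.range j ≤ LinearMap.range i)
    (N : Submodule k V) [FiniteDimensional k N] (hN : LinearMap.range i ≤ LinearMap.range j ⊔ N) :
    AlmostPres j f := by
  obtain ⟨W, hW, hfW⟩ := hf
  refine ⟨N ⊔ W, inferInstance, ?_⟩
  intro b
  obtain ⟨a, ha⟩ := hle ⟨b, rfl⟩
  have := hfW a
  rw [ha] at this
  obtain ⟨x, hx, w, hw, hxw⟩ := Submodule.mem_sup.1 this
  obtain ⟨y, hy, n, hn, hyn⟩ := Submodule.mem_sup.1 (hN hx)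
  rw [← hxw, ← hyn, add_assoc]
  exact Submodule.add_mem_sup hy (Submodule.add_mem_sup hn hw)

/-- **The abstract residue theorem.** If `C` is a subspace stable under the commuting maps `f`, `g`
which meets `i(A)` in a finite-dimensional space and together with `i(A)` spans a subspace of
finite codimension, then the residue of `(f, g)` along `A` vanishes. -/
theorem tres_eq_zero (i : A →ₗ[k] V) (π : V →ₗ[k] A) (hπ : ∀ a, π (i a) = a)
    (C : Submodule k V) {f g : V →ₗ[k] V} (hfg : f ∘ₗ g = g ∘ₗ f)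
    (hf : AlmostPres i f) (hg : AlmostPres i g)
    (hfC : ∀ c ∈ C, f c ∈ C) (hgC : ∀ c ∈ C, g c ∈ C)
    (hN : FiniteDimensional k ↥(LinearMap.range i ⊓ C))
    (H : Submodule k V) [FiniteDimensional k H] (hH : LinearMap.range i ⊔ C ⊔ H = ⊤) :
    tres i π f g = 0 := by
  classical
  set I : Submodule k V := LinearMap.range i with hI
  set N : Submodule k V := I ⊓ C with hNdef
  -- relative complement of `N` in `I`
  obtain ⟨N'', hN''⟩ := Submodule.exists_isCompl (N.comap I.subtype)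
  set I₁ : Submodule k V := N''.map I.subtype with hI₁
  have hI₁le : I₁ ≤ I := by
    rintro _ ⟨x, -, rfl⟩
    exact x.2
  have hI₁C : I₁ ⊓ C = ⊥ := by
    rw [eq_bot_iff]
    rintro x ⟨⟨y, hy, rfl⟩, hxC⟩
    have : y ∈ N.comap I.subtype := ⟨y.2, hxC⟩
    have h0 : y ∈ (N.comap I.subtype) ⊓ N'' := ⟨this, hy⟩
    rw [hN''.inf_eq_bot] at h0
    rw [Submodule.mem_bot] at h0 ⊢
    rw [h0]; simp
  have hIle : I ≤ I₁ ⊔ N := by
    intro x hx
    have htop : (⟨x, hx⟩ : I) ∈ (N.comap I.subtype) ⊔ N'' := by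
      rw [hN''.sup_eq_top]; trivial
    obtain ⟨y, hy, z, hz, hyz⟩ := Submodule.mem_sup.1 htop
    have : x = (z : V) + (y : V) := by
      have := congrArg Subtype.val hyz
      simp only [Submodule.coe_add] at this
      rw [← this]; abel
    rw [this]
    exact Submodule.add_mem_sup ⟨z, hz, rfl⟩ hy
  -- complement of `M = I₁ ⊔ C`
  set M : Submodule k V := I₁ ⊔ C with hM
  obtain ⟨H', hH'⟩ := Submodule.exists_isCompl M
  have hMH : M ⊔ H = ⊤ := by
    rw [eq_top_iff, ← hH]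
    refine sup_le (sup_le ?_ ?_) le_sup_right
    · refine hIle.trans (sup_le (le_sup_of_le_left le_sup_left) ?_)
      exact le_sup_of_le_left (le_sup_of_le_right inf_le_right)
    · exact le_sup_of_le_left le_sup_right
  have hH'fd : FiniteDimensional k H' := by
    have hsurj : LinearMap.range ((H'.projectionOnto M hH'.symm) ∘ₗ H.subtype) = ⊤ := by
      rw [eq_top_iff]
      rintro h' -
      have htop : (h' : V) ∈ M ⊔ H := by rw [hMH]; trivial
      obtain ⟨m, hm, h, hh, hmh⟩ := Submodule.mem_sup.1 htop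
      refine ⟨⟨h, hh⟩, ?_⟩
      simp only [LinearMap.comp_apply, Submodule.subtype_apply]
      have : h = (h' : V) - m := by rw [← hmh]; abel
      rw [this, map_sub, Submodule.projectionOnto_apply_left]
      have : H'.projectionOnto M hH'.symm m = 0 :=
        (Submodule.projectionOnto_apply_eq_zero_iff hH'.symm).2 hm
      rw [this, sub_zero]
    have := LinearMap.finiteDimensional_range ((H'.projectionOnto M hH'.symm) ∘ₗ H.subtype)
    rw [hsurj] at this
    exact (LinearEquiv.finiteDimensional (Submodule.topEquiv (R := k) (M := H')))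
  -- the complement `Bs = I₁ ⊔ H'` of `C`
  set Bs : Submodule k V := I₁ ⊔ H' with hBs
  have hcompl : IsCompl Bs C := by
    constructor
    · rw [disjoint_iff, eq_bot_iff]
      rintro x ⟨hxB, hxC⟩
      obtain ⟨a, ha, h', hh', rfl⟩ := Submodule.mem_sup.1 hxB
      have h1 : h' ∈ M := by
        have : h' = (a + h') - a := by abel
        rw [this]
        exact Submodule.sub_mem _ (le_sup_right (a := I₁) hxC) (le_sup_left (b := C) ha)
      have h2 : h' ∈ M ⊓ H' := ⟨h1, hh'⟩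
      rw [hH'.inf_eq_bot, Submodule.mem_bot] at h2
      subst h2
      rw [add_zero] at hxC ⊢
      have : a ∈ I₁ ⊓ C := ⟨ha, hxC⟩
      rwa [hI₁C] at this
    · rw [codisjoint_iff, eq_top_iff, ← hH'.sup_eq_top]
      refine sup_le (sup_le ?_ ?_) ?_
      · exact le_sup_of_le_left le_sup_left
      · exact le_sup_right
      · exact le_sup_of_le_left le_sup_right
  -- residue along `Bs` vanishes
  have hzero : tres Bs.subtype (Bs.projectionOnto C hcompl) f g = 0 := by
    apply tres_eq_zero_of_compl Bs.subtype (Bs.projectionOnto C hcompl) C _ _ hfg hfC hgC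
    · intro v
      exact Submodule.sub_projection_mem hcompl v
    · intro c hc
      exact (Submodule.projectionOnto_apply_eq_zero_iff hcompl).2 hc
  -- a retraction onto `I₁`
  obtain ⟨σ₁, hσ₁⟩ := I₁.subtype.exists_leftInverse_of_injective I₁.ker_subtype
  have hσ₁' : ∀ b : I₁, σ₁ (I₁.subtype b) = b := fun b => LinearMap.congr_fun hσ₁ b
  have hNfd : FiniteDimensional k N := hN
  have hf₁ : AlmostPres I₁.subtype f := almostPres_of_le hf (by
    rw [Submodule.range_subtype]; exact hI₁le) N (by rw [Submodule.range_subtype]; exact hIle)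
  have hg₁ : AlmostPres I₁.subtype g := almostPres_of_le hg (by
    rw [Submodule.range_subtype]; exact hI₁le) N (by rw [Submodule.range_subtype]; exact hIle)
  have e1 : tres i π f g = tres I₁.subtype σ₁ f g :=
    tres_eq_of_le i π hπ I₁.subtype σ₁ hσ₁' (by rw [Submodule.range_subtype]; exact hI₁le) N
      (by rw [Submodule.range_subtype]; exact hIle) hfg hf₁ hg₁
  have e2 : tres Bs.subtype (Bs.projectionOnto C hcompl) f g = tres I₁.subtype σ₁ f g :=
    tres_eq_of_le Bs.subtype (Bs.projectionOnto C hcompl)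
      (fun b => Submodule.projectionOnto_apply_left hcompl b) I₁.subtype σ₁ hσ₁'
      (by rw [Submodule.range_subtype, Submodule.range_subtype]; exact le_sup_left) H'
      (by rw [Submodule.range_subtype, Submodule.range_subtype]) hfg hf₁ hg₁
  rw [e1, ← e2, hzero]

end Groth.Agent.Lib.Helper88.FRT
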