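/-
Local computation of the abstract residue on Laurent series: the trace of the commutator of the
Toeplitz operators of `f`, `g` on `k⟦X⟧` is the coefficient of `X⁻¹` in `f g'`.
Author: helper88
-/
import Groth.Agent.Lib.Helper88.TateRes
import Groth.Prelude.Def_LocRes
import Mathlib.RingTheory.LaurentSeries
import Mathlib.RingTheory.PowerSeries.Trunc
import Mathlib.RingTheory.PowerSeries.Derivative

set_option autoImplicit false
set_option linter.unusedSectionVars false

namespace Groth.Agent.Lib.Helper88.TL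

open Groth.Agent.Lib.Helper88.FRT
open PowerSeries HahnSeries LaurentSeries

variable {k : Type*} [Field k]

/-- The embedding of power series into Laurent series, as a linear map. -/
noncomputable def iL : k⟦X⟧ →ₗ[k] k⸨X⸩ where
  toFun := fun h => (h : k⸨X⸩)
  map_add' := fun a b => by simp
  map_smul' := fun c a => by simp

/-- Truncation of a Laurent series to its power-series part. -/
noncomputable def πL : k⸨X⸩ →ₗ[k] k⟦X⟧ where
  toFun := fun f => PowerSeries.mk fun n => f.coeff (n : ℤ)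
  map_add' := fun a b => by ext n; simp
  map_smul' := fun c a => by ext n; simp

@[simp] lemma iL_apply (h : k⟦X⟧) : iL h = (h : k⸨X⸩) := rfl

@[simp] lemma coeff_πL (f : k⸨X⸩) (n : ℕ) : PowerSeries.coeff n (πL f) = f.coeff (n : ℤ) := by
  simp [πL]

lemma πL_iL (h : k⟦X⟧) : πL (iL h) = h := by
  ext n
  simp

/-- Backward shift by `N`. -/
noncomputable def shift (N : ℕ) : k⟦X⟧ →ₗ[k] k⟦X⟧ where
  toFun := fun h => PowerSeries.mk fun n => PowerSeries.coeff (n + N) h
  map_add' := fun a b => by ext n; simp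
  map_smul' := fun c a => by ext n; simp

@[simp] lemma coeff_shift (N : ℕ) (h : k⟦X⟧) (n : ℕ) :
    PowerSeries.coeff n (shift N h) = PowerSeries.coeff (n + N) h := by
  simp [shift]

/-- Multiplication by a power series. -/
noncomputable def mulPS (F : k⟦X⟧) : k⟦X⟧ →ₗ[k] k⟦X⟧ := LinearMap.mulLeft k F

@[simp] lemma mulPS_apply (F h : k⟦X⟧) : mulPS F h = F * h := rfl

/-- Multiplication by a Laurent series. -/
noncomputable def mulL (f : k⸨X⸩) : k⸨X⸩ →ₗ[k] k⸨X⸩ where
  toFun := fun h => f * h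
  map_add' := fun a b => mul_add f a b
  map_smul' := fun c a => by
    simp only [RingHom.id_apply]
    rw [← HahnSeries.C_mul_eq_smul, ← HahnSeries.C_mul_eq_smul, mul_left_comm]

@[simp] lemma mulL_apply (f h : k⸨X⸩) : mulL f h = f * h := rfl

lemma mulL_comm (f g : k⸨X⸩) : mulL f ∘ₗ mulL g = mulL g ∘ₗ mulL f := by
  apply LinearMap.ext
  intro h
  simp only [LinearMap.comp_apply, mulL_apply]
  exact mul_left_comm f g h

/-- The Toeplitz operator of `X^{-N} F`. -/
lemma toep_single_mul (N : ℕ) (F : k⟦X⟧) :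
    toep iL πL (mulL (single (-(N : ℤ)) 1 * (F : k⸨X⸩))) = shift N ∘ₗ mulPS F := by
  ext h n
  simp only [toep_apply, iL_apply, mulL_apply, coeff_πL, LinearMap.comp_apply, coeff_shift,
    mulPS_apply]
  rw [mul_assoc, coeff_single_mul, one_mul, ← PowerSeries.coe_mul, sub_neg_eq_add]
  have : ((n : ℤ) + (N : ℤ)) = ((n + N : ℕ) : ℤ) := by push_cast; ring
  rw [this, coeff_coe_powerSeries]

/-- Any two Laurent series have a common denominator `X^N`. -/
lemma exists_eq_single_mul (f g : k⸨X⸩) : ∃ (N : ℕ) (F G : k⟦X⟧),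
    f = single (-(N : ℤ)) 1 * (F : k⸨X⸩) ∧ g = single (-(N : ℤ)) 1 * (G : k⸨X⸩) := by
  have key : ∀ (f : k⸨X⸩) (N : ℕ), -(N : ℤ) ≤ f.order →
      ∃ F : k⟦X⟧, f = single (-(N : ℤ)) 1 * (F : k⸨X⸩) := by
    intro f N hN
    obtain ⟨m, hm⟩ := Int.eq_ofNat_of_zero_le (sub_nonneg.2 hN)
    refine ⟨PowerSeries.X ^ m * f.powerSeriesPart, ?_⟩
    rw [PowerSeries.coe_mul, PowerSeries.coe_pow, PowerSeries.coe_X, single_pow, nsmul_eq_mul,
      mul_one, one_pow, ← mul_assoc, single_mul_single, one_mul]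
    have : -(N : ℤ) + (m : ℤ) = f.order := by omega
    rw [this, single_order_mul_powerSeriesPart]
  set N : ℕ := (max (-f.order) (-g.order)).toNat with hN
  have h1 : -(N : ℤ) ≤ f.order := by
    have := le_max_left (-f.order) (-g.order)
    have h2 := Int.self_le_toNat (max (-f.order) (-g.order))
    omega
  have h2 : -(N : ℤ) ≤ g.order := by
    have := le_max_right (-f.order) (-g.order)
    have h2 := Int.self_le_toNat (max (-f.order) (-g.order))
    omega
  obtain ⟨F, hF⟩ := key f N h1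
  obtain ⟨G, hG⟩ := key g N h2
  exact ⟨N, F, G, hF, hG⟩

section Core

variable (N : ℕ) (F G : k⟦X⟧)

lemma shift_X_pow_mul (p : k⟦X⟧) : shift N (PowerSeries.X ^ N * p) = p := by
  ext n
  rw [coeff_shift, PowerSeries.coeff_X_pow_mul]

/-- The commutator of the two Toeplitz operators. -/
noncomputable def theta : k⟦X⟧ →ₗ[k] k⟦X⟧ :=
  (shift N ∘ₗ mulPS F) ∘ₗ (shift N ∘ₗ mulPS G) - (shift N ∘ₗ mulPS G) ∘ₗ (shift N ∘ₗ mulPS F)

lemma theta_X_pow_mul (p : k⟦X⟧) : theta N F G (PowerSeries.X ^ N * p) = 0 := by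
  simp only [theta, LinearMap.sub_apply, LinearMap.comp_apply, mulPS_apply]
  have h1 : G * (PowerSeries.X ^ N * p) = PowerSeries.X ^ N * (G * p) := by ring
  have h2 : F * (PowerSeries.X ^ N * p) = PowerSeries.X ^ N * (F * p) := by ring
  rw [h1, h2, shift_X_pow_mul, shift_X_pow_mul]
  have : F * (G * p) = G * (F * p) := by ring
  rw [this, sub_self]

/-- Polynomials of degree `< N` as power series. -/
noncomputable def ιN : (Fin N → k) →ₗ[k] k⟦X⟧ where
  toFun := fun c => ∑ n : Fin N, c n • (PowerSeries.X : k⟦X⟧) ^ (n : ℕ)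
  map_add' := fun a b => by simp [add_smul, Finset.sum_add_distrib]
  map_smul' := fun c a => by simp [Finset.smul_sum, smul_smul]

/-- The first `N` coefficients. -/
noncomputable def pN : k⟦X⟧ →ₗ[k] (Fin N → k) where
  toFun := fun h n => PowerSeries.coeff (n : ℕ) h
  map_add' := fun a b => by ext n; simp
  map_smul' := fun c a => by ext n; simp

lemma coeff_ιN (c : Fin N → k) (m : ℕ) :
    PowerSeries.coeff m (ιN N c) = if h : m < N then c ⟨m, h⟩ else 0 := by
  classical
  simp only [ιN, LinearMap.coe_mk, AddHom.coe_mk, map_sum, PowerSeries.coeff_smul,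
    PowerSeries.coeff_X_pow]
  split_ifs with h
  · rw [Finset.sum_eq_single (⟨m, h⟩ : Fin N)]
    · simp
    · intro b _ hb
      have : m ≠ (b : ℕ) := fun e => hb (Fin.ext e.symm)
      simp [this]
    · intro hm; exact absurd (Finset.mem_univ _) hm
  · apply Finset.sum_eq_zero
    intro b _
    have : m ≠ (b : ℕ) := fun e => h (e ▸ b.2)
    simp [this]

lemma ιN_pN (h : k⟦X⟧) : ιN N (pN N h) = ((PowerSeries.trunc N h : Polynomial k) : k⟦X⟧) := by
  ext m
  rw [coeff_ιN, Polynomial.coeff_coe, PowerSeries.coeff_trunc]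
  split_ifs <;> simp [pN]

lemma theta_eq (h : k⟦X⟧) : theta N F G h = theta N F G (ιN N (pN N h)) := by
  conv_lhs => rw [PowerSeries.eq_X_pow_mul_shift_add_trunc N h]
  rw [map_add, theta_X_pow_mul, zero_add, ιN_pN]

lemma theta_factor : theta N F G = (theta N F G ∘ₗ ιN N) ∘ₗ pN N := by
  apply LinearMap.ext
  intro h
  rw [theta_eq]
  rfl

lemma isFR_theta : IsFR (theta N F G) := by
  rw [theta_factor]
  exact isFR_comp_right (isFR_of_finiteDimensional_dom _) _

lemma ιN_single (n : Fin N) : ιN N (Pi.single n 1) = (PowerSeries.X : k⟦X⟧) ^ (n : ℕ) := by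
  classical
  ext m
  rw [coeff_ιN, PowerSeries.coeff_X_pow]
  split_ifs with h1 h2 h2
  · have : (⟨m, h1⟩ : Fin N) = n := Fin.ext h2
    rw [this, Pi.single_eq_same]
  · have : (⟨m, h1⟩ : Fin N) ≠ n := fun e => h2 (congrArg Fin.val e)
    rw [Pi.single_eq_of_ne this]
  · exact absurd (h2 ▸ n.2) h1
  · rfl

lemma frTrace_theta : frTrace (theta N F G) =
    ∑ n : Fin N, PowerSeries.coeff (n : ℕ) (theta N F G (PowerSeries.X ^ (n : ℕ))) := by
  classical
  rw [theta_factor, frTrace_eq_of_factor,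
    LinearMap.trace_eq_matrix_trace k (Pi.basisFun k (Fin N)), Matrix.trace]
  apply Finset.sum_congr rfl
  intro n _
  rw [Matrix.diag_apply, LinearMap.toMatrix_apply, Pi.basisFun_apply, Pi.basisFun_repr]
  simp only [LinearMap.comp_apply, ιN_single]
  rw [← theta_eq]
  rfl

lemma coeff_TT_X_pow (F G : k⟦X⟧) (n : ℕ) (hn : n < N) :
    PowerSeries.coeff n ((shift N ∘ₗ mulPS F) ((shift N ∘ₗ mulPS G) (PowerSeries.X ^ n))) =
      ∑ a ∈ Finset.range (n + N + 1),
        PowerSeries.coeff a F * PowerSeries.coeff (2 * N - a) G := by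
  simp only [LinearMap.comp_apply, mulPS_apply, coeff_shift]
  rw [PowerSeries.coeff_mul, Finset.Nat.sum_antidiagonal_eq_sum_range_succ
    (fun a b => PowerSeries.coeff a F * PowerSeries.coeff b (shift N (G * PowerSeries.X ^ n)))]
  apply Finset.sum_congr rfl
  intro a ha
  rw [Finset.mem_range] at ha
  rw [coeff_shift, PowerSeries.coeff_mul_X_pow', if_pos (by omega),
    show n + N - a + N - n = 2 * N - a by omega]

end Core



lemma sum_range_eq_ite (m M : ℕ) (hm : m ≤ M) (w : ℕ → k) :
    ∑ a ∈ Finset.range m, w a =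
      ∑ a ∈ Finset.range M, (if a < m then (1 : k) else 0) * w a := by
  simp only [ite_mul, one_mul, zero_mul]
  rw [← Finset.sum_filter]
  apply Finset.sum_congr _ (fun _ _ => rfl)
  ext a; simp only [Finset.mem_filter, Finset.mem_range]; omega

lemma count1 (N a : ℕ) :
    (∑ n ∈ Finset.range N, if a < n + N + 1 then (1 : k) else 0) = ((N - (a - N) : ℕ) : k) := by
  classical
  rw [Finset.sum_boole]
  congr 1
  have : (Finset.range N).filter (fun n => a < n + N + 1) = Finset.Ico (a - N) N := by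
    ext n; simp only [Finset.mem_filter, Finset.mem_range, Finset.mem_Ico]; omega
  rw [this, Nat.card_Ico]

lemma comb_identity (N : ℕ) (w : ℕ → k) :
    ∑ n ∈ Finset.range N, (∑ a ∈ Finset.range (n + N + 1), w a -
        ∑ a ∈ Finset.range (n + N + 1), w (2 * N - a)) =
      ∑ a ∈ Finset.range (2 * N + 1), ((N : k) - a) * w a := by
  classical
  have h1 : ∀ n ∈ Finset.range N, ∑ a ∈ Finset.range (n + N + 1), w a =
      ∑ a ∈ Finset.range (2 * N + 1), (if a < n + N + 1 then (1:k) else 0) * w a := by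
    intro n hn
    rw [Finset.mem_range] at hn
    exact sum_range_eq_ite _ _ (by omega) w
  have h2 : ∀ n ∈ Finset.range N, ∑ a ∈ Finset.range (n + N + 1), w (2 * N - a) =
      ∑ a ∈ Finset.range (2 * N + 1), (if 2 * N - a < n + N + 1 then (1:k) else 0) * w a := by
    intro n hn
    rw [Finset.mem_range] at hn
    rw [← Finset.sum_range_reflect (fun a => (if 2 * N - a < n + N + 1 then (1:k) else 0) * w a),
      sum_range_eq_ite (n + N + 1) (2 * N + 1) (by omega) (fun a => w (2 * N - a))]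
    apply Finset.sum_congr rfl
    intro a ha
    rw [Finset.mem_range] at ha
    have e1 : 2 * N + 1 - 1 - a = 2 * N - a := by omega
    have e2 : (2 * N - (2 * N - a) < n + N + 1) ↔ (a < n + N + 1) := by omega
    simp only [e1, e2]
  rw [Finset.sum_congr rfl (fun n hn => by rw [h1 n hn, h2 n hn])]
  simp only [← Finset.sum_sub_distrib, ← sub_mul]
  rw [Finset.sum_comm]
  apply Finset.sum_congr rfl
  intro a ha
  rw [Finset.mem_range] at ha
  rw [← Finset.sum_mul, Finset.sum_sub_distrib, count1, count1]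
  congr 1
  rcases le_total a N with h | h
  · have e1 : a - N = 0 := by omega
    have e2 : 2 * N - a - N = N - a := by omega
    rw [e1, e2, Nat.sub_zero, Nat.cast_sub (by omega), Nat.cast_sub h]
    ring
  · have e2 : 2 * N - a - N = 0 := by omega
    rw [e2, Nat.sub_zero, Nat.cast_sub (by omega), Nat.cast_sub h]
    ring



/-- The power series with coefficients `(m - N) G_m`. -/
noncomputable def twist (N : ℕ) (G : k⟦X⟧) : k⟦X⟧ :=
  PowerSeries.mk fun m => ((m : k) - N) * PowerSeries.coeff m G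

lemma derivative_single_mul_coe (N : ℕ) (G : k⟦X⟧) :
    LaurentSeries.derivative k (single (-(N : ℤ)) (1 : k) * (G : k⸨X⸩)) =
      single (-(N : ℤ) - 1) (1 : k) * ((twist N G : k⟦X⟧) : k⸨X⸩) := by
  ext n
  rw [LocRes.derivative_coeff, coeff_single_mul, coeff_single_mul, one_mul, one_mul,
    PowerSeries.coeff_coe, PowerSeries.coeff_coe]
  have e : n + 1 - -(N : ℤ) = n - (-(N : ℤ) - 1) := by ring
  rw [e]
  split_ifs with h
  · simp
  · obtain ⟨m, hm⟩ := Int.eq_ofNat_of_zero_le (not_lt.1 h)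
    rw [hm, Int.natAbs_natCast, twist, PowerSeries.coeff_mk, zsmul_eq_mul]
    congr 1
    have : n + 1 = (m : ℤ) - N := by omega
    rw [this]
    push_cast
    ring

lemma res_side (N : ℕ) (F G : k⟦X⟧) :
    ((single (-(N : ℤ)) (1 : k) * (F : k⸨X⸩)) *
        LaurentSeries.derivative k (single (-(N : ℤ)) (1 : k) * (G : k⸨X⸩))).coeff (-1) =
      ∑ a ∈ Finset.range (2 * N + 1),
        ((N : k) - a) * (PowerSeries.coeff a F * PowerSeries.coeff (2 * N - a) G) := by
  rw [derivative_single_mul_coe]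
  have e : single (-(N : ℤ)) (1 : k) * (F : k⸨X⸩) *
      (single (-(N : ℤ) - 1) (1 : k) * ((twist N G : k⟦X⟧) : k⸨X⸩)) =
      single (-(N : ℤ) + (-(N : ℤ) - 1)) (1 : k) * ((F * twist N G : k⟦X⟧) : k⸨X⸩) := by
    rw [PowerSeries.coe_mul, ← mul_one (1 : k), ← single_mul_single, mul_one]
    ring
  rw [e, coeff_single_mul, one_mul]
  have e2 : (-1 : ℤ) - (-(N : ℤ) + (-(N : ℤ) - 1)) = ((2 * N : ℕ) : ℤ) := by push_cast; ring
  rw [e2, coeff_coe_powerSeries, PowerSeries.coeff_mul,
    Finset.Nat.sum_antidiagonal_eq_sum_range_succ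
      (fun a b => PowerSeries.coeff a F * PowerSeries.coeff b (twist N G))]
  apply Finset.sum_congr rfl
  intro a ha
  rw [Finset.mem_range] at ha
  rw [twist, PowerSeries.coeff_mk, Nat.cast_sub (by omega)]
  push_cast
  ring


/-- **Local computation of the abstract residue** (Tate): the trace of the commutator of the
Toeplitz operators of `f` and `g` is the residue of `f dg`. -/
theorem tres_local (f g : k⸨X⸩) :
    tres iL πL (mulL f) (mulL g) = (f * LaurentSeries.derivative k g).coeff (-1) := by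
  obtain ⟨N, F, G, rfl, rfl⟩ := exists_eq_single_mul f g
  rw [res_side]
  unfold tres
  rw [toep_single_mul, toep_single_mul]
  change frTrace (theta N F G) = _
  rw [frTrace_theta, Fin.sum_univ_eq_sum_range
    (fun n => PowerSeries.coeff n (theta N F G (PowerSeries.X ^ n))) N]
  rw [← comb_identity N (fun a => PowerSeries.coeff a F * PowerSeries.coeff (2 * N - a) G)]
  apply Finset.sum_congr rfl
  intro n hn
  rw [Finset.mem_range] at hn
  have h1 := coeff_TT_X_pow N F G n hn
  have h2 := coeff_TT_X_pow N G F n hn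
  simp only [LinearMap.comp_apply] at h1 h2
  simp only [theta, LinearMap.sub_apply, map_sub, LinearMap.comp_apply]
  rw [h1, h2]
  congr 1
  apply Finset.sum_congr rfl
  intro a ha
  rw [Finset.mem_range] at ha
  rw [show 2 * N - (2 * N - a) = a by omega, mul_comm]

/-- The commutator of the Toeplitz operators of two Laurent series has finite rank. -/
lemma isFR_comm_local (f g : k⸨X⸩) :
    IsFR (toep iL πL (mulL f) ∘ₗ toep iL πL (mulL g) - toep iL πL (mulL g) ∘ₗ toep iL πL (mulL f)) := by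
  obtain ⟨N, F, G, rfl, rfl⟩ := exists_eq_single_mul f g
  rw [toep_single_mul, toep_single_mul]
  exact isFR_theta N F G

/-- The polar-part operator `h ↦ f h - (f h)₊`. -/
noncomputable def polar (f : k⸨X⸩) : k⟦X⟧ →ₗ[k] k⸨X⸩ :=
  (LinearMap.id - iL ∘ₗ πL) ∘ₗ mulL f ∘ₗ iL

lemma polar_apply (f : k⸨X⸩) (h : k⟦X⟧) :
    polar f h = f * (h : k⸨X⸩) - ((πL (f * (h : k⸨X⸩)) : k⟦X⟧) : k⸨X⸩) := rfl

lemma iL_πL_coe (F : k⟦X⟧) : ((πL (F : k⸨X⸩) : k⟦X⟧) : k⸨X⸩) = (F : k⸨X⸩) := by
  have := πL_iL F
  rw [iL_apply] at this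
  rw [this]

/-- The polar-part operator of a power series vanishes. -/
lemma polar_coe (F : k⟦X⟧) : polar (F : k⸨X⸩) = 0 := by
  apply LinearMap.ext
  intro h
  rw [polar_apply, ← PowerSeries.coe_mul, iL_πL_coe, sub_self, LinearMap.zero_apply]

/-- The polar-part operator has finite rank. -/
lemma isFR_polar (f : k⸨X⸩) : IsFR (polar f) := by
  obtain ⟨N, F, -, rfl, -⟩ := exists_eq_single_mul f f
  -- factor through the first `N` coefficients of `F h`
  have e : polar (single (-(N : ℤ)) (1 : k) * (F : k⸨X⸩)) =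
      ((LinearMap.id - iL ∘ₗ πL) ∘ₗ mulL (single (-(N : ℤ)) (1 : k)) ∘ₗ iL ∘ₗ ιN N) ∘ₗ
        (pN N ∘ₗ mulPS F) := by
    apply LinearMap.ext
    intro h
    simp only [polar, LinearMap.comp_apply, LinearMap.sub_apply, LinearMap.id_apply, iL_apply,
      mulL_apply, mulPS_apply, ιN_pN]
    have hdec := PowerSeries.eq_X_pow_mul_shift_add_trunc N (F * h)
    have h1 : single (-(N : ℤ)) (1 : k) * (F : k⸨X⸩) * (h : k⸨X⸩) =
        ((PowerSeries.mk fun i => PowerSeries.coeff (i + N) (F * h) : k⟦X⟧) : k⸨X⸩) +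
          single (-(N : ℤ)) (1 : k) *
            (((PowerSeries.trunc N (F * h) : Polynomial k) : k⟦X⟧) : k⸨X⸩) := by
      rw [mul_assoc, ← PowerSeries.coe_mul]
      conv_lhs => rw [hdec]
      rw [PowerSeries.coe_add, PowerSeries.coe_mul, PowerSeries.coe_pow, PowerSeries.coe_X,
        single_pow, nsmul_eq_mul, mul_one, one_pow, mul_add, ← mul_assoc, single_mul_single,
        one_mul]
      have : -(N : ℤ) + (N : ℤ) = 0 := by ring
      rw [this]
      congr 1
      exact one_mul _
    rw [h1, map_add, map_add, iL_πL_coe]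
    abel
  rw [e]
  exact isFR_comp_right (isFR_of_finiteDimensional_dom _) _

/-- The Toeplitz operator of a power series is multiplication. -/
lemma toep_coe (F : k⟦X⟧) : toep iL πL (mulL (F : k⸨X⸩)) = mulPS F := by
  apply LinearMap.ext
  intro h
  simp only [toep_apply, iL_apply, mulL_apply, mulPS_apply]
  rw [← PowerSeries.coe_mul]
  exact πL_iL (F * h)

/-- The Toeplitz operators of two power series commute. -/
lemma comm_coe (F G : k⟦X⟧) :
    toep iL πL (mulL (F : k⸨X⸩)) ∘ₗ toep iL πL (mulL (G : k⸨X⸩)) -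
      toep iL πL (mulL (G : k⸨X⸩)) ∘ₗ toep iL πL (mulL (F : k⸨X⸩)) = 0 := by
  rw [toep_coe, toep_coe]
  apply LinearMap.ext
  intro h
  simp only [LinearMap.sub_apply, LinearMap.comp_apply, mulPS_apply, LinearMap.zero_apply]
  ring

end Groth.Agent.Lib.Helper88.TL
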