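/-
The local abstract residue over a subfield: for a finite extension `F/k`, the `k`-trace of the
commutator of Toeplitz operators on `F⟦X⟧` is `Tr_{F/k}` of the residue.
Author: helper88
-/
import Groth.Agent.Lib.Helper88.TateLocal
import Mathlib.RingTheory.Trace.Defs
import Mathlib.RingTheory.AlgebraTower

set_option autoImplicit false
set_option linter.unusedSectionVars false

namespace Groth.Agent.Lib.Helper88.FRT

open Module

variable {k F : Type*} [Field k] [Field F] [Algebra k F] [FiniteDimensional k F]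
variable {U : Type*} [AddCommGroup U] [Module F U] [Module k U] [IsScalarTower k F U]

/-- Transitivity of traces for an `F`-linear endomorphism viewed over `k`. -/
theorem trace_restrictScalars [FiniteDimensional F U] (M : U →ₗ[F] U) :
    LinearMap.trace k U (M.restrictScalars k) = Algebra.trace k F (LinearMap.trace F U M) := by
  classical
  let b := Module.finBasis k F
  let c := Module.finBasis F U
  rw [LinearMap.trace_eq_matrix_trace k (b.smulTower c), LinearMap.trace_eq_matrix_trace F c,
    Matrix.trace, Matrix.trace, map_sum, ← Finset.univ_product_univ, Finset.sum_product,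
    Finset.sum_comm]
  apply Finset.sum_congr rfl
  intro j _
  rw [Algebra.trace_eq_matrix_trace b, Matrix.trace]
  apply Finset.sum_congr rfl
  intro i _
  simp only [Matrix.diag_apply, LinearMap.toMatrix_apply, Basis.smulTower_repr_mk,
    Basis.smulTower_apply, LinearMap.restrictScalars_apply, map_smul, Finsupp.smul_apply,
    Algebra.leftMulMatrix_eq_repr_mul, smul_eq_mul]
  rw [mul_comm]

variable {V : Type*} [AddCommGroup V] [Module F V] [Module k V] [IsScalarTower k F V]

theorem isFR_restrictScalars {W : Type*} [AddCommGroup W] [Module F W] [Module k W]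
    [IsScalarTower k F W] {θ : V →ₗ[F] W} (h : IsFR θ) :
    IsFR (θ.restrictScalars k) := by
  unfold IsFR at *
  have : FiniteDimensional k (LinearMap.range θ) := FiniteDimensional.trans k F _
  have e : LinearMap.range (θ.restrictScalars k) = (LinearMap.range θ).restrictScalars k := by
    ext x; simp
  rw [e]
  exact this

theorem frTrace_restrictScalars {θ : V →ₗ[F] V} (h : IsFR θ) :
    frTrace (θ.restrictScalars k) = Algebra.trace k F (frTrace θ) := by
  unfold IsFR at h
  have hk : FiniteDimensional k (LinearMap.range θ) := FiniteDimensional.trans k F _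
  have hk' : FiniteDimensional k ((LinearMap.range θ).restrictScalars k) := hk
  rw [frTrace_eq_trace_restrict (θ.restrictScalars k) ((LinearMap.range θ).restrictScalars k)
    (by rintro _ ⟨x, rfl⟩; exact ⟨x, rfl⟩)]
  unfold frTrace
  rw [← trace_restrictScalars]
  rfl

end Groth.Agent.Lib.Helper88.FRT

namespace Groth.Agent.Lib.Helper88.TL

open Groth.Agent.Lib.Helper88.FRT
open PowerSeries HahnSeries LaurentSeries

variable (k : Type*) {F : Type*} [Field k] [Field F] [Algebra k F] [FiniteDimensional k F]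

/-- The embedding of power series into Laurent series, over the subfield `k`. -/
noncomputable def iLk : F⟦X⟧ →ₗ[k] F⸨X⸩ := (iL (k := F)).restrictScalars k

/-- The truncation of Laurent series to power series, over the subfield `k`. -/
noncomputable def πLk : F⸨X⸩ →ₗ[k] F⟦X⟧ := (πL (k := F)).restrictScalars k

/-- Multiplication by a Laurent series, over the subfield `k`. -/
noncomputable def mulLk (f : F⸨X⸩) : F⸨X⸩ →ₗ[k] F⸨X⸩ := (mulL f).restrictScalars k

/-- The polar-part operator over the subfield `k`. -/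
noncomputable def polark (f : F⸨X⸩) : F⟦X⟧ →ₗ[k] F⸨X⸩ := (polar f).restrictScalars k

@[simp] lemma iLk_apply (h : F⟦X⟧) : iLk k h = (h : F⸨X⸩) := rfl
@[simp] lemma coeff_πLk (f : F⸨X⸩) (n : ℕ) :
    PowerSeries.coeff n (πLk k f) = f.coeff (n : ℤ) := coeff_πL f n
@[simp] lemma mulLk_apply (f h : F⸨X⸩) : mulLk k f h = f * h := rfl

lemma πLk_iLk (h : F⟦X⟧) : πLk k (iLk k h) = h := πL_iL h

lemma mulLk_comm (f g : F⸨X⸩) : mulLk k f ∘ₗ mulLk k g = mulLk k g ∘ₗ mulLk k f := by
  apply LinearMap.ext
  intro h
  simp only [LinearMap.comp_apply, mulLk_apply]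
  exact mul_left_comm f g h

lemma polark_apply (f : F⸨X⸩) (h : F⟦X⟧) :
    polark k f h = f * (h : F⸨X⸩) - ((πLk k (f * (h : F⸨X⸩)) : F⟦X⟧) : F⸨X⸩) := rfl

lemma polark_coe (G : F⟦X⟧) : polark k (G : F⸨X⸩) = 0 := by
  unfold polark
  rw [polar_coe]
  rfl

lemma isFR_polark (f : F⸨X⸩) : IsFR (polark k f) :=
  isFR_restrictScalars (isFR_polar f)

lemma comm_eq_restrictScalars (f g : F⸨X⸩) :
    toep (iLk k) (πLk k) (mulLk k f) ∘ₗ toep (iLk k) (πLk k) (mulLk k g) -
        toep (iLk k) (πLk k) (mulLk k g) ∘ₗ toep (iLk k) (πLk k) (mulLk k f) =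
      (toep iL πL (mulL f) ∘ₗ toep iL πL (mulL g) -
        toep iL πL (mulL g) ∘ₗ toep iL πL (mulL f)).restrictScalars k := rfl

/-- **Local computation over a subfield.** -/
theorem tres_local_tr (f g : F⸨X⸩) :
    tres (iLk k) (πLk k) (mulLk k f) (mulLk k g) =
      Algebra.trace k F ((f * LaurentSeries.derivative F g).coeff (-1)) := by
  unfold tres
  rw [comm_eq_restrictScalars, frTrace_restrictScalars (isFR_comm_local f g)]
  congr 1
  exact tres_local f g

lemma isFR_comm_local_tr (f g : F⸨X⸩) :
    IsFR (toep (iLk k) (πLk k) (mulLk k f) ∘ₗ toep (iLk k) (πLk k) (mulLk k g) -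
        toep (iLk k) (πLk k) (mulLk k g) ∘ₗ toep (iLk k) (πLk k) (mulLk k f)) := by
  rw [comm_eq_restrictScalars]
  exact isFR_restrictScalars (isFR_comm_local f g)

lemma comm_coe_tr (G H : F⟦X⟧) :
    toep (iLk k) (πLk k) (mulLk k (G : F⸨X⸩)) ∘ₗ toep (iLk k) (πLk k) (mulLk k (H : F⸨X⸩)) -
      toep (iLk k) (πLk k) (mulLk k (H : F⸨X⸩)) ∘ₗ toep (iLk k) (πLk k) (mulLk k (G : F⸨X⸩)) =
        0 := by
  rw [comm_eq_restrictScalars, comm_coe]
  rfl

end Groth.Agent.Lib.Helper88.TL
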