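/-
Diagonal operators on products of vector spaces with finitely many nonzero, finite-rank
components: finite rank and trace.
Author: helper88
-/
import Groth.Agent.Lib.Helper88.TateRes

set_option autoImplicit false
set_option linter.unusedSectionVars false

namespace Groth.Agent.Lib.Helper88.FRT

open LinearMap

variable {k : Type*} [Field k] {ι : Type*}
variable {A : ι → Type*} [∀ i, AddCommGroup (A i)] [∀ i, Module k (A i)]
variable {B : ι → Type*} [∀ i, AddCommGroup (B i)] [∀ i, Module k (B i)]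
variable {C : ι → Type*} [∀ i, AddCommGroup (C i)] [∀ i, Module k (C i)]

/-- The diagonal operator with components `θ i`. -/
def diagOp (θ : ∀ i, A i →ₗ[k] B i) : (∀ i, A i) →ₗ[k] (∀ i, B i) :=
  LinearMap.pi fun i => θ i ∘ₗ LinearMap.proj i

@[simp] lemma diagOp_apply (θ : ∀ i, A i →ₗ[k] B i) (a : ∀ i, A i) (i : ι) :
    diagOp θ a i = θ i (a i) := rfl

lemma diagOp_comp (θ : ∀ i, B i →ₗ[k] C i) (θ' : ∀ i, A i →ₗ[k] B i) :
    diagOp θ ∘ₗ diagOp θ' = diagOp (fun i => θ i ∘ₗ θ' i) := rfl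

lemma diagOp_sub (θ θ' : ∀ i, A i →ₗ[k] B i) :
    diagOp θ - diagOp θ' = diagOp (fun i => θ i - θ' i) := rfl

lemma diagOp_eq_sum [DecidableEq ι] (θ : ∀ i, A i →ₗ[k] B i) (S : Finset ι)
    (h : ∀ i, i ∉ S → θ i = 0) :
    diagOp θ = ∑ i ∈ S, (LinearMap.single k B i ∘ₗ θ i) ∘ₗ LinearMap.proj i := by
  apply LinearMap.ext
  intro a
  funext j
  rw [diagOp_apply, LinearMap.sum_apply, Finset.sum_apply]
  by_cases hj : j ∈ S
  · rw [Finset.sum_eq_single j]
    · simp
    · intro i _ hij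
      simp [Pi.single_apply, hij.symm]
    · intro hj'; exact absurd hj hj'
  · rw [h j hj, LinearMap.zero_apply, Finset.sum_eq_zero]
    intro i hi
    have hij : i ≠ j := fun e => hj (e ▸ hi)
    simp [Pi.single_apply, hij.symm]

lemma isFR_diagOp (θ : ∀ i, A i →ₗ[k] B i) (S : Finset ι)
    (h0 : ∀ i, i ∉ S → θ i = 0) (hFR : ∀ i ∈ S, IsFR (θ i)) : IsFR (diagOp θ) := by
  classical
  rw [diagOp_eq_sum θ S h0]
  apply isFR_finset_sum
  intro i hi
  exact isFR_comp_right (isFR_comp_left (hFR i hi) _) _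

theorem frTrace_diagOp (θ : ∀ i, A i →ₗ[k] A i) (S : Finset ι)
    (h0 : ∀ i, i ∉ S → θ i = 0) (hFR : ∀ i ∈ S, IsFR (θ i)) :
    frTrace (diagOp θ) = ∑ i ∈ S, frTrace (θ i) := by
  classical
  rw [diagOp_eq_sum θ S h0, frTrace_finset_sum]
  · apply Finset.sum_congr rfl
    intro i hi
    rw [frTrace_comp_comm (isFR_comp_left (hFR i hi) _)]
    congr 1
    apply LinearMap.ext
    intro a
    simp
  · intro i hi
    exact isFR_comp_right (isFR_comp_left (hFR i hi) _) _

end Groth.Agent.Lib.Helper88.FRT
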