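/-
The residue theorem for function fields of one variable, after Tate: the sum over all places of the
local residues (read through Laurent expansions, traced down to the constant field) vanishes.
Author: helper88
-/
import Groth.Agent.Lib.Helper88.TateLocalTr
import Groth.Agent.Lib.Helper88.TateProd
import Groth.Agent.Lib.Helper88.FunFldWeil
import Groth.Prelude.Def_LocRes

set_option autoImplicit false
set_option linter.unusedSectionVars false

namespace Groth.Agent.Lib.Helper88.FRT

variable {k : Type*} [Field k]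
variable {V : Type*} [AddCommGroup V] [Module k V]
variable {A : Type*} [AddCommGroup A] [Module k A]
variable {W : Type*} [AddCommGroup W] [Module k W]
variable {U : Type*} [AddCommGroup U] [Module k U]

lemma almostPres_of_isFR (i : A →ₗ[k] V) (π : V →ₗ[k] A) (f : V →ₗ[k] V)
    (h : IsFR ((LinearMap.id - i ∘ₗ π) ∘ₗ f ∘ₗ i)) : AlmostPres i f := by
  refine ⟨LinearMap.range ((LinearMap.id - i ∘ₗ π) ∘ₗ f ∘ₗ i), h, ?_⟩
  intro a
  have e : f (i a) = i (π (f (i a))) + ((LinearMap.id - i ∘ₗ π) ∘ₗ f ∘ₗ i) a := by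
    simp
  rw [e]
  exact Submodule.add_mem_sup ⟨_, rfl⟩ ⟨a, rfl⟩

lemma isFR_of_comp_injective {θ : V →ₗ[k] W} {j : W →ₗ[k] U} (hj : Function.Injective j)
    (h : IsFR (j ∘ₗ θ)) : IsFR θ := by
  unfold IsFR at *
  rw [LinearMap.range_comp] at h
  exact LinearEquiv.finiteDimensional (Submodule.equivMapOfInjective j hj (LinearMap.range θ)).symm

end Groth.Agent.Lib.Helper88.FRT

namespace Groth.Agent.Lib.Helper88.TG

open FunFld WithZero
open Groth.Agent.Lib.Helper88.FRT Groth.Agent.Lib.Helper88.TL Groth.Agent.Lib.Helper88.FF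
open LaurentSeries

universe u v w

variable {k : Type u} {K : Type v} [Field k] [Field K] [Algebra k K]

/-! ### Expansions at a single place -/

section Local

variable {F₀ : Type w} [Field F₀] [Algebra k F₀] [FiniteDimensional k F₀]

lemma mem_range_iLk_iff (f : F₀⸨X⸩) :
    f ∈ LinearMap.range (iLk k (F := F₀)) ↔ Valued.v f ≤ (1 : ℤᵐ⁰) := by
  rw [LaurentSeries.val_le_one_iff_eq_coe]
  constructor
  · rintro ⟨G, rfl⟩; exact ⟨G, rfl⟩
  · rintro ⟨G, rfl⟩; exact ⟨G, rfl⟩

/-- Expansions are `k`-linear for the coefficientwise scalar action. -/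
lemma exp_smul (ψ : K →ₐ[k] F₀⸨X⸩) (c : k) (u : K) : ψ (c • u) = c • ψ u := by
  rw [Algebra.smul_def, map_mul, LocRes.map_algebraMap, HahnSeries.C_mul_eq_smul,
    algebraMap_smul]

variable {w : Valuation K ℤᵐ⁰} {ψ : K →ₐ[k] F₀⸨X⸩}

lemma exp_mem_range_iff (hψ : LocRes.IsExpansionAt w ψ) (u : K) :
    ψ u ∈ LinearMap.range (iLk k (F := F₀)) ↔ w u ≤ 1 := by
  rw [mem_range_iLk_iff, hψ.1]

/-- A power series with vanishing constant coefficient has valuation at most `exp (-1)`. -/
lemma val_le_exp_neg_one_of_coeff_zero {f : F₀⸨X⸩} (hf : Valued.v f ≤ (1 : ℤᵐ⁰))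
    (h0 : f.coeff 0 = 0) : Valued.v f ≤ exp (-1 : ℤ) := by
  have h1 : (1 : ℤᵐ⁰) = exp (-(0 : ℤ)) := by simp
  rw [h1, LaurentSeries.valuation_le_iff_coeff_lt_eq_zero] at hf
  have h2 : exp (-1 : ℤ) = exp (-(1 : ℤ)) := rfl
  rw [h2, LaurentSeries.valuation_le_iff_coeff_lt_eq_zero]
  intro n hn
  rcases lt_or_eq_of_le (Int.lt_add_one_iff.1 (by simpa using hn) : n ≤ 0) with h | h
  · exact hf n h
  · rw [h, h0]

/-- **Lifting polar parts**: every Laurent series agrees with the expansion of an element of `K` up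
to a power series. -/
lemma exists_polar_lift (hψ : LocRes.IsExpansionAt w ψ) (h : F₀⸨X⸩) :
    ∃ a : K, Valued.v (ψ a - h) ≤ (1 : ℤᵐ⁰) := by
  obtain ⟨hv, hres, t, ht⟩ := hψ
  have key : ∀ N : ℕ, ∀ h : F₀⸨X⸩, Valued.v h ≤ exp (N : ℤ) →
      ∃ a : K, Valued.v (ψ a - h) ≤ (1 : ℤᵐ⁰) := by
    intro N
    induction N with
    | zero =>
      intro h hh
      refine ⟨0, ?_⟩
      rw [map_zero, zero_sub, Valuation.map_neg]
      simpa using hh
    | succ N ih =>
      intro h hh
      set s : K := (t⁻¹) ^ (N + 1) with hs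
      have hws : w s = exp ((N : ℤ) + 1) := by
        rw [hs, map_pow, map_inv₀, ht, ← exp_neg, neg_neg, ← exp_nsmul]
        congr 1
        simp
      have hvs : Valued.v (ψ s) = exp ((N : ℤ) + 1) := by rw [hv, hws]
      have hs0 : ψ s ≠ 0 := by
        intro h0
        rw [h0, map_zero] at hvs
        exact exp_ne_zero hvs.symm
      set h' : F₀⸨X⸩ := h * (ψ s)⁻¹ with hh'
      have hvh' : Valued.v h' ≤ (1 : ℤᵐ⁰) := by
        rw [hh', map_mul, map_inv₀, hvs]
        have : exp ((N : ℤ) + 1) ≠ 0 := exp_ne_zero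
        rw [← le_mul_inv_iff₀ (by simp [zero_lt_iff]) ] 
        simpa using hh
      obtain ⟨f₀, hf₀, hc⟩ := hres (h'.coeff 0)
      have hvf₀ : Valued.v (ψ f₀) ≤ (1 : ℤᵐ⁰) := by rw [hv]; exact hf₀
      have h1 : Valued.v (h' - ψ f₀) ≤ exp (-1 : ℤ) := by
        apply val_le_exp_neg_one_of_coeff_zero
        · exact (Valuation.map_sub _ _ _).trans (max_le hvh' hvf₀)
        · rw [HahnSeries.coeff_sub, hc, sub_self]
      have h2 : Valued.v (h - ψ (f₀ * s)) ≤ exp (N : ℤ) := by
        have e : h - ψ (f₀ * s) = (h' - ψ f₀) * ψ s := by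
          rw [map_mul, sub_mul, hh', mul_assoc, inv_mul_cancel₀ hs0, mul_one]
        rw [e, map_mul, hvs]
        calc Valued.v (h' - ψ f₀) * exp ((N : ℤ) + 1) ≤ exp (-1 : ℤ) * exp ((N : ℤ) + 1) :=
              mul_le_mul' h1 le_rfl
          _ = exp (N : ℤ) := by rw [← exp_add]; congr 1; ring
      obtain ⟨a₂, ha₂⟩ := ih (h - ψ (f₀ * s)) h2
      refine ⟨f₀ * s + a₂, ?_⟩
      have e : ψ (f₀ * s + a₂) - h = ψ a₂ - (h - ψ (f₀ * s)) := by
        rw [map_add]; ring
      rw [e]
      exact ha₂
  rcases eq_or_ne (Valued.v h) 0 with h0 | h0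
  · exact key 0 h (by rw [h0]; exact zero_le')
  · refine key (log (Valued.v h)).toNat h ?_
    conv_lhs => rw [← exp_log h0]
    rw [exp_le_exp]
    exact Int.self_le_toNat _

end Local

/-! ### The restricted product of the Laurent series fields -/

section Global

variable (k) (F : Place k K → Type w) [∀ P, Field (F P)] [∀ P, Algebra k (F P)]
  [∀ P, FiniteDimensional k (F P)]

/-- The restricted product of the fields `F_P⸨X⸩` with respect to the rings `F_P⟦X⟧`. -/
def RP : Submodule k (∀ P : Place k K, (F P)⸨X⸩) where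
  carrier := {a | ∀ᶠ P in Filter.cofinite, a P ∈ LinearMap.range (iLk k (F := F P))}
  add_mem' := fun {a b} ha hb => by
    have ha' : ∀ᶠ P in Filter.cofinite, a P ∈ LinearMap.range (iLk k (F := F P)) := ha
    have hb' : ∀ᶠ P in Filter.cofinite, b P ∈ LinearMap.range (iLk k (F := F P)) := hb
    exact (ha'.and hb').mono fun P h => Submodule.add_mem _ h.1 h.2
  zero_mem' := by
    show ∀ᶠ P in Filter.cofinite, (0 : ∀ P : Place k K, (F P)⸨X⸩) P ∈
      LinearMap.range (iLk k (F := F P))
    exact Filter.Eventually.of_forall fun P => Submodule.zero_mem _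
  smul_mem' := fun c a ha => by
    have ha' : ∀ᶠ P in Filter.cofinite, a P ∈ LinearMap.range (iLk k (F := F P)) := ha
    exact ha'.mono fun P h => Submodule.smul_mem _ c h

/-- The product of the power series rings. -/
abbrev AP : Type _ := ∀ P : Place k K, PowerSeries (F P)

variable {k F}

lemma mem_RP_iff (a : ∀ P : Place k K, (F P)⸨X⸩) :
    a ∈ RP k F ↔ ∀ᶠ P in Filter.cofinite, a P ∈ LinearMap.range (iLk k (F := F P)) := Iff.rfl

variable (k F)

/-- The inclusion of the product of the power series rings. -/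
noncomputable def iG : AP k F →ₗ[k] RP k F :=
  (diagOp fun P => iLk k (F := F P)).codRestrict (RP k F)
    (fun a => by
      show ∀ᶠ P in Filter.cofinite, (diagOp (fun P => iLk k (F := F P)) a) P ∈
        LinearMap.range (iLk k (F := F P))
      exact Filter.Eventually.of_forall fun P => ⟨a P, rfl⟩)

/-- The componentwise truncation. -/
noncomputable def πG : RP k F →ₗ[k] AP k F :=
  diagOp (fun P => πLk k (F := F P)) ∘ₗ (RP k F).subtype

variable {k F}

@[simp] lemma iG_apply (a : AP k F) (P : Place k K) :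
    (iG k F a : ∀ P : Place k K, (F P)⸨X⸩) P = ((a P : PowerSeries (F P)) : (F P)⸨X⸩) := rfl

@[simp] lemma πG_apply (a : RP k F) (P : Place k K) :
    πG k F a P = πLk k ((a : ∀ P : Place k K, (F P)⸨X⸩) P) := rfl

lemma πG_iG (a : AP k F) : πG k F (iG k F a) = a := by
  funext P
  exact πLk_iLk k (a P)

/-- A family of expansions all but finitely many of which are integral on each element. -/
def GoodFam (φ : ∀ P : Place k K, K →ₐ[k] (F P)⸨X⸩) : Prop :=
  ∀ u : K, ∀ᶠ P in Filter.cofinite, φ P u ∈ LinearMap.range (iLk k (F := F P))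

variable {φ : ∀ P : Place k K, K →ₐ[k] (F P)⸨X⸩}

/-- Componentwise multiplication by the expansions of `u`. -/
noncomputable def MG (hφ : GoodFam φ) (u : K) : RP k F →ₗ[k] RP k F :=
  (diagOp fun P => mulLk k (φ P u)).restrict (p := RP k F) (q := RP k F) (fun a ha => by
    have ha' : ∀ᶠ P in Filter.cofinite, a P ∈ LinearMap.range (iLk k (F := F P)) := ha
    refine ((hφ u).and ha').mono fun P h => ?_
    obtain ⟨⟨G, hG⟩, ⟨H, hH⟩⟩ := h
    refine ⟨G * H, ?_⟩
    rw [diagOp_apply, mulLk_apply, ← hG, ← hH, iLk_apply, iLk_apply, iLk_apply,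
      PowerSeries.coe_mul])

@[simp] lemma MG_apply (hφ : GoodFam φ) (u : K) (a : RP k F) (P : Place k K) :
    (MG hφ u a : ∀ P : Place k K, (F P)⸨X⸩) P =
      φ P u * (a : ∀ P : Place k K, (F P)⸨X⸩) P := rfl

/-- The diagonal embedding of `K` through the expansions. -/
noncomputable def δG (hφ : GoodFam φ) : K →ₗ[k] RP k F where
  toFun := fun u => ⟨fun P => φ P u, hφ u⟩
  map_add' := fun a b => by
    apply Subtype.ext
    funext P
    simp
  map_smul' := fun c a => by
    apply Subtype.ext
    funext P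
    simp only [RingHom.id_apply, Submodule.coe_smul, Pi.smul_apply]
    exact exp_smul (φ P) c a

@[simp] lemma δG_apply (hφ : GoodFam φ) (u : K) (P : Place k K) :
    (δG hφ u : ∀ P : Place k K, (F P)⸨X⸩) P = φ P u := rfl

lemma MG_comm (hφ : GoodFam φ) (u v : K) : MG hφ u ∘ₗ MG hφ v = MG hφ v ∘ₗ MG hφ u := by
  apply LinearMap.ext
  intro a
  apply Subtype.ext
  funext P
  simp only [LinearMap.comp_apply, MG_apply]
  exact mul_left_comm _ _ _

lemma MG_δG (hφ : GoodFam φ) (u w : K) : MG hφ u (δG hφ w) = δG hφ (u * w) := by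
  apply Subtype.ext
  funext P
  simp only [MG_apply, δG_apply, map_mul]

lemma toep_MG (hφ : GoodFam φ) (u : K) :
    toep (iG k F) (πG k F) (MG hφ u) =
      diagOp fun P => toep (iLk k) (πLk k) (mulLk k (φ P u)) := rfl

/-- The subtype of the restricted product composed with the polar-part operator. -/
lemma subtype_polar (hφ : GoodFam φ) (u : K) :
    (RP k F).subtype ∘ₗ ((LinearMap.id - iG k F ∘ₗ πG k F) ∘ₗ MG hφ u ∘ₗ iG k F) =
      diagOp fun P => polark k (φ P u) := rfl

lemma almostPres_MG (hφ : GoodFam φ) (u : K) : AlmostPres (iG k F) (MG hφ u) := by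
  classical
  apply almostPres_of_isFR (iG k F) (πG k F)
  apply isFR_of_comp_injective (j := (RP k F).subtype) (Submodule.injective_subtype _)
  rw [subtype_polar]
  have hfin : {P : Place k K | ¬ φ P u ∈ LinearMap.range (iLk k (F := F P))}.Finite := hφ u
  apply isFR_diagOp _ hfin.toFinset
  · intro P hP
    rw [Set.Finite.mem_toFinset, Set.mem_ofPred_eq, not_not] at hP
    obtain ⟨G, hG⟩ := hP
    rw [← hG]
    exact polark_coe k G
  · intro P _
    exact isFR_polark k _

/-- The global abstract residue is the sum of the local residues. -/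
theorem tres_MG (hφ : GoodFam φ) (u v : K) (S : Finset (Place k K))
    (hS : ∀ P, P ∉ S → φ P u ∈ LinearMap.range (iLk k (F := F P)) ∧
      φ P v ∈ LinearMap.range (iLk k (F := F P))) :
    tres (iG k F) (πG k F) (MG hφ u) (MG hφ v) = ∑ P ∈ S, LocRes.locRes (φ P) u v := by
  unfold tres
  rw [toep_MG, toep_MG, diagOp_comp, diagOp_comp, diagOp_sub, frTrace_diagOp _ S]
  · apply Finset.sum_congr rfl
    intro P _
    exact tres_local_tr k (φ P u) (φ P v)
  · intro P hP
    obtain ⟨⟨G, hG⟩, ⟨H, hH⟩⟩ := hS P hP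
    rw [← hG, ← hH]
    exact comm_coe_tr k G H
  · intro P _
    exact isFR_comm_local_tr k _ _

end Global

/-! ### The residue theorem -/

section Residue

variable {F : Place k K → Type w} [∀ P, Field (F P)] [∀ P, Algebra k (F P)]
  [∀ P, FiniteDimensional k (F P)]
variable {φ : ∀ P : Place k K, K →ₐ[k] (F P)⸨X⸩}

lemma goodFam (hK : IsFunctionField k K) (hexp : ∀ P, LocRes.IsExpansionAt P.1 (φ P)) :
    GoodFam φ := by
  intro u
  have h := diag_mem_adele hK u
  rw [mem_adele_iff] at h
  rw [Filter.eventually_cofinite]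
  refine h.subset fun P hP => ?_
  rw [Set.mem_ofPred_eq, exp_mem_range_iff (hexp P)] at hP
  exact hP

/-- The local residue vanishes where both functions are integral. -/
lemma locRes_eq_zero_of_mem {F₀ : Type w} [Field F₀] [Algebra k F₀] [FiniteDimensional k F₀]
    (ψ : K →ₐ[k] F₀⸨X⸩) {u v : K}
    (hu : ψ u ∈ LinearMap.range (iLk k (F := F₀))) (hv : ψ v ∈ LinearMap.range (iLk k (F := F₀))) :
    LocRes.locRes ψ u v = 0 := by
  obtain ⟨G, hG⟩ := hu
  obtain ⟨H, hH⟩ := hv
  rw [iLk_apply] at hG hH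
  unfold LocRes.locRes LocRes.resExp
  rw [LocRes.res_apply, LocRes.D_apply, ← hG, ← hH, LocRes.derivative_coe, ← PowerSeries.coe_mul,
    PowerSeries.coeff_coe, if_pos (by norm_num), map_zero]

/-- Elements all of whose components are integral come from the product of the power series
rings. -/
lemma mem_range_iG {b : RP k F}
    (hb : ∀ P, (b : ∀ P : Place k K, (F P)⸨X⸩) P ∈ LinearMap.range (iLk k (F := F P))) :
    b ∈ LinearMap.range (iG k F) := by
  refine ⟨πG k F b, ?_⟩
  apply Subtype.ext
  funext P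
  obtain ⟨G, hG⟩ := hb P
  rw [iG_apply, πG_apply, ← hG]
  have := πLk_iLk k G
  rw [this]
  rfl

variable (hK : IsFunctionField k K) (hexp : ∀ P, LocRes.IsExpansionAt P.1 (φ P))

/-- The componentwise expansion of repartitions. -/
noncomputable def ΦA : adele k K →ₗ[k] RP k F where
  toFun := fun a => ⟨fun P => φ P ((a : Place k K → K) P), by
    have h := a.2
    rw [mem_adele_iff] at h
    rw [mem_RP_iff, Filter.eventually_cofinite]
    refine h.subset fun P hP => ?_
    rw [Set.mem_ofPred_eq, exp_mem_range_iff (hexp P)] at hP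
    exact hP⟩
  map_add' := fun a b => by
    apply Subtype.ext
    funext P
    simp
  map_smul' := fun c a => by
    apply Subtype.ext
    funext P
    simp only [RingHom.id_apply, Submodule.coe_smul, Pi.smul_apply]
    exact exp_smul (φ P) c _

@[simp] lemma ΦA_apply (a : adele k K) (P : Place k K) :
    (ΦA hexp a : ∀ P : Place k K, (F P)⸨X⸩) P = φ P ((a : Place k K → K) P) := rfl

include hK hexp in
lemma inf_le_map_L :
    LinearMap.range (iG k F) ⊓ LinearMap.range (δG (goodFam hK hexp)) ≤
      (L (0 : Divisor k K)).map (δG (goodFam hK hexp)) := by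
  rintro x ⟨⟨a, ha⟩, ⟨w, hw⟩⟩
  refine ⟨w, ?_, hw⟩
  intro P
  rw [Finsupp.zero_apply, exp_zero, ← exp_mem_range_iff (hexp P)]
  have h1 : (x : ∀ P : Place k K, (F P)⸨X⸩) P = φ P w := by rw [← hw]; rfl
  rw [← h1, ← ha]
  exact ⟨a P, rfl⟩

include hK hexp in
/-- Every element of the restricted product is the expansion of a repartition up to an
integral element. -/
lemma exists_adele_sub_mem (b : RP k F) :
    ∃ a : adele k K, b - ΦA hexp a ∈ LinearMap.range (iG k F) := by
  classical
  have hb := b.2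
  rw [mem_RP_iff, Filter.eventually_cofinite] at hb
  have hch : ∀ P : Place k K, ∃ z : K,
      Valued.v (φ P z - (b : ∀ P : Place k K, (F P)⸨X⸩) P) ≤ (1 : ℤᵐ⁰) :=
    fun P => exists_polar_lift (hexp P) _
  choose z hz using hch
  let a₀ : Place k K → K := fun P =>
    if (b : ∀ P : Place k K, (F P)⸨X⸩) P ∈ LinearMap.range (iLk k (F := F P)) then 0 else z P
  have ha₀ : a₀ ∈ adele k K := by
    rw [mem_adele_iff]
    refine hb.subset fun P hP => ?_
    rw [Set.mem_ofPred_eq] at hP ⊢
    intro hmem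
    apply hP
    simp only [a₀, if_pos hmem, map_zero]
    exact zero_le'
  refine ⟨⟨a₀, ha₀⟩, ?_⟩
  apply mem_range_iG
  intro P
  show (b : ∀ P : Place k K, (F P)⸨X⸩) P - φ P (a₀ P) ∈ _
  by_cases hmem : (b : ∀ P : Place k K, (F P)⸨X⸩) P ∈ LinearMap.range (iLk k (F := F P))
  · simp only [a₀, if_pos hmem, map_zero, sub_zero]
    exact hmem
  · simp only [a₀, if_neg hmem]
    rw [mem_range_iLk_iff, ← Valuation.map_neg, neg_sub]
    exact hz P

include hK hexp in
/-- The images of the integral elements and of the field, together with a finite-dimensional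
space, span the restricted product. -/
lemma exists_fd_sup_eq_top :
    ∃ H : Submodule k (RP k F), FiniteDimensional k H ∧
      LinearMap.range (iG k F) ⊔ LinearMap.range (δG (goodFam hK hexp)) ⊔ H = ⊤ := by
  obtain ⟨H₀, hH₀⟩ := Submodule.exists_isCompl (ADK (0 : Divisor k K))
  have hfd : FiniteDimensional k H₀ := by
    have := (finrank_adele_quot hK (0 : Divisor k K)).1
    exact LinearEquiv.finiteDimensional (Submodule.quotientEquivOfIsCompl _ _ hH₀)
  refine ⟨H₀.map (ΦA hexp), inferInstance, ?_⟩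
  rw [eq_top_iff]
  rintro b -
  obtain ⟨a, ha⟩ := exists_adele_sub_mem hK hexp b
  have htop : a ∈ ADK (0 : Divisor k K) ⊔ H₀ := by rw [hH₀.sup_eq_top]; trivial
  obtain ⟨x, hx, h₀, hh₀, hxh⟩ := Submodule.mem_sup.1 htop
  have hx' : (x : Place k K → K) ∈ AD (0 : Divisor k K) ⊔ LinearMap.range (diag k K) := hx
  obtain ⟨a₁, ha₁, d, ⟨w, rfl⟩, hsum⟩ := Submodule.mem_sup.1 hx'
  -- `ΦA x = iG c + δG w`
  have hΦx : ΦA hexp x - δG (goodFam hK hexp) w ∈ LinearMap.range (iG k F) := by
    apply mem_range_iG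
    intro P
    show φ P ((x : Place k K → K) P) - φ P w ∈ _
    rw [← hsum, Pi.add_apply, map_add]
    have : diag k K w P = w := rfl
    rw [this, add_sub_cancel_right, exp_mem_range_iff (hexp P)]
    have := ha₁ P
    rwa [Finsupp.zero_apply, exp_zero] at this
  have e : b = (b - ΦA hexp a) + (ΦA hexp x - δG (goodFam hK hexp) w) +
      δG (goodFam hK hexp) w + ΦA hexp h₀ := by
    rw [← hxh, map_add]; abel
  rw [e]
  refine Submodule.add_mem _ (Submodule.add_mem _ (Submodule.add_mem _ ?_ ?_) ?_) ?_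
  · exact Submodule.mem_sup_left (Submodule.mem_sup_left ha)
  · exact Submodule.mem_sup_left (Submodule.mem_sup_left hΦx)
  · exact Submodule.mem_sup_left (Submodule.mem_sup_right ⟨w, rfl⟩)
  · exact Submodule.mem_sup_right ⟨h₀, hh₀, rfl⟩

include hK hexp in
/-- **The residue theorem**: the sum of the local residues of `u dv` over a finite set of places
containing the poles of `u` and `v` vanishes. -/
theorem residue_theorem (u v : K) (S : Finset (Place k K))
    (hS : ∀ P, P ∉ S → P.1 u ≤ 1 ∧ P.1 v ≤ 1) :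
    ∑ P ∈ S, LocRes.locRes (φ P) u v = 0 := by
  have hφ := goodFam hK hexp
  rw [← tres_MG hφ u v S (fun P hP => by
    rw [exp_mem_range_iff (hexp P), exp_mem_range_iff (hexp P)]; exact hS P hP)]
  obtain ⟨H, hHfd, hH⟩ := exists_fd_sup_eq_top hK hexp
  have hL := finiteDimensional_L hK (0 : Divisor k K)
  refine tres_eq_zero (iG k F) (πG k F) πG_iG (LinearMap.range (δG hφ)) (MG_comm hφ u v)
    (almostPres_MG hφ u) (almostPres_MG hφ v) ?_ ?_ ?_ H hH
  · rintro _ ⟨w, rfl⟩
    exact ⟨u * w, (MG_δG hφ u w).symm⟩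
  · rintro _ ⟨w, rfl⟩
    exact ⟨v * w, (MG_δG hφ v w).symm⟩
  · exact Submodule.finiteDimensional_of_le (inf_le_map_L hK hexp)

include hK hexp in
lemma locRes_support_finite (u v : K) :
    (Function.support fun P : Place k K => LocRes.locRes (φ P) u v).Finite := by
  have hφ := goodFam hK hexp
  have h1 := hφ u
  have h2 := hφ v
  rw [Filter.eventually_cofinite] at h1 h2
  refine (h1.union h2).subset fun P hP => ?_
  rw [Function.mem_support] at hP
  by_contra hcon
  rw [Set.mem_union, Set.mem_ofPred_eq, Set.mem_ofPred_eq, not_or, not_not, not_not] at hcon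
  exact hP (locRes_eq_zero_of_mem (φ P) hcon.1 hcon.2)

include hK hexp in
/-- The residue theorem, as a finite sum over all places. -/
theorem residue_theorem' (u v : K) : ∑ᶠ P : Place k K, LocRes.locRes (φ P) u v = 0 := by
  have hfin := locRes_support_finite hK hexp u v
  have hφ := goodFam hK hexp
  have h1 := hφ u
  have h2 := hφ v
  rw [Filter.eventually_cofinite] at h1 h2
  rw [finsum_eq_sum_of_support_subset (s := (h1.union h2).toFinset)]
  · apply residue_theorem hK hexp
    intro P hP
    rw [Set.Finite.mem_toFinset, Set.mem_union, Set.mem_ofPred_eq, Set.mem_ofPred_eq, not_or,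
      not_not, not_not, exp_mem_range_iff (hexp P), exp_mem_range_iff (hexp P)] at hP
    exact hP
  · intro P hP
    rw [Function.mem_support] at hP
    rw [Set.Finite.coe_toFinset]
    by_contra hcon
    rw [Set.mem_union, Set.mem_ofPred_eq, Set.mem_ofPred_eq, not_or, not_not, not_not] at hcon
    exact hP (locRes_eq_zero_of_mem (φ P) hcon.1 hcon.2)

end Residue

end Groth.Agent.Lib.Helper88.TG
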