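/-
The Weil differential of a Kähler differential `u dv` of a function field of one variable, through
residues read off Laurent expansions, and its divisor.
Author: helper88
-/
import Groth.Agent.Lib.Helper88.TateGlobal
import Groth.Agent.Lib.Helper88.FunFldRR

set_option autoImplicit false
set_option linter.unusedSectionVars false

namespace Groth.Agent.Lib.Helper88.TG

open FunFld WithZero
open Groth.Agent.Lib.Helper88.FRT Groth.Agent.Lib.Helper88.TL Groth.Agent.Lib.Helper88.FF
open LaurentSeries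

universe u v w

variable {k : Type u} {K : Type v} [Field k] [Field K] [Algebra k K]

/-! ### Local lemmas -/

section Local

variable {F₀ : Type w} [Field F₀] [Algebra k F₀] [FiniteDimensional k F₀]
variable {w : Valuation K ℤᵐ⁰} {ψ : K →ₐ[k] F₀⸨X⸩}

/-- **Density**: every Laurent series is approximated to any order by expansions. -/
lemma exists_approx (hψ : LocRes.IsExpansionAt w ψ) (h : F₀⸨X⸩) (N : ℤ) :
    ∃ z : K, Valued.v (ψ z - h) ≤ exp N := by
  obtain ⟨t, ht⟩ := hψ.2.2
  set s : K := t ^ (-N) with hs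
  have hws : w s = exp N := by
    rw [hs, map_zpow₀, ht, ← exp_zsmul]
    congr 1
    simp
  have hvs : Valued.v (ψ s) = exp N := by rw [hψ.1, hws]
  have hs0 : ψ s ≠ 0 := by
    intro h0
    rw [h0, map_zero] at hvs
    exact exp_ne_zero hvs.symm
  obtain ⟨a', ha'⟩ := exists_polar_lift hψ (h * (ψ s)⁻¹)
  refine ⟨a' * s, ?_⟩
  have e : ψ (a' * s) - h = (ψ a' - h * (ψ s)⁻¹) * ψ s := by
    rw [map_mul, sub_mul, mul_assoc, inv_mul_cancel₀ hs0, mul_one]
  rw [e, map_mul, hvs]
  calc Valued.v (ψ a' - h * (ψ s)⁻¹) * exp N ≤ 1 * exp N := mul_le_mul' ha' le_rfl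
    _ = exp N := one_mul _

/-- The residue coefficient of a Laurent series of valuation at most one vanishes. -/
lemma coeff_neg_one_eq_zero_of_val_le_one {f : F₀⸨X⸩} (hf : Valued.v f ≤ (1 : ℤᵐ⁰)) :
    f.coeff (-1) = 0 := by
  obtain ⟨G, rfl⟩ := (LaurentSeries.val_le_one_iff_eq_coe F₀ f).1 hf
  rw [PowerSeries.coeff_coe, if_pos (by norm_num)]

lemma locRes_eq_zero_of_val_le_one (ψ : K →ₐ[k] F₀⸨X⸩) {x v : K}
    (h : Valued.v (ψ x * LocRes.D F₀ (ψ v)) ≤ (1 : ℤᵐ⁰)) : LocRes.locRes ψ x v = 0 := by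
  unfold LocRes.locRes LocRes.resExp
  rw [LocRes.res_apply, coeff_neg_one_eq_zero_of_val_le_one h, map_zero]

lemma locRes_add_left (ψ : K →ₐ[k] F₀⸨X⸩) (x y v : K) :
    LocRes.locRes ψ (x + y) v = LocRes.locRes ψ x v + LocRes.locRes ψ y v := by
  unfold LocRes.locRes LocRes.resExp
  rw [map_add, add_mul, map_add, map_add]

lemma locRes_smul_left (ψ : K →ₐ[k] F₀⸨X⸩) (c : k) (x v : K) :
    LocRes.locRes ψ (c • x) v = c • LocRes.locRes ψ x v := by
  unfold LocRes.locRes LocRes.resExp
  rw [Algebra.smul_def, map_mul ψ, LocRes.map_algebraMap, mul_assoc, HahnSeries.C_mul_eq_smul,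
    LocRes.res_apply, LocRes.res_apply, HahnSeries.coeff_smul, smul_eq_mul, ← Algebra.smul_def,
    map_smul]

lemma locRes_zero_left (ψ : K →ₐ[k] F₀⸨X⸩) (v : K) : LocRes.locRes ψ 0 v = 0 := by
  unfold LocRes.locRes LocRes.resExp
  rw [map_zero, zero_mul, map_zero, map_zero]

end Local

/-! ### The residue form of `u dv` -/

section Global

variable {F : Place k K → Type w} [∀ P, Field (F P)] [∀ P, Algebra k (F P)]
  [∀ P, FiniteDimensional k (F P)]
variable {φ : ∀ P : Place k K, K →ₐ[k] (F P)⸨X⸩}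
variable (hK : IsFunctionField k K) (hexp : ∀ P, LocRes.IsExpansionAt P.1 (φ P))

include hK hexp in
lemma support_finite_aux (u v : K) (a : adele k K) :
    (Function.support fun P : Place k K =>
      LocRes.locRes (φ P) ((a : Place k K → K) P * u) v).Finite := by
  have h1 := a.2
  rw [mem_adele_iff] at h1
  have h2 := diag_mem_adele hK u
  have h3 := diag_mem_adele hK v
  rw [mem_adele_iff] at h2 h3
  refine ((h1.union h2).union h3).subset fun P hP => ?_
  rw [Function.mem_support] at hP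
  by_contra hcon
  simp only [Set.mem_union, Set.mem_ofPred_eq, not_or, not_not] at hcon
  obtain ⟨⟨ha, hu⟩, hv⟩ := hcon
  have hu' : P.1 u ≤ 1 := hu
  have hv' : P.1 v ≤ 1 := hv
  apply hP
  apply locRes_eq_zero_of_mem
  · rw [exp_mem_range_iff (hexp P), map_mul]
    exact mul_le_one' ha hu'
  · rw [exp_mem_range_iff (hexp P)]
    exact hv'

/-- The residue form `a ↦ ∑_P Res_P(a_P · u dv)` on repartitions. -/
noncomputable def omega (u v : K) : Module.Dual k (adele k K) where
  toFun := fun a => ∑ᶠ P : Place k K, LocRes.locRes (φ P) ((a : Place k K → K) P * u) v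
  map_add' := fun a b => by
    rw [← finsum_add_distrib (support_finite_aux hK hexp u v a) (support_finite_aux hK hexp u v b)]
    congr 1
    funext P
    rw [← locRes_add_left, ← add_mul]
    rfl
  map_smul' := fun c a => by
    rw [RingHom.id_apply, smul_finsum' c (support_finite_aux hK hexp u v a)]
    congr 1
    funext P
    rw [← locRes_smul_left, ← smul_mul_assoc]
    rfl

lemma omega_apply (u v : K) (a : adele k K) :
    omega hK hexp u v a =
      ∑ᶠ P : Place k K, LocRes.locRes (φ P) ((a : Place k K → K) P * u) v := rfl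

/-- The residue form vanishes on principal repartitions: this is the residue theorem. -/
lemma omega_diag (u v x : K) :
    omega hK hexp u v ⟨diag k K x, diag_mem_adele hK x⟩ = 0 := by
  rw [omega_apply]
  exact residue_theorem' hK hexp (x * u) v

/-- The residue form vanishes on repartitions bounded by a divisor below the divisor of `u dv`. -/
lemma omega_eq_zero_of_mem_AD (u v : K) (E : Divisor k K)
    (hE : ∀ P, exp (E P) * LocRes.vDiff (φ P) u v ≤ 1) (a : adele k K)
    (ha : (a : Place k K → K) ∈ AD E) : omega hK hexp u v a = 0 := by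
  rw [omega_apply]
  apply finsum_eq_zero_of_forall_eq_zero
  intro P
  apply locRes_eq_zero_of_val_le_one
  rw [map_mul (φ P), mul_assoc, map_mul, (hexp P).1]
  calc P.1 ((a : Place k K → K) P) * Valued.v (φ P u * LocRes.D (F P) (φ P v))
      ≤ exp (E P) * Valued.v (φ P u * LocRes.D (F P) (φ P v)) := mul_le_mul' (ha P) le_rfl
    _ ≤ 1 := hE P

lemma omega_mem_WD (u v : K) (E : Divisor k K)
    (hE : ∀ P, exp (E P) * LocRes.vDiff (φ P) u v ≤ 1) : omega hK hexp u v ∈ WD E := by
  rw [mem_WD_iff]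
  intro a ha
  obtain ⟨a₁, ha₁, d, ⟨x, rfl⟩, hsum⟩ := Submodule.mem_sup.1 ha
  have e : a = ⟨a₁, AD_le_adele E ha₁⟩ + ⟨diag k K x, diag_mem_adele hK x⟩ := by
    apply Subtype.ext
    exact hsum.symm
  rw [e, map_add, omega_diag, add_zero]
  exact omega_eq_zero_of_mem_AD hK hexp u v E hE _ ha₁

end Global

/-! ### The divisor of the residue form -/

section Divisor

variable {F : Place k K → Type w} [∀ P, Field (F P)] [∀ P, Algebra k (F P)]
  [∀ P, FiniteDimensional k (F P)]
variable {φ : ∀ P : Place k K, K →ₐ[k] (F P)⸨X⸩}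
variable (hK : IsFunctionField k K) (hexp : ∀ P, LocRes.IsExpansionAt P.1 (φ P))

/-- The leading coefficient of a nonzero Laurent series, located by its valuation. -/
lemma coeff_ne_zero_of_val_eq {F₀ : Type w} [Field F₀] {η : F₀⸨X⸩} {m : ℤ}
    (hη : Valued.v η = exp (-m)) : η.coeff m ≠ 0 := by
  intro h0
  have h1 : Valued.v η ≤ exp (-(m + 1)) := by
    rw [LaurentSeries.valuation_le_iff_coeff_lt_eq_zero]
    intro n hn
    rcases lt_or_eq_of_le (Int.lt_add_one_iff.1 hn) with h | h
    · exact LaurentSeries.coeff_zero_of_lt_valuation F₀ hη.le h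
    · rw [h, h0]
  rw [hη, exp_le_exp] at h1
  omega

lemma val_single_le {F₀ : Type w} [Field F₀] (n : ℤ) (c : F₀) :
    Valued.v (HahnSeries.single n c : F₀⸨X⸩) ≤ exp (-n) := by
  rw [LaurentSeries.valuation_le_iff_coeff_lt_eq_zero]
  intro j hj
  rw [HahnSeries.coeff_single_of_ne (ne_of_lt hj)]

include hK hexp in
/-- If the bound `E` exceeds the order of `u dv` at a place with nondegenerate trace form, some
repartition bounded by `E` has nonzero residue sum. -/
lemma exists_omega_ne_zero (u v : K) (E : Divisor k K) (P : Place k K)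
    (hsep : ∀ c : F P, c ≠ 0 → ∃ c' : F P, Algebra.trace k (F P) (c * c') ≠ 0)
    (hP : ¬ exp (E P) * LocRes.vDiff (φ P) u v ≤ 1) :
    ∃ a : adele k K, (a : Place k K → K) ∈ AD E ∧ omega hK hexp u v a ≠ 0 := by
  classical
  set η : (F P)⸨X⸩ := φ P u * LocRes.D (F P) (φ P v) with hη
  have hvd : LocRes.vDiff (φ P) u v = Valued.v η := rfl
  have hv0 : Valued.v η ≠ 0 := by
    intro h0
    apply hP
    rw [hvd, h0, mul_zero]
    exact zero_le_one
  set m : ℤ := -log (Valued.v η) with hm
  have hvm : Valued.v η = exp (-m) := by rw [hm, neg_neg, exp_log hv0]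
  have hcoeff := coeff_ne_zero_of_val_eq hvm
  have hEm : m + 1 ≤ E P := by
    rw [hvd, hvm, ← exp_add, not_le, ← exp_zero, exp_lt_exp] at hP
    omega
  obtain ⟨c', hc'⟩ := hsep _ hcoeff
  set h : (F P)⸨X⸩ := HahnSeries.single (-m - 1) c' with hh
  obtain ⟨z, hz⟩ := exists_approx (hexp P) h m
  have hvh : Valued.v h ≤ exp (m + 1) := by
    have := val_single_le (-m - 1) c'
    rwa [show -(-m - 1) = m + 1 by ring] at this
  have hPz : P.1 z ≤ exp (E P) := by
    rw [← (hexp P).1]
    have e : φ P z = (φ P z - h) + h := by ring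
    rw [e]
    refine (Valuation.map_add _ _ _).trans (max_le ?_ ?_)
    · exact hz.trans (exp_le_exp.2 (by omega))
    · exact hvh.trans (exp_le_exp.2 hEm)
  set a₀ : Place k K → K := Pi.single P z with ha₀
  have ha₀E : a₀ ∈ AD E := by
    intro Q
    by_cases hQ : Q = P
    · subst hQ
      rw [ha₀, Pi.single_eq_same]
      exact hPz
    · rw [ha₀, Pi.single_eq_of_ne hQ, map_zero]
      exact zero_le'
  refine ⟨⟨a₀, AD_le_adele E ha₀E⟩, ha₀E, ?_⟩
  rw [omega_apply, finsum_eq_single _ P]
  · show LocRes.locRes (φ P) (a₀ P * u) v ≠ 0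
    rw [ha₀, Pi.single_eq_same]
    unfold LocRes.locRes LocRes.resExp
    rw [LocRes.res_apply, map_mul, mul_assoc, ← hη]
    have e : φ P z * η = h * η + (φ P z - h) * η := by ring
    rw [e, HahnSeries.coeff_add, hh, HahnSeries.coeff_single_mul,
      show (-1 : ℤ) - (-m - 1) = m by ring]
    have h2 : ((φ P z - HahnSeries.single (-m - 1) c') * η).coeff (-1) = 0 := by
      apply coeff_neg_one_eq_zero_of_val_le_one
      rw [map_mul, hvm]
      calc Valued.v (φ P z - HahnSeries.single (-m - 1) c') * exp (-m) ≤ exp m * exp (-m) :=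
            mul_le_mul' hz le_rfl
        _ = 1 := by rw [← exp_add, add_neg_cancel, exp_zero]
    rw [h2, add_zero, mul_comm]
    exact hc'
  · intro Q hQ
    show LocRes.locRes (φ Q) (a₀ Q * u) v = 0
    rw [ha₀, Pi.single_eq_of_ne hQ, zero_mul, locRes_zero_left]

include hK hexp in
/-- **The divisor of the residue form**: `ω_{u dv}` vanishes on `A(E) + K` iff `E` is bounded by
the order of `u dv` at every place. -/
theorem omega_mem_WD_iff (u v : K) (E : Divisor k K)
    (hsep : ∀ P, ∀ c : F P, c ≠ 0 → ∃ c' : F P, Algebra.trace k (F P) (c * c') ≠ 0) :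
    omega hK hexp u v ∈ WD E ↔ ∀ P, exp (E P) * LocRes.vDiff (φ P) u v ≤ 1 := by
  constructor
  · intro hω P
    by_contra hP
    obtain ⟨a, ha, hne⟩ := exists_omega_ne_zero hK hexp u v E P (hsep P) hP
    rw [mem_WD_iff] at hω
    exact hne (hω a (Submodule.mem_sup_left ha))
  · exact omega_mem_WD hK hexp u v E

end Divisor

section Canonical

variable {F : Place k K → Type w} [∀ P, Field (F P)] [∀ P, Algebra k (F P)]
  [∀ P, FiniteDimensional k (F P)]
variable {φ : ∀ P : Place k K, K →ₐ[k] (F P)⸨X⸩}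
variable (hK : IsFunctionField k K) (hexp : ∀ P, LocRes.IsExpansionAt P.1 (φ P))

lemma exp_mul_le_one_iff {x : ℤᵐ⁰} (hx : x ≠ 0) (n : ℤ) : exp n * x ≤ 1 ↔ n ≤ -log x := by
  conv_lhs => rw [← exp_log hx, ← exp_add, ← exp_zero, exp_le_exp]
  omega

lemma exp_mul_vDiff_le_one_iff {F₀ : Type w} [Field F₀] [Algebra k F₀] (ψ : K →ₐ[k] F₀⸨X⸩)
    {u v : K} (h : LocRes.vDiff ψ u v ≠ 0) (n : ℤ) :
    exp n * LocRes.vDiff ψ u v ≤ 1 ↔ n ≤ LocRes.ordDiff ψ u v :=
  exp_mul_le_one_iff h n

include hK hexp in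
/-- The order of `u dv` is nonnegative where `u` and `v` are integral. -/
lemma vDiff_le_one_of_le {P : Place k K} {u v : K} (hu : P.1 u ≤ 1) (hv : P.1 v ≤ 1) :
    LocRes.vDiff (φ P) u v ≤ 1 := by
  obtain ⟨G, hG⟩ := (exp_mem_range_iff (hexp P) u).2 hu
  obtain ⟨H, hH⟩ := (exp_mem_range_iff (hexp P) v).2 hv
  rw [iLk_apply] at hG hH
  unfold LocRes.vDiff
  rw [LocRes.D_apply, ← hG, ← hH, LocRes.derivative_coe, ← PowerSeries.coe_mul,
    LaurentSeries.val_le_one_iff_eq_coe]
  exact ⟨_, rfl⟩

include hK hexp in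
/-- The residue form is a Weil differential. -/
theorem isWeil_omega (u v : K) : IsWeil (omega hK hexp u v) := by
  classical
  have h2 := diag_mem_adele hK u
  have h3 := diag_mem_adele hK v
  rw [mem_adele_iff] at h2 h3
  set S : Finset (Place k K) := (h2.union h3).toFinset with hS
  have hSmem : ∀ P, P ∉ S → P.1 u ≤ 1 ∧ P.1 v ≤ 1 := by
    intro P hP
    rw [hS, Set.Finite.mem_toFinset, Set.mem_union, Set.mem_ofPred_eq, Set.mem_ofPred_eq, not_or,
      not_not, not_not] at hP
    exact hP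
  let E : Divisor k K := Finsupp.onFinset S
    (fun P => if P ∈ S then LocRes.ordDiff (φ P) u v else 0) (by
      intro P hP
      by_contra hPS
      exact hP (if_neg hPS))
  refine ⟨E, omega_mem_WD hK hexp u v E ?_⟩
  intro P
  by_cases hPS : P ∈ S
  · have hEP : E P = LocRes.ordDiff (φ P) u v := by
      simp only [E, Finsupp.onFinset_apply, if_pos hPS]
    by_cases h0 : LocRes.vDiff (φ P) u v = 0
    · rw [h0, mul_zero]; exact zero_le_one
    · rw [exp_mul_vDiff_le_one_iff (φ P) h0, hEP]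
  · have hEP : E P = 0 := by
      simp only [E, Finsupp.onFinset_apply, if_neg hPS]
    rw [hEP, exp_zero, one_mul]
    exact vDiff_le_one_of_le hK hexp (hSmem P hPS).1 (hSmem P hPS).2

include hK hexp in
/-- The residue form of a differential with a finite order somewhere is nonzero. -/
theorem omega_ne_zero (u v : K) (P : Place k K)
    (hsep : ∀ c : F P, c ≠ 0 → ∃ c' : F P, Algebra.trace k (F P) (c * c') ≠ 0)
    (hne : LocRes.vDiff (φ P) u v ≠ 0) : omega hK hexp u v ≠ 0 := by
  classical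
  intro h0
  set E : Divisor k K := Finsupp.single P (LocRes.ordDiff (φ P) u v + 1) with hE
  have hP : ¬ exp (E P) * LocRes.vDiff (φ P) u v ≤ 1 := by
    rw [exp_mul_vDiff_le_one_iff (φ P) hne, hE, Finsupp.single_eq_same]
    omega
  obtain ⟨a, -, ha⟩ := exists_omega_ne_zero hK hexp u v E P hsep hP
  apply ha
  rw [h0]
  rfl

include hK hexp in
/-- **The divisor of `u dv`** is the divisor of its residue form. -/
theorem isDivOf_omega (u v : K)
    (hsep : ∀ P, ∀ c : F P, c ≠ 0 → ∃ c' : F P, Algebra.trace k (F P) (c * c') ≠ 0)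
    (hne : ∀ P, LocRes.vDiff (φ P) u v ≠ 0) (C : Divisor k K)
    (hC : ∀ P, C P = LocRes.ordDiff (φ P) u v) : IsDivOf (omega hK hexp u v) C := by
  intro E
  rw [omega_mem_WD_iff hK hexp u v E hsep]
  constructor
  · intro h P
    rw [hC P, ← exp_mul_vDiff_le_one_iff (φ P) (hne P)]
    exact h P
  · intro h P
    rw [exp_mul_vDiff_le_one_iff (φ P) (hne P), ← hC P]
    exact h P

include hK hexp in
/-- The differential `u dv` has only finitely many zeros and poles; more precisely its orders are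
the coefficients of a divisor of the residue form. -/
theorem exists_divisor_ordDiff (u v : K)
    (hsep : ∀ P, ∀ c : F P, c ≠ 0 → ∃ c' : F P, Algebra.trace k (F P) (c * c') ≠ 0)
    (hne : ∀ P, LocRes.vDiff (φ P) u v ≠ 0) :
    ∃ C : Divisor k K, (∀ P, C P = LocRes.ordDiff (φ P) u v) ∧ IsDivOf (omega hK hexp u v) C := by
  classical
  obtain ⟨P₀⟩ := exists_place hK
  have hω0 := omega_ne_zero hK hexp u v P₀ (hsep P₀) (hne P₀)
  obtain ⟨C₀, hC₀⟩ := exists_isDivOf hK (isWeil_omega hK hexp u v) hω0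
  have hmem : omega hK hexp u v ∈ WD C₀ := (hC₀ C₀).2 le_rfl
  rw [omega_mem_WD_iff hK hexp u v C₀ hsep] at hmem
  have hle : ∀ P, C₀ P ≤ LocRes.ordDiff (φ P) u v := by
    intro P
    rw [← exp_mul_vDiff_le_one_iff (φ P) (hne P)]
    exact hmem P
  have hge : ∀ P, LocRes.ordDiff (φ P) u v ≤ C₀ P := by
    intro P
    set E : Divisor k K := C₀ + Finsupp.single P (LocRes.ordDiff (φ P) u v - C₀ P) with hE
    have hEmem : omega hK hexp u v ∈ WD E := by
      rw [omega_mem_WD_iff hK hexp u v E hsep]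
      intro Q
      rw [exp_mul_vDiff_le_one_iff (φ Q) (hne Q), hE, Finsupp.add_apply]
      by_cases hQ : Q = P
      · subst hQ
        rw [Finsupp.single_eq_same]
        omega
      · rw [Finsupp.single_eq_of_ne hQ, add_zero]
        exact hle Q
    have := (hC₀ E).1 hEmem P
    rw [hE, Finsupp.add_apply, Finsupp.single_eq_same] at this
    omega
  have hC : ∀ P, C₀ P = LocRes.ordDiff (φ P) u v := fun P => le_antisymm (hle P) (hge P)
  exact ⟨C₀, hC, hC₀⟩

include hK hexp in
theorem support_ordDiff_finite (u v : K)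
    (hsep : ∀ P, ∀ c : F P, c ≠ 0 → ∃ c' : F P, Algebra.trace k (F P) (c * c') ≠ 0)
    (hne : ∀ P, LocRes.vDiff (φ P) u v ≠ 0) :
    (Function.support fun P : Place k K => LocRes.ordDiff (φ P) u v).Finite := by
  obtain ⟨C, hC, -⟩ := exists_divisor_ordDiff hK hexp u v hsep hne
  refine C.support.finite_toSet.subset fun P hP => ?_
  rw [Function.mem_support, ← hC P] at hP
  rw [Finset.mem_coe, Finsupp.mem_support_iff]
  exact hP

end Canonical

end Groth.Agent.Lib.Helper88.TG
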