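/-
Divisors of differentials read through Laurent expansions are canonical (algebraically closed
constant field); nonvanishing and proportionality of differentials through expansions.
Author: helper88
-/
import Groth.Agent.Lib.Helper88.ResWeil
import Groth.Agent.Lib.Helper88.FunFldSep
import Groth.Prelude.Def_W4bk4goldsch45p2
import Mathlib.RingTheory.TensorProduct.Basic

set_option autoImplicit false
set_option linter.unusedSectionVars false
set_option linter.style.haveILetI false

namespace Groth.Agent.Lib.Helper88.FF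
open FunFld TensorProduct

universe u v
variable {k : Type u} {K : Type v} [Field k] [Field K] [Algebra k K]

/-- Over an algebraically closed constant field every function field is geometric. -/
theorem isGeometric_of_isAlgClosed [IsAlgClosed k] : IsGeometric k K := by
  intro k' _ _ hfd
  have hbij : Function.Bijective (algebraMap k k') :=
    IsAlgClosed.algebraMap_bijective_of_isIntegral
  let e₁ : k ≃ₐ[k] k' := AlgEquiv.ofBijective (Algebra.ofId k k') hbij
  let e : k' ⊗[k] K ≃ₐ[k] K :=
    (Algebra.TensorProduct.congr e₁.symm (AlgEquiv.refl : K ≃ₐ[k] K)).trans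
      (Algebra.TensorProduct.lid k K)
  exact MulEquiv.isField (Field.toIsField K) e.toMulEquiv

end Groth.Agent.Lib.Helper88.FF

namespace Groth.Agent.Lib.Helper88.TG

open FunFld WithZero
open Groth.Agent.Lib.Helper88.FRT Groth.Agent.Lib.Helper88.TL Groth.Agent.Lib.Helper88.FF
open LaurentSeries

universe u v w
variable {k : Type u} {K : Type v} [Field k] [Field K] [Algebra k K]

section
variable {F₀ : Type w} [Field F₀] [Algebra k F₀]

/-- The derivative of the expansion of a uniformizer is nonzero. -/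
lemma D_exp_uniformizer_ne_zero {w : Valuation K ℤᵐ⁰} {ψ : K →ₐ[k] F₀⸨X⸩}
    (hψ : LocRes.IsExpansionAt w ψ) {t : K} (ht : w t = exp (-1 : ℤ)) :
    LocRes.D F₀ (ψ t) ≠ 0 := by
  intro h0
  have hv : Valued.v (ψ t) = exp (-(1 : ℤ)) := by rw [hψ.1, ht]
  have hc := coeff_ne_zero_of_val_eq hv
  have h1 := LocRes.D_coeff F₀ (ψ t) 0
  rw [h0, HahnSeries.coeff_zero, zero_add, one_smul] at h1
  exact hc h1.symm

/-- **Nonvanishing of differentials through expansions**: in a geometric function field, if
`dv ≠ 0` then the derivative of the expansion of `v` at any place is nonzero. -/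
theorem D_exp_ne_zero (hK : IsFunctionField k K) (hg : IsGeometric k K)
    {w : Valuation K ℤᵐ⁰} {ψ : K →ₐ[k] F₀⸨X⸩} (hψ : LocRes.IsExpansionAt w ψ) {v : K}
    (hv : KaehlerDifferential.D k K v ≠ 0) : LocRes.D F₀ (ψ v) ≠ 0 := by
  letI := ψ.toRingHom.toAlgebra
  haveI : IsScalarTower k K F₀⸨X⸩ := LocRes.isScalarTower_exp ψ
  intro h0
  have hE : LocRes.dExp ψ = 0 :=
    derivation_eq_zero_of_D_ne_zero hK hg hv (LocRes.dExp ψ) h0
  obtain ⟨t, ht⟩ := hψ.2.2
  apply D_exp_uniformizer_ne_zero hψ ht
  have : LocRes.dExp ψ t = 0 := by rw [hE]; rfl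
  exact this

/-- Proportionality of differentials through expansions. -/
theorem D_exp_eq_mul (ψ : K →ₐ[k] F₀⸨X⸩) {v v' g : K}
    (h : KaehlerDifferential.D k K v' = g • KaehlerDifferential.D k K v) :
    LocRes.D F₀ (ψ v') = ψ g * LocRes.D F₀ (ψ v) := by
  letI := ψ.toRingHom.toAlgebra
  haveI : IsScalarTower k K F₀⸨X⸩ := LocRes.isScalarTower_exp ψ
  exact derivation_apply_eq_smul (LocRes.dExp ψ) h

end

/-- The first Hasse derivative as a derivation. -/
noncomputable def hasseDer {s : K} {H : K →ₐ[k] PowerSeries K} (hH : LocRes.IsHasseFamily s H) :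
    Derivation k K K where
  toFun := fun y => PowerSeries.coeff 1 (H y)
  map_add' := fun a b => by rw [map_add, map_add]
  map_smul' := fun c a => by rw [map_smul, RingHom.id_apply, PowerSeries.coeff_smul]
  map_one_eq_zero' := by
    show PowerSeries.coeff 1 (H 1) = 0
    rw [map_one, PowerSeries.coeff_one, if_neg one_ne_zero]
  leibniz' := fun a b => by
    show PowerSeries.coeff 1 (H (a * b)) = a • PowerSeries.coeff 1 (H b) + b • PowerSeries.coeff 1 (H a)
    rw [map_mul, PowerSeries.coeff_mul, Finset.Nat.antidiagonal_succ, Finset.sum_cons,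
      Finset.Nat.antidiagonal_zero]
    simp only [Finset.map_singleton, Function.Embedding.coe_prodMap, Function.Embedding.coeFn_mk,
      Prod.map_apply, Function.Embedding.refl_apply, Finset.sum_singleton, smul_eq_mul]
    have ha := hH.2 a
    have hb := hH.2 b
    rw [← PowerSeries.coeff_zero_eq_constantCoeff_apply] at ha hb
    simp only [Nat.succ_eq_add_one, zero_add]
    rw [ha, hb]
    ring

lemma hasseDer_apply_self {s : K} {H : K →ₐ[k] PowerSeries K} (hH : LocRes.IsHasseFamily s H) :
    hasseDer hH s = 1 := by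
  show PowerSeries.coeff 1 (H s) = 1
  rw [hH.1, map_add, PowerSeries.coeff_C, if_neg one_ne_zero, zero_add, PowerSeries.coeff_one_X]

/-- A Hasse variable has nonzero differential. -/
theorem kaehler_D_ne_zero_of_isHasseFamily {s : K} {H : K →ₐ[k] PowerSeries K}
    (hH : LocRes.IsHasseFamily s H) : KaehlerDifferential.D k K s ≠ 0 := by
  intro h0
  have h1 : (hasseDer hH).liftKaehlerDifferential (KaehlerDifferential.D k K s) = hasseDer hH s :=
    Derivation.liftKaehlerDifferential_comp_D _ s
  rw [h0, map_zero, hasseDer_apply_self] at h1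
  exact zero_ne_one h1


section
variable {F₀ : Type w} [Field F₀] [Algebra k F₀]

/-- Nonvanishing of `vDiff` for a nonzero differential. -/
lemma vDiff_ne_zero (hK : IsFunctionField k K)
    (hg : IsGeometric k K) {w : Valuation K ℤᵐ⁰} {ψ : K →ₐ[k] LaurentSeries F₀}
    (hψ : LocRes.IsExpansionAt w ψ) {u v : K} (hu : u ≠ 0)
    (hv : KaehlerDifferential.D k K v ≠ 0) : LocRes.vDiff ψ u v ≠ 0 := by
  unfold LocRes.vDiff
  rw [map_mul]
  apply mul_ne_zero
  · rw [ne_eq, map_eq_zero]
    exact (map_ne_zero ψ).2 hu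
  · rw [ne_eq, map_eq_zero]
    exact D_exp_ne_zero hK hg hψ hv

end

/-- **Divisors of differentials over an algebraically closed constant field**: for `dv ≠ 0` and
`u ≠ 0` the divisor `[u dv]` read through a family of expansions is canonical. -/
theorem isCanonical_divDiff [IsAlgClosed k] (hK : IsFunctionField k K)
    (Φ : Place k K → (K →ₐ[k] LaurentSeries k))
    (hΦ : ∀ P : Place k K, LocRes.IsExpansionAt P.1 (Φ P)) {u v : K} (hu : u ≠ 0)
    (hv : KaehlerDifferential.D k K v ≠ 0) :
    IsCanonical k K (divDiff Φ u v) ∧ ∀ P, divDiff Φ u v P = LocRes.ordDiff (Φ P) u v := by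
  classical
  have hg : IsGeometric k K := isGeometric_of_isAlgClosed
  have hne : ∀ P, LocRes.vDiff (Φ P) u v ≠ 0 := fun P => vDiff_ne_zero hK hg (hΦ P) hu hv
  have hsep : ∀ P : Place k K, ∀ c : k, c ≠ 0 → ∃ c' : k, Algebra.trace k k (c * c') ≠ 0 := by
    intro P c hc
    refine ⟨c⁻¹, ?_⟩
    rw [mul_inv_cancel₀ hc, Algebra.trace_self_apply]
    exact one_ne_zero
  obtain ⟨C, hC, hdiv⟩ := exists_divisor_ordDiff (F := fun _ => k) hK hΦ u v hsep hne
  have hfin := support_ordDiff_finite (F := fun _ => k) hK hΦ u v hsep hne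
  have heq : divDiff Φ u v = C := by
    unfold divDiff
    rw [dif_pos hfin]
    ext P
    rw [Finsupp.ofSupportFinite_coe, hC P]
  obtain ⟨P₀⟩ := exists_place hK
  refine ⟨?_, fun P => by rw [heq, hC P]⟩
  rw [heq]
  exact ⟨omega (F := fun _ => k) hK hΦ u v,
    omega_ne_zero (F := fun _ => k) hK hΦ u v P₀ (hsep P₀) (hne P₀), hdiv⟩


/-- **The divisor of `ds` for a Hasse variable `s`** is canonical, of degree `2g - 2`. -/
theorem isCanonical_divDiff_hasse [IsAlgClosed k] (hK : IsFunctionField k K)
    (Φ : Place k K → (K →ₐ[k] LaurentSeries k))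
    (hΦ : ∀ P : Place k K, LocRes.IsExpansionAt P.1 (Φ P)) {s : K} {H : K →ₐ[k] PowerSeries K}
    (hH : LocRes.IsHasseFamily s H) :
    IsCanonical k K (divDiff Φ 1 s) ∧ (divDiff Φ 1 s).deg = 2 * (genus k K : ℤ) - 2 ∧
      ∀ P, divDiff Φ 1 s P = LocRes.ordDiff (Φ P) 1 s := by
  obtain ⟨h1, h2⟩ := isCanonical_divDiff hK Φ hΦ (one_ne_zero (α := K))
    (kaehler_D_ne_zero_of_isHasseFamily hH)
  exact ⟨h1, ((isCanonical_iff hK _).1 h1).2, h2⟩

end Groth.Agent.Lib.Helper88.TG
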