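/-
A place of a geometric function field of one variable which admits a Laurent expansion over the
constant field has a residue field separable over the constant field.
Author: helper88
-/
import Groth.Agent.Lib.Helper88.ResCanonical
import Mathlib.RingTheory.Trace.Basic

set_option autoImplicit false
set_option linter.unusedSectionVars false
set_option linter.style.haveILetI false

namespace Groth.Agent.Lib.Helper88.TG

open FunFld WithZero
open Groth.Agent.Lib.Helper88.FRT Groth.Agent.Lib.Helper88.TL Groth.Agent.Lib.Helper88.FF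
open LaurentSeries

universe u v w

/-! ### Coefficientwise derivations of Laurent series -/

section CoeffDer

variable {k : Type u} {A : Type w} [Field k] [Field A] [Algebra k A] (δ : Derivation k A A)

/-- The coefficientwise extension of a derivation to power series. -/
noncomputable def psDer (G : PowerSeries A) : PowerSeries A :=
  PowerSeries.mk fun n => δ (PowerSeries.coeff n G)

@[simp] lemma coeff_psDer (G : PowerSeries A) (n : ℕ) :
    PowerSeries.coeff n (psDer δ G) = δ (PowerSeries.coeff n G) := by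
  simp [psDer]

lemma psDer_mul (G H : PowerSeries A) :
    psDer δ (G * H) = psDer δ G * H + G * psDer δ H := by
  ext n
  rw [coeff_psDer, map_add, PowerSeries.coeff_mul, PowerSeries.coeff_mul, PowerSeries.coeff_mul,
    map_sum, ← Finset.sum_add_distrib]
  apply Finset.sum_congr rfl
  intro p _
  rw [coeff_psDer, coeff_psDer, Derivation.leibniz, smul_eq_mul, smul_eq_mul]
  ring

/-- The coefficientwise extension of a derivation to Laurent series. -/
noncomputable def lsDer (f : A⸨X⸩) : A⸨X⸩ := f.map (δ : A →ₗ[k] A)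

@[simp] lemma coeff_lsDer (f : A⸨X⸩) (n : ℤ) : (lsDer δ f).coeff n = δ (f.coeff n) := rfl

lemma lsDer_add (f g : A⸨X⸩) : lsDer δ (f + g) = lsDer δ f + lsDer δ g := by
  ext n
  simp

lemma lsDer_zero : lsDer δ (0 : A⸨X⸩) = 0 := by
  ext n
  simp

lemma lsDer_coe (G : PowerSeries A) :
    lsDer δ (G : A⸨X⸩) = ((psDer δ G : PowerSeries A) : A⸨X⸩) := by
  ext n
  rw [coeff_lsDer, PowerSeries.coeff_coe, PowerSeries.coeff_coe]
  split_ifs
  · exact map_zero _
  · rw [coeff_psDer]

lemma lsDer_single_mul (n : ℤ) (f : A⸨X⸩) :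
    lsDer δ (HahnSeries.single n (1 : A) * f) = HahnSeries.single n (1 : A) * lsDer δ f := by
  ext j
  rw [coeff_lsDer, HahnSeries.coeff_single_mul, HahnSeries.coeff_single_mul, one_mul, one_mul,
    coeff_lsDer]

lemma lsDer_mul (f g : A⸨X⸩) :
    lsDer δ (f * g) = lsDer δ f * g + f * lsDer δ g := by
  obtain ⟨N, G, H, rfl, rfl⟩ := exists_eq_single_mul f g
  have e : HahnSeries.single (-(N : ℤ)) (1 : A) * (G : A⸨X⸩) *
      (HahnSeries.single (-(N : ℤ)) (1 : A) * (H : A⸨X⸩)) =
      HahnSeries.single (-(N : ℤ)) (1 : A) * (HahnSeries.single (-(N : ℤ)) (1 : A) *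
        ((G * H : PowerSeries A) : A⸨X⸩)) := by
    rw [PowerSeries.coe_mul]; ring
  rw [e, lsDer_single_mul, lsDer_single_mul, lsDer_single_mul, lsDer_single_mul, lsDer_coe,
    lsDer_coe, lsDer_coe, psDer_mul, PowerSeries.coe_add, PowerSeries.coe_mul, PowerSeries.coe_mul]
  ring

lemma lsDer_C (a : A) : lsDer δ (HahnSeries.C a : A⸨X⸩) = HahnSeries.C (δ a) := by
  ext n
  rw [coeff_lsDer, HahnSeries.C_apply, HahnSeries.C_apply, HahnSeries.coeff_single,
    HahnSeries.coeff_single]
  split_ifs
  · rfl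
  · exact map_zero _

lemma lsDer_smul (c : k) (f : A⸨X⸩) : lsDer δ (c • f) = c • lsDer δ f := by
  ext n
  simp

lemma lsDer_one : lsDer δ (1 : A⸨X⸩) = 0 := by
  have : (1 : A⸨X⸩) = HahnSeries.C (1 : A) := (map_one _).symm
  rw [this, lsDer_C, Derivation.map_one_eq_zero, map_zero]

/-- Coefficientwise derivations do not lower the order. -/
lemma val_lsDer_le (f : A⸨X⸩) : Valued.v (lsDer δ f) ≤ Valued.v f := by
  rcases eq_or_ne (Valued.v f) 0 with h0 | h0
  · rw [map_eq_zero] at h0
    rw [h0, lsDer_zero]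
  · have hv : Valued.v f = exp (-(-log (Valued.v f))) := by rw [neg_neg, exp_log h0]
    rw [hv, LaurentSeries.valuation_le_iff_coeff_lt_eq_zero]
    intro n hn
    rw [coeff_lsDer, LaurentSeries.coeff_zero_of_lt_valuation A hv.le hn, map_zero]

/-- Differentiation lowers the order by at most one. -/
lemma val_D_le (f : A⸨X⸩) {m : ℤ} (hf : Valued.v f ≤ exp (-m)) :
    Valued.v (LocRes.D A f) ≤ exp (-(m - 1)) := by
  rw [LaurentSeries.valuation_le_iff_coeff_lt_eq_zero]
  intro n hn
  rw [LocRes.D_coeff, LaurentSeries.coeff_zero_of_lt_valuation A hf (by omega), smul_zero]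

end CoeffDer

/-! ### Separability of the coefficient field -/

section Sep

variable {k : Type u} {K : Type v} [Field k] [Field K] [Algebra k K]
variable {F₀ : Type w} [Field F₀] [Algebra k F₀] [FiniteDimensional k F₀]

/-- The coefficientwise derivation composed with an expansion, as a derivation of `K`. -/
noncomputable def coeffDerExp (δ : Derivation k F₀ F₀) (ψ : K →ₐ[k] F₀⸨X⸩) :
    letI := ψ.toRingHom.toAlgebra
    Derivation k K F₀⸨X⸩ :=
  letI := ψ.toRingHom.toAlgebra
  { toFun := fun a => lsDer δ (ψ a)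
    map_add' := fun a b => by rw [map_add, lsDer_add]
    map_smul' := fun c a => by rw [exp_smul, lsDer_smul]; rfl
    map_one_eq_zero' := show lsDer δ (ψ 1) = 0 by rw [map_one, lsDer_one]
    leibniz' := fun a b => show lsDer δ (ψ (a * b)) = ψ a * lsDer δ (ψ b) + ψ b * lsDer δ (ψ a) by
      rw [map_mul, lsDer_mul]; ring }

/-- A nonzero derivation exists on an algebra whose Kähler differentials do not vanish. -/
lemma exists_derivation_ne_zero_of_nontrivial (h : Nontrivial (Ω[F₀⁄k])) :
    ∃ D : Derivation k F₀ F₀, D ≠ 0 := by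
  classical
  obtain ⟨ω, hω⟩ := exists_ne (0 : Ω[F₀⁄k])
  obtain ⟨ℓ, hℓ⟩ : ∃ ℓ : Ω[F₀⁄k] →ₗ[F₀] F₀, ℓ ω ≠ 0 := by
    by_contra hcon
    push Not at hcon
    exact hω ((Module.forall_dual_apply_eq_zero_iff F₀ ω).1 hcon)
  refine ⟨ℓ.compDer (KaehlerDifferential.D k F₀), ?_⟩
  intro h0
  apply hℓ
  have hspan := KaehlerDifferential.span_range_derivation k F₀
  have hmem : ω ∈ Submodule.span F₀ (Set.range (KaehlerDifferential.D k F₀)) := by
    rw [hspan]; trivial
  refine Submodule.span_induction ?_ ?_ ?_ ?_ hmem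
  · rintro _ ⟨z, rfl⟩
    have := DFunLike.congr_fun h0 z
    simpa using this
  · simp
  · intro a b _ _ ha hb
    rw [map_add, ha, hb, add_zero]
  · intro c a _ ha
    rw [map_smul, ha, smul_zero]

/-- **Separability of coefficient fields.** If a place of a geometric function field of one
variable has a Laurent expansion with coefficient field `F₀` finite over the constant field, then
`F₀` is separable over the constant field. -/
theorem isSeparable_of_expansion (hK : IsFunctionField k K)
    (hg : IsGeometric k K) {w : Valuation K ℤᵐ⁰} {ψ : K →ₐ[k] F₀⸨X⸩}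
    (hψ : LocRes.IsExpansionAt w ψ) : Algebra.IsSeparable k F₀ := by
  by_contra hns
  have hnt : Nontrivial (Ω[F₀⁄k]) := by
    rw [← not_subsingleton_iff_nontrivial]
    intro hsub
    have hU : Algebra.FormallyUnramified k F₀ := ⟨hsub⟩
    exact hns (Algebra.FormallyUnramified.isSeparable k F₀)
  obtain ⟨δ, hδ⟩ := exists_derivation_ne_zero_of_nontrivial hnt
  obtain ⟨α, hα⟩ : ∃ α : F₀, δ α ≠ 0 := by
    by_contra hcon
    push Not at hcon
    apply hδ
    ext a
    exact hcon a
  obtain ⟨x, -, hsep⟩ := exists_separating hK hg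
  -- `dx ≠ 0`
  have hdx : KaehlerDifferential.D k K x ≠ 0 := by
    intro h0
    obtain ⟨t, ht⟩ := hψ.2.2
    obtain ⟨c, hc⟩ := kaehler_eq_smul_of_separable x (KaehlerDifferential.D k K t)
    rw [h0, smul_zero] at hc
    have := D_exp_eq_mul ψ (v := t) (v' := t) (g := 0) (by rw [hc, zero_smul])
    rw [map_zero, zero_mul] at this
    exact D_exp_uniformizer_ne_zero hψ ht this
  have hB : LocRes.D F₀ (ψ x) ≠ 0 := D_exp_ne_zero hK hg hψ hdx
  -- the proportionality relation
  have hrel : ∀ u : K, lsDer δ (ψ u) * LocRes.D F₀ (ψ x) = lsDer δ (ψ x) * LocRes.D F₀ (ψ u) := by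
    intro u
    obtain ⟨g, hg'⟩ := exists_D_eq_smul hK hg hdx u
    have h1 := D_exp_eq_mul ψ hg'
    have h2 : lsDer δ (ψ u) = ψ g * lsDer δ (ψ x) := by
      letI := ψ.toRingHom.toAlgebra
      haveI : IsScalarTower k K F₀⸨X⸩ := LocRes.isScalarTower_exp ψ
      exact derivation_apply_eq_smul (coeffDerExp δ ψ) hg'
    rw [h1, h2]
    ring
  -- orders
  have hvB0 : Valued.v (LocRes.D F₀ (ψ x)) ≠ 0 := by rwa [ne_eq, map_eq_zero]
  set m : ℤ := -log (Valued.v (LocRes.D F₀ (ψ x))) with hm
  have hvB : Valued.v (LocRes.D F₀ (ψ x)) = exp (-m) := by rw [hm, neg_neg, exp_log hvB0]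
  -- a bound for `δ̃ (ψ x)`
  obtain ⟨j, hj⟩ : ∃ j : ℤ, Valued.v (lsDer δ (ψ x)) ≤ exp j := by
    rcases eq_or_ne (Valued.v (lsDer δ (ψ x))) 0 with h0 | h0
    · exact ⟨0, by rw [h0]; exact zero_le'⟩
    · exact ⟨log (Valued.v (lsDer δ (ψ x))), by rw [exp_log h0]⟩
  -- choose `u` approximating the constant `α`
  set N : ℤ := max (j + m + 2) 1 with hN
  have hN1 : 1 ≤ N := le_max_right _ _
  have hN2 : j + m + 2 ≤ N := le_max_left _ _
  obtain ⟨u, hu⟩ := exists_approx hψ (HahnSeries.C α : F₀⸨X⸩) (-N)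
  set r : F₀⸨X⸩ := ψ u - HahnSeries.C α with hr
  have hψu : ψ u = HahnSeries.C α + r := by rw [hr]; ring
  -- left side has valuation `exp (-m)`
  have hA : Valued.v (lsDer δ (ψ u)) = 1 := by
    rw [hψu, lsDer_add, lsDer_C]
    have h1 : Valued.v (lsDer δ r) ≤ exp (-N) := (val_lsDer_le δ r).trans hu
    have h2 : Valued.v (HahnSeries.C (δ α) : F₀⸨X⸩) = 1 := by
      have hle : Valued.v (HahnSeries.C (δ α) : F₀⸨X⸩) ≤ 1 := by
        rw [LaurentSeries.val_le_one_iff_eq_coe]
        exact ⟨PowerSeries.C (δ α), by simp⟩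
      rcases lt_or_eq_of_le hle with hlt | heq
      · exfalso
        rw [lt_one_iff_le_exp_neg_one] at hlt
        have h3 : (1 : ℤ) = -(-1) := by ring
        have := LaurentSeries.coeff_zero_of_lt_valuation F₀ (D := 1) (n := 0)
          (f := (HahnSeries.C (δ α) : F₀⸨X⸩)) hlt (by norm_num)
        rw [HahnSeries.C_apply, HahnSeries.coeff_single_same] at this
        exact hα this
      · exact heq
    have h3 : Valued.v (lsDer δ r) < Valued.v (HahnSeries.C (δ α) : F₀⸨X⸩) := by
      rw [h2]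
      refine lt_of_le_of_lt h1 ?_
      rw [← exp_zero, exp_lt_exp]
      omega
    rw [Valuation.map_add_eq_of_lt_left _ h3, h2]
  have hD : Valued.v (LocRes.D F₀ (ψ u)) ≤ exp (-(N - 1)) := by
    have e : LocRes.D F₀ (ψ u) = LocRes.D F₀ r := by
      rw [hψu, map_add, LocRes.D_apply F₀ (HahnSeries.C α), LocRes.derivative_C, zero_add]
    rw [e]
    exact val_D_le r hu
  have h1 := congrArg (Valued.v : F₀⸨X⸩ → ℤᵐ⁰) (hrel u)
  rw [map_mul, map_mul, hA, one_mul, hvB] at h1
  have h2 : exp (-m) ≤ exp j * exp (-(N - 1)) := by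
    rw [h1]
    exact mul_le_mul' hj hD
  rw [← exp_add, exp_le_exp] at h2
  omega

end Sep

section Trace

variable {k : Type u} {K : Type v} [Field k] [Field K] [Algebra k K]
variable {F₀ : Type w} [Field F₀] [Algebra k F₀] [FiniteDimensional k F₀]

/-- The trace form of a finite separable extension is nondegenerate, in the form used for
residues. -/
lemma exists_trace_mul_ne_zero [Algebra.IsSeparable k F₀] (c : F₀) (hc : c ≠ 0) :
    ∃ c' : F₀, Algebra.trace k F₀ (c * c') ≠ 0 := by
  have h := Algebra.trace_ne_zero k F₀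
  obtain ⟨y, hy⟩ : ∃ y, Algebra.trace k F₀ y ≠ 0 := by
    by_contra hcon
    push Not at hcon
    exact h (LinearMap.ext hcon)
  exact ⟨c⁻¹ * y, by rwa [← mul_assoc, mul_inv_cancel₀ hc, one_mul]⟩

/-- At a place of a geometric function field with an expansion, the trace form of the coefficient
field is nondegenerate. -/
theorem exists_trace_mul_ne_zero_of_expansion (hK : IsFunctionField k K)
    (hg : IsGeometric k K) {w : Valuation K ℤᵐ⁰} {ψ : K →ₐ[k] F₀⸨X⸩}
    (hψ : LocRes.IsExpansionAt w ψ) (c : F₀) (hc : c ≠ 0) :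
    ∃ c' : F₀, Algebra.trace k F₀ (c * c') ≠ 0 := by
  haveI := isSeparable_of_expansion hK hg hψ
  exact exists_trace_mul_ne_zero c hc

end Trace

end Groth.Agent.Lib.Helper88.TG
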