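/-
Consequences of the residue theorem for differentials of geometric function fields read through
Laurent expansions: Kähler differentials and Weil differentials.
Author: helper88
-/
import Groth.Agent.Lib.Helper88.ResSep

set_option autoImplicit false
set_option linter.unusedSectionVars false
set_option linter.style.haveILetI false

namespace Groth.Agent.Lib.Helper88.TG

open FunFld WithZero
open Groth.Agent.Lib.Helper88.FRT Groth.Agent.Lib.Helper88.TL Groth.Agent.Lib.Helper88.FF
open LaurentSeries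

universe u v w

variable {k : Type u} {K : Type v} [Field k] [Field K] [Algebra k K]

section Local

variable {F₀ : Type w} [Field F₀] [Algebra k F₀] [FiniteDimensional k F₀]

/-- A differential of finite order has a nonzero residue after multiplication by a suitable
function. -/
theorem exists_locRes_ne_zero {w : Valuation K ℤᵐ⁰} {ψ : K →ₐ[k] F₀⸨X⸩}
    (hψ : LocRes.IsExpansionAt w ψ)
    (hsep : ∀ c : F₀, c ≠ 0 → ∃ c' : F₀, Algebra.trace k F₀ (c * c') ≠ 0) {u v : K}
    (hne : LocRes.vDiff ψ u v ≠ 0) : ∃ z : K, LocRes.locRes ψ (z * u) v ≠ 0 := by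
  set η : F₀⸨X⸩ := ψ u * LocRes.D F₀ (ψ v) with hη
  have hv0 : Valued.v η ≠ 0 := hne
  set m : ℤ := -log (Valued.v η) with hm
  have hvm : Valued.v η = exp (-m) := by rw [hm, neg_neg, exp_log hv0]
  have hcoeff := coeff_ne_zero_of_val_eq hvm
  obtain ⟨c', hc'⟩ := hsep _ hcoeff
  obtain ⟨z, hz⟩ := exists_approx hψ (HahnSeries.single (-m - 1) c') m
  refine ⟨z, ?_⟩
  unfold LocRes.locRes LocRes.resExp
  rw [LocRes.res_apply, map_mul, mul_assoc, ← hη]
  have e : ψ z * η = HahnSeries.single (-m - 1) c' * η +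
      (ψ z - HahnSeries.single (-m - 1) c') * η := by ring
  rw [e, HahnSeries.coeff_add, HahnSeries.coeff_single_mul,
    show (-1 : ℤ) - (-m - 1) = m by ring]
  have h2 : ((ψ z - HahnSeries.single (-m - 1) c') * η).coeff (-1) = 0 := by
    apply coeff_neg_one_eq_zero_of_val_le_one
    rw [map_mul, hvm]
    calc Valued.v (ψ z - HahnSeries.single (-m - 1) c') * exp (-m) ≤ exp m * exp (-m) :=
          mul_le_mul' hz le_rfl
      _ = 1 := by rw [← exp_add, add_neg_cancel, exp_zero]
  rw [h2, add_zero, mul_comm]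
  exact hc'

end Local

section Global

variable {F : Place k K → Type w} [∀ P, Field (F P)] [∀ P, Algebra k (F P)]
  [∀ P, FiniteDimensional k (F P)]
variable {φ : ∀ P : Place k K, K →ₐ[k] (F P)⸨X⸩}
variable (hK : IsFunctionField k K) (hexp : ∀ P, LocRes.IsExpansionAt P.1 (φ P))

lemma locRes_sub_left {F₀ : Type w} [Field F₀] [Algebra k F₀] [FiniteDimensional k F₀]
    (ψ : K →ₐ[k] F₀⸨X⸩) (x y v : K) :
    LocRes.locRes ψ (x - y) v = LocRes.locRes ψ x v - LocRes.locRes ψ y v := by
  have := locRes_add_left ψ (x - y) y v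
  rw [sub_add_cancel] at this
  rw [this, add_sub_cancel_right]

lemma omega_sub_apply (u u' v : K) (a : adele k K) :
    omega hK hexp (u - u') v a = omega hK hexp u v a - omega hK hexp u' v a := by
  rw [omega_apply, omega_apply, omega_apply,
    ← finsum_sub_distrib (support_finite_aux hK hexp u v a) (support_finite_aux hK hexp u' v a)]
  congr 1
  funext P
  rw [mul_sub, locRes_sub_left]

lemma mulW'_omega (x v : K) :
    mulW' hK x (omega hK hexp 1 v) = omega hK hexp x v := by
  apply LinearMap.ext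
  intro a
  unfold mulW'
  rw [mulW_apply, omega_apply, omega_apply]
  congr 1
  funext P
  show LocRes.locRes (φ P) (x * (a : Place k K → K) P * 1) v = _
  rw [mul_one, mul_comm]

include hK hexp in
/-- **Kähler differentials map onto Weil differentials**: every Weil differential is the residue
form of `u dv` for a unique `u`. -/
theorem existsUnique_omega_eq (hg : IsGeometric k K) {v : K}
    (hv : KaehlerDifferential.D k K v ≠ 0) {ω : Module.Dual k (adele k K)} (hω : IsWeil ω) :
    ∃! u : K, ω = omega hK hexp u v := by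
  have hsep : ∀ P, ∀ c : F P, c ≠ 0 → ∃ c' : F P, Algebra.trace k (F P) (c * c') ≠ 0 :=
    fun P => exists_trace_mul_ne_zero_of_expansion hK hg (hexp P)
  obtain ⟨P₀⟩ := exists_place hK
  have h0 : omega hK hexp 1 v ≠ 0 :=
    omega_ne_zero hK hexp 1 v P₀ (hsep P₀) (vDiff_ne_zero hK hg (hexp P₀) one_ne_zero hv)
  obtain ⟨x, hx⟩ := exists_mulW'_eq hK (isWeil_omega hK hexp 1 v) h0 hω
  rw [mulW'_omega] at hx
  refine ⟨x, hx.symm, ?_⟩
  intro y hy
  by_contra hne
  have hyx : y - x ≠ 0 := sub_ne_zero.2 hne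
  have h1 : omega hK hexp (y - x) v ≠ 0 :=
    omega_ne_zero hK hexp (y - x) v P₀ (hsep P₀) (vDiff_ne_zero hK hg (hexp P₀) hyx hv)
  apply h1
  apply LinearMap.ext
  intro a
  rw [omega_sub_apply, ← hy, hx, sub_self]
  rfl

end Global

section Spaces

variable {F : Place k K → Type w} [∀ P, Field (F P)] [∀ P, Algebra k (F P)]
  [∀ P, FiniteDimensional k (F P)]
variable {φ : ∀ P : Place k K, K →ₐ[k] (F P)⸨X⸩}
variable (hK : IsFunctionField k K) (hexp : ∀ P, LocRes.IsExpansionAt P.1 (φ P))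

lemma vDiff_eq_mul {F₀ : Type w} [Field F₀] [Algebra k F₀] {w : Valuation K ℤᵐ⁰}
    {ψ : K →ₐ[k] F₀⸨X⸩} (hψ : LocRes.IsExpansionAt w ψ) (y v : K) :
    LocRes.vDiff ψ y v = w y * LocRes.vDiff ψ 1 v := by
  unfold LocRes.vDiff
  rw [map_mul, map_mul, hψ.1, map_one, map_one, one_mul]

lemma vDiff_eq_exp_neg_ordDiff {F₀ : Type w} [Field F₀] [Algebra k F₀] (ψ : K →ₐ[k] F₀⸨X⸩)
    {u v : K} (h : LocRes.vDiff ψ u v ≠ 0) :
    LocRes.vDiff ψ u v = exp (-LocRes.ordDiff ψ u v) := by
  unfold LocRes.ordDiff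
  rw [neg_neg, exp_log h]

include hK hexp in
/-- The differentials `y dv` with divisor at least `D` form the space `L(C - D)`, `C` the divisor
of `dv`. -/
theorem setOf_vDiff_le_eq (hg : IsGeometric k K) {v : K}
    (hv : KaehlerDifferential.D k K v ≠ 0) (C : Divisor k K)
    (hC : ∀ P, C P = LocRes.ordDiff (φ P) 1 v) (D : Divisor k K) :
    {y : K | ∀ P, LocRes.vDiff (φ P) y v ≤ exp (-(D P))} = (L (C - D) : Set K) := by
  ext y
  simp only [Set.mem_ofPred_eq, SetLike.mem_coe]
  have hne : ∀ P, LocRes.vDiff (φ P) 1 v ≠ 0 :=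
    fun P => vDiff_ne_zero hK hg (hexp P) one_ne_zero hv
  have key : ∀ P : Place k K, LocRes.vDiff (φ P) y v ≤ exp (-(D P)) ↔
      P.1 y ≤ exp ((C - D) P) := by
    intro P
    rw [vDiff_eq_mul (hexp P), vDiff_eq_exp_neg_ordDiff (φ P) (hne P), ← hC P, exp_neg,
      mul_inv_le_iff₀ (by simp [zero_lt_iff]), ← exp_add, Finsupp.sub_apply]
    have : -(D P) + C P = C P - D P := by ring
    rw [this]
  constructor
  · intro h P
    exact (key P).1 (h P)
  · intro h P
    exact (key P).2 (h P)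

include hK hexp in
/-- **Dimension of spaces of differentials**: the differentials `y dv` with divisor at least `D`
form a space of the dimension of the Weil differentials vanishing on `A(D) + K`. -/
theorem finrank_span_vDiff_le (hg : IsGeometric k K) {v : K}
    (hv : KaehlerDifferential.D k K v ≠ 0) (D : Divisor k K) :
    Module.finrank k (Submodule.span k {y : K | ∀ P, LocRes.vDiff (φ P) y v ≤ exp (-(D P))}) =
      Module.finrank k (WD D) := by
  have hsep : ∀ P, ∀ c : F P, c ≠ 0 → ∃ c' : F P, Algebra.trace k (F P) (c * c') ≠ 0 :=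
    fun P => exists_trace_mul_ne_zero_of_expansion hK hg (hexp P)
  have hne : ∀ P, LocRes.vDiff (φ P) 1 v ≠ 0 :=
    fun P => vDiff_ne_zero hK hg (hexp P) one_ne_zero hv
  obtain ⟨C, hC, hdiv⟩ := exists_divisor_ordDiff hK hexp 1 v hsep hne
  rw [setOf_vDiff_le_eq hK hexp hg hv C hC D, Submodule.span_eq, finrank_WD_eq_ell hK hdiv D]
  rfl

end Spaces

section GenusOne

variable {F : Place k K → Type w} [∀ P, Field (F P)] [∀ P, Algebra k (F P)]
  [∀ P, FiniteDimensional k (F P)]
variable {φ : ∀ P : Place k K, K →ₐ[k] (F P)⸨X⸩}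
variable (hK : IsFunctionField k K) (hexp : ∀ P, LocRes.IsExpansionAt P.1 (φ P))

include hK hexp in
/-- The divisor of `dv`, as a canonical divisor. -/
theorem exists_canonical_ordDiff (hg : IsGeometric k K) {v : K}
    (hv : KaehlerDifferential.D k K v ≠ 0) :
    ∃ C : Divisor k K, (∀ P, C P = LocRes.ordDiff (φ P) 1 v) ∧ IsCanonical k K C ∧
      ∀ (y : K) (P : Place k K), LocRes.vDiff (φ P) y v = P.1 y * exp (-(C P)) := by
  have hsep : ∀ P, ∀ c : F P, c ≠ 0 → ∃ c' : F P, Algebra.trace k (F P) (c * c') ≠ 0 :=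
    fun P => exists_trace_mul_ne_zero_of_expansion hK hg (hexp P)
  have hne : ∀ P, LocRes.vDiff (φ P) 1 v ≠ 0 :=
    fun P => vDiff_ne_zero hK hg (hexp P) one_ne_zero hv
  obtain ⟨C, hC, hdiv⟩ := exists_divisor_ordDiff hK hexp 1 v hsep hne
  obtain ⟨P₀⟩ := exists_place hK
  refine ⟨C, hC, ⟨omega hK hexp 1 v, omega_ne_zero hK hexp 1 v P₀ (hsep P₀) (hne P₀), hdiv⟩, ?_⟩
  intro y P
  rw [vDiff_eq_mul (hexp P), vDiff_eq_exp_neg_ordDiff (φ P) (hne P), hC P]

include hK hexp in
/-- **Genus one**: there is a differential `u dv` without zeros and poles, unique up to a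
constant. -/
theorem genus_one_invariant_differential (hg : IsGeometric k K) (h1 : genus k K = 1) {v : K}
    (hv : KaehlerDifferential.D k K v ≠ 0) :
    (∃ u : K, u ≠ 0 ∧ ∀ P, LocRes.vDiff (φ P) u v = 1) ∧
      ∀ u u' : K, u ≠ 0 → (∀ P, LocRes.vDiff (φ P) u v = 1) →
        (∀ P, LocRes.vDiff (φ P) u' v = 1) → ∃ c : k, u' = c • u := by
  obtain ⟨C, -, hcan, hvd⟩ := exists_canonical_ordDiff hK hexp hg hv
  obtain ⟨hell, hdeg⟩ := (isCanonical_iff hK C).1 hcan
  rw [h1] at hell hdeg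
  constructor
  · have hfd := finiteDimensional_L hK C
    have hpos : 0 < Module.finrank k (L C) := by
      change 0 < ell C
      omega
    obtain ⟨x, hx0⟩ := Module.finrank_pos_iff_exists_ne_zero.1 hpos
    have hx0' : (x : K) ≠ 0 := fun h => hx0 (Subtype.ext h)
    have hnn := (mem_L_iff_div hK hx0' C).1 x.2
    have hd0 : (FunFld.div k (x : K) + C).deg = 0 := by
      rw [deg_add, deg_div hK, hdeg]
      norm_num
    have hz := eq_zero_of_nonneg_of_deg_eq_zero hK hnn hd0
    refine ⟨x, hx0', fun P => ?_⟩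
    have hP : P.ord (x : K) + C P = 0 := by
      have := DFunLike.congr_fun hz P
      rwa [Finsupp.add_apply, div_apply hK, Finsupp.zero_apply] at this
    rw [hvd, val_eq_exp_neg_ord P hx0', ← exp_add, ← exp_zero]
    congr 1
    omega
  · intro u u' hu h h'
    have hval : ∀ P : Place k K, P.1 (u' / u) ≤ 1 := by
      intro P
      have e1 := h P
      have e2 := h' P
      rw [hvd] at e1 e2
      have hc : exp (-(C P)) ≠ 0 := exp_ne_zero
      have : P.1 u' = P.1 u := by
        have := e2.trans e1.symm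
        exact mul_right_cancel₀ hc this
      rw [map_div₀, this, div_self]
      rw [ne_eq, map_eq_zero]
      exact hu
    have hmem : u' / u ∈ L (0 : Divisor k K) := by
      intro P
      rw [Finsupp.zero_apply, exp_zero]
      exact hval P
    rw [L_zero_eq hK, Submodule.mem_one] at hmem
    obtain ⟨c, hc⟩ := hmem
    refine ⟨c, ?_⟩
    rw [Algebra.smul_def, hc, div_mul_cancel₀ _ hu]

end GenusOne

section ChangeOfDifferential

/-- A differential of finite order through some expansion is nonzero. -/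
lemma kaehler_D_ne_zero_of_vDiff_ne_zero {F₀ : Type w} [Field F₀] [Algebra k F₀]
    (ψ : K →ₐ[k] F₀⸨X⸩) {x : K} (hx : LocRes.vDiff ψ 1 x ≠ 0) :
    KaehlerDifferential.D k K x ≠ 0 := by
  intro h0
  apply hx
  have := D_exp_eq_mul ψ (v := x) (v' := x) (g := 0) (by rw [h0, smul_zero])
  rw [map_zero, zero_mul] at this
  unfold LocRes.vDiff
  rw [this, mul_zero, map_zero]

/-- Change of differential: if `dx' = g dx` then the orders differ by the order of `g`. -/
lemma ordDiff_eq_of_D_eq_smul {F₀ : Type w} [Field F₀] [Algebra k F₀]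
    (ψ : K →ₐ[k] F₀⸨X⸩) {x x' g : K}
    (h : KaehlerDifferential.D k K x' = g • KaehlerDifferential.D k K x)
    (hx : LocRes.vDiff ψ 1 x ≠ 0) (hx' : LocRes.vDiff ψ 1 x' ≠ 0) :
    LocRes.ordDiff ψ 1 x' = -log (Valued.v (ψ g)) + LocRes.ordDiff ψ 1 x := by
  have h1 := D_exp_eq_mul ψ h
  have e : LocRes.vDiff ψ 1 x' = Valued.v (ψ g) * LocRes.vDiff ψ 1 x := by
    unfold LocRes.vDiff
    rw [h1, map_mul, map_mul, map_mul]
    exact mul_left_comm _ _ _
  have hg0 : Valued.v (ψ g) ≠ 0 := by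
    intro h0
    rw [e, h0, zero_mul] at hx'
    exact hx' rfl
  unfold LocRes.ordDiff
  rw [e, log_mul hg0 hx]
  ring

end ChangeOfDifferential

section DiffExp

variable {K' : Type v} [Field K'] [Algebra K K'] [Algebra k K'] [IsScalarTower k K K']
variable {F₀ F₁ : Type w} [Field F₀] [Algebra k F₀] [Field F₁] [Algebra k F₁]

/-- The valuation of a Laurent series is located by its first nonzero coefficient. -/
lemma val_eq_exp_neg_of_coeff {A : Type w} [Field A] {f : A⸨X⸩} {m : ℤ}
    (h0 : ∀ n < m, f.coeff n = 0) (hm : f.coeff m ≠ 0) : Valued.v f = exp (-m) := by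
  have hle : Valued.v f ≤ exp (-m) := (LaurentSeries.valuation_le_iff_coeff_lt_eq_zero A).2 h0
  have hne : Valued.v f ≠ 0 := by
    rw [ne_eq, map_eq_zero]
    rintro rfl
    exact hm rfl
  have hv : Valued.v f = exp (-(-log (Valued.v f))) := by rw [neg_neg, exp_log hne]
  have h2 := coeff_ne_zero_of_val_eq hv
  rw [hv, exp_le_exp] at hle
  have h3 : ¬ m < -log (Valued.v f) := fun hlt =>
    hm (LaurentSeries.coeff_zero_of_lt_valuation A hv.le hlt)
  have h4 : ¬ -log (Valued.v f) < m := fun hlt => h2 (h0 _ hlt)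
  rw [hv]
  congr 2
  omega

/-- **Independence of the different exponent of the differential used.** -/
theorem diffExp_eq (hK : IsFunctionField k K) (hg : IsGeometric k K)
    (φ : K →ₐ[k] F₀⸨X⸩) (ψ : K' →ₐ[k] F₁⸨X⸩) (e : ℕ)
    (he : ∀ z : K, Valued.v (ψ (algebraMap K K' z)) = Valued.v (φ z) ^ e)
    {x x' : K} (hx : LocRes.vDiff φ 1 x ≠ 0) (hx' : LocRes.vDiff ψ 1 (algebraMap K K' x) ≠ 0)
    (hx2 : LocRes.vDiff φ 1 x' ≠ 0) (hx2' : LocRes.vDiff ψ 1 (algebraMap K K' x') ≠ 0) :
    LocRes.diffExp φ ψ e x = LocRes.diffExp φ ψ e x' := by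
  have hdx := kaehler_D_ne_zero_of_vDiff_ne_zero φ hx
  obtain ⟨g, hg'⟩ := exists_D_eq_smul hK hg hdx x'
  have h1 := ordDiff_eq_of_D_eq_smul φ hg' hx hx2
  let ψ' : K →ₐ[k] F₁⸨X⸩ := ψ.comp (IsScalarTower.toAlgHom k K K')
  have ev : ∀ y : K, LocRes.vDiff ψ' 1 y = LocRes.vDiff ψ 1 (algebraMap K K' y) := by
    intro y
    unfold LocRes.vDiff
    simp [ψ']
  have h2 := ordDiff_eq_of_D_eq_smul ψ' hg' (by rw [ev]; exact hx') (by rw [ev]; exact hx2')
  have e1 : LocRes.ordDiff ψ' 1 x' = LocRes.ordDiff ψ 1 (algebraMap K K' x') := by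
    unfold LocRes.ordDiff
    rw [ev]
  have e2 : LocRes.ordDiff ψ' 1 x = LocRes.ordDiff ψ 1 (algebraMap K K' x) := by
    unfold LocRes.ordDiff
    rw [ev]
  have e3 : Valued.v (ψ' g) = Valued.v (φ g) ^ e := he g
  unfold LocRes.diffExp
  rw [← e1, ← e2, h2, h1, e3, log_pow]
  simp only [nsmul_eq_mul]
  ring

/-- The different exponent at a place is the order of the differential of a local parameter of
the place below. -/
theorem diffExp_eq_ordDiff_uniformizer (hK : IsFunctionField k K) (hg : IsGeometric k K)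
    {w : Valuation K ℤᵐ⁰} {φ : K →ₐ[k] F₀⸨X⸩} (hφ : LocRes.IsExpansionAt w φ)
    (ψ : K' →ₐ[k] F₁⸨X⸩) (e : ℕ)
    (he : ∀ z : K, Valued.v (ψ (algebraMap K K' z)) = Valued.v (φ z) ^ e)
    {x : K} (hx : LocRes.vDiff φ 1 x ≠ 0) (hx' : LocRes.vDiff ψ 1 (algebraMap K K' x) ≠ 0)
    {t : K} (ht : w t = exp (-1 : ℤ)) :
    LocRes.vDiff ψ 1 (algebraMap K K' t) ≠ 0 ∧
      LocRes.diffExp φ ψ e x = LocRes.ordDiff ψ 1 (algebraMap K K' t) := by
  have hDt := D_exp_uniformizer_ne_zero hφ ht
  have hvt : LocRes.vDiff φ 1 t ≠ 0 := by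
    unfold LocRes.vDiff
    rw [map_one, one_mul, ne_eq, map_eq_zero]
    exact hDt
  have hdt := kaehler_D_ne_zero_of_vDiff_ne_zero φ hvt
  obtain ⟨g, hg'⟩ := exists_D_eq_smul hK hg hdt x
  let ψ' : K →ₐ[k] F₁⸨X⸩ := ψ.comp (IsScalarTower.toAlgHom k K K')
  have h1 := D_exp_eq_mul ψ' hg'
  have hvt' : LocRes.vDiff ψ 1 (algebraMap K K' t) ≠ 0 := by
    intro h0
    apply hx'
    unfold LocRes.vDiff at h0 ⊢
    rw [map_one, one_mul, map_eq_zero] at h0
    have h2 : LocRes.D F₁ (ψ (algebraMap K K' x)) =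
        ψ (algebraMap K K' g) * LocRes.D F₁ (ψ (algebraMap K K' t)) := h1
    rw [h2, h0, mul_zero, mul_zero, map_zero]
  refine ⟨hvt', ?_⟩
  rw [diffExp_eq hK hg φ ψ e he hx hx' hvt hvt']
  unfold LocRes.diffExp
  have h0 : LocRes.ordDiff φ 1 t = 0 := by
    unfold LocRes.ordDiff LocRes.vDiff
    rw [map_one, one_mul]
    have hv : Valued.v (φ t) = exp (-(1 : ℤ)) := by rw [hφ.1, ht]
    have hc := coeff_ne_zero_of_val_eq hv
    have : Valued.v (LocRes.D F₀ (φ t)) = exp (-(0 : ℤ)) := by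
      apply val_eq_exp_neg_of_coeff
      · intro n hn
        rw [LocRes.D_coeff, LaurentSeries.coeff_zero_of_lt_valuation F₀ hv.le (by omega),
          smul_zero]
      · rw [LocRes.D_coeff, zero_add, one_smul]
        exact hc
    rw [this, log_exp]
    simp
  rw [h0, mul_zero, sub_zero]

end DiffExp

end Groth.Agent.Lib.Helper88.TG
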