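/-
Existence of Laurent expansions at the places of a function field over an algebraically closed
constant field.
Author: helper88 (on top of helper16's `t`-adic coefficient functions)
-/
import Groth.Agent.Lib.Helper16.LocExp7
import Groth.Agent.Lib.Helper88.ResRows

set_option autoImplicit false
set_option linter.unusedSectionVars false
set_option linter.style.haveILetI false

namespace Groth.Agent.Lib.Helper88.SV

open FunFld WithZero LocRes
open Groth.Agent.Lib.Helper88.FF Groth.Agent.Lib.Helper88.TG
open Groth.Agent.Lib.Helper16.LocExp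
open LaurentSeries

variable {k K : Type*} [Field k] [IsAlgClosed k] [Field K] [Algebra k K]
variable (hK : IsFunctionField k K) (P : Place k K) {t : K} (ht : P.1 t = exp (-1 : ℤ))

/-- The `t`-adic expansion at `P` as a ring homomorphism into Laurent series. -/
noncomputable def expRing : K →+* k⸨X⸩ :=
  IsFractionRing.lift (A := P.O) (K := K)
    (g := (algebraMap (PowerSeries k) k⸨X⸩).comp (Eo hK P ht))
    ((HahnSeries.ofPowerSeries_injective (Γ := ℤ) (R := k)).comp (Eo_injective hK P ht))

lemma expRing_coe (z : P.O) :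
    expRing hK P ht (z : K) = ((Eo hK P ht z : PowerSeries k) : k⸨X⸩) :=
  IsFractionRing.lift_algebraMap (A := P.O) (K := K) _ z

lemma expRing_of_le {z : K} (hz : P.1 z ≤ 1) :
    expRing hK P ht z =
      ((Eo hK P ht ⟨z, (Valuation.mem_valuationSubring_iff _ _).mpr hz⟩ : PowerSeries k) : k⸨X⸩) :=
  expRing_coe hK P ht ⟨z, (Valuation.mem_valuationSubring_iff _ _).mpr hz⟩

lemma expRing_algebraMap (c : k) :
    expRing hK P ht (algebraMap k K c) = algebraMap k k⸨X⸩ c := by
  have h1 : algebraMap k K c = ((algebraMap k P.O c : P.O) : K) := rfl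
  rw [h1, expRing_coe, Eo_algebraMap, HahnSeries.algebraMap_apply', PowerSeries.algebraMap_apply]
  rfl

/-- The `t`-adic expansion at `P` as a `k`-algebra homomorphism. -/
noncomputable def expAlg : K →ₐ[k] k⸨X⸩ :=
  { expRing hK P ht with commutes' := expRing_algebraMap hK P ht }

lemma expAlg_apply (z : K) : expAlg hK P ht z = expRing hK P ht z := rfl

lemma val_expRing_of_le {z : K} (hz : P.1 z ≤ 1) : Valued.v (expRing hK P ht z) = P.1 z := by
  by_cases h0 : z = 0
  · rw [h0, map_zero, map_zero, map_zero]
  have hord : 0 ≤ P.ord z := by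
    have := val_eq_exp_neg_ord P h0
    rw [this, ← exp_zero, exp_le_exp] at hz
    omega
  obtain ⟨N, hN⟩ : ∃ N : ℕ, P.ord z = N := ⟨(P.ord z).toNat, (Int.toNat_of_nonneg hord).symm⟩
  have hv : P.1 z = exp (-(N : ℤ)) := by rw [val_eq_exp_neg_ord P h0, hN]
  obtain ⟨hlow, htop⟩ := (val_eq_exp_iff_a hK P ht N hz).1 hv
  rw [hv, expRing_of_le hK P ht hz]
  apply val_eq_exp_neg_of_coeff
  · intro n hn
    rw [PowerSeries.coeff_coe]
    split_ifs with hneg
    · rfl
    · rw [coeff_Eo]
      apply hlow
      omega
  · rw [PowerSeries.coeff_coe, if_neg (by omega), Int.natAbs_natCast, coeff_Eo]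
    exact htop

lemma val_expRing (z : K) : Valued.v (expRing hK P ht z) = P.1 z := by
  rcases le_total (P.1 z) 1 with hz | hz
  · exact val_expRing_of_le hK P ht hz
  · have h0 : z ≠ 0 := by
      rintro rfl
      rw [map_zero] at hz
      exact absurd hz (by simp)
    have hz' : P.1 z⁻¹ ≤ 1 := by
      rw [map_inv₀]
      exact inv_le_one_of_one_le₀ hz
    have h1 := val_expRing_of_le hK P ht hz'
    rw [map_inv₀, map_inv₀, map_inv₀, inv_inj] at h1
    exact h1

/-- **Existence of expansions.** Over an algebraically closed constant field every place has a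
Laurent expansion in a local parameter. -/
theorem exists_expansion (hK : IsFunctionField k K) (P : Place k K) :
    ∃ Φ : K →ₐ[k] k⸨X⸩, LocRes.IsExpansionAt P.1 Φ := by
  obtain ⟨t, ht⟩ : ∃ t : K, P.1 t = exp (-1 : ℤ) := P.2.2 _
  refine ⟨expAlg hK P ht, fun f => val_expRing hK P ht f, fun a => ⟨algebraMap k K a, P.2.1 a, ?_⟩,
    ⟨t, ht⟩⟩
  rw [expAlg_apply, expRing_algebraMap, HahnSeries.algebraMap_apply', PowerSeries.algebraMap_apply]
  simp

end Groth.Agent.Lib.Helper88.SV
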