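/-
Invariance of the Weierstrass divisor `W_s(φ, τ)` of Stöhr–Voloch under change of the separating
variable, of coordinates and of scaling; existence of total Hasse derivatives for every separating
variable.
Author: helper88 (on top of helper16's local theory)
-/
import Groth.Agent.Lib.Helper16.LocExp13
import Groth.Agent.Lib.Helper16.HasseChange
import Groth.Agent.Lib.Helper16.HasseOrders
import Groth.Agent.Lib.Helper16.WDivAt
import Groth.Agent.Lib.Helper44.FunFldMapDiv
import Groth.Agent.Lib.Helper88.ResRows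

set_option autoImplicit false
set_option linter.unusedSectionVars false
set_option linter.style.haveILetI false

namespace Groth.Agent.Lib.Helper88.SV

open FunFld WithZero LocRes PowerSeries
open Groth.Agent.Lib.Helper88.FF Groth.Agent.Lib.Helper88.TG
open Groth.Agent.Lib.Helper16.Hasse Groth.Agent.Lib.Helper16.Jump
open Groth.Agent.Lib.Helper44.FFExt

variable {k K : Type*} [Field k] [Field K] [Algebra k K]

/-! ### Existence of total Hasse derivatives -/

section Exist

/-- If `H` is the total Hasse derivative with respect to `s` and `D_s t ≠ 0`, then there is a total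
Hasse derivative with respect to `t`. -/
theorem exists_isHasseFamily {s t : K} {Hs : K →ₐ[k] K⟦X⟧} (hHs : IsHasseFamily s Hs)
    (ht : hasseD Hs 1 t ≠ 0) : ∃ Ht : K →ₐ[k] K⟦X⟧, IsHasseFamily t Ht := by
  set b : K⟦X⟧ := Hs t - C t with hb
  have hb0 : constantCoeff b = 0 := by
    rw [hb, map_sub, hHs.2, constantCoeff_C, sub_self]
  have hb1 : IsUnit (coeff 1 b) := by
    rw [hb, map_sub, coeff_C, if_neg one_ne_zero, sub_zero]
    exact IsUnit.mk0 _ ht
  set g : K⟦X⟧ := b.substInvOfIsUnit hb1 with hg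
  have hgs : HasSubst g := HasSubst.substInvOfIsUnit b hb1
  have hg0 : constantCoeff g = 0 := constantCoeff_substInvOfIsUnit b hb1
  have hbg : b.subst g = X := subst_substInvOfIsUnit_right b hb0 hb1
  let S : K⟦X⟧ →ₐ[k] K⟦X⟧ := (substAlgHom (R := K) hgs).restrictScalars k
  have hS : ∀ f : K⟦X⟧, S f = f.subst g := fun f => by
    show substAlgHom (R := K) hgs f = f.subst g
    rw [coe_substAlgHom]
  refine ⟨S.comp Hs, ?_, ?_⟩
  · rw [AlgHom.comp_apply, hS]
    have e : Hs t = C t + b := by rw [hb]; ring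
    rw [e, subst_add hgs, hbg]
    congr 1
    exact subst_C t
  · intro y
    rw [AlgHom.comp_apply, hS]
    have e : Hs y = C y + (Hs y - C y) := by ring
    have h0 : constantCoeff (Hs y - C y) = 0 := by
      rw [map_sub, hHs.2, constantCoeff_C, sub_self]
    rw [e, subst_add hgs, map_add]
    have h1 : constantCoeff ((Hs y - C y).subst g) = 0 :=
      constantCoeff_subst_eq_zero hg0 _ h0
    rw [h1, add_zero]
    have h2 : (C y : K⟦X⟧).subst g = C y := subst_C y
    rw [h2, constantCoeff_C]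

end Exist

/-! ### Divisors of tuples -/

section MapDiv

variable (hK : IsFunctionField k K)
include hK

lemma ord_le_of_val_le {P : Place k K} {x : K} (hx : x ≠ 0) {m : ℤ} (h : P.1 x ≤ exp (-m)) :
    m ≤ P.ord x := by
  rw [val_eq_exp_neg_ord P hx, exp_le_exp] at h
  omega

omit hK in
lemma val_le_exp_neg_inf {ι : Type*} [Fintype ι] [Nonempty ι] (P : Place k K) (φ : ι → K)
    (hφ : ∀ i, φ i ≠ 0) (i : ι) :
    P.1 (φ i) ≤ exp (-(Finset.univ.inf' Finset.univ_nonempty fun i => P.ord (φ i))) := by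
  rw [val_eq_exp_neg_ord P (hφ i), exp_le_exp, neg_le_neg_iff]
  exact Finset.inf'_le _ (Finset.mem_univ i)

omit hK in
/-- A nonzero `k`-linear combination has order at least the minimum of the orders. -/
lemma inf_ord_le_ord_lincomb {ι : Type*} [Fintype ι] [Nonempty ι] (P : Place k K) (φ : ι → K)
    (hφ : ∀ i, φ i ≠ 0) (c : ι → k) (hne : ∑ i, c i • φ i ≠ 0) :
    (Finset.univ.inf' Finset.univ_nonempty fun i => P.ord (φ i)) ≤ P.ord (∑ i, c i • φ i) := by
  have h1 : P.1 (∑ i, c i • φ i) ≤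
      exp (-(Finset.univ.inf' Finset.univ_nonempty fun i => P.ord (φ i))) := by
    apply Valuation.map_sum_le
    intro i _
    rw [Algebra.smul_def, map_mul]
    calc P.1 (algebraMap k K (c i)) * P.1 (φ i) ≤ 1 * P.1 (φ i) := mul_le_mul' (P.2.1 (c i)) le_rfl
      _ = P.1 (φ i) := one_mul _
      _ ≤ _ := val_le_exp_neg_inf P φ hφ i
  rw [val_eq_exp_neg_ord P hne, exp_le_exp] at h1
  omega

/-- The divisor of a tuple does not change under an invertible `k`-linear change of coordinates. -/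
theorem mapDiv_eq_of_lincomb {ι : Type*} [Fintype ι] [Nonempty ι] (φ φ' : ι → K)
    (hφ : ∀ i, φ i ≠ 0) (hφ' : ∀ i, φ' i ≠ 0) (A B : ι → ι → k)
    (hA : ∀ i, φ' i = ∑ j, A i j • φ j) (hB : ∀ i, φ i = ∑ j, B i j • φ' j) :
    mapDiv k φ' = mapDiv k φ := by
  ext P
  rw [mapDiv_apply hK, mapDiv_apply hK, neg_inj]
  apply le_antisymm
  · rw [Finset.le_inf'_iff]
    intro i _
    rw [hB i]
    exact inf_ord_le_ord_lincomb P φ' hφ' (B i) (by rw [← hB i]; exact hφ i)
  · rw [Finset.le_inf'_iff]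
    intro i _
    rw [hA i]
    exact inf_ord_le_ord_lincomb P φ hφ (A i) (by rw [← hA i]; exact hφ' i)

/-- Scaling a tuple by a nonzero function subtracts the divisor of the function. -/
theorem mapDiv_mul {ι : Type*} [Fintype ι] [Nonempty ι] (φ : ι → K) (hφ : ∀ i, φ i ≠ 0) {y : K}
    (hy : y ≠ 0) : mapDiv k (fun i => y * φ i) = mapDiv k φ - FunFld.div k y := by
  ext P
  rw [Finsupp.sub_apply, mapDiv_apply hK, mapDiv_apply hK, div_apply hK]
  have h1 : (Finset.univ.inf' Finset.univ_nonempty fun i => P.ord (y * φ i)) =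
      P.ord y + Finset.univ.inf' Finset.univ_nonempty fun i => P.ord (φ i) := by
    apply le_antisymm
    · obtain ⟨i, -, hi⟩ := Finset.exists_mem_eq_inf' Finset.univ_nonempty fun i => P.ord (φ i)
      rw [hi, ← ord_mul P hy (hφ i)]
      exact Finset.inf'_le _ (Finset.mem_univ i)
    · rw [Finset.le_inf'_iff]
      intro i _
      rw [ord_mul P hy (hφ i)]
      exact add_le_add le_rfl (Finset.inf'_le _ (Finset.mem_univ i))
  rw [h1]
  ring

end MapDiv

/-! ### Transformation rules for the Wronskian determinant -/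

section Det

lemma prod_idx {n : ℕ} (u : ℕ → K) (J : Fin n → ℕ) :
    ∏ q : Fin (n + 1), u (idx J q) = u 0 * ∏ l : Fin n, u (J l + 1) := by
  rw [Fin.prod_univ_succ]
  rfl

/-- Scaling `φ` by `y` multiplies the Wronskian by `τ(y) yⁿ` and keeps the `τ`-orders. -/
theorem det_wrMat_smul (τ : K →ₐ[k] K) {s : K} {H : K →ₐ[k] K⟦X⟧} (hH : IsHasseFamily s H)
    {n : ℕ} (φ : Fin (n + 1) → K) {y : K} (hy : y ≠ 0) {J : Fin n → ℕ}
    (hJ : IsOrders K (hcol τ H φ) J) :
    IsOrders K (hcol τ H (y • φ)) J ∧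
      (wrMat τ H (y • φ) J).det = τ y * y ^ n * (wrMat τ H φ J).det := by
  set u : ℕ → K := fun j => (Nat.casesOn j (τ y) (fun _ => y) : K) with hu
  have hu0 : ∀ j, u j ≠ 0 := by
    intro j
    cases j with
    | zero => exact (map_ne_zero_iff τ τ.toRingHom.injective).2 hy
    | succ j => exact hy
  have h := hcol_smul_triangular τ hH φ y
  refine ⟨(isOrders_congr (W_eq_of_triangular u hu0 h) J).2 hJ, ?_⟩
  rw [wrMat_eq_wr, wrMat_eq_wr, det_wr_of_triangular u h hJ, prod_idx]
  have h1 : ∏ l : Fin n, u (J l + 1) = y ^ n := by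
    have : ∀ l : Fin n, u (J l + 1) = y := fun l => rfl
    rw [Finset.prod_congr rfl (fun l _ => this l), Finset.prod_const, Finset.card_univ,
      Fintype.card_fin]
  rw [h1]
  rfl

/-- Changing the separating variable multiplies the Wronskian by `(D_t s)^(∑ J)` and keeps the
`τ`-orders. -/
theorem det_wrMat_change (hK : IsFunctionField k K) {s t : K} {Hs Ht : K →ₐ[k] K⟦X⟧}
    (hHs : IsHasseFamily s Hs) (hHt : IsHasseFamily t Ht) (τ : K →ₐ[k] K) {n : ℕ}
    (φ : Fin (n + 1) → K) {J : Fin n → ℕ} (hJ : IsOrders K (hcol τ Hs φ) J) :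
    IsOrders K (hcol τ Ht φ) J ∧
      (wrMat τ Ht φ J).det = (hasseD Ht 1 s) ^ (∑ l, J l) * (wrMat τ Hs φ J).det := by
  set u : ℕ → K := fun j => (Nat.casesOn j 1 (fun j' => (hasseD Ht 1 s) ^ j') : K) with hu
  have hne := hasseD_one_ne_zero hK hHs hHt
  have hu0 : ∀ j, u j ≠ 0 := by
    intro j
    cases j with
    | zero => exact one_ne_zero
    | succ j => exact pow_ne_zero j hne
  have h := hcol_change_triangular hK hHs hHt τ φ
  refine ⟨(isOrders_congr (W_eq_of_triangular u hu0 h) J).2 hJ, ?_⟩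
  rw [wrMat_eq_wr, wrMat_eq_wr, det_wr_of_triangular u h hJ, prod_idx]
  have h1 : ∏ l : Fin n, u (J l + 1) = (hasseD Ht 1 s) ^ (∑ l, J l) := by
    have : ∀ l : Fin n, u (J l + 1) = (hasseD Ht 1 s) ^ (J l) := fun l => rfl
    rw [Finset.prod_congr rfl (fun l _ => this l), Finset.prod_pow_eq_pow_sum]
  rw [h1]
  show (1 : K) * _ * _ = _
  rw [one_mul]

/-- The columns of an invertible `k`-linear change of coordinates. -/
lemma hcol_lincomb (τ : K →ₐ[k] K) (H : K →ₐ[k] K⟦X⟧) {n : ℕ} (φ : Fin (n + 1) → K)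
    (A : Matrix (Fin (n + 1)) (Fin (n + 1)) k) (j : ℕ) :
    hcol τ H (fun i => ∑ m, A i m • φ m) j =
      (A.map (algebraMap k K)).mulVec (hcol τ H φ j) := by
  funext i
  cases j with
  | zero =>
    show τ (∑ m, A i m • φ m) = _
    rw [map_sum, Matrix.mulVec, dotProduct]
    apply Finset.sum_congr rfl
    intro m _
    rw [map_smul, Algebra.smul_def]
    rfl
  | succ j =>
    show hasseD H j (∑ m, A i m • φ m) = _
    rw [hasseD_sum, Matrix.mulVec, dotProduct]
    apply Finset.sum_congr rfl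
    intro m _
    rw [hasseD_smul, Algebra.smul_def]
    rfl

/-- An invertible `k`-linear change of coordinates multiplies the Wronskian by the determinant and
keeps the `τ`-orders. -/
theorem det_wrMat_lincomb (τ : K →ₐ[k] K) (H : K →ₐ[k] K⟦X⟧) {n : ℕ} (φ : Fin (n + 1) → K)
    (A : Matrix (Fin (n + 1)) (Fin (n + 1)) k) (hA : A.det ≠ 0) (J : Fin n → ℕ) :
    (IsOrders K (hcol τ H (fun i => ∑ m, A i m • φ m)) J ↔ IsOrders K (hcol τ H φ) J) ∧
      (wrMat τ H (fun i => ∑ m, A i m • φ m) J).det =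
        algebraMap k K A.det * (wrMat τ H φ J).det := by
  set AK : Matrix (Fin (n + 1)) (Fin (n + 1)) K := A.map (algebraMap k K) with hAK
  have hdet : AK.det = algebraMap k K A.det := by
    rw [hAK]
    exact ((algebraMap k K).map_det A).symm
  have hunit : IsUnit AK.det := by
    rw [hdet]
    exact IsUnit.mk0 _ ((map_ne_zero_iff _ (algebraMap k K).injective).2 hA)
  let e : (Fin (n + 1) → K) ≃ₗ[K] (Fin (n + 1) → K) :=
    Matrix.toLinearEquiv' AK (Matrix.invertibleOfIsUnitDet AK hunit)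
  have he : ∀ v, e v = AK.mulVec v := fun v => rfl
  constructor
  · have hc : hcol τ H (fun i => ∑ m, A i m • φ m) = fun j => e (hcol τ H φ j) := by
      funext j
      rw [he, hcol_lincomb]
    rw [hc]
    exact isOrders_map e _ J
  · rw [wrMat_eq_wr, wrMat_eq_wr, ← hdet, ← Matrix.det_mul]
    congr 1
    ext i q
    show hcol τ H (fun i => ∑ m, A i m • φ m) (idx J q) i = _
    rw [hcol_lincomb, Matrix.mul_apply]
    rfl

end Det

/-! ### The divisor of a differential under change of variable -/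

section Diff

variable [IsAlgClosed k] (hK : IsFunctionField k K)
variable (Φ : Place k K → (K →ₐ[k] LaurentSeries k))
  (hΦ : ∀ P : Place k K, LocRes.IsExpansionAt P.1 (Φ P))
include hK hΦ

lemma divDiff_apply {v : K} (hv : KaehlerDifferential.D k K v ≠ 0) (P : Place k K) :
    divDiff Φ 1 v P = LocRes.ordDiff (Φ P) 1 v :=
  (isCanonical_divDiff hK Φ hΦ (one_ne_zero (α := K)) hv).2 P

omit hΦ in
/-- `ds = (D_t s) dt`. -/
lemma kaehler_D_eq_hasseD_smul {s t : K} {Ht : K →ₐ[k] K⟦X⟧} (hHt : IsHasseFamily t Ht) :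
    KaehlerDifferential.D k K s = hasseD Ht 1 s • KaehlerDifferential.D k K t := by
  have hg : IsGeometric k K := isGeometric_of_isAlgClosed
  have hdt := kaehler_D_ne_zero_of_isHasseFamily hHt
  obtain ⟨g, hg'⟩ := exists_D_eq_smul hK hg hdt s
  have h1 := derivation_apply_eq_smul (hasseDer hHt) hg'
  rw [hasseDer_apply_self hHt, smul_eq_mul, mul_one] at h1
  have h2 : hasseD Ht 1 s = g := h1
  rw [h2]
  exact hg'

/-- `[ds] = [D_t s] + [dt]`. -/
theorem divDiff_change {s t : K} {Hs Ht : K →ₐ[k] K⟦X⟧} (hHs : IsHasseFamily s Hs)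
    (hHt : IsHasseFamily t Ht) :
    divDiff Φ 1 s = FunFld.div k (hasseD Ht 1 s) + divDiff Φ 1 t := by
  have hg : IsGeometric k K := isGeometric_of_isAlgClosed
  have hds := kaehler_D_ne_zero_of_isHasseFamily hHs
  have hdt := kaehler_D_ne_zero_of_isHasseFamily hHt
  ext P
  rw [Finsupp.add_apply, divDiff_apply hK Φ hΦ hds, divDiff_apply hK Φ hΦ hdt, div_apply hK,
    ordDiff_eq_of_D_eq_smul (Φ P) (kaehler_D_eq_hasseD_smul hK hHt)
      (vDiff_ne_zero hK hg (hΦ P) one_ne_zero hdt) (vDiff_ne_zero hK hg (hΦ P) one_ne_zero hds),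
    (hΦ P).1]
  rfl

end Diff

/-! ### Invariance of the Weierstrass divisor -/

section Invariance

variable [IsAlgClosed k] (hK : IsFunctionField k K)
variable (Φ : Place k K → (K →ₐ[k] LaurentSeries k))
  (hΦ : ∀ P : Place k K, LocRes.IsExpansionAt P.1 (Φ P))

omit [IsAlgClosed k] in
lemma lincomb_ne_zero {n : ℕ} {φ : Fin (n + 1) → K} (hφ : LinearIndependent k φ)
    {A : Matrix (Fin (n + 1)) (Fin (n + 1)) k} (hA : A.det ≠ 0) (i : Fin (n + 1)) :
    ∑ m, A i m • φ m ≠ 0 := by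
  intro h0
  have h1 := Fintype.linearIndependent_iff.1 hφ (A i) h0
  exact hA (Matrix.det_eq_zero_of_row_eq_zero i h1)

omit [IsAlgClosed k] in
lemma lincomb_inv {n : ℕ} (φ : Fin (n + 1) → K)
    {A : Matrix (Fin (n + 1)) (Fin (n + 1)) k} (hA : A.det ≠ 0) (i : Fin (n + 1)) :
    φ i = ∑ j, A⁻¹ i j • ∑ m, A j m • φ m := by
  have h1 : A⁻¹ * A = 1 := Matrix.nonsing_inv_mul A (IsUnit.mk0 _ hA)
  have h2 : ∑ j, A⁻¹ i j • ∑ m, A j m • φ m = ∑ m, (∑ j, A⁻¹ i j * A j m) • φ m := by
    simp_rw [Finset.smul_sum, smul_smul]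
    rw [Finset.sum_comm]
    apply Finset.sum_congr rfl
    intro m _
    rw [Finset.sum_smul]
  rw [h2]
  have h3 : ∀ m, ∑ j, A⁻¹ i j * A j m = (1 : Matrix (Fin (n + 1)) (Fin (n + 1)) k) i m := by
    intro m
    rw [← h1, Matrix.mul_apply]
  simp_rw [h3, Matrix.one_apply]
  simp

include hK hΦ in
/-- **Invariance of the Weierstrass divisor** under change of the separating variable, of
projective coordinates, and under scaling. -/
theorem wDiv_invariant {n : ℕ} (φ : Fin (n + 1) → K) (hφ : LinearIndependent k φ)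
    (τ : K →ₐ[k] K) {s : K} {Hs : K →ₐ[k] K⟦X⟧} (hHs : IsHasseFamily s Hs)
    {t : K} {Ht : K →ₐ[k] K⟦X⟧} (hHt : IsHasseFamily t Ht)
    {J : Fin n → ℕ} (hJ : IsOrders K (hcol τ Hs φ) J)
    (A : Matrix (Fin (n + 1)) (Fin (n + 1)) k) (hA : A.det ≠ 0) {y : K} (hy : y ≠ 0)
    (φ' : Fin (n + 1) → K) (hφ' : ∀ i, φ' i = y * ∑ j, A i j • φ j) :
    IsOrders K (hcol τ Ht φ') J ∧ wDiv τ Ht Φ t φ' J = wDiv τ Hs Φ s φ J := by
  classical
  set φA : Fin (n + 1) → K := fun i => ∑ m, A i m • φ m with hφA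
  have hφ'eq : φ' = y • φA := by
    funext i
    rw [hφ' i]
    rfl
  have hτinj : Function.Injective τ := τ.toRingHom.injective
  have hτy : τ y ≠ 0 := (map_ne_zero_iff τ hτinj).2 hy
  have hφne : ∀ i, φ i ≠ 0 := fun i => hφ.ne_zero i
  have hφAne : ∀ i, φA i ≠ 0 := fun i => lincomb_ne_zero hφ hA i
  -- orders and determinants
  obtain ⟨h1o, h1d⟩ := det_wrMat_lincomb τ Hs φ A hA J
  have hJ1 : IsOrders K (hcol τ Hs φA) J := h1o.2 hJ
  obtain ⟨hJ2, h2d⟩ := det_wrMat_smul τ hHs φA hy hJ1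
  obtain ⟨hJ3, h3d⟩ := det_wrMat_change hK hHs hHt τ (y • φA) hJ2
  rw [hφ'eq]
  refine ⟨hJ3, ?_⟩
  have h0 : hcol τ Hs φ 0 ≠ 0 := by
    intro h
    have h1 : τ (φ 0) = 0 := congrFun h 0
    exact hφne 0 ((map_eq_zero_iff τ hτinj).1 h1)
  have hdet0 : (wrMat τ Hs φ J).det ≠ 0 := by
    rw [wrMat_eq_wr]
    exact det_wr_ne_zero hJ h0
  have hDne := hasseD_one_ne_zero hK hHs hHt
  have hdetA : algebraMap k K A.det ≠ 0 := (map_ne_zero_iff _ (algebraMap k K).injective).2 hA
  -- the divisors of the tuples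
  have hm1 : mapDiv k (y • φA) = mapDiv k φ - FunFld.div k y := by
    have e1 : (y • φA) = fun i => y * φA i := rfl
    rw [e1, mapDiv_mul hK φA hφAne hy,
      mapDiv_eq_of_lincomb hK φ φA hφne hφAne (fun i j => A i j) (fun i j => A⁻¹ i j)
        (fun i => rfl) (fun i => lincomb_inv φ hA i)]
  have hτφne : ∀ i, (τ ∘ φ) i ≠ 0 := fun i => (map_ne_zero_iff τ hτinj).2 (hφne i)
  have hτφAne : ∀ i, (τ ∘ φA) i ≠ 0 := fun i => (map_ne_zero_iff τ hτinj).2 (hφAne i)
  have hm2 : mapDiv k (τ ∘ (y • φA)) = mapDiv k (τ ∘ φ) - FunFld.div k (τ y) := by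
    have e1 : (τ ∘ (y • φA)) = fun i => τ y * (τ ∘ φA) i := by
      funext i
      show τ (y * φA i) = _
      rw [map_mul]
      rfl
    have e2 : ∀ i, (τ ∘ φA) i = ∑ j, A i j • (τ ∘ φ) j := by
      intro i
      show τ (∑ m, A i m • φ m) = _
      rw [map_sum]
      apply Finset.sum_congr rfl
      intro m _
      rw [map_smul]
      rfl
    have e3 : ∀ i, (τ ∘ φ) i = ∑ j, A⁻¹ i j • (τ ∘ φA) j := by
      intro i
      have := congrArg τ (lincomb_inv φ hA i)
      rw [map_sum] at this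
      show τ (φ i) = _
      rw [this]
      apply Finset.sum_congr rfl
      intro m _
      rw [map_smul]
      rfl
    rw [e1, mapDiv_mul hK (τ ∘ φA) hτφAne hτy,
      mapDiv_eq_of_lincomb hK (τ ∘ φ) (τ ∘ φA) hτφne hτφAne (fun i j => A i j)
        (fun i j => A⁻¹ i j) e2 e3]
  have hdd := divDiff_change hK Φ hΦ hHs hHt
  ext P
  unfold wDiv
  rw [h3d, h2d, h1d, hm1, hm2, hdd]
  simp only [Finsupp.add_apply, Finsupp.smul_apply, Finsupp.sub_apply, smul_eq_mul]
  rw [div_apply hK, div_apply hK, div_apply hK, div_apply hK, div_apply hK,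
    ord_mul P (pow_ne_zero _ hDne)
      (mul_ne_zero (mul_ne_zero hτy (pow_ne_zero _ hy)) (mul_ne_zero hdetA hdet0)),
    ord_mul P (mul_ne_zero hτy (pow_ne_zero _ hy)) (mul_ne_zero hdetA hdet0),
    ord_mul P hτy (pow_ne_zero _ hy), ord_mul P hdetA hdet0, ord_pow, ord_pow, ord_algebraMap]
  push_cast
  ring

end Invariance

end Groth.Agent.Lib.Helper88.SV
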