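/-
Local models of the Weierstrass divisor `W_s(φ, τ)` of Stöhr–Voloch at a place: reduction to a local
parameter and a normalized tuple; nonnegativity.
Author: helper88 (on top of helper16's local theory)
-/
import Groth.Agent.Lib.Helper88.SVInvar

set_option autoImplicit false
set_option linter.unusedSectionVars false
set_option linter.style.haveILetI false

namespace Groth.Agent.Lib.Helper88.SV

open FunFld WithZero LocRes PowerSeries
open Groth.Agent.Lib.Helper88.FF Groth.Agent.Lib.Helper88.TG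
open Groth.Agent.Lib.Helper16.Hasse Groth.Agent.Lib.Helper16.Jump
open Groth.Agent.Lib.Helper16.LocExp Groth.Agent.Lib.Helper16.WDivAt
open Groth.Agent.Lib.Helper44.FFExt

variable {k K : Type*} [Field k] [IsAlgClosed k] [Field K] [Algebra k K]
variable (hK : IsFunctionField k K)
variable (Φ : Place k K → (K →ₐ[k] LaurentSeries k))
  (hΦ : ∀ P : Place k K, LocRes.IsExpansionAt P.1 (Φ P))

omit [IsAlgClosed k] in
lemma linearIndependent_smul {ι : Type*} [Fintype ι] {φ : ι → K} (hφ : LinearIndependent k φ)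
    {y : K} (hy : y ≠ 0) : LinearIndependent k (y • φ) := by
  rw [Fintype.linearIndependent_iff] at hφ ⊢
  intro c hc
  apply hφ c
  have h1 : ∑ i, c i • (y • φ) i = y * ∑ i, c i • φ i := by
    rw [Finset.mul_sum]
    apply Finset.sum_congr rfl
    intro i _
    show c i • (y * φ i) = y * c i • φ i
    rw [mul_smul_comm]
  rw [h1] at hc
  exact (mul_eq_zero.1 hc).resolve_left hy

omit [IsAlgClosed k] in
lemma exists_uniformizer (P : Place k K) : ∃ t : K, P.1 t = exp (-1 : ℤ) := P.2.2 _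

include hK hΦ in
/-- A local parameter has nonzero Hasse derivative with respect to any separating variable. -/
lemma hasseD_one_ne_zero_of_uniformizer {s : K} {H : K →ₐ[k] K⟦X⟧} (hH : IsHasseFamily s H)
    {P : Place k K} {t : K} (ht : P.1 t = exp (-1 : ℤ)) : hasseD H 1 t ≠ 0 := by
  have hg : IsGeometric k K := isGeometric_of_isAlgClosed
  have hDt := D_exp_uniformizer_ne_zero (hΦ P) ht
  have hvt : LocRes.vDiff (Φ P) 1 t ≠ 0 := by
    unfold LocRes.vDiff
    rw [map_one, one_mul, ne_eq, _root_.map_eq_zero]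
    exact hDt
  have hdt := kaehler_D_ne_zero_of_vDiff_ne_zero (Φ P) hvt
  have h1 := kaehler_D_eq_hasseD_smul hK (s := t) hH
  intro h0
  rw [h0, zero_smul] at h1
  exact hdt h1

include hK hΦ in
/-- **Local model.** At every place the Weierstrass divisor can be computed with a local
parameter and a tuple normalized at the place with an entry equal to `1`. -/
theorem exists_local_model {n : ℕ} (φ : Fin (n + 1) → K) (hφ : LinearIndependent k φ)
    (τ : K →ₐ[k] K) {s : K} {H : K →ₐ[k] K⟦X⟧} (hH : IsHasseFamily s H)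
    {J : Fin n → ℕ} (hJ : IsOrders K (hcol τ H φ) J) (P : Place k K) :
    ∃ (t : K) (Ht : K →ₐ[k] K⟦X⟧) (y : K), y ≠ 0 ∧ P.1 t = exp (-1 : ℤ) ∧ IsHasseFamily t Ht ∧
      LinearIndependent k (y • φ) ∧ (1 : K) ∈ Submodule.span k (Set.range (y • φ)) ∧
      (∀ i, P.1 ((y • φ) i) ≤ 1) ∧ IsOrders K (hcol τ Ht (y • φ)) J ∧
      wDiv τ Ht Φ t (y • φ) J = wDiv τ H Φ s φ J := by
  classical
  obtain ⟨t, ht⟩ := exists_uniformizer P
  obtain ⟨Ht, hHt⟩ := exists_isHasseFamily hH (hasseD_one_ne_zero_of_uniformizer hK Φ hΦ hH ht)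
  obtain ⟨i₀, -, hi₀⟩ := Finset.exists_mem_eq_inf' Finset.univ_nonempty fun i => P.ord (φ i)
  have hφne : ∀ i, φ i ≠ 0 := fun i => hφ.ne_zero i
  set y : K := (φ i₀)⁻¹ with hy
  have hy0 : y ≠ 0 := inv_ne_zero (hφne i₀)
  have hinv := wDiv_invariant hK Φ hΦ φ hφ τ hH hHt hJ 1 (by simp) hy0 (y • φ) (by
    intro i
    simp [Matrix.one_apply])
  refine ⟨t, Ht, y, hy0, ht, hHt, ?_, ?_, ?_, hinv.1, hinv.2⟩
  · exact linearIndependent_smul hφ hy0
  · apply Submodule.subset_span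
    refine ⟨i₀, ?_⟩
    show y * φ i₀ = 1
    rw [hy, inv_mul_cancel₀ (hφne i₀)]
  · intro i
    show P.1 (y * φ i) ≤ 1
    rw [map_mul, hy, map_inv₀, val_eq_exp_neg_ord P (hφne i₀), val_eq_exp_neg_ord P (hφne i),
      ← exp_neg, ← exp_add, ← exp_zero, exp_le_exp]
    have : P.ord (φ i₀) ≤ P.ord (φ i) := by
      rw [← hi₀]
      exact Finset.inf'_le _ (Finset.mem_univ i)
    omega

include hK hΦ in
/-- The coefficient of the Weierstrass divisor at `P` for a normalized tuple and a local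
parameter. -/
lemma wDiv_apply_local {n : ℕ} (φ : Fin (n + 1) → K) (τ : K →ₐ[k] K) {t : K}
    (Ht : K →ₐ[k] K⟦X⟧) {P : Place k K} (ht : P.1 t = exp (-1 : ℤ))
    (heff : (1 : K) ∈ Submodule.span k (Set.range φ)) (hnorm : ∀ i, P.1 (φ i) ≤ 1)
    (J : Fin n → ℕ) :
    wDiv τ Ht Φ t φ J P = P.ord (wrMat τ Ht φ J).det + mapDiv k (τ ∘ φ) P := by
  unfold wDiv
  rw [Finsupp.add_apply, Finsupp.add_apply, Finsupp.add_apply, Finsupp.smul_apply,
    Finsupp.smul_apply, div_apply hK, divDiff_apply_eq_zero Φ P t (((hΦ P).1 t).trans ht),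
    mapDiv_apply_eq_zero P φ heff hnorm]
  simp

include hK in
/-- The local estimate behind the nonnegativity of the Weierstrass divisor. -/
theorem ord_det_add_mapDiv_nonneg {n : ℕ} (φ : Fin (n + 1) → K) (hφne : ∀ i, φ i ≠ 0)
    (τ : K →ₐ[k] K) {t : K} {Ht : K →ₐ[k] K⟦X⟧} (hHt : IsHasseFamily t Ht) {P : Place k K}
    (ht : P.1 t = exp (-1 : ℤ)) (hnorm : ∀ i, P.1 (φ i) ≤ 1) {J : Fin n → ℕ}
    (hdet : (wrMat τ Ht φ J).det ≠ 0) :
    0 ≤ P.ord (wrMat τ Ht φ J).det + mapDiv k (τ ∘ φ) P := by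
  classical
  have hτinj : Function.Injective τ := τ.toRingHom.injective
  have hψne : ∀ i, (τ ∘ φ) i ≠ 0 := fun i => (map_ne_zero_iff τ hτinj).2 (hφne i)
  obtain ⟨i₁, -, hi₁⟩ := Finset.exists_mem_eq_inf' Finset.univ_nonempty
    fun i => P.ord ((τ ∘ φ) i)
  rw [mapDiv_apply hK, hi₁]
  set u : K := ((τ ∘ φ) i₁)⁻¹ with hu
  have hu0 : u ≠ 0 := inv_ne_zero (hψne i₁)
  set M := wrMat τ Ht φ J with hM
  set d : Fin (n + 1) → K := fun q => Fin.cases (motive := fun _ => K) u (fun _ => 1) q with hd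
  have hM' : ∀ i q, P.1 ((M * Matrix.diagonal d) i q) ≤ 1 := by
    intro i q
    rw [Matrix.mul_diagonal]
    induction q using Fin.cases with
    | zero =>
      show P.1 (τ (φ i) * u) ≤ 1
      rw [map_mul, hu, map_inv₀, val_eq_exp_neg_ord P (hψne i₁)]
      have e : τ (φ i) = (τ ∘ φ) i := rfl
      rw [e, val_eq_exp_neg_ord P (hψne i), ← exp_neg, ← exp_add, ← exp_zero, exp_le_exp]
      have : P.ord ((τ ∘ φ) i₁) ≤ P.ord ((τ ∘ φ) i) := by
        rw [← hi₁]
        exact Finset.inf'_le _ (Finset.mem_univ i)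
      omega
    | succ l =>
      show P.1 (hasseD Ht (J l) (φ i) * 1) ≤ 1
      rw [mul_one]
      exact val_hasseD_le hK P ht hHt (hnorm i) (J l)
  have h1 := (Groth.Agent.Lib.Helper16.EvalP.evalP_det P (M * Matrix.diagonal d) hM').1
  have h2 : (M * Matrix.diagonal d).det = M.det * u := by
    rw [Matrix.det_mul, Matrix.det_diagonal, Fin.prod_univ_succ]
    simp [hd]
  rw [h2] at h1
  have h3 : (0 : ℤ) ≤ P.ord (M.det * u) :=
    ord_le_of_val_le hK (mul_ne_zero hdet hu0) (by simpa using h1)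
  rw [ord_mul P hdet hu0, hu, ord_inv] at h3
  linarith

include hK hΦ in
/-- **The Weierstrass divisor is nonnegative.** -/
theorem wDiv_nonneg {n : ℕ} (φ : Fin (n + 1) → K) (hφ : LinearIndependent k φ)
    (τ : K →ₐ[k] K) {s : K} {H : K →ₐ[k] K⟦X⟧} (hH : IsHasseFamily s H)
    {J : Fin n → ℕ} (hJ : IsOrders K (hcol τ H φ) J) : 0 ≤ wDiv τ H Φ s φ J := by
  rw [Finsupp.le_def]
  intro P
  obtain ⟨t, Ht, y, hy0, ht, hHt, hli, heff, hnorm, hJ', hW⟩ :=
    exists_local_model hK Φ hΦ φ hφ τ hH hJ P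
  rw [← hW, wDiv_apply_local hK Φ hΦ (y • φ) τ Ht ht heff hnorm J]
  have hτinj : Function.Injective τ := τ.toRingHom.injective
  have h0 : hcol τ Ht (y • φ) 0 ≠ 0 := by
    intro h
    have h1 : τ ((y • φ) 0) = 0 := congrFun h 0
    exact hli.ne_zero 0 ((map_eq_zero_iff τ hτinj).1 h1)
  have hdet : (wrMat τ Ht (y • φ) J).det ≠ 0 := by
    rw [wrMat_eq_wr]
    exact det_wr_ne_zero hJ' h0
  exact ord_det_add_mapDiv_nonneg hK (y • φ) (fun i => hli.ne_zero i) τ hHt ht hnorm hdet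

end Groth.Agent.Lib.Helper88.SV
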