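/-
Determinants of matrices of binomial coefficients (Vandermonde type), read in a field.
Author: helper88
-/
import Groth.Prelude.Def_W4bk4goldsch45p2
import Mathlib.LinearAlgebra.Vandermonde
import Mathlib.RingTheory.Polynomial.Pochhammer

set_option autoImplicit false

namespace Groth.Agent.Lib.Helper88.SV

open FunFld Polynomial

variable {k : Type*} [Field k]

lemma natCast_ne_zero_of_lt {m : ℕ} (hm : 0 < m) (h : ringChar k = 0 ∨ m < ringChar k) :
    (m : k) ≠ 0 := by
  intro h0
  rw [ringChar.spec] at h0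
  rcases h with h | h
  · rw [h, zero_dvd_iff] at h0
    omega
  · exact Nat.not_dvd_of_pos_of_lt hm h h0

lemma natCast_injective_of_lt {n : ℕ} (J : Fin n → ℕ) (hJ : StrictMono J)
    (h : ringChar k = 0 ∨ ∀ r, J r < ringChar k) : Function.Injective fun r => (J r : k) := by
  intro r r' hrr
  by_contra hne
  wlog hlt : r < r' generalizing r r'
  · exact this hrr.symm (Ne.symm hne) (lt_of_le_of_ne (not_lt.1 hlt) (Ne.symm hne))
  have h1 : J r < J r' := hJ hlt
  have h2 : ((J r' - J r : ℕ) : k) = 0 := by
    rw [Nat.cast_sub h1.le]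
    simp only at hrr
    rw [hrr, sub_self]
  refine natCast_ne_zero_of_lt (k := k) (Nat.sub_pos_of_lt h1) ?_ h2
  rcases h with h | h
  · exact Or.inl h
  · exact Or.inr (lt_of_le_of_lt (Nat.sub_le _ _) (h r'))

/-- The matrix of descending factorials has the Vandermonde determinant. -/
lemma det_descFactorial {n : ℕ} (v : Fin n → ℕ) :
    (Matrix.of fun r s : Fin n => (((v r).descFactorial (s : ℕ) : ℕ) : k)).det =
      (Matrix.vandermonde fun r => (v r : k)).det := by
  rw [Matrix.det_eval_matrixOfPolynomials_eq_det_vandermonde (fun r => (v r : k))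
    (fun s : Fin n => descPochhammer k (s : ℕ)) (fun s => descPochhammer_natDegree k s)
    (fun s => monic_descPochhammer k s)]
  congr 1
  ext r s
  simp only [Matrix.of_apply]
  rw [descPochhammer_eval_eq_descFactorial]

/-- `det [(j_r choose s)]_{s = 0..n-1} ≠ 0` when the `j_r` are distinct in `k`. -/
theorem det_binomMat_range_ne_zero {n : ℕ} (J : Fin n → ℕ)
    (hinj : Function.Injective fun r => (J r : k)) :
    (binomMat k J (fun s : Fin n => (s : ℕ))).det ≠ 0 := by
  intro h0
  have h1 : (Matrix.of fun r s : Fin n => (((J r).descFactorial (s : ℕ) : ℕ) : k)) =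
      binomMat k J (fun s : Fin n => (s : ℕ)) *
        Matrix.diagonal (fun s : Fin n => (((s : ℕ).factorial : ℕ) : k)) := by
    ext r s
    rw [Matrix.mul_diagonal, Matrix.of_apply, Nat.descFactorial_eq_factorial_mul_choose]
    simp only [binomMat, Matrix.of_apply]
    push_cast
    ring
  have h2 := det_descFactorial (k := k) J
  rw [h1, Matrix.det_mul, h0, zero_mul] at h2
  exact (Matrix.det_vandermonde_ne_zero_iff.2 hinj) h2.symm

/-- `det [(j_r choose s)]_{s = 1..n} ≠ 0` when the `j_r` are positive and distinct and nonzero in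
`k`. -/
theorem det_binomMat_succ_ne_zero {n : ℕ} (J : Fin n → ℕ) (hpos : ∀ r, 1 ≤ J r)
    (hne : ∀ r, (J r : k) ≠ 0) (hinj : Function.Injective fun r => (J r : k)) :
    (binomMat k J (fun s : Fin n => (s : ℕ) + 1)).det ≠ 0 := by
  intro h0
  have h1 : Matrix.diagonal (fun r : Fin n => (J r : k)) *
      (Matrix.of fun r s : Fin n => (((J r - 1).descFactorial (s : ℕ) : ℕ) : k)) =
      binomMat k J (fun s : Fin n => (s : ℕ) + 1) *
        Matrix.diagonal (fun s : Fin n => ((((s : ℕ) + 1).factorial : ℕ) : k)) := by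
    ext r s
    rw [Matrix.mul_diagonal, Matrix.diagonal_mul, Matrix.of_apply]
    simp only [binomMat, Matrix.of_apply]
    have h3 : J r * (J r - 1).descFactorial (s : ℕ) =
        ((s : ℕ) + 1).factorial * (J r).choose ((s : ℕ) + 1) := by
      rw [← Nat.descFactorial_eq_factorial_mul_choose]
      obtain ⟨m, hm⟩ : ∃ m, J r = m + 1 := ⟨J r - 1, by have := hpos r; omega⟩
      rw [hm, Nat.add_sub_cancel, Nat.succ_descFactorial_succ]
    have h4 := congrArg (fun x : ℕ => (x : k)) h3
    simp only [Nat.cast_mul] at h4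
    rw [h4]
    ring
  have h2 := congrArg Matrix.det h1
  rw [Matrix.det_mul, Matrix.det_mul, h0, zero_mul, Matrix.det_diagonal,
    det_descFactorial (k := k) (fun r => J r - 1)] at h2
  have h5 : Function.Injective fun r => ((J r - 1 : ℕ) : k) := by
    intro r r' hrr
    apply hinj
    simp only at hrr ⊢
    have e1 : (J r : k) = ((J r - 1 : ℕ) : k) + 1 := by
      rw [← Nat.cast_one (R := k), ← Nat.cast_add, Nat.sub_add_cancel (hpos r)]
    have e2 : (J r' : k) = ((J r' - 1 : ℕ) : k) + 1 := by
      rw [← Nat.cast_one (R := k), ← Nat.cast_add, Nat.sub_add_cancel (hpos r')]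
    rw [e1, e2, hrr]
  have h6 := Matrix.det_vandermonde_ne_zero_iff.2 h5
  have h7 : ∏ r : Fin n, (J r : k) ≠ 0 := Finset.prod_ne_zero_iff.2 (fun r _ => hne r)
  exact mul_ne_zero h7 h6 h2

end Groth.Agent.Lib.Helper88.SV
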