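/-
The Weierstrass divisor `W_s(φ, τ)` of Stöhr–Voloch at fixed points and strong fixed points of `τ`.
Author: helper88 (on top of helper16's local theory and rows S12606, S12615)
-/
import Groth.Agent.Lib.Helper88.SVLocal
import Groth.Agent.Lib.Helper88.SVExpansion
import Groth.Agent.Lib.Helper16.HasseTau
import Groth.Agent.S12606
import Groth.Agent.S12615

set_option autoImplicit false
set_option linter.unusedSectionVars false
set_option linter.style.haveILetI false

namespace Groth.Agent.Lib.Helper88.SV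

open FunFld WithZero LocRes PowerSeries
open Groth.Agent.Lib.Helper88.FF Groth.Agent.Lib.Helper88.TG
open Groth.Agent.Lib.Helper16.Hasse Groth.Agent.Lib.Helper16.Jump
open Groth.Agent.Lib.Helper16.LocExp Groth.Agent.Lib.Helper16.WDivAt
open Groth.Agent.Lib.Helper16.EvalP

variable {k K : Type*} [Field k] [IsAlgClosed k] [Field K] [Algebra k K]
variable (hK : IsFunctionField k K)

section OrdersAt

variable (P : Place k K) {t : K} (ht : P.1 t = exp (-1 : ℤ))
variable {Ht : K →ₐ[k] K⟦X⟧} (hHt : IsHasseFamily t Ht)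
variable {n : ℕ} (φ : Fin (n + 1) → K) (hφ : LinearIndependent k φ)
  (heff : (1 : K) ∈ Submodule.span k (Set.range φ)) (hnorm : ∀ i, P.1 (φ i) ≤ 1)

include hK ht hHt hφ hnorm in
/-- The columns of values of the Hasse derivatives at `P` span everything. -/
theorem span_hcolAt_eq_top :
    Submodule.span (IsLocalRing.ResidueField P.O) (Set.range (hcolAt P Ht φ)) = ⊤ := by
  classical
  by_contra hne
  obtain ⟨f, hf0, hf⟩ := Submodule.exists_le_ker_of_lt_top _ (lt_top_iff_ne_top.mpr hne)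
  have hsurj := algebraMap_residue_surjective hK P
  choose d hd using fun i : Fin (n + 1) => hsurj (f fun j => if i = j then 1 else 0)
  have key : ∀ m, algebraMap k (IsLocalRing.ResidueField P.O) (a hK P t m (∑ i, d i • φ i)) =
      f (hcolAt P Ht φ (m + 1)) := by
    intro m
    rw [← sum_mul_hcolAt_succ hK P ht hHt φ hnorm, LinearMap.pi_apply_eq_sum_univ f]
    refine Finset.sum_congr rfl fun i _ => ?_
    rw [hd, smul_eq_mul, mul_comm]
  have hall : ∀ m, a hK P t m (∑ i, d i • φ i) = 0 := by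
    intro m
    have h1 : hcolAt P Ht φ (m + 1) ∈
        Submodule.span (IsLocalRing.ResidueField P.O) (Set.range (hcolAt P Ht φ)) :=
      Submodule.subset_span ⟨m + 1, rfl⟩
    have h2 := hf h1
    rw [LinearMap.mem_ker, ← key] at h2
    exact (map_eq_zero_iff _ (algebraMap k (IsLocalRing.ResidueField P.O)).injective).1 h2
  have hz : P.1 (∑ i, d i • φ i) ≤ 1 := val_lincomb_le P Finset.univ d φ (fun i _ => hnorm i)
  have hzero := eq_zero_of_a_eq_zero hK P ht hz hall
  have hd0 := Fintype.linearIndependent_iff.1 hφ d hzero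
  apply hf0
  refine LinearMap.ext fun v => ?_
  rw [LinearMap.pi_apply_eq_sum_univ f v]
  simp only [LinearMap.zero_apply]
  apply Finset.sum_eq_zero
  intro i _
  rw [← hd i, hd0 i, map_zero, smul_zero]

include hK ht hHt hφ heff hnorm in
/-- Orders at a place exist. -/
theorem exists_orders_at :
    ∃ J' : Fin n → ℕ, IsOrders (IsLocalRing.ResidueField P.O) (hcolAt P Ht φ) J' :=
  exists_isOrders (K := IsLocalRing.ResidueField P.O)
    (M := Fin (n + 1) → IsLocalRing.ResidueField P.O) (n := n) (by simp)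
    (hcolAt P Ht φ) (hcolAt_zero_ne_zero P φ heff hnorm)
    (span_hcolAt_eq_top hK P ht hHt φ hφ hnorm)

include hK ht hHt hnorm in
/-- Orders at a place are positive. -/
theorem orders_at_pos {J' : Fin n → ℕ}
    (hJ' : IsOrders (IsLocalRing.ResidueField P.O) (hcolAt P Ht φ) J') (l : Fin n) : 1 ≤ J' l := by
  obtain ⟨g, -, -, -, hpos, -⟩ := exists_adapted hK P ht hHt φ hnorm J' hJ'
  exact hpos l

end OrdersAt

section Fixed

variable (P : Place k K) {t : K} (ht : P.1 t = exp (-1 : ℤ))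
variable {Ht : K →ₐ[k] K⟦X⟧} (hHt : IsHasseFamily t Ht)
variable {n : ℕ} (φ : Fin (n + 1) → K) (hφ : LinearIndependent k φ)
  (heff : (1 : K) ∈ Submodule.span k (Set.range φ)) (hnorm : ∀ i, P.1 (φ i) ≤ 1)
variable {τ : K →ₐ[k] K}

include hK in
/-- An endomorphism fixing `P` does not change values at `P`. -/
lemma evalP_tau (hP : IsFixedPt τ P) {z : K} (hz : P.1 z ≤ 1) : evalP P (τ z) = evalP P z := by
  rw [evalP_eq hK P (val_tau_le hK P hP hz), evalP_eq hK P hz]
  congr 1
  apply rho_unique hK P (val_tau_le hK P hP hz)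
  have h1 := hP _ (rho_spec hK P hz)
  rwa [map_sub, AlgHom.commutes] at h1

include hK ht hHt heff hnorm in
/-- At a fixed point, the `τ`-orders are at most the orders at the point. -/
theorem orders_le_at_fixedPt (hP : IsFixedPt τ P) {J : Fin n → ℕ}
    (hJ : IsOrders K (hcol τ Ht φ) J) {J' : Fin n → ℕ}
    (hJ' : IsOrders (IsLocalRing.ResidueField P.O) (hcolAt P Ht φ) J') (l : Fin n) :
    J l ≤ J' l := by
  apply orders_le_of_linearIndependent hJ hJ'.1
  rw [linearIndependent_idx_iff_det_wr_ne_zero]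
  intro h0
  have hM : ∀ i q, P.1 (wr (hcol τ Ht φ) J' i q) ≤ 1 := by
    intro i q
    induction q using Fin.cases with
    | zero => exact val_tau_le hK P hP (hnorm i)
    | succ l => exact val_hasseD_le hK P ht hHt (hnorm i) (J' l)
  have h1 := (evalP_det P (wr (hcol τ Ht φ) J') hM).2
  have h2 : (Matrix.of fun i q => evalP P (wr (hcol τ Ht φ) J' i q)) = wr (hcolAt P Ht φ) J' := by
    ext i q
    induction q using Fin.cases with
    | zero => exact evalP_tau hK P hP (hnorm i)
    | succ l => rfl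
  rw [h2, h0] at h1
  have h3 : evalP P (0 : K) = 0 := by
    rw [evalP_eq_zero_iff P (by simp)]
    simp
  rw [h3] at h1
  exact det_wr_ne_zero hJ' (hcolAt_zero_ne_zero P φ heff hnorm) h1.symm

end Fixed

section Global

variable (Φ : Place k K → (K →ₐ[k] LaurentSeries k))
  (hΦ : ∀ P : Place k K, LocRes.IsExpansionAt P.1 (Φ P))

include hK hΦ in
/-- At a strong fixed point of `τ` the Weierstrass divisor has coefficient at least `n`. -/
theorem le_wDiv_of_isStrongFixedPt {n : ℕ} (φ : Fin (n + 1) → K) (hφ : LinearIndependent k φ)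
    (τ : K →ₐ[k] K) (hτφ : ¬ ∃ y : K, ∀ i, τ (φ i) = y * φ i)
    {s : K} {H : K →ₐ[k] K⟦X⟧} (hH : IsHasseFamily s H)
    {J : Fin n → ℕ} (hJ : IsOrders K (hcol τ H φ) J) {P : Place k K}
    (hP : IsStrongFixedPt τ P) : (n : ℤ) ≤ wDiv τ H Φ s φ J P := by
  classical
  obtain ⟨t, Ht, y, hy0, ht, hHt, hli, heff, hnorm, hJ', hW⟩ :=
    exists_local_model hK Φ hΦ φ hφ τ hH hJ P
  rw [← hW]
  have hτinj : Function.Injective τ := τ.toRingHom.injective
  have hn : 0 < n := by
    by_contra hn0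
    have hn0' : n = 0 := by omega
    subst hn0'
    apply hτφ
    refine ⟨τ (φ 0) / φ 0, fun i => ?_⟩
    rw [Fin.fin_one_eq_zero i, div_mul_cancel₀ _ (hφ.ne_zero 0)]
  have hτφ' : ¬ ∃ y' : K, ∀ i, τ ((y • φ) i) = y' * (y • φ) i := by
    rintro ⟨y', hy'⟩
    apply hτφ
    refine ⟨y' * y / τ y, fun i => ?_⟩
    have h1 := hy' i
    have h2 : τ (y * φ i) = y' * (y * φ i) := h1
    rw [map_mul] at h2
    have hτy : τ y ≠ 0 := (map_ne_zero_iff τ hτinj).2 hy0
    field_simp
    rw [mul_comm (τ (φ i)), h2]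
    ring
  obtain ⟨J', hJ''⟩ := exists_orders_at hK P ht hHt (y • φ) hli heff hnorm
  have h615 := (Groth.Agent.S12615.result k K hK τ P (isFixedPt_of_strong P hP) (y • φ) hli heff
    hnorm t ht Ht hHt J hJ' J' hJ'' Φ hΦ).1
  have h606 := Groth.Agent.S12606.result k K hK τ P hP hn (y • φ) hli heff hnorm hτφ' t ht Ht hHt
    J hJ' J' hJ''
  have hpos := orders_at_pos hK P ht hHt (y • φ) hnorm hJ'' ⟨0, hn⟩
  refine le_trans ?_ h615
  have h1 : ∀ l ∈ (Finset.univ : Finset (Fin n)), (1 : ℤ) ≤ (J' l : ℤ) - J l := by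
    intro l _
    have := h606 l
    omega
  have h2 := Finset.sum_le_sum h1
  rw [Finset.sum_const, Finset.card_univ, Fintype.card_fin] at h2
  simpa using h2

include hK hΦ in
/-- At a fixed point of `τ ≠ 1`, the Weierstrass divisor of a birational map has positive
coefficient. -/
theorem wDiv_pos_of_isFixedPt {n : ℕ} (φ : Fin (n + 1) → K) (hφ : LinearIndependent k φ)
    (h0 : φ 0 ≠ 0) (hbir : IntermediateField.adjoin k (Set.range fun i => φ i / φ 0) = ⊤)
    (τ : K →ₐ[k] K) (hτ : τ ≠ AlgHom.id k K)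
    {s : K} {H : K →ₐ[k] K⟦X⟧} (hH : IsHasseFamily s H)
    {J : Fin n → ℕ} (hJ : IsOrders K (hcol τ H φ) J) {P : Place k K}
    (hP : IsFixedPt τ P) : 0 < wDiv τ H Φ s φ J P := by
  classical
  obtain ⟨t, Ht, y, hy0, ht, hHt, hli, heff, hnorm, hJ', hW⟩ :=
    exists_local_model hK Φ hΦ φ hφ τ hH hJ P
  rw [← hW]
  obtain ⟨J', hJ''⟩ := exists_orders_at hK P ht hHt (y • φ) hli heff hnorm
  have h615 := (Groth.Agent.S12615.result k K hK τ P hP (y • φ) hli heff
    hnorm t ht Ht hHt J hJ' J' hJ'' Φ hΦ).1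
  have hle := orders_le_at_fixedPt hK P ht hHt (y • φ) heff hnorm hP hJ' hJ''
  have hpos := orders_at_pos hK P ht hHt (y • φ) hnorm hJ''
  -- `0` is a `τ`-order
  have h0' : (y • φ) 0 ≠ 0 := mul_ne_zero hy0 h0
  have hbir' : IntermediateField.adjoin k (Set.range fun i => (y • φ) i / (y • φ) 0) = ⊤ := by
    rw [← hbir]
    congr 2
    funext i
    show y * φ i / (y * φ 0) = φ i / φ 0
    rw [mul_div_mul_left _ _ hy0]
  have hjump : IsJump K (hcol τ Ht (y • φ)) (0 + 1) := by
    by_contra hnj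
    exact hτ ((not_isJump_one_iff (y • φ) h0' hbir' τ hHt).1 hnj)
  obtain ⟨l₀, hl₀⟩ := (hJ'.2 0).2 hjump
  refine lt_of_lt_of_le ?_ h615
  have h1 : ∀ l ∈ (Finset.univ : Finset (Fin n)), (0 : ℤ) ≤ (J' l : ℤ) - J l := by
    intro l _
    have := hle l
    omega
  have h2 : (0 : ℤ) < (J' l₀ : ℤ) - J l₀ := by
    have := hpos l₀
    omega
  exact Finset.sum_pos' h1 ⟨l₀, Finset.mem_univ _, h2⟩

end Global

end Groth.Agent.Lib.Helper88.SV
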