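/-
Classicality of birational maps in large characteristic (Stöhr–Voloch): orders `(1, …, n)` and
`τ`-orders `(0, …, n-1)`.
Author: helper88 (on top of helper16's local theory and row S12605)
-/
import Groth.Agent.Lib.Helper88.SVFixed
import Groth.Agent.Lib.Helper88.SVBinom
import Groth.Agent.Lib.Helper88.FunFldLinSeries2
import Groth.Agent.S12605

set_option autoImplicit false
set_option linter.unusedSectionVars false
set_option linter.style.haveILetI false

namespace Groth.Agent.Lib.Helper88.SV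

open FunFld WithZero LocRes PowerSeries
open Groth.Agent.Lib.Helper88.FF Groth.Agent.Lib.Helper88.TG
open Groth.Agent.Lib.Helper16.Hasse Groth.Agent.Lib.Helper16.Jump
open Groth.Agent.Lib.Helper16.LocExp Groth.Agent.Lib.Helper16.WDivAt
open Groth.Agent.Lib.Helper16.EvalP Groth.Agent.Lib.Helper44.FFExt

section Orders

variable {K : Type*} [Field K] {M : Type*} [AddCommGroup M] [Module K M]

lemma strictMono_ge {n : ℕ} {J : Fin n → ℕ} (hJ : StrictMono J) (l : Fin n) : (l : ℕ) ≤ J l := by
  obtain ⟨m, hm⟩ := l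
  induction m with
  | zero => exact Nat.zero_le _
  | succ m ih =>
    have h1 := ih (by omega)
    have h2 : J ⟨m, by omega⟩ < J ⟨m + 1, hm⟩ := hJ (by simp [Fin.lt_def])
    simp only at h1 ⊢
    omega

lemma strictMono_ge_succ {n : ℕ} {J : Fin n → ℕ} (hJ : StrictMono J) (h0 : ∀ l, 1 ≤ J l)
    (l : Fin n) : (l : ℕ) + 1 ≤ J l := by
  obtain ⟨m, hm⟩ := l
  induction m with
  | zero => exact h0 _
  | succ m ih =>
    have h1 := ih (by omega)
    have h2 : J ⟨m, by omega⟩ < J ⟨m + 1, hm⟩ := hJ (by simp [Fin.lt_def])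
    simp only at h1 ⊢
    omega

end Orders

variable {k K : Type*} [Field k] [IsAlgClosed k] [Field K] [Algebra k K]
variable (hK : IsFunctionField k K)

section Bound

variable (P : Place k K) {t : K} (ht : P.1 t = exp (-1 : ℤ))
variable {Ht : K →ₐ[k] K⟦X⟧} (hHt : IsHasseFamily t Ht)
variable {n : ℕ} (φ : Fin (n + 1) → K) (hφ : LinearIndependent k φ)
  (heff : (1 : K) ∈ Submodule.span k (Set.range φ)) (hnorm : ∀ i, P.1 (φ i) ≤ 1)

include hK ht hHt hφ heff hnorm in
/-- The orders at a place are at most the degree of the map. -/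
theorem order_at_le_deg {J' : Fin n → ℕ}
    (hJ' : IsOrders (IsLocalRing.ResidueField P.O) (hcolAt P Ht φ) J') (l : Fin n) :
    (J' l : ℤ) ≤ (mapDiv k φ).deg := by
  classical
  obtain ⟨g, hgmem, hgval, -, -, -⟩ := exists_adapted hK P ht hHt φ hnorm J' hJ'
  have hφne : ∀ i, φ i ≠ 0 := fun i => hφ.ne_zero i
  set f := g l with hf
  have hf0 : f ≠ 0 := by
    intro h0
    have := hgval l
    rw [← hf, h0, map_zero] at this
    exact exp_ne_zero this.symm
  obtain ⟨c, hc⟩ := (Submodule.mem_span_range_iff_exists_fun k).1 (hgmem l)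
  set E : Divisor k K := FunFld.div k f + mapDiv k φ with hE
  have hEnonneg : 0 ≤ E := by
    rw [Finsupp.le_def]
    intro Q
    rw [hE, Finsupp.add_apply, div_apply hK, mapDiv_apply hK]
    have := inf_ord_le_ord_lincomb Q φ hφne c (by rw [hc]; exact hf0)
    rw [hc] at this
    simp only [Finsupp.coe_zero, Pi.zero_apply]
    linarith
  have hEP : E P = J' l := by
    rw [hE, Finsupp.add_apply, div_apply hK, mapDiv_apply_eq_zero P φ heff hnorm, add_zero]
    have := hgval l
    rw [← hf, val_eq_exp_neg_ord P hf0, exp_inj, neg_inj] at this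
    exact this
  have hEdeg : E.deg = (mapDiv k φ).deg := by
    rw [hE, deg_add, deg_div hK, zero_add]
  rw [← hEdeg, ← hEP]
  by_cases hP : P ∈ E.support
  · unfold Divisor.deg Finsupp.sum
    have h1 : E P * (P.deg : ℤ) ≤ ∑ Q ∈ E.support, E Q * (Q.deg : ℤ) :=
      Finset.single_le_sum (f := fun Q => E Q * (Q.deg : ℤ))
        (fun Q _ => mul_nonneg (hEnonneg Q) (Int.natCast_nonneg _)) hP
    rw [deg_eq_one_of_isAlgClosed hK P] at h1
    simpa using h1
  · rw [Finsupp.notMem_support_iff.1 hP]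
    exact deg_nonneg hEnonneg

end Bound

omit [IsAlgClosed k] in
include hK in
lemma deg_mapDiv_smul {n : ℕ} (φ : Fin (n + 1) → K) (hφ : ∀ i, φ i ≠ 0) {y : K} (hy : y ≠ 0) :
    (mapDiv k (y • φ)).deg = (mapDiv k φ).deg := by
  have e1 : (y • φ) = fun i => y * φ i := rfl
  rw [e1, mapDiv_mul hK φ hφ hy, deg_sub, deg_div hK, sub_zero]

section Main

variable (Φ : Place k K → (K →ₐ[k] LaurentSeries k))
  (hΦ : ∀ P : Place k K, LocRes.IsExpansionAt P.1 (Φ P))

include hK hΦ in
/-- If some place `P` fixed by `τ` satisfies the equality criterion for the index sequence `I`,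
and `I` is a lower bound for the `τ`-orders, then `I` is the sequence of `τ`-orders. -/
theorem isOrders_of_criterion {n : ℕ} (φ : Fin (n + 1) → K) (hφ : LinearIndependent k φ)
    (hchar : ringChar k = 0 ∨ (mapDiv k φ).deg < ringChar k)
    (τ : K →ₐ[k] K) {s : K} {H : K →ₐ[k] K⟦X⟧} (hH : IsHasseFamily s H)
    (P : Place k K) (hP : IsFixedPt τ P) (I : Fin n → ℕ) (hI : StrictMono I)
    (hyp : (∀ l, 0 < I l) ∨ IsStrongFixedPt τ P)
    (hlow : ∀ J : Fin n → ℕ, IsOrders K (hcol τ H φ) J → ∀ l, I l ≤ J l)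
    (hbin : ∀ J' : Fin n → ℕ, StrictMono J' → (∀ l, 1 ≤ J' l) →
      (ringChar k = 0 ∨ ∀ l, J' l < ringChar k) → (binomMat k J' I).det ≠ 0) :
    IsOrders K (hcol τ H φ) I := by
  classical
  obtain ⟨J, hJ, -⟩ := exists_isOrders_det_ne_zero hK hH φ hφ τ
  obtain ⟨t, Ht, y, hy0, ht, hHt, hli, heff, hnorm, hJ', -⟩ :=
    exists_local_model hK Φ hΦ φ hφ τ hH hJ P
  obtain ⟨J'', hJ''⟩ := exists_orders_at hK P ht hHt (y • φ) hli heff hnorm
  have hbound : ∀ l, (J'' l : ℤ) ≤ (mapDiv k φ).deg := by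
    intro l
    rw [← deg_mapDiv_smul hK φ (fun i => hφ.ne_zero i) hy0]
    exact order_at_le_deg hK P ht hHt (y • φ) hli heff hnorm hJ'' l
  have hchar' : ringChar k = 0 ∨ ∀ l, J'' l < ringChar k := by
    rcases hchar with h | h
    · exact Or.inl h
    · refine Or.inr fun l => ?_
      have := hbound l
      omega
  have hdetB := hbin J'' hJ''.1 (orders_at_pos hK P ht hHt (y • φ) hnorm hJ'') hchar'
  have h605 := (Groth.Agent.S12605.result k K hK τ P hP (y • φ) hli heff hnorm t ht Ht hHt J'' hJ''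
    I hI).2 hyp
  have hval := h605.2 hdetB
  have hdet : (wrMat τ Ht (y • φ) I).det ≠ 0 := by
    intro h0
    rw [h0, map_zero] at hval
    exact exp_ne_zero hval.symm
  have hli' : LinearIndependent K (fun q : Fin (n + 1) => hcol τ Ht (y • φ) (idx I q)) := by
    rw [linearIndependent_idx_iff_det_wr_ne_zero, ← wrMat_eq_wr]
    exact hdet
  have hle := orders_le_of_linearIndependent hJ' hI hli'
  have hge := hlow J hJ
  have hJI : J = I := funext fun l => le_antisymm (hle l) (hge l)
  rw [← hJI]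
  exact hJ

end Main

end Groth.Agent.Lib.Helper88.SV
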