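import Groth.Agent.Lib.Helper88.GM2

/-!
# Greenlees–May duality over a Noetherian ring
-/

set_option autoImplicit false
universe u

namespace Groth.Agent.Lib.Helper88.GM3

open CategoryTheory CategoryTheory.Limits CategoryTheory.Pretriangulated DerivedCategory
open DRing Groth.Agent.Lib.Helper88.GM1 Groth.Agent.Lib.Helper88.GM2
open Groth.Agent.Lib.Helper25.DCompRefl

attribute [local instance] HasDerivedCategory.standard

section Abstract

variable {C : Type*} [Category C]

/-- uniqueness of coreflection arrows -/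
theorem corefl_iso (S : C → Prop) {X W₁ W₂ : C} (c₁ : W₁ ⟶ X) (c₂ : W₂ ⟶ X)
    (h₁ : S W₁) (h₂ : S W₂)
    (b₁ : ∀ T, S T → Function.Bijective (fun g : T ⟶ W₁ => g ≫ c₁))
    (b₂ : ∀ T, S T → Function.Bijective (fun g : T ⟶ W₂ => g ≫ c₂)) : Nonempty (W₁ ≅ W₂) := by
  obtain ⟨a, ha⟩ := (b₂ W₁ h₁).2 c₁
  obtain ⟨b, hb⟩ := (b₁ W₂ h₂).2 c₂
  have ha' : a ≫ c₂ = c₁ := ha
  have hb' : b ≫ c₁ = c₂ := hb
  refine ⟨⟨a, b, ?_, ?_⟩⟩
  · apply (b₁ W₁ h₁).1
    change (a ≫ b) ≫ c₁ = 𝟙 W₁ ≫ c₁
    rw [Category.assoc, hb', ha', Category.id_comp]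
  · apply (b₂ W₂ h₂).1
    change (b ≫ a) ≫ c₂ = 𝟙 W₂ ≫ c₂
    rw [Category.assoc, ha', hb', Category.id_comp]

end Abstract

variable {A : Type u} [CommRing A] (I : Ideal A)

section

variable [IsNoetherianRing A] [HasRgammaI I]

theorem comp_ε_bij (T : Dual.D A) (hT : Tors I T) (K : Dual.D A) :
    Function.Bijective (fun g : T ⟶ (RgammaI I).obj K => g ≫ (RgammaIε I).app K) :=
  Helper89.RGI.comp_ε_bijective (RgammaI I) (RgammaIε I) (Tors I)
    (fun K i m => Helper89.RGI.torsion_homology_rg I K i m)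
    (fun T hT => Helper89.RGI.isIso_ε_of_torsion I T hT)
    (fun K => Helper89.RGI.isIso_rg_map_ε I K) T hT K

theorem tors_rg (K : Dual.D A) : Tors I ((RgammaI I).obj K) :=
  fun i m => Helper89.RGI.torsion_homology_rg I K i m

/-- objects left orthogonal to the derived complete objects are right orthogonal to the torsion
objects -/
theorem ro_of_lo (X : Dual.D A) (hX : LeftOrth (IsDerivedComplete I) X) :
    RightOrth (Tors I) X := by
  classical
  obtain ⟨s, hs⟩ := (isNoetherianRing_iff_ideal_fg A).1 inferInstance I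
  refine devissage (A := A) (LeftOrth (IsDerivedComplete I)) (RightOrth (Tors I)) ?_ s.toList
    ?_ ?_ X hX
  · intro f X Z v w hT hX
    exact leftOrth_cone (IsDerivedComplete I) (comp_shift I) _ hT hX hX
  · intro f hf X Z v w hT hZ
    have hfI : f ∈ I := by
      rw [← hs]
      exact Ideal.subset_span (Finset.mem_toList.1 hf)
    let W := (RgammaI I).obj X
    let ε : W ⟶ X := (RgammaIε I).app X
    have hW : Tors I W := tors_rg I X
    obtain ⟨g, hg'⟩ : ∃ g : W ⟶ X, g ≫ (f • 𝟙 X) = ε :=
      (bijective_postcomp (Tors I) (tors_shift I) _ hT hZ W hW).2 ε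
    obtain ⟨h, hh⟩ := (comp_ε_bij I W hW X).2 g
    have hh' : h ≫ ε = g := hh
    have h1 : f • h = 𝟙 W := by
      apply (comp_ε_bij I W hW X).1
      change (f • h) ≫ ε = 𝟙 W ≫ ε
      rw [Linear.smul_comp, hh', Category.id_comp, ← hg', Linear.comp_smul, Category.comp_id]
    have h2 : IsIso (f • 𝟙 W) :=
      ⟨h, by rw [Linear.smul_comp, Category.id_comp, h1],
        by rw [Linear.comp_smul, Category.comp_id, h1]⟩
    have h3 : IsZero W := isZero_of_tors_of_isIso I W hW f hfI h2
    intro T hT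
    refine ⟨fun a b => ?_⟩
    obtain ⟨a', rfl⟩ := (comp_ε_bij I T hT X).2 a
    obtain ⟨b', rfl⟩ := (comp_ε_bij I T hT X).2 b
    rw [h3.eq_of_tgt a' b']
  · intro X hX hnil
    have hc : IsDerivedComplete I X := by
      refine comp_of_nil I X (s : Set A) hs ?_
      intro a ha
      exact hnil a (Finset.mem_toList.2 ha)
    exact rightOrth_of_isZero _ (isZero_of_leftOrth _ hX hc)

variable [HasDerivedCompletion I]

omit [IsNoetherianRing A] [HasRgammaI I] in
theorem isRefl_unit' (K : Dual.D A) : IsRefl (IsDerivedComplete I) (toDerivedCompletion I K) :=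
  isRefl_unit _ (derivedCompletionAdj I) K

/-- objects right orthogonal to the torsion objects are left orthogonal to the derived complete
objects -/
theorem lo_of_ro (X : Dual.D A) (hX : RightOrth (Tors I) X) :
    LeftOrth (IsDerivedComplete I) X := by
  classical
  obtain ⟨s, hs⟩ := (isNoetherianRing_iff_ideal_fg A).1 inferInstance I
  refine devissage (A := A) (RightOrth (Tors I)) (LeftOrth (IsDerivedComplete I)) ?_ s.toList
    ?_ ?_ X hX
  · intro f X Z v w hT hX
    exact rightOrth_cone (Tors I) (tors_shift I) _ hT hX hX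
  · intro f hf X Z v w hT hZ
    have hfI : f ∈ I := by
      rw [← hs]
      exact Ideal.subset_span (Finset.mem_toList.1 hf)
    let N := (derivedCompletion I).obj X
    let η : X ⟶ N.obj := toDerivedCompletion I X
    have hη : IsRefl (IsDerivedComplete I) η := isRefl_unit' I X
    obtain ⟨g, hg'⟩ : ∃ g : X ⟶ N.obj, (f • 𝟙 X) ≫ g = η :=
      (bijective_precomp (IsDerivedComplete I) (comp_shift I) _ hT hZ N.obj N.property).2 η
    obtain ⟨h, hh⟩ := (hη N.obj N.property).2 g
    have hh' : η ≫ h = g := hh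
    have h1 : f • h = 𝟙 N.obj := by
      apply (hη N.obj N.property).1
      change η ≫ (f • h) = η ≫ 𝟙 N.obj
      rw [Linear.comp_smul, hh', Category.comp_id, ← hg', Linear.smul_comp, Category.id_comp]
    have h2 : IsIso (f • 𝟙 N.obj) :=
      ⟨h, by rw [Linear.smul_comp, Category.id_comp, h1],
        by rw [Linear.comp_smul, Category.comp_id, h1]⟩
    have h3 : IsZero N.obj := isZero_of_comp_of_isIso I N.obj N.property f hfI h2
    intro M hM
    refine ⟨fun a b => ?_⟩
    obtain ⟨a', ha'⟩ := (hη M hM).2 a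
    obtain ⟨b', hb'⟩ := (hη M hM).2 b
    have ha'' : η ≫ a' = a := ha'
    have hb'' : η ≫ b' = b := hb'
    rw [← ha'', ← hb'', h3.eq_of_src a' b']
  · intro X hX hnil
    have ht : Tors I X := by
      refine tors_of_nil I X (s : Set A) hs ⟨s, hs⟩ ?_
      intro a ha
      exact hnil a (Finset.mem_toList.2 ha)
    exact leftOrth_of_isZero _ (isZero_of_rightOrth _ hX ht)

/-- **Greenlees–May**, first half: `RΓ_I (K^∧) ≅ RΓ_I K`. -/
theorem nonempty_iso_rg (K : Dual.D A) :
    Nonempty ((RgammaI I).obj ((derivedCompletion I).obj K).obj ≅ (RgammaI I).obj K) := by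
  let N := (derivedCompletion I).obj K
  let η : K ⟶ N.obj := toDerivedCompletion I K
  have hη : IsRefl (IsDerivedComplete I) η := isRefl_unit' I K
  obtain ⟨C, v, w, hT⟩ := distinguished_cocone_triangle η
  have hC : LeftOrth (IsDerivedComplete I) C :=
    leftOrth_obj₃ (IsDerivedComplete I) (comp_shift I) _ hT (fun M hM => hη M hM)
  have hC' : RightOrth (Tors I) C := ro_of_lo I C hC
  have bij : ∀ T, Tors I T → Function.Bijective (fun φ : T ⟶ K => φ ≫ η) :=
    fun T hT' => bijective_postcomp (Tors I) (tors_shift I) _ hT hC' T hT'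
  refine corefl_iso (Tors I) ((RgammaIε I).app N.obj) ((RgammaIε I).app K ≫ η)
    (tors_rg I _) (tors_rg I _) (fun T hT' => comp_ε_bij I T hT' N.obj) ?_
  intro T hT'
  have h1 := comp_ε_bij I T hT' K
  have h2 := bij T hT'
  have : (fun g : T ⟶ (RgammaI I).obj K => g ≫ (RgammaIε I).app K ≫ η) =
      (fun φ : T ⟶ K => φ ≫ η) ∘ (fun g : T ⟶ (RgammaI I).obj K => g ≫ (RgammaIε I).app K) := by
    funext g
    simp
  rw [this]
  exact h2.comp h1

/-- **Greenlees–May**, second half: `(RΓ_I K)^∧ ≅ K^∧`. -/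
theorem nonempty_iso_comp (K : Dual.D A) :
    Nonempty ((derivedCompletion I).obj ((RgammaI I).obj K) ≅ (derivedCompletion I).obj K) := by
  let W := (RgammaI I).obj K
  let ε : W ⟶ K := (RgammaIε I).app K
  obtain ⟨K', v, w, hT⟩ := distinguished_cocone_triangle ε
  have hK' : RightOrth (Tors I) K' :=
    rightOrth_obj₃ (Tors I) (tors_shift I) _ hT (fun L hL => comp_ε_bij I L hL K)
  have hK'' : LeftOrth (IsDerivedComplete I) K' := lo_of_ro I K' hK'
  have bij : ∀ M, IsDerivedComplete I M → Function.Bijective (fun φ : K ⟶ M => ε ≫ φ) :=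
    fun M hM => bijective_precomp (IsDerivedComplete I) (comp_shift I) _ hT hK'' M hM
  have hηK : IsRefl (IsDerivedComplete I) (toDerivedCompletion I K) := isRefl_unit' I K
  have hηW : IsRefl (IsDerivedComplete I) (toDerivedCompletion I W) := isRefl_unit' I W
  have hu : IsRefl (IsDerivedComplete I) (ε ≫ toDerivedCompletion I K) := by
    intro E hE
    have : (fun φ : ((derivedCompletion I).obj K).obj ⟶ E => (ε ≫ toDerivedCompletion I K) ≫ φ) =
        (fun ψ : K ⟶ E => ε ≫ ψ) ∘
          (fun φ : ((derivedCompletion I).obj K).obj ⟶ E => toDerivedCompletion I K ≫ φ) := by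
      funext φ
      simp
    rw [this]
    exact (bij E hE).comp (hηK E hE)
  obtain ⟨e⟩ := IsRefl.nonempty_iso hηW hu ((derivedCompletion I).obj W).property
    ((derivedCompletion I).obj K).property
  exact ⟨(ObjectProperty.fullyFaithfulι (IsDerivedComplete I)).preimageIso e⟩

end

end Groth.Agent.Lib.Helper88.GM3
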