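/-
Function fields of one variable: uniqueness of the rational subfield of index two in genus `≥ 2`.
Author: helper88
-/
import Groth.Agent.Lib.Helper88.FunFldApps

set_option autoImplicit false

namespace Groth.Agent.Lib.Helper88.FF

open FunFld WithZero

variable {k K : Type*} [Field k] [Field K] [Algebra k K]

/-- If `K` has finite positive degree over `k(x)` then `x` is transcendental. -/
lemma transcendental_of_finrank_pos (hK : IsFunctionField k K) {x : K}
    (hx : 0 < Module.finrank (IntermediateField.adjoin k ({x} : Set K)) K) : Transcendental k x := by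
  intro halg
  haveI : FiniteDimensional (IntermediateField.adjoin k ({x} : Set K)) K :=
    Module.finite_of_finrank_pos hx
  haveI : FiniteDimensional k (IntermediateField.adjoin k ({x} : Set K)) :=
    IntermediateField.adjoin.finiteDimensional halg.isIntegral
  haveI : FiniteDimensional k K :=
    Module.Finite.trans (IntermediateField.adjoin k ({x} : Set K)) K
  obtain ⟨⟨t, ht, -⟩, -⟩ := hK
  exact ht (Algebra.IsAlgebraic.isAlgebraic t)

/-- `x` lies in `L` of its pole divisor. -/
lemma mem_L_poleDiv (hK : IsFunctionField k K) (x : K) :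
    x ∈ L ((-FunFld.div k x) ⊔ 0 : Divisor k K) := by
  intro P
  by_cases hx : x = 0
  · subst hx; simp
  rw [val_eq_exp_neg_ord P hx, exp_le_exp, Finsupp.sup_apply, Finsupp.neg_apply, div_apply hK]
  exact le_sup_left

lemma pow_mem_L_of_le {D : Divisor k K} (hD : 0 ≤ D) {x : K} (hx : x ∈ L D) {i m : ℕ} (h : i ≤ m) :
    x ^ i ∈ L (m • D) := by
  refine L_mono ?_ (pow_mem_L hx i)
  intro P
  simp only [Finsupp.smul_apply, nsmul_eq_mul]
  have := hD P
  simp only [Finsupp.coe_zero, Pi.zero_apply] at this
  have h' : (i : ℤ) ≤ m := by exact_mod_cast h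
  nlinarith

lemma aeval_mem_L_of_degree_lt {D : Divisor k K} (hD : 0 ≤ D) {x : K} (hx : x ∈ L D) {m : ℕ}
    {a : Polynomial k} (ha : a ∈ Polynomial.degreeLT k (m + 1)) :
    Polynomial.aeval x a ∈ L (m • D) := by
  rw [Polynomial.mem_degreeLT] at ha
  have hn : a.natDegree < m + 1 := by
    by_cases h0 : a = 0
    · subst h0; simp
    · exact (Polynomial.natDegree_lt_iff_degree_lt h0).2 ha
  rw [Polynomial.aeval_eq_sum_range' hn]
  refine Submodule.sum_mem _ fun i hi => Submodule.smul_mem _ _ ?_
  exact pow_mem_L_of_le hD hx (Nat.lt_succ_iff.1 (Finset.mem_range.1 hi))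

/-- In genus `≥ 2`, any two elements `x`, `x'` with `[K : k(x)] = [K : k(x')] = 2` generate the same
rational subfield: here `x' ∈ k(x)`. -/
theorem mem_adjoin_of_finrank_two (hK : IsFunctionField k K) (hg : 2 ≤ genus k K) {x x' : K}
    (hx : Module.finrank (IntermediateField.adjoin k ({x} : Set K)) K = 2)
    (hx' : Module.finrank (IntermediateField.adjoin k ({x'} : Set K)) K = 2) :
    x' ∈ IntermediateField.adjoin k ({x} : Set K) := by
  classical
  by_contra hnot
  have htx : Transcendental k x := transcendental_of_finrank_pos hK (by rw [hx]; norm_num)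
  have htx' : Transcendental k x' := transcendental_of_finrank_pos hK (by rw [hx']; norm_num)
  set D : Divisor k K := (-FunFld.div k x) ⊔ 0 with hD
  set D' : Divisor k K := (-FunFld.div k x') ⊔ 0 with hD'
  have hD0 : 0 ≤ D := le_sup_right
  have hD'0 : 0 ≤ D' := le_sup_right
  have hdegD : D.deg = 2 := by rw [hD, deg_poleDiv_eq hK htx, hx]; rfl
  have hdegD' : D'.deg = 2 := by rw [hD', deg_poleDiv_eq hK htx', hx']; rfl
  set m := genus k K with hm
  set E : Divisor k K := m • D + D' with hE
  have hdegE : E.deg = 2 * (m : ℤ) + 2 := by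
    rw [hE, deg_add, deg_nsmul, hdegD, hdegD']; ring
  have hell : (ell E : ℤ) = 2 * (m : ℤ) + 2 + 1 - m := by
    rw [ell_eq_of_le_deg hK (by rw [hdegE]; omega), hdegE]
  have hxL : x ∈ L D := mem_L_poleDiv hK x
  have hx'L : x' ∈ L D' := mem_L_poleDiv hK x'
  -- the linear map
  let V := Polynomial.degreeLT k (m + 1)
  let Φ : (V × V) →ₗ[k] K :=
    ((Polynomial.aeval x).toLinearMap.comp V.subtype).coprod
      ((LinearMap.mulRight k x').comp ((Polynomial.aeval x).toLinearMap.comp V.subtype))
  have hΦ : ∀ p : V × V, Φ p = Polynomial.aeval x p.1.1 + Polynomial.aeval x p.2.1 * x' := by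
    intro p
    simp [Φ, LinearMap.coprod_apply]
  have hΦL : ∀ p : V × V, Φ p ∈ L E := by
    intro p
    rw [hΦ]
    refine Submodule.add_mem _ ?_ ?_
    · refine L_mono ?_ (aeval_mem_L_of_degree_lt hD0 hxL p.1.2)
      rw [hE]
      exact le_add_of_nonneg_right hD'0
    · exact mul_mem_L (aeval_mem_L_of_degree_lt hD0 hxL p.2.2) hx'L
  let Ψ : (V × V) →ₗ[k] L E := Φ.codRestrict (L E) hΦL
  have hinj : Function.Injective Ψ := by
    rw [← LinearMap.ker_eq_bot, LinearMap.ker_eq_bot']
    rintro ⟨a, b⟩ hab
    have h0 : Φ (a, b) = 0 := congrArg Subtype.val hab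
    rw [hΦ] at h0
    simp only at h0
    have hb : b = 0 := by
      by_contra hb
      have hb' : Polynomial.aeval x b.1 ≠ 0 := by
        intro h
        exact hb (Subtype.ext ((transcendental_iff.1 htx) b.1 h))
      apply hnot
      have : x' = -(Polynomial.aeval x a.1) / Polynomial.aeval x b.1 := by
        field_simp
        linear_combination h0
      rw [this]
      have hxm : x ∈ IntermediateField.adjoin k ({x} : Set K) :=
        IntermediateField.mem_adjoin_simple_self k x
      have hmem : ∀ p : Polynomial k, Polynomial.aeval x p ∈ IntermediateField.adjoin k ({x} : Set K) := by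
        intro p
        rw [Polynomial.aeval_eq_sum_range]
        refine sum_mem fun i _ => ?_
        rw [Algebra.smul_def]
        exact mul_mem (IntermediateField.algebraMap_mem _ _) (pow_mem hxm i)
      exact div_mem (neg_mem (hmem _)) (hmem _)
    subst hb
    simp only [Submodule.coe_zero, map_zero, zero_mul, add_zero] at h0
    have ha : a = 0 := Subtype.ext ((transcendental_iff.1 htx) a.1 h0)
    subst ha
    rfl
  haveI : FiniteDimensional k (L E) := finiteDimensional_L hK E
  have h1 := LinearMap.finrank_le_finrank_of_injective hinj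
  have hV : Module.finrank k V = m + 1 := by
    rw [(Polynomial.degreeLTEquiv k (m + 1)).finrank_eq, Module.finrank_fin_fun]
  haveI : Module.Finite k V := Module.Finite.equiv (Polynomial.degreeLTEquiv k (m + 1)).symm
  rw [Module.finrank_prod, hV] at h1
  have h2 : (ell E : ℤ) = (Module.finrank k (L E) : ℤ) := rfl
  have h3 : ((m + 1 + (m + 1) : ℕ) : ℤ) ≤ (Module.finrank k (L E) : ℤ) := by exact_mod_cast h1
  rw [← h2, hell] at h3
  push_cast at h3
  omega

/-- In genus `≥ 2` there is at most one rational subfield of index `2`. -/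
theorem adjoin_eq_of_finrank_two (hK : IsFunctionField k K) (hg : 2 ≤ genus k K) {x x' : K}
    (hx : Module.finrank (IntermediateField.adjoin k ({x} : Set K)) K = 2)
    (hx' : Module.finrank (IntermediateField.adjoin k ({x'} : Set K)) K = 2) :
    IntermediateField.adjoin k ({x} : Set K) = IntermediateField.adjoin k ({x'} : Set K) := by
  have h1 := mem_adjoin_of_finrank_two hK hg hx' hx
  haveI : FiniteDimensional (IntermediateField.adjoin k ({x} : Set K)) K :=
    Module.finite_of_finrank_pos (by rw [hx]; norm_num)
  refine IntermediateField.eq_of_le_of_finrank_eq' ?_ (by rw [hx, hx'])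
  rw [IntermediateField.adjoin_simple_le_iff]
  exact h1

end Groth.Agent.Lib.Helper88.FF
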