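/-
Hyperelliptic function fields `y² = f(x)` in characteristic `≠ 2`: the Riemann–Roch spaces
`L(n (x)_∞)` and the genus.
Author: helper88
-/
import Groth.Agent.Lib.Helper88.FunFldHyper
import Groth.Agent.Lib.Helper88.FunFldExist
import Groth.Agent.Lib.Helper44.FunFldQuad
import Groth.Agent.Lib.Helper44.FunFldRatPlace
import Groth.Agent.Lib.Helper44.FunFldGalois
import Groth.Agent.Lib.Helper44.FunFldExt2

set_option autoImplicit false

namespace Groth.Agent.Lib.Helper88.Hyp

open FunFld WithZero Polynomial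
open Groth.Agent.Lib.Helper88.FF Groth.Agent.Lib.Helper44.FFExt

section ratfunc

variable {k : Type*} [Field k]

/-- A nonconstant polynomial is not a constant of `k(X)`. -/
lemma poly_not_mem_range {π : k[X]} (hπ : Irreducible π) :
    algebraMap k[X] (RatFunc k) π ∉ Set.range (algebraMap k (RatFunc k)) := by
  rintro ⟨c, hc⟩
  have h1 : π = C c := by
    apply RatFunc.algebraMap_injective k
    rw [← hc, RatFunc.algebraMap_C, RatFunc.algebraMap_eq_C]
  rcases eq_or_ne c 0 with rfl | hc0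
  · rw [map_zero] at h1
    exact hπ.ne_zero h1
  · exact hπ.not_isUnit (h1 ▸ isUnit_C.2 (isUnit_iff_ne_zero.2 hc0))

/-- A place of `k(X)` at which an irreducible polynomial vanishes is finite. -/
lemma val_X_le_one_of_val_poly_lt_one {p : Place k (RatFunc k)} {π : k[X]} (hπ0 : π ≠ 0)
    (h : p.1 (algebraMap k[X] (RatFunc k) π) < 1) : p.1 RatFunc.X ≤ 1 := by
  by_contra hX
  push Not at hX
  have hord : p.ord RatFunc.X < 0 := (one_lt_val_iff p RatFunc.X_ne_zero).1 hX
  have h1 := ord_poly_of_pole hord hπ0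
  have hπ0' : algebraMap k[X] (RatFunc k) π ≠ 0 := by simpa using hπ0
  have h2 := (val_lt_one_iff p hπ0').1 h
  rw [h1] at h2
  have : (0 : ℤ) ≤ π.natDegree := Int.natCast_nonneg _
  omega

/-- A rational function without poles at the finite places is a polynomial. -/
theorem exists_poly_of_forall_val_le_one (r : RatFunc k)
    (h : ∀ p : Place k (RatFunc k), p.1 RatFunc.X ≤ 1 → p.1 r ≤ 1) :
    ∃ a : k[X], r = algebraMap k[X] (RatFunc k) a := by
  have hK₀ := isFunctionField_ratFunc k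
  by_cases hu : IsUnit r.denom
  · have h1 : r.denom = 1 := (RatFunc.monic_denom r).eq_one_of_isUnit hu
    refine ⟨r.num, ?_⟩
    have := RatFunc.num_div_denom r
    rw [h1, map_one, div_one] at this
    exact this.symm
  · exfalso
    obtain ⟨π, hπ, hπd⟩ := WfDvdMonoid.exists_irreducible_factor hu (RatFunc.denom_ne_zero r)
    obtain ⟨p, hp⟩ := exists_zero hK₀ (poly_not_mem_range hπ)
    have hπ0' : algebraMap k[X] (RatFunc k) π ≠ 0 := by simpa using hπ.ne_zero
    have hπlt : p.1 (algebraMap k[X] (RatFunc k) π) < 1 := (val_lt_one_iff p hπ0').2 hp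
    have hX : p.1 RatFunc.X ≤ 1 := val_X_le_one_of_val_poly_lt_one hπ.ne_zero hπlt
    obtain ⟨q, hq⟩ := hπd
    have hden : p.1 (algebraMap k[X] (RatFunc k) r.denom) < 1 := by
      rw [hq, map_mul, map_mul]
      calc p.1 (algebraMap k[X] (RatFunc k) π) * p.1 (algebraMap k[X] (RatFunc k) q)
          ≤ p.1 (algebraMap k[X] (RatFunc k) π) * 1 := mul_le_mul' le_rfl (val_poly_le_one hX q)
        _ < 1 := by rw [mul_one]; exact hπlt
    have hcop := RatFunc.isCoprime_num_denom r
    obtain ⟨u, v, huv⟩ := hcop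
    have hnum : p.1 (algebraMap k[X] (RatFunc k) r.num) = 1 := by
      apply le_antisymm (val_poly_le_one hX _)
      by_contra hlt
      push Not at hlt
      have h1 : p.1 (algebraMap k[X] (RatFunc k) (u * r.num + v * r.denom)) < 1 := by
        rw [map_add, map_mul, map_mul]
        refine lt_of_le_of_lt (p.1.map_add _ _) (max_lt ?_ ?_)
        · rw [map_mul]
          calc _ ≤ 1 * p.1 (algebraMap k[X] (RatFunc k) r.num) :=
                mul_le_mul' (val_poly_le_one hX u) le_rfl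
            _ < 1 := by rw [one_mul]; exact hlt
        · rw [map_mul]
          calc _ ≤ 1 * p.1 (algebraMap k[X] (RatFunc k) r.denom) :=
                mul_le_mul' (val_poly_le_one hX v) le_rfl
            _ < 1 := by rw [one_mul]; exact hden
      rw [huv, map_one, map_one] at h1
      exact lt_irrefl _ h1
    have hr := h p hX
    rw [← RatFunc.num_div_denom r, map_div₀, hnum] at hr
    have hden0 : p.1 (algebraMap k[X] (RatFunc k) r.denom) ≠ 0 := by
      rw [ne_eq, map_eq_zero]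
      simpa using RatFunc.denom_ne_zero r
    rw [div_le_iff₀ (zero_lt_iff.2 hden0), one_mul] at hr
    exact absurd hden (not_lt.2 hr)

end ratfunc

section quad

variable {k K : Type*} [Field k] [Field K] [Algebra k K] [Algebra (RatFunc k) K]
  [IsScalarTower k (RatFunc k) K]

/-- `[K : k(x)] = [K : k(X)]` for `x` the image of `X`. -/
lemma finrank_adjoin_X :
    Module.finrank (IntermediateField.adjoin k
      ({algebraMap (RatFunc k) K RatFunc.X} : Set K)) K = Module.finrank (RatFunc k) K := by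
  symm
  have hinj : Function.Injective (algebraMap (RatFunc k) K) := (algebraMap (RatFunc k) K).injective
  have hmap : (⊤ : IntermediateField k (RatFunc k)).map (IsScalarTower.toAlgHom k (RatFunc k) K) =
      IntermediateField.adjoin k ({algebraMap (RatFunc k) K RatFunc.X} : Set K) := by
    rw [← RatFunc.adjoin_X, IntermediateField.adjoin_map, Set.image_singleton,
      IsScalarTower.toAlgHom_apply]
  have hmem : ∀ r : RatFunc k, algebraMap (RatFunc k) K r ∈
      IntermediateField.adjoin k ({algebraMap (RatFunc k) K RatFunc.X} : Set K) := by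
    intro r
    rw [← hmap]
    exact ⟨r, trivial, rfl⟩
  refine finrank_eq_of_bij (fun r => ⟨algebraMap (RatFunc k) K r, hmem r⟩) ⟨?_, ?_⟩ ?_
  · intro a b hab
    exact hinj (congrArg Subtype.val hab)
  · rintro ⟨b, hb⟩
    rw [← hmap] at hb
    obtain ⟨a, -, rfl⟩ := hb
    exact ⟨a, rfl⟩
  · intro r m
    rw [IntermediateField.smul_def, Algebra.smul_def, smul_eq_mul]

lemma transcendental_algebraMap_X :
    Transcendental k (algebraMap (RatFunc k) K RatFunc.X) :=
  (transcendental_algebraMap_iff (algebraMap (RatFunc k) K).injective).2 RatFunc.transcendental_X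

variable (hdeg : Module.finrank (RatFunc k) K = 2) (h2 : ringChar k ≠ 2)
  {y : K} {F : RatFunc k} (hF : F ≠ 0) (heq : y ^ 2 = algebraMap (RatFunc k) K F)
  (hy : y ∉ Set.range (algebraMap (RatFunc k) K))

include hdeg h2 hF heq hy in
/-- The conjugation of a quadratic extension `y² = F` in characteristic `≠ 2`. -/
theorem exists_conj : ∃ σ : K ≃ₐ[RatFunc k] K, σ y = -y := by
  classical
  haveI : FiniteDimensional (RatFunc k) K :=
    Module.finite_of_finrank_pos (by rw [hdeg]; norm_num)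
  haveI : Algebra.IsQuadraticExtension (RatFunc k) K := ⟨hdeg⟩
  have hspan := exists_add_mul_eq hdeg hy
  have h2R : ((2 : ℕ) : RatFunc k) ≠ 0 := by
    have h2k : (2 : k) ≠ 0 := Ring.two_ne_zero h2
    have : ((2 : ℕ) : RatFunc k) = algebraMap k (RatFunc k) 2 := by
      rw [map_ofNat]; norm_num
    rw [this]
    exact (_root_.map_ne_zero _).2 h2k
  have hsepP : (X ^ 2 - C F : (RatFunc k)[X]).Separable := separable_X_pow_sub_C F h2R hF
  have hroot : aeval y (X ^ 2 - C F : (RatFunc k)[X]) = 0 := by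
    rw [map_sub, map_pow, aeval_X, aeval_C, heq, sub_self]
  have hysep : IsSeparable (RatFunc k) y := hsepP.of_dvd (minpoly.dvd _ _ hroot)
  have : Algebra.IsSeparable (RatFunc k) K := by
    refine ⟨fun w => ?_⟩
    obtain ⟨a, b, rfl⟩ := hspan w
    exact Field.isSeparable_add (isSeparable_algebraMap a)
      (Field.isSeparable_mul (isSeparable_algebraMap b) hysep)
  have hcard : Nat.card (K ≃ₐ[RatFunc k] K) = 2 := by
    rw [IsGalois.card_aut_eq_finrank, hdeg]
  have : Nontrivial (K ≃ₐ[RatFunc k] K) := by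
    rw [← Finite.one_lt_card_iff_nontrivial, hcard]
    norm_num
  obtain ⟨σ, hσ⟩ := exists_ne (1 : K ≃ₐ[RatFunc k] K)
  refine ⟨σ, ?_⟩
  have h1 : (σ y - y) * (σ y + y) = 0 := by
    have : σ y ^ 2 = y ^ 2 := by
      rw [← map_pow, heq, σ.commutes]
    linear_combination this
  rcases mul_eq_zero.1 h1 with h | h
  · exfalso
    apply hσ
    ext w
    obtain ⟨a, b, rfl⟩ := hspan w
    rw [map_add, map_mul, σ.commutes, σ.commutes, sub_eq_zero.1 h]
    rfl
  · exact eq_neg_of_add_eq_zero_left h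

end quad

section poleDiv

variable {k K : Type*} [Field k] [Field K] [Algebra k K] [Algebra (RatFunc k) K]
  [IsScalarTower k (RatFunc k) K]

variable (k K) in
/-- The pole divisor of `x`. -/
noncomputable def Dx : Divisor k K :=
  (-FunFld.div k (algebraMap (RatFunc k) K RatFunc.X)) ⊔ 0

lemma Dx_nonneg : 0 ≤ Dx k K := le_sup_right

lemma Dx_apply (hK : IsFunctionField k K) (P : Place k K) :
    Dx k K P = max (-P.ord (algebraMap (RatFunc k) K RatFunc.X)) 0 := by
  unfold Dx
  rw [Finsupp.sup_apply, Finsupp.neg_apply, div_apply hK]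
  rfl

lemma Dx_apply_finite (hK : IsFunctionField k K) {P : Place k K} {p : Place k (RatFunc k)} {e : ℕ}
    (h : IsOverWith P p e) (hX : p.1 RatFunc.X ≤ 1) : Dx k K P = 0 := by
  rw [Dx_apply hK, isOverWith_ord_eq h]
  have h1 : 0 ≤ p.ord RatFunc.X := (val_le_one_iff p RatFunc.X_ne_zero).1 hX
  have h2 : (0 : ℤ) ≤ e := Int.natCast_nonneg _
  have h3 : 0 ≤ (e : ℤ) * p.ord RatFunc.X := mul_nonneg h2 h1
  exact max_eq_right (by omega)

lemma ord_X_of_pole {p : Place k (RatFunc k)} (hX : 1 < p.1 RatFunc.X) :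
    p.ord (RatFunc.X : RatFunc k) = -1 := by
  have h1 := val_X_of_pole hX
  rw [val_eq_exp_neg_ord p RatFunc.X_ne_zero, exp_inj] at h1
  omega

lemma Dx_apply_pole (hK : IsFunctionField k K) {P : Place k K} {p : Place k (RatFunc k)} {e : ℕ}
    (h : IsOverWith P p e) (hX : 1 < p.1 RatFunc.X) : Dx k K P = e := by
  rw [Dx_apply hK, isOverWith_ord_eq h, ord_X_of_pole hX]
  have h2 : (0 : ℤ) ≤ e := Int.natCast_nonneg _
  rw [show -((e : ℤ) * -1) = e by ring]
  exact max_eq_left h2

lemma deg_Dx (hK : IsFunctionField k K) (hdeg : Module.finrank (RatFunc k) K = 2) :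
    (Dx k K).deg = 2 := by
  unfold Dx
  rw [deg_poleDiv_eq hK transcendental_algebraMap_X, finrank_adjoin_X, hdeg]
  rfl

/-- Membership in `L(n (x)_∞)` through the places of `k(X)` below. -/
lemma mem_L_Dx_iff (hK : IsFunctionField k K) [FiniteDimensional (RatFunc k) K] (n : ℕ) (z : K) :
    z ∈ L (n • Dx k K) ↔ ∀ (P : Place k K) (p : Place k (RatFunc k)) (e : ℕ), IsOverWith P p e →
      (p.1 RatFunc.X ≤ 1 → P.1 z ≤ 1) ∧ (1 < p.1 RatFunc.X → P.1 z ≤ exp ((n : ℤ) * e)) := by
  constructor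
  · intro hz P p e h
    have hP := hz P
    rw [Finsupp.smul_apply, nsmul_eq_mul] at hP
    refine ⟨fun hX => ?_, fun hX => ?_⟩
    · rwa [Dx_apply_finite hK h hX, mul_zero, exp_zero] at hP
    · rwa [Dx_apply_pole hK h hX] at hP
  · intro hz P
    obtain ⟨p, e, h⟩ := exists_isOver_below (K := RatFunc k) P
    rw [Finsupp.smul_apply, nsmul_eq_mul]
    rcases le_or_gt (p.1 RatFunc.X) 1 with hX | hX
    · rw [Dx_apply_finite hK h hX, mul_zero, exp_zero]
      exact (hz P p e h).1 hX
    · rw [Dx_apply_pole hK h hX]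
      exact (hz P p e h).2 hX

/-- Polynomials of degree `≤ n` lie in `L(n (x)_∞)`. -/
lemma poly_mem_L_Dx (hK : IsFunctionField k K) [FiniteDimensional (RatFunc k) K] {n : ℕ} {a : k[X]}
    (ha : a.natDegree ≤ n) :
    algebraMap (RatFunc k) K (algebraMap k[X] (RatFunc k) a) ∈ L (n • Dx k K) := by
  rw [mem_L_Dx_iff hK]
  intro P p e h
  refine ⟨fun hX => ?_, fun hX => ?_⟩
  · rw [isOverWith_val_le_one_iff h]
    exact val_poly_le_one hX a
  · rcases eq_or_ne a 0 with rfl | ha0
    · simp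
    have ha0' : algebraMap k[X] (RatFunc k) a ≠ 0 := by simpa using ha0
    rw [h _, val_of_pole hX ha0', RatFunc.intDegree_polynomial, exp_pow', exp_le_exp]
    have h1 : (a.natDegree : ℤ) ≤ n := by exact_mod_cast ha
    have h2 : (0 : ℤ) ≤ e := Int.natCast_nonneg _
    nlinarith

lemma sq_le_sq_imp {a b : ℤᵐ⁰} (h : a ^ 2 ≤ b ^ 2) : a ≤ b := by
  by_contra hlt
  push Not at hlt
  have : b ^ 2 < a ^ 2 := pow_lt_pow_left₀ hlt zero_le (by norm_num)
  exact absurd h (not_le.2 this)

variable {y : K} {f : k[X]}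

/-- `b(x) y` lies in `L(n (x)_∞)` when `2 deg b + deg f ≤ 2n`. -/
lemma poly_mul_y_mem_L_Dx (hK : IsFunctionField k K) [FiniteDimensional (RatFunc k) K]
    (hf0 : f ≠ 0)
    (heq : y ^ 2 = algebraMap (RatFunc k) K (algebraMap k[X] (RatFunc k) f))
    {n : ℕ} {b : k[X]} (hb : 2 * b.natDegree + f.natDegree ≤ 2 * n) :
    algebraMap (RatFunc k) K (algebraMap k[X] (RatFunc k) b) * y ∈ L (n • Dx k K) := by
  rw [mem_L_Dx_iff hK]
  intro P p e h
  have hsq : (algebraMap (RatFunc k) K (algebraMap k[X] (RatFunc k) b) * y) ^ 2 =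
      algebraMap (RatFunc k) K (algebraMap k[X] (RatFunc k) (b ^ 2 * f)) := by
    rw [mul_pow, heq, map_mul, map_mul, map_pow, map_pow]
  refine ⟨fun hX => ?_, fun hX => ?_⟩
  · apply sq_le_sq_imp
    rw [← map_pow, hsq, one_pow, isOverWith_val_le_one_iff h]
    exact val_poly_le_one hX _
  · rcases eq_or_ne b 0 with rfl | hb0
    · simp
    apply sq_le_sq_imp
    have hbf0 : b ^ 2 * f ≠ 0 := mul_ne_zero (pow_ne_zero 2 hb0) hf0
    have hbf0' : algebraMap k[X] (RatFunc k) (b ^ 2 * f) ≠ 0 := by simpa using hbf0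
    rw [← map_pow, hsq, h _, val_of_pole hX hbf0', RatFunc.intDegree_polynomial, exp_pow', exp_pow',
      exp_le_exp, natDegree_mul (pow_ne_zero 2 hb0) hf0, natDegree_pow]
    have h1 : ((2 * b.natDegree + f.natDegree : ℕ) : ℤ) ≤ ((2 * n : ℕ) : ℤ) := by exact_mod_cast hb
    push_cast at h1 ⊢
    have h2 : (0 : ℤ) ≤ e := Int.natCast_nonneg _
    nlinarith

/-- Descent: an element of `k(X)` lying in `L(N (x)_∞)` is a polynomial of degree `≤ N`. -/
lemma exists_poly_of_mem_L_Dx (hK : IsFunctionField k K) [FiniteDimensional (RatFunc k) K] {N : ℕ}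
    {r : RatFunc k} (hr : algebraMap (RatFunc k) K r ∈ L (N • Dx k K)) :
    ∃ a : k[X], r = algebraMap k[X] (RatFunc k) a ∧ a.natDegree ≤ N := by
  have hK₀ := isFunctionField_ratFunc k
  rw [mem_L_Dx_iff hK] at hr
  obtain ⟨a, rfl⟩ : ∃ a : k[X], r = algebraMap k[X] (RatFunc k) a := by
    apply exists_poly_of_forall_val_le_one
    intro p hX
    obtain ⟨P, e, h⟩ := exists_isOver_above (K' := K) hK₀ p
    have := (hr P p e h).1 hX
    rwa [isOverWith_val_le_one_iff h] at this
  refine ⟨a, rfl, ?_⟩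
  rcases eq_or_ne a 0 with rfl | ha0
  · simp
  have hXnc : (RatFunc.X : RatFunc k) ∉ Set.range (algebraMap k (RatFunc k)) :=
    not_mem_range_of_transcendental RatFunc.transcendental_X
  obtain ⟨p, hp⟩ := exists_pole hK₀ hXnc
  have hX : 1 < p.1 RatFunc.X := (one_lt_val_iff p RatFunc.X_ne_zero).2 hp
  obtain ⟨P, e, h⟩ := exists_isOver_above (K' := K) hK₀ p
  have h1 := (hr P p e h).2 hX
  have ha0' : algebraMap k[X] (RatFunc k) a ≠ 0 := by simpa using ha0
  rw [h _, val_of_pole hX ha0', RatFunc.intDegree_polynomial, exp_pow', exp_le_exp] at h1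
  have he : (0 : ℤ) < e := by exact_mod_cast isOverWith_pos h
  have h2 : (a.natDegree : ℤ) ≤ N := by
    by_contra hlt
    push Not at hlt
    nlinarith
  exact_mod_cast h2

/-- `L(n (x)_∞)` is stable under automorphisms over `k(X)`. -/
lemma algEquiv_mem_L_Dx (hK : IsFunctionField k K) (σ : K ≃ₐ[RatFunc k] K) {n : ℕ} {z : K}
    (hz : z ∈ L (n • Dx k K)) : σ z ∈ L (n • Dx k K) := by
  intro P
  have h1 := hz (comapPlace σ P)
  rw [comapPlace_apply] at h1
  have h2 : Dx k K (comapPlace σ P) = Dx k K P := by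
    rw [Dx_apply hK, Dx_apply hK, comapPlace_ord, σ.commutes]
  rwa [Finsupp.smul_apply, h2, ← Finsupp.smul_apply] at h1

/-- Splitting an element of `L(n (x)_∞)` into its two components. -/
lemma components_mem_L_Dx (hK : IsFunctionField k K) (h2 : ringChar k ≠ 2)
    {σ : K ≃ₐ[RatFunc k] K} (hσ : σ y = -y) {n : ℕ} {a₀ b₀ : RatFunc k}
    (hz : algebraMap (RatFunc k) K a₀ + algebraMap (RatFunc k) K b₀ * y ∈ L (n • Dx k K)) :
    algebraMap (RatFunc k) K a₀ ∈ L (n • Dx k K) ∧
      algebraMap (RatFunc k) K b₀ * y ∈ L (n • Dx k K) := by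
  have h2k : (2 : k) ≠ 0 := Ring.two_ne_zero h2
  have h2K : (2 : K) ≠ 0 := by
    have : (2 : K) = algebraMap k K 2 := (map_ofNat _ 2).symm
    rw [this]
    exact (_root_.map_ne_zero _).2 h2k
  have hσz := algEquiv_mem_L_Dx hK σ hz
  rw [map_add, map_mul, σ.commutes, σ.commutes, hσ] at hσz
  constructor
  · have := Submodule.smul_mem _ (2⁻¹ : k) (Submodule.add_mem _ hz hσz)
    convert this using 1
    rw [Algebra.smul_def, map_inv₀, map_ofNat]
    field_simp
    ring
  · have := Submodule.smul_mem _ (2⁻¹ : k) (Submodule.sub_mem _ hz hσz)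
    convert this using 1
    rw [Algebra.smul_def, map_inv₀, map_ofNat]
    field_simp
    ring

/-- If `b₀ y ∈ L(n (x)_∞)` with `f` squarefree then `b₀` is a polynomial with
`2 deg b₀ + deg f ≤ 2n`. -/
lemma exists_poly_of_mul_y_mem_L_Dx (hK : IsFunctionField k K) [FiniteDimensional (RatFunc k) K]
    (hf : Squarefree f)
    (heq : y ^ 2 = algebraMap (RatFunc k) K (algebraMap k[X] (RatFunc k) f))
    {n : ℕ} {b₀ : RatFunc k} (hb : algebraMap (RatFunc k) K b₀ * y ∈ L (n • Dx k K)) :
    ∃ b : k[X], b₀ = algebraMap k[X] (RatFunc k) b ∧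
      (b ≠ 0 → 2 * b.natDegree + f.natDegree ≤ 2 * n) := by
  have hf0 : f ≠ 0 := hf.ne_zero
  have hsq : algebraMap (RatFunc k) K (b₀ ^ 2 * algebraMap k[X] (RatFunc k) f) ∈
      L ((2 * n) • Dx k K) := by
    have := pow_mem_L hb 2
    rw [mul_pow, heq, ← map_pow, ← map_mul, ← mul_nsmul'] at this
    exact this
  obtain ⟨c, hc, hcdeg⟩ := exists_poly_of_mem_L_Dx hK hsq
  obtain ⟨b, rfl⟩ : ∃ b : k[X], b₀ = algebraMap k[X] (RatFunc k) b := by
    apply exists_poly_of_forall_val_le_one
    intro p hX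
    by_contra hlt
    push Not at hlt
    have h1 : exp (1 : ℤ) ≤ p.1 b₀ := by
      by_contra h
      push Not at h
      have : p.1 b₀ ≤ exp (0 : ℤ) := lt_exp_succ_iff.1 (by simpa using h)
      rw [exp_zero] at this
      exact absurd hlt (not_lt.2 this)
    have h2 : exp (-1 : ℤ) ≤ p.1 (algebraMap k[X] (RatFunc k) f) := by
      rcases (val_poly_le_one hX f).lt_or_eq with hlt' | heq'
      · rw [val_squarefree_of_lt_one hX hf hlt']
      · rw [heq', ← exp_zero, exp_le_exp]
        norm_num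
    have h3 : p.1 (b₀ ^ 2 * algebraMap k[X] (RatFunc k) f) ≤ 1 := by
      rw [hc]
      exact val_poly_le_one hX c
    rw [map_mul, map_pow] at h3
    have h4 : exp (1 : ℤ) ≤ p.1 b₀ ^ 2 * p.1 (algebraMap k[X] (RatFunc k) f) := by
      calc exp (1 : ℤ) = exp (1 : ℤ) ^ 2 * exp (-1 : ℤ) := by
            rw [exp_pow', ← exp_add]; norm_num
        _ ≤ p.1 b₀ ^ 2 * p.1 (algebraMap k[X] (RatFunc k) f) :=
            mul_le_mul' (pow_le_pow_left₀ zero_le h1 2) h2
    have h5 : exp (1 : ℤ) ≤ (1 : ℤᵐ⁰) := h4.trans h3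
    rw [← exp_zero, exp_le_exp] at h5
    omega
  refine ⟨b, rfl, fun hb0 => ?_⟩
  have hbf : b ^ 2 * f = c := by
    apply RatFunc.algebraMap_injective k
    rw [← hc, map_mul, map_pow]
  rw [← hbf, natDegree_mul (pow_ne_zero 2 hb0) hf0, natDegree_pow] at hcdeg
  exact hcdeg

lemma mem_degreeLT_succ_iff {a : k[X]} {n : ℕ} : a ∈ degreeLT k (n + 1) ↔ a.natDegree ≤ n := by
  rw [degreeLT_succ_eq_degreeLE, mem_degreeLE, natDegree_le_iff_degree_le]

/-- `ℓ(n (x)_∞) = (n + 1) + (n - m + 1)` for `n ≥ m = ⌈deg f / 2⌉`. -/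
theorem ell_Dx (hK : IsFunctionField k K) (hdeg : Module.finrank (RatFunc k) K = 2)
    (h2 : ringChar k ≠ 2) (hf : Squarefree f) (hd : 1 ≤ f.natDegree)
    (heq : y ^ 2 = algebraMap (RatFunc k) K (algebraMap k[X] (RatFunc k) f))
    {n : ℕ} (hn : (f.natDegree + 1) / 2 ≤ n) :
    ell (n • Dx k K) = (n + 1) + (n - (f.natDegree + 1) / 2 + 1) := by
  classical
  haveI : FiniteDimensional (RatFunc k) K :=
    Module.finite_of_finrank_pos (by rw [hdeg]; norm_num)
  have hf0 : f ≠ 0 := hf.ne_zero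
  have hF0 : algebraMap k[X] (RatFunc k) f ≠ 0 := by simpa using hf0
  have hy : y ∉ Set.range (algebraMap (RatFunc k) K) := by
    rintro ⟨r, rfl⟩
    rw [← map_pow] at heq
    exact not_sq_of_squarefree hf hd r ((algebraMap (RatFunc k) K).injective heq)
  have hspan := exists_add_mul_eq hdeg hy
  obtain ⟨σ, hσ⟩ := exists_conj hdeg h2 hF0 heq hy
  set m := (f.natDegree + 1) / 2 with hm
  let V := degreeLT k (n + 1)
  let V' := degreeLT k (n - m + 1)
  let ιp : k[X] →ₗ[k] K :=
    ((IsScalarTower.toAlgHom k (RatFunc k) K).comp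
      (IsScalarTower.toAlgHom k k[X] (RatFunc k))).toLinearMap
  have hιp : ∀ a : k[X], ιp a = algebraMap (RatFunc k) K (algebraMap k[X] (RatFunc k) a) :=
    fun a => rfl
  have hιinj : ∀ a : k[X], ιp a = 0 → a = 0 := by
    intro a ha
    rw [hιp] at ha
    have := (algebraMap (RatFunc k) K).injective (ha.trans (map_zero _).symm)
    exact RatFunc.algebraMap_injective k (this.trans (map_zero _).symm)
  let Φ : (V × V') →ₗ[k] K :=
    (ιp.comp V.subtype).coprod ((LinearMap.mulRight k y).comp (ιp.comp V'.subtype))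
  have hΦ : ∀ q : V × V', Φ q = ιp q.1.1 + ιp q.2.1 * y := by
    intro q
    simp [Φ, LinearMap.coprod_apply]
  have hΦL : ∀ q : V × V', Φ q ∈ L (n • Dx k K) := by
    intro q
    rw [hΦ, hιp, hιp]
    refine Submodule.add_mem _ (poly_mem_L_Dx hK (mem_degreeLT_succ_iff.1 q.1.2)) ?_
    refine poly_mul_y_mem_L_Dx hK hf0 heq ?_
    have := mem_degreeLT_succ_iff.1 q.2.2
    omega
  let Ψ : (V × V') →ₗ[k] L (n • Dx k K) := Φ.codRestrict _ hΦL
  have hinj : Function.Injective Ψ := by
    rw [← LinearMap.ker_eq_bot, LinearMap.ker_eq_bot']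
    rintro ⟨a, b⟩ hab
    have h0 : Φ (a, b) = 0 := congrArg Subtype.val hab
    rw [hΦ] at h0
    simp only at h0
    have hb : b = 0 := by
      by_contra hb
      have hb' : ιp b.1 ≠ 0 := fun h => hb (Subtype.ext (hιinj _ h))
      apply hy
      refine ⟨-(algebraMap k[X] (RatFunc k) a.1) / algebraMap k[X] (RatFunc k) b.1, ?_⟩
      rw [map_div₀, map_neg, ← hιp, ← hιp]
      field_simp
      linear_combination -h0
    subst hb
    simp only [Submodule.coe_zero, map_zero, zero_mul, add_zero] at h0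
    have ha : a = 0 := Subtype.ext (hιinj _ h0)
    subst ha
    rfl
  have hsurj : Function.Surjective Ψ := by
    rintro ⟨z, hz⟩
    obtain ⟨a₀, b₀, rfl⟩ := hspan z
    obtain ⟨ha₀, hb₀⟩ := components_mem_L_Dx hK h2 hσ hz
    obtain ⟨a, rfl, hadeg⟩ := exists_poly_of_mem_L_Dx hK ha₀
    obtain ⟨b, rfl, hbdeg⟩ := exists_poly_of_mul_y_mem_L_Dx hK hf heq hb₀
    have hbV : b ∈ V' := by
      rw [mem_degreeLT_succ_iff]
      rcases eq_or_ne b 0 with rfl | hb0
      · simp
      · have := hbdeg hb0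
        omega
    refine ⟨(⟨a, mem_degreeLT_succ_iff.2 hadeg⟩, ⟨b, hbV⟩), ?_⟩
    apply Subtype.ext
    show Φ _ = _
    rw [hΦ]
    rfl
  have hV : Module.finrank k V = n + 1 := by
    rw [(degreeLTEquiv k (n + 1)).finrank_eq, Module.finrank_fin_fun]
  have hV' : Module.finrank k V' = n - m + 1 := by
    rw [(degreeLTEquiv k (n - m + 1)).finrank_eq, Module.finrank_fin_fun]
  haveI : Module.Finite k V := Module.Finite.equiv (degreeLTEquiv k (n + 1)).symm
  haveI : Module.Finite k V' := Module.Finite.equiv (degreeLTEquiv k (n - m + 1)).symm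
  have := (LinearEquiv.ofBijective Ψ ⟨hinj, hsurj⟩).finrank_eq
  rw [Module.finrank_prod, hV, hV'] at this
  exact this.symm

/-- **The genus of a hyperelliptic function field** `y² = f(x)`, `f` squarefree of degree `d ≥ 1`,
in characteristic `≠ 2`: `g = ⌊(d - 1)/2⌋`. -/
theorem genus_eq (hK : IsFunctionField k K) (hdeg : Module.finrank (RatFunc k) K = 2)
    (h2 : ringChar k ≠ 2) (hf : Squarefree f) (hd : 1 ≤ f.natDegree)
    (heq : y ^ 2 = algebraMap (RatFunc k) K (algebraMap k[X] (RatFunc k) f)) :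
    genus k K = (f.natDegree - 1) / 2 := by
  set m := (f.natDegree + 1) / 2 with hm
  set g := genus k K with hg
  have h1 := ell_Dx hK hdeg h2 hf hd heq (n := g + m) (by omega)
  have hdegD : ((g + m) • Dx k K).deg = 2 * ((g + m : ℕ) : ℤ) := by
    rw [deg_nsmul, deg_Dx hK hdeg]; ring
  have h3 := ell_eq_of_le_deg hK (D := (g + m) • Dx k K) (by rw [hdegD]; push_cast; omega)
  rw [h1, hdegD] at h3
  push_cast at h3
  omega

end poleDiv

end Groth.Agent.Lib.Helper88.Hyp
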