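/-
The different exponent of a totally ramified place through the minimal polynomial of a local
parameter (Eisenstein polynomials), read through Laurent expansions.
Author: helper88
-/
import Groth.Agent.Lib.Helper88.ResRows
import Groth.Prelude.Def_W4bk4goldsch23Ext
import Mathlib.FieldTheory.Minpoly.Field
import Mathlib.Algebra.Polynomial.Derivative

set_option autoImplicit false
set_option linter.unusedSectionVars false
set_option linter.style.haveILetI false

namespace Groth.Agent.Lib.Helper88.TG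

open FunFld WithZero
open Groth.Agent.Lib.Helper88.FF
open LaurentSeries

universe u v v' w

/-! ### Valuations of sums with a dominant term -/

section ValSum

variable {R : Type*} [Field R] (v : Valuation R ℤᵐ⁰)

lemma val_sum_eq_of_lt {ι : Type*} [DecidableEq ι] (s : Finset ι) (f : ι → R) {i₀ : ι}
    (hi₀ : i₀ ∈ s) (h : ∀ i ∈ s, i ≠ i₀ → v (f i) < v (f i₀)) :
    v (∑ i ∈ s, f i) = v (f i₀) := by
  rw [← Finset.add_sum_erase s f hi₀]
  by_cases h0 : v (f i₀) = 0
  · have : s.erase i₀ = ∅ := by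
      rw [Finset.eq_empty_iff_forall_notMem]
      intro i hi
      have := h i (Finset.mem_of_mem_erase hi) (Finset.ne_of_mem_erase hi)
      rw [h0] at this
      exact not_lt_zero' this
    rw [this, Finset.sum_empty, add_zero]
  · apply Valuation.map_add_eq_of_lt_left
    apply Valuation.map_sum_lt v h0
    intro i hi
    exact h i (Finset.mem_of_mem_erase hi) (Finset.ne_of_mem_erase hi)

/-- A finite sum whose nonzero terms have pairwise distinct valuations has the valuation of its
largest term. -/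
lemma exists_val_sum_eq {ι : Type*} [DecidableEq ι] (s : Finset ι) (hs : s.Nonempty) (f : ι → R)
    (hinj : ∀ i ∈ s, ∀ j ∈ s, i ≠ j → f i ≠ 0 → v (f i) ≠ v (f j)) :
    ∃ i₀ ∈ s, v (∑ i ∈ s, f i) = v (f i₀) ∧ ∀ i ∈ s, v (f i) ≤ v (f i₀) := by
  obtain ⟨i₀, hi₀, hmax⟩ := Finset.exists_max_image s (fun i => v (f i)) hs
  refine ⟨i₀, hi₀, ?_, hmax⟩
  by_cases h0 : f i₀ = 0
  · have hall : ∀ i ∈ s, f i = 0 := by
      intro i hi
      have := hmax i hi
      rw [h0, map_zero] at this
      exact (Valuation.zero_iff v).1 (le_antisymm this zero_le')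
    rw [Finset.sum_eq_zero hall, h0]
  · apply val_sum_eq_of_lt v s f hi₀
    intro i hi hne
    by_cases hfi : f i = 0
    · rw [hfi, map_zero]
      exact zero_lt_iff.2 ((Valuation.ne_zero_iff v).2 h0)
    · exact lt_of_le_of_ne (hmax i hi) (hinj i hi i₀ hi₀ hne hfi)

end ValSum

/-! ### Powers of a local parameter above a totally ramified place -/

section Eis

variable {k : Type u} {K : Type v} {K' : Type v'} [Field k] [Field K] [Field K'] [Algebra k K] [Algebra K K']
  [Algebra k K']
variable {P : Place k K} {Q : Place k K'} {e : ℕ}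

lemma val_term (he : IsOverWith Q P e) {s : K'} (hs : Q.1 s = exp (-1 : ℤ)) (c : K) (i : ℕ) :
    Q.1 (algebraMap K K' c * s ^ i) = P.1 c ^ e * exp (-(i : ℤ)) := by
  rw [map_mul, he c, map_pow, hs, ← exp_nsmul]
  congr 2
  simp

lemma val_term' (he : IsOverWith Q P e) {s : K'} (hs : Q.1 s = exp (-1 : ℤ)) {c : K} (hc : c ≠ 0)
    (i : ℕ) : Q.1 (algebraMap K K' c * s ^ i) = exp (-((e : ℤ) * P.ord c + i)) := by
  rw [val_term he hs, val_eq_exp_neg_ord P hc, ← exp_nsmul, ← exp_add]
  congr 1
  simp only [nsmul_eq_mul]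
  ring

lemma val_term_ne (he : IsOverWith Q P e) {s : K'} (hs : Q.1 s = exp (-1 : ℤ)) {i j : ℕ}
    (hi : i < e) (hj : j < e) (hij : i ≠ j) {ci : K} (cj : K)
    (hci : algebraMap K K' ci * s ^ i ≠ 0) :
    Q.1 (algebraMap K K' ci * s ^ i) ≠ Q.1 (algebraMap K K' cj * s ^ j) := by
  have hci' : ci ≠ 0 := by
    rintro rfl
    apply hci
    rw [map_zero, zero_mul]
  by_cases hcj : cj = 0
  · rw [hcj, map_zero, zero_mul, map_zero, val_term' he hs hci']
    exact exp_ne_zero
  · rw [val_term' he hs hci', val_term' he hs hcj, ne_eq, exp_inj, neg_inj]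
    intro h
    have hd : (e : ℤ) ∣ (i : ℤ) - j := ⟨P.ord cj - P.ord ci, by linarith⟩
    have h0 := Int.eq_zero_of_abs_lt_dvd hd (by rw [abs_lt]; constructor <;> omega)
    omega

/-- The sum `∑_{i<e} cᵢ sⁱ` has the valuation of its largest term. -/
theorem exists_val_sum_terms (he : IsOverWith Q P e) {s : K'} (hs : Q.1 s = exp (-1 : ℤ))
    (he0 : 0 < e) (c : ℕ → K) :
    ∃ i₀ < e, Q.1 (∑ i ∈ Finset.range e, algebraMap K K' (c i) * s ^ i) =
        Q.1 (algebraMap K K' (c i₀) * s ^ i₀) ∧
      ∀ i < e, Q.1 (algebraMap K K' (c i) * s ^ i) ≤ Q.1 (algebraMap K K' (c i₀) * s ^ i₀) := by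
  classical
  obtain ⟨i₀, hi₀, h1, h2⟩ := exists_val_sum_eq Q.1 (Finset.range e)
    ⟨0, Finset.mem_range.2 he0⟩ (fun i => algebraMap K K' (c i) * s ^ i)
    (fun i hi j hj hij hfi =>
      val_term_ne he hs (Finset.mem_range.1 hi) (Finset.mem_range.1 hj) hij (c j) hfi)
  exact ⟨i₀, Finset.mem_range.1 hi₀, h1, fun i hi => h2 i (Finset.mem_range.2 hi)⟩

lemma ne_zero_of_val_eq_exp {s : K'} (hs : Q.1 s = exp (-1 : ℤ)) : s ≠ 0 := by
  rintro rfl
  rw [map_zero] at hs
  exact exp_ne_zero hs.symm

/-- The powers `1, s, …, s^(e-1)` of a local parameter at a place of ramification index `e` are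
linearly independent over the field below. -/
theorem eq_zero_of_sum_terms_eq_zero (he : IsOverWith Q P e) {s : K'} (hs : Q.1 s = exp (-1 : ℤ))
    (c : ℕ → K) (h : ∑ i ∈ Finset.range e, algebraMap K K' (c i) * s ^ i = 0) :
    ∀ i < e, c i = 0 := by
  intro i hi
  have he0 : 0 < e := lt_of_le_of_lt (Nat.zero_le i) hi
  obtain ⟨i₀, -, h1, h2⟩ := exists_val_sum_terms he hs he0 c
  rw [h, map_zero] at h1
  have h3 := h2 i hi
  rw [← h1] at h3
  have h4 : algebraMap K K' (c i) * s ^ i = 0 :=
    (Valuation.zero_iff Q.1).1 (le_antisymm h3 zero_le')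
  rcases mul_eq_zero.1 h4 with h5 | h5
  · exact (map_eq_zero _).1 h5
  · exact absurd h5 (pow_ne_zero i (ne_zero_of_val_eq_exp hs))

/-- **Eisenstein's criterion, converse.** A relation `s^e + ∑_{i<e} cᵢ sⁱ = 0` for a local
parameter at a place of ramification index `e` has `c₀` a local parameter below and all `cᵢ`
in the maximal ideal below. -/
theorem eisenstein_of_relation (he : IsOverWith Q P e) {s : K'} (hs : Q.1 s = exp (-1 : ℤ))
    (he0 : 0 < e) (c : ℕ → K)
    (h : s ^ e + ∑ i ∈ Finset.range e, algebraMap K K' (c i) * s ^ i = 0) :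
    P.1 (c 0) = exp (-1 : ℤ) ∧ ∀ i < e, P.1 (c i) ≤ exp (-1 : ℤ) := by
  obtain ⟨i₀, hi₀, h1, h2⟩ := exists_val_sum_terms he hs he0 c
  have hsum : ∑ i ∈ Finset.range e, algebraMap K K' (c i) * s ^ i = -s ^ e := by
    rw [← sub_eq_zero, sub_neg_eq_add, add_comm]
    exact h
  have hv : Q.1 (∑ i ∈ Finset.range e, algebraMap K K' (c i) * s ^ i) = exp (-(e : ℤ)) := by
    rw [hsum, Valuation.map_neg, map_pow, hs, ← exp_nsmul]
    congr 1
    simp
  rw [hv] at h1
  have hci₀ : c i₀ ≠ 0 := by
    rintro h0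
    rw [h0, map_zero, zero_mul, map_zero] at h1
    exact exp_ne_zero h1
  rw [val_term' he hs hci₀, exp_inj, neg_inj] at h1
  have hd : (e : ℤ) ∣ (i₀ : ℤ) := ⟨1 - P.ord (c i₀), by linarith⟩
  have hi0 : (i₀ : ℤ) = 0 :=
    Int.eq_zero_of_abs_lt_dvd hd (by rw [abs_lt]; constructor <;> omega)
  have hi0' : i₀ = 0 := by exact_mod_cast hi0
  subst hi0'
  have hord : P.ord (c 0) = 1 := by
    have h3 : (e : ℤ) * P.ord (c 0) = (e : ℤ) * 1 := by
      rw [mul_one]
      simpa using h1.symm
    exact mul_left_cancel₀ (by exact_mod_cast he0.ne') h3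
  constructor
  · rw [val_eq_exp_neg_ord P hci₀, hord]
  · intro i hi
    by_cases hci : c i = 0
    · rw [hci, map_zero]
      exact zero_le'
    · have h3 := h2 i hi
      rw [val_term' he hs hci, val_term' he hs hci₀, exp_le_exp, neg_le_neg_iff, hord] at h3
      rw [val_eq_exp_neg_ord P hci, exp_le_exp, neg_le_neg_iff]
      by_contra hcon
      have h4 : P.ord (c i) ≤ 0 := by omega
      have h5 : (e : ℤ) * P.ord (c i) ≤ 0 :=
        mul_nonpos_of_nonneg_of_nonpos (by exact_mod_cast he0.le) h4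
      push_cast at h3
      omega

end Eis

/-! ### Differentiating a polynomial relation -/

section PolyDer

variable {K K' B : Type*} [Field K] [Field K'] [Algebra K K'] [CommRing B]

lemma aeval_derivative_eq_sum (f : Polynomial K) {N : ℕ} (hN : f.natDegree < N) (s : K') :
    Polynomial.aeval s (Polynomial.derivative f) =
      ∑ i ∈ Finset.range N, algebraMap K K' (f.coeff i) * ((i : K') * s ^ (i - 1)) := by
  rw [Polynomial.derivative_apply, Polynomial.sum_over_range' _ _ N hN, map_sum]
  · apply Finset.sum_congr rfl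
    intro i _
    rw [map_mul, Polynomial.aeval_C, map_pow, Polynomial.aeval_X, map_mul, map_natCast]
    ring
  · intro n
    simp

lemma leibniz_pow' (δ : B →+ B) (hmul : ∀ a b, δ (a * b) = a * δ b + b * δ a) (a : B) (n : ℕ) :
    δ (a ^ n) = (n : B) * a ^ (n - 1) * δ a := by
  induction n with
  | zero =>
    have h1 := hmul 1 1
    rw [mul_one, one_mul] at h1
    have h2 : δ 1 = 0 := by
      have : δ 1 + 0 = δ 1 + δ 1 := by rw [add_zero]; exact h1
      exact (add_left_cancel this).symm
    rw [pow_zero, h2]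
    simp
  | succ n ih =>
    rw [pow_succ, hmul, ih]
    rcases n with _ | n
    · simp
    · simp only [Nat.add_sub_cancel, Nat.cast_add, Nat.cast_one]
      ring

/-- The chain rule for a polynomial relation with non-constant coefficients. -/
theorem deriv_aeval (ρ : K' →+* B) (δ : B →+ B) (hmul : ∀ a b, δ (a * b) = a * δ b + b * δ a)
    (f : Polynomial K) {N : ℕ} (hN : f.natDegree < N) (s : K') :
    δ (ρ (Polynomial.aeval s f)) =
      ∑ i ∈ Finset.range N, δ (ρ (algebraMap K K' (f.coeff i))) * ρ s ^ i +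
        ρ (Polynomial.aeval s (Polynomial.derivative f)) * δ (ρ s) := by
  rw [Polynomial.aeval_eq_sum_range' hN, aeval_derivative_eq_sum f hN, map_sum, map_sum, map_sum,
    Finset.sum_mul, ← Finset.sum_add_distrib]
  apply Finset.sum_congr rfl
  intro i _
  rw [Algebra.smul_def, map_mul, map_pow, hmul, leibniz_pow' δ hmul]
  simp only [map_mul, map_natCast, map_pow]
  ring

end PolyDer

/-! ### The different exponent of a totally ramified place -/

section Main

variable {k : Type u} {K : Type v} {K' : Type v'} [Field k] [Field K] [Field K'] [Algebra k K] [Algebra K K']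
  [Algebra k K'] [IsScalarTower k K K'] [FiniteDimensional K K']
variable {F F' : Type w} [Field F] [Algebra k F] [Field F'] [Algebra k F']

lemma val_D_eq_one {A : Type w} [Field A] {f : A⸨X⸩} (hv : Valued.v f = exp (-(1 : ℤ))) :
    Valued.v (LocRes.D A f) = 1 := by
  have hc := coeff_ne_zero_of_val_eq hv
  have : Valued.v (LocRes.D A f) = exp (-(0 : ℤ)) := by
    apply val_eq_exp_neg_of_coeff
    · intro n hn
      rw [LocRes.D_coeff, LaurentSeries.coeff_zero_of_lt_valuation A hv.le (by omega), smul_zero]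
    · rw [LocRes.D_coeff, zero_add, one_smul]
      exact hc
  rw [this]
  simp

/-- For a totally ramified place `Q | P` (`e = [K' : K]`) and a local parameter `s` at `Q` with
minimal polynomial `f` over `K`: the value of `f'(s)` at `Q` is that of the differential of a
local parameter of `P`. -/
theorem val_aeval_derivative_minpoly (hK : IsFunctionField k K) (hg : IsGeometric k K)
    {P : Place k K} {Q : Place k K'} {e : ℕ} (he : IsOverWith Q P e)
    {φ : K →ₐ[k] F⸨X⸩} (hφ : LocRes.IsExpansionAt P.1 φ)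
    {ψ : K' →ₐ[k] F'⸨X⸩} (hψ : LocRes.IsExpansionAt Q.1 ψ)
    (hn : e = Module.finrank K K') {s : K'} (hs : Q.1 s = exp (-1 : ℤ))
    {t : K} (ht : P.1 t = exp (-1 : ℤ)) :
    Q.1 (Polynomial.aeval s (Polynomial.derivative (minpoly K s))) =
      LocRes.vDiff ψ 1 (algebraMap K K' t) := by
  classical
  have he0 : 0 < e := by rw [hn]; exact Module.finrank_pos
  set f := minpoly K s with hf
  have hint : IsIntegral K s := Algebra.IsIntegral.isIntegral s
  have hmonic : f.Monic := minpoly.monic hint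
  have hroot : Polynomial.aeval s f = 0 := minpoly.aeval K s
  have hle : f.natDegree ≤ e := by rw [hn]; exact minpoly.natDegree_le s
  have hge : e ≤ f.natDegree := by
    by_contra hlt
    push Not at hlt
    have h1 := Polynomial.aeval_eq_sum_range' hlt s
    rw [hroot] at h1
    have h2 := eq_zero_of_sum_terms_eq_zero he hs (fun i => f.coeff i) (by
      rw [h1]
      apply Finset.sum_congr rfl
      intro i _
      rw [Algebra.smul_def])
    have h3 := h2 f.natDegree hlt
    rw [hmonic.coeff_natDegree] at h3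
    exact one_ne_zero h3
  have hdeg : f.natDegree = e := le_antisymm hle hge
  have hce : f.coeff e = 1 := by rw [← hdeg]; exact hmonic.coeff_natDegree
  have hrel : s ^ e + ∑ i ∈ Finset.range e, algebraMap K K' (f.coeff i) * s ^ i = 0 := by
    have h1 : Polynomial.aeval s f = ∑ i ∈ Finset.range (e + 1), f.coeff i • s ^ i :=
      Polynomial.aeval_eq_sum_range' (by omega) s
    rw [hroot, Finset.sum_range_succ, hce, one_smul] at h1
    rw [add_comm, h1]
    congr 1
    apply Finset.sum_congr rfl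
    intro i _
    rw [Algebra.smul_def]
  obtain ⟨hc0, hci⟩ := eisenstein_of_relation he hs he0 (fun i => f.coeff i) hrel
  -- differentiate the relation
  have hder := deriv_aeval (ψ : K' →+* F'⸨X⸩) (LocRes.D F' : F'⸨X⸩ →+ F'⸨X⸩)
    (fun a b => (LocRes.D F').leibniz a b) f (N := e + 1) (by omega) s
  rw [hroot, map_zero, map_zero, Finset.sum_range_succ, hce, map_one, map_one] at hder
  have hD1 : (LocRes.D F' : F'⸨X⸩ →+ F'⸨X⸩) 1 = 0 := (LocRes.D F').map_one_eq_zero
  rw [hD1, zero_mul, add_zero] at hder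
  replace hder : (0 : F'⸨X⸩) = ∑ i ∈ Finset.range e,
      LocRes.D F' (ψ (algebraMap K K' (f.coeff i))) * ψ s ^ i +
        ψ (Polynomial.aeval s (Polynomial.derivative f)) * LocRes.D F' (ψ s) := hder
  -- the differentials of the coefficients
  have hDt := D_exp_uniformizer_ne_zero hφ ht
  have hvt : LocRes.vDiff φ 1 t ≠ 0 := by
    unfold LocRes.vDiff
    rw [map_one, one_mul, ne_eq, map_eq_zero]
    exact hDt
  have hdt := kaehler_D_ne_zero_of_vDiff_ne_zero φ hvt
  have hex : ∀ i : ℕ, ∃ g : K, KaehlerDifferential.D k K (f.coeff i) =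
      g • KaehlerDifferential.D k K t := fun i => exists_D_eq_smul hK hg hdt (f.coeff i)
  choose g hg' using hex
  let ψ' : K →ₐ[k] F'⸨X⸩ := ψ.comp (IsScalarTower.toAlgHom k K K')
  have h1 : ∀ i, LocRes.D F' (ψ (algebraMap K K' (f.coeff i))) =
      ψ (algebraMap K K' (g i)) * LocRes.D F' (ψ (algebraMap K K' t)) :=
    fun i => D_exp_eq_mul ψ' (hg' i)
  have h2 : ∀ i, LocRes.D F (φ (f.coeff i)) = φ (g i) * LocRes.D F (φ t) :=
    fun i => D_exp_eq_mul φ (hg' i)
  have hvDt : Valued.v (LocRes.D F (φ t)) = 1 := val_D_eq_one (by rw [hφ.1, ht])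
  have hPg : ∀ i, P.1 (g i) = Valued.v (LocRes.D F (φ (f.coeff i))) := by
    intro i
    rw [h2 i, map_mul, hvDt, mul_one, hφ.1]
  have hg0 : P.1 (g 0) = 1 := by
    rw [hPg]
    exact val_D_eq_one (by rw [hφ.1, hc0])
  have hgi : ∀ i < e, P.1 (g i) ≤ 1 := by
    intro i hi
    rw [hPg]
    have := val_D_le (φ (f.coeff i)) (m := 1) (by rw [hφ.1]; exact hci i hi)
    simpa using this
  set G : K' := ∑ i ∈ Finset.range e, algebraMap K K' (g i) * s ^ i with hGdef
  have hG : Q.1 G = 1 := by
    have h00 : Q.1 (algebraMap K K' (g 0) * s ^ 0) = 1 := by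
      rw [pow_zero, mul_one, he (g 0), hg0, one_pow]
    rw [hGdef, val_sum_eq_of_lt Q.1 (Finset.range e) _ (i₀ := 0) (Finset.mem_range.2 he0), h00]
    intro i hi hne
    rw [h00, val_term he hs]
    calc P.1 (g i) ^ e * exp (-(i : ℤ)) ≤ 1 * exp (-(i : ℤ)) :=
          mul_le_mul' (pow_le_one' (hgi i (Finset.mem_range.1 hi)) e) le_rfl
      _ < 1 := by
          rw [one_mul, ← exp_zero, exp_lt_exp]
          omega
  have hsum : ∑ i ∈ Finset.range e,
      LocRes.D F' (ψ (algebraMap K K' (f.coeff i))) * ψ s ^ i =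
      LocRes.D F' (ψ (algebraMap K K' t)) * ψ G := by
    rw [hGdef, map_sum, Finset.mul_sum]
    apply Finset.sum_congr rfl
    intro i _
    rw [h1 i, map_mul, map_pow]
    ring
  rw [hsum] at hder
  have hfin : ψ (Polynomial.aeval s (Polynomial.derivative f)) *
      LocRes.D F' (ψ s) = -(LocRes.D F' (ψ (algebraMap K K' t)) * ψ G) := by
    rw [eq_neg_iff_add_eq_zero, add_comm]
    exact hder.symm
  have hv := congrArg (Valued.v : F'⸨X⸩ → ℤᵐ⁰) hfin
  rw [map_mul, Valuation.map_neg, map_mul,
    val_D_eq_one (by rw [hψ.1, hs]), mul_one, hψ.1, hψ.1 G, hG, mul_one] at hv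
  rw [hv]
  unfold LocRes.vDiff
  rw [map_one, one_mul]

end Main

end Groth.Agent.Lib.Helper88.TG
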