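/-
Versions of the results on differentials read through Laurent expansions in which geometricity is
replaced by the weaker hypothesis that the module of differentials is generated by one element
(e.g. by the differential of a separating element).
Author: helper88
-/
import Groth.Agent.Lib.Helper88.DiffEis

set_option autoImplicit false
set_option linter.unusedSectionVars false
set_option linter.style.haveILetI false

namespace Groth.Agent.Lib.Helper88.TG

open FunFld WithZero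
open Groth.Agent.Lib.Helper88.FRT Groth.Agent.Lib.Helper88.TL Groth.Agent.Lib.Helper88.FF
open LaurentSeries
open scoped KaehlerDifferential

universe u v v' w

/-- The module of Kähler differentials of `K/k` is generated by one differential. -/
def DiffGen (k : Type u) (K : Type v) [Field k] [Field K] [Algebra k K] : Prop :=
  ∃ x : K, ∀ ω : Ω[K⁄k], ∃ c : K, ω = c • KaehlerDifferential.D k K x

section Basic

variable {k : Type u} {K : Type v} [Field k] [Field K] [Algebra k K]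

theorem diffGen_of_separable (x : K)
    [Algebra.IsSeparable (IntermediateField.adjoin k ({x} : Set K)) K] : DiffGen k K :=
  ⟨x, fun ω => kaehler_eq_smul_of_separable x ω⟩

theorem diffGen_of_isGeometric (hK : IsFunctionField k K) (hg : IsGeometric k K) :
    DiffGen k K := by
  obtain ⟨x, -, hsep⟩ := exists_separating hK hg
  exact diffGen_of_separable x

variable {M : Type*} [AddCommGroup M] [Module K M] [Module k M] [IsScalarTower k K M]

theorem DiffGen.exists_D_eq_smul (hd : DiffGen k K) {v : K}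
    (hv : KaehlerDifferential.D k K v ≠ 0) (v' : K) :
    ∃ g : K, KaehlerDifferential.D k K v' = g • KaehlerDifferential.D k K v := by
  obtain ⟨x, hx⟩ := hd
  obtain ⟨c, hc⟩ := hx (KaehlerDifferential.D k K v)
  obtain ⟨c', hc'⟩ := hx (KaehlerDifferential.D k K v')
  have hc0 : c ≠ 0 := by
    rintro rfl
    rw [zero_smul] at hc
    exact hv hc
  refine ⟨c' * c⁻¹, ?_⟩
  rw [hc', hc, smul_smul, mul_assoc, inv_mul_cancel₀ hc0, mul_one]

theorem DiffGen.derivation_eq_zero (hd : DiffGen k K) {v : K}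
    (hv : KaehlerDifferential.D k K v ≠ 0) (E : Derivation k K M) (hE : E v = 0) : E = 0 := by
  ext y
  obtain ⟨g, hg⟩ := hd.exists_D_eq_smul hv y
  rw [derivation_apply_eq_smul E hg, hE, smul_zero]
  rfl

end Basic

section Local

variable {k : Type u} {K : Type v} [Field k] [Field K] [Algebra k K]
variable {F₀ : Type w} [Field F₀] [Algebra k F₀]

theorem D_exp_ne_zero' (hd : DiffGen k K)
    {w : Valuation K ℤᵐ⁰} {ψ : K →ₐ[k] F₀⸨X⸩} (hψ : LocRes.IsExpansionAt w ψ) {v : K}
    (hv : KaehlerDifferential.D k K v ≠ 0) : LocRes.D F₀ (ψ v) ≠ 0 := by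
  letI := ψ.toRingHom.toAlgebra
  haveI : IsScalarTower k K F₀⸨X⸩ := LocRes.isScalarTower_exp ψ
  intro h0
  have hE : LocRes.dExp ψ = 0 := hd.derivation_eq_zero hv (LocRes.dExp ψ) h0
  obtain ⟨t, ht⟩ := hψ.2.2
  apply D_exp_uniformizer_ne_zero hψ ht
  have : LocRes.dExp ψ t = 0 := by rw [hE]; rfl
  exact this

lemma vDiff_ne_zero' (hd : DiffGen k K) {w : Valuation K ℤᵐ⁰} {ψ : K →ₐ[k] LaurentSeries F₀}
    (hψ : LocRes.IsExpansionAt w ψ) {u v : K} (hu : u ≠ 0)
    (hv : KaehlerDifferential.D k K v ≠ 0) : LocRes.vDiff ψ u v ≠ 0 := by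
  unfold LocRes.vDiff
  rw [map_mul]
  apply mul_ne_zero
  · rw [ne_eq, map_eq_zero]
    exact (map_ne_zero ψ).2 hu
  · rw [ne_eq, map_eq_zero]
    exact D_exp_ne_zero' hd hψ hv

end Local

section Sep

variable {k : Type u} {K : Type v} [Field k] [Field K] [Algebra k K]
variable {F₀ : Type w} [Field F₀] [Algebra k F₀] [FiniteDimensional k F₀]

/-- **Separability of coefficient fields**, for fields whose differentials are generated by one
element. -/
theorem isSeparable_of_expansion' (hd : DiffGen k K) {w : Valuation K ℤᵐ⁰} {ψ : K →ₐ[k] F₀⸨X⸩}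
    (hψ : LocRes.IsExpansionAt w ψ) : Algebra.IsSeparable k F₀ := by
  by_contra hns
  have hnt : Nontrivial (Ω[F₀⁄k]) := by
    rw [← not_subsingleton_iff_nontrivial]
    intro hsub
    have hU : Algebra.FormallyUnramified k F₀ := ⟨hsub⟩
    exact hns (Algebra.FormallyUnramified.isSeparable k F₀)
  obtain ⟨δ, hδ⟩ := exists_derivation_ne_zero_of_nontrivial hnt
  obtain ⟨α, hα⟩ : ∃ α : F₀, δ α ≠ 0 := by
    by_contra hcon
    push Not at hcon
    apply hδ
    ext a
    exact hcon a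
  obtain ⟨x, hxgen⟩ := id hd
  -- `dx ≠ 0`
  have hdx : KaehlerDifferential.D k K x ≠ 0 := by
    intro h0
    obtain ⟨t, ht⟩ := hψ.2.2
    obtain ⟨c, hc⟩ := hxgen (KaehlerDifferential.D k K t)
    rw [h0, smul_zero] at hc
    have := D_exp_eq_mul ψ (v := t) (v' := t) (g := 0) (by rw [hc, zero_smul])
    rw [map_zero, zero_mul] at this
    exact D_exp_uniformizer_ne_zero hψ ht this
  have hB : LocRes.D F₀ (ψ x) ≠ 0 := D_exp_ne_zero' hd hψ hdx
  -- the proportionality relation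
  have hrel : ∀ u : K, lsDer δ (ψ u) * LocRes.D F₀ (ψ x) = lsDer δ (ψ x) * LocRes.D F₀ (ψ u) := by
    intro u
    obtain ⟨g, hg'⟩ := hd.exists_D_eq_smul hdx u
    have h1 := D_exp_eq_mul ψ hg'
    have h2 : lsDer δ (ψ u) = ψ g * lsDer δ (ψ x) := by
      letI := ψ.toRingHom.toAlgebra
      haveI : IsScalarTower k K F₀⸨X⸩ := LocRes.isScalarTower_exp ψ
      exact derivation_apply_eq_smul (coeffDerExp δ ψ) hg'
    rw [h1, h2]
    ring
  -- orders
  have hvB0 : Valued.v (LocRes.D F₀ (ψ x)) ≠ 0 := by rwa [ne_eq, map_eq_zero]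
  set m : ℤ := -log (Valued.v (LocRes.D F₀ (ψ x))) with hm
  have hvB : Valued.v (LocRes.D F₀ (ψ x)) = exp (-m) := by rw [hm, neg_neg, exp_log hvB0]
  obtain ⟨j, hj⟩ : ∃ j : ℤ, Valued.v (lsDer δ (ψ x)) ≤ exp j := by
    rcases eq_or_ne (Valued.v (lsDer δ (ψ x))) 0 with h0 | h0
    · exact ⟨0, by rw [h0]; exact zero_le'⟩
    · exact ⟨log (Valued.v (lsDer δ (ψ x))), by rw [exp_log h0]⟩
  set N : ℤ := max (j + m + 2) 1 with hN
  have hN1 : 1 ≤ N := le_max_right _ _
  have hN2 : j + m + 2 ≤ N := le_max_left _ _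
  obtain ⟨u, hu⟩ := exists_approx hψ (HahnSeries.C α : F₀⸨X⸩) (-N)
  set r : F₀⸨X⸩ := ψ u - HahnSeries.C α with hr
  have hψu : ψ u = HahnSeries.C α + r := by rw [hr]; ring
  have hA : Valued.v (lsDer δ (ψ u)) = 1 := by
    rw [hψu, lsDer_add, lsDer_C]
    have h1 : Valued.v (lsDer δ r) ≤ exp (-N) := (val_lsDer_le δ r).trans hu
    have h2 : Valued.v (HahnSeries.C (δ α) : F₀⸨X⸩) = 1 := by
      have hle : Valued.v (HahnSeries.C (δ α) : F₀⸨X⸩) ≤ 1 := by
        rw [LaurentSeries.val_le_one_iff_eq_coe]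
        exact ⟨PowerSeries.C (δ α), by simp⟩
      rcases lt_or_eq_of_le hle with hlt | heq
      · exfalso
        rw [lt_one_iff_le_exp_neg_one] at hlt
        have := LaurentSeries.coeff_zero_of_lt_valuation F₀ (D := 1) (n := 0)
          (f := (HahnSeries.C (δ α) : F₀⸨X⸩)) hlt (by norm_num)
        rw [HahnSeries.C_apply, HahnSeries.coeff_single_same] at this
        exact hα this
      · exact heq
    have h3 : Valued.v (lsDer δ r) < Valued.v (HahnSeries.C (δ α) : F₀⸨X⸩) := by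
      rw [h2]
      refine lt_of_le_of_lt h1 ?_
      rw [← exp_zero, exp_lt_exp]
      omega
    rw [Valuation.map_add_eq_of_lt_left _ h3, h2]
  have hD : Valued.v (LocRes.D F₀ (ψ u)) ≤ exp (-(N - 1)) := by
    have e : LocRes.D F₀ (ψ u) = LocRes.D F₀ r := by
      rw [hψu, map_add, LocRes.D_apply F₀ (HahnSeries.C α), LocRes.derivative_C, zero_add]
    rw [e]
    exact val_D_le r hu
  have h1 := congrArg (Valued.v : F₀⸨X⸩ → ℤᵐ⁰) (hrel u)
  rw [map_mul, map_mul, hA, one_mul, hvB] at h1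
  have h2 : exp (-m) ≤ exp j * exp (-(N - 1)) := by
    rw [h1]
    exact mul_le_mul' hj hD
  rw [← exp_add, exp_le_exp] at h2
  omega

theorem exists_trace_mul_ne_zero_of_expansion' (hd : DiffGen k K) {w : Valuation K ℤᵐ⁰}
    {ψ : K →ₐ[k] F₀⸨X⸩} (hψ : LocRes.IsExpansionAt w ψ) (c : F₀) (hc : c ≠ 0) :
    ∃ c' : F₀, Algebra.trace k F₀ (c * c') ≠ 0 := by
  haveI := isSeparable_of_expansion' hd hψ
  exact exists_trace_mul_ne_zero c hc

end Sep

section Canonical

variable {k : Type u} {K : Type v} [Field k] [Field K] [Algebra k K]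
variable {F : Place k K → Type w} [∀ P, Field (F P)] [∀ P, Algebra k (F P)]
  [∀ P, FiniteDimensional k (F P)]
variable {φ : ∀ P : Place k K, K →ₐ[k] (F P)⸨X⸩}
variable (hK : IsFunctionField k K) (hexp : ∀ P, LocRes.IsExpansionAt P.1 (φ P))

include hK hexp in
/-- The divisor of `dv`, as a canonical divisor. -/
theorem exists_canonical_ordDiff' (hd : DiffGen k K) {v : K}
    (hv : KaehlerDifferential.D k K v ≠ 0) :
    ∃ C : Divisor k K, (∀ P, C P = LocRes.ordDiff (φ P) 1 v) ∧ IsCanonical k K C ∧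
      ∀ (y : K) (P : Place k K), LocRes.vDiff (φ P) y v = P.1 y * exp (-(C P)) := by
  have hsep : ∀ P, ∀ c : F P, c ≠ 0 → ∃ c' : F P, Algebra.trace k (F P) (c * c') ≠ 0 :=
    fun P => exists_trace_mul_ne_zero_of_expansion' hd (hexp P)
  have hne : ∀ P, LocRes.vDiff (φ P) 1 v ≠ 0 :=
    fun P => vDiff_ne_zero' hd (hexp P) one_ne_zero hv
  obtain ⟨C, hC, hdiv⟩ := exists_divisor_ordDiff hK hexp 1 v hsep hne
  obtain ⟨P₀⟩ := exists_place hK
  refine ⟨C, hC, ⟨omega hK hexp 1 v, omega_ne_zero hK hexp 1 v P₀ (hsep P₀) (hne P₀), hdiv⟩, ?_⟩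
  intro y P
  rw [vDiff_eq_mul (hexp P), vDiff_eq_exp_neg_ordDiff (φ P) (hne P), hC P]

end Canonical

section DiffExp

variable {k : Type u} {K : Type v} {K' : Type v'} [Field k] [Field K] [Field K'] [Algebra k K] [Algebra K K']
  [Algebra k K'] [IsScalarTower k K K']
variable {F₀ F₁ : Type w} [Field F₀] [Algebra k F₀] [Field F₁] [Algebra k F₁]

theorem diffExp_eq' (hd : DiffGen k K)
    (φ : K →ₐ[k] F₀⸨X⸩) (ψ : K' →ₐ[k] F₁⸨X⸩) (e : ℕ)
    (he : ∀ z : K, Valued.v (ψ (algebraMap K K' z)) = Valued.v (φ z) ^ e)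
    {x x' : K} (hx : LocRes.vDiff φ 1 x ≠ 0) (hx' : LocRes.vDiff ψ 1 (algebraMap K K' x) ≠ 0)
    (hx2 : LocRes.vDiff φ 1 x' ≠ 0) (hx2' : LocRes.vDiff ψ 1 (algebraMap K K' x') ≠ 0) :
    LocRes.diffExp φ ψ e x = LocRes.diffExp φ ψ e x' := by
  have hdx := kaehler_D_ne_zero_of_vDiff_ne_zero φ hx
  obtain ⟨g, hg'⟩ := hd.exists_D_eq_smul hdx x'
  have h1 := ordDiff_eq_of_D_eq_smul φ hg' hx hx2
  let ψ' : K →ₐ[k] F₁⸨X⸩ := ψ.comp (IsScalarTower.toAlgHom k K K')
  have ev : ∀ y : K, LocRes.vDiff ψ' 1 y = LocRes.vDiff ψ 1 (algebraMap K K' y) := by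
    intro y
    unfold LocRes.vDiff
    simp [ψ']
  have h2 := ordDiff_eq_of_D_eq_smul ψ' hg' (by rw [ev]; exact hx') (by rw [ev]; exact hx2')
  have e1 : LocRes.ordDiff ψ' 1 x' = LocRes.ordDiff ψ 1 (algebraMap K K' x') := by
    unfold LocRes.ordDiff
    rw [ev]
  have e2 : LocRes.ordDiff ψ' 1 x = LocRes.ordDiff ψ 1 (algebraMap K K' x) := by
    unfold LocRes.ordDiff
    rw [ev]
  have e3 : Valued.v (ψ' g) = Valued.v (φ g) ^ e := he g
  unfold LocRes.diffExp
  rw [← e1, ← e2, h2, h1, e3, log_pow]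
  simp only [nsmul_eq_mul]
  ring

theorem diffExp_eq_ordDiff_uniformizer' (hd : DiffGen k K)
    {w : Valuation K ℤᵐ⁰} {φ : K →ₐ[k] F₀⸨X⸩} (hφ : LocRes.IsExpansionAt w φ)
    (ψ : K' →ₐ[k] F₁⸨X⸩) (e : ℕ)
    (he : ∀ z : K, Valued.v (ψ (algebraMap K K' z)) = Valued.v (φ z) ^ e)
    {x : K} (hx : LocRes.vDiff φ 1 x ≠ 0) (hx' : LocRes.vDiff ψ 1 (algebraMap K K' x) ≠ 0)
    {t : K} (ht : w t = exp (-1 : ℤ)) :
    LocRes.vDiff ψ 1 (algebraMap K K' t) ≠ 0 ∧
      LocRes.diffExp φ ψ e x = LocRes.ordDiff ψ 1 (algebraMap K K' t) := by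
  have hDt := D_exp_uniformizer_ne_zero hφ ht
  have hvt : LocRes.vDiff φ 1 t ≠ 0 := by
    unfold LocRes.vDiff
    rw [map_one, one_mul, ne_eq, map_eq_zero]
    exact hDt
  have hdt := kaehler_D_ne_zero_of_vDiff_ne_zero φ hvt
  obtain ⟨g, hg'⟩ := hd.exists_D_eq_smul hdt x
  let ψ' : K →ₐ[k] F₁⸨X⸩ := ψ.comp (IsScalarTower.toAlgHom k K K')
  have h1 := D_exp_eq_mul ψ' hg'
  have hvt' : LocRes.vDiff ψ 1 (algebraMap K K' t) ≠ 0 := by
    intro h0
    apply hx'
    unfold LocRes.vDiff at h0 ⊢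
    rw [map_one, one_mul, map_eq_zero] at h0
    have h2 : LocRes.D F₁ (ψ (algebraMap K K' x)) =
        ψ (algebraMap K K' g) * LocRes.D F₁ (ψ (algebraMap K K' t)) := h1
    rw [h2, h0, mul_zero, mul_zero, map_zero]
  refine ⟨hvt', ?_⟩
  rw [diffExp_eq' hd φ ψ e he hx hx' hvt hvt']
  unfold LocRes.diffExp
  have h0 : LocRes.ordDiff φ 1 t = 0 := by
    unfold LocRes.ordDiff LocRes.vDiff
    rw [map_one, one_mul, val_D_eq_one (by rw [hφ.1, ht])]
    simp
  rw [h0, mul_zero, sub_zero]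

end DiffExp

section Main'

variable {k : Type u} {K : Type v} {K' : Type v'} [Field k] [Field K] [Field K'] [Algebra k K] [Algebra K K']
  [Algebra k K'] [IsScalarTower k K K'] [FiniteDimensional K K']
variable {F F' : Type w} [Field F] [Algebra k F] [Field F'] [Algebra k F']

/-- For a totally ramified place `Q | P` (`e = [K' : K]`) and a local parameter `s` at `Q` with
minimal polynomial `f` over `K`: the value of `f'(s)` at `Q` is that of the differential of a
local parameter of `P`. -/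
theorem val_aeval_derivative_minpoly' (hd : DiffGen k K)
    {P : Place k K} {Q : Place k K'} {e : ℕ} (he : IsOverWith Q P e)
    {φ : K →ₐ[k] F⸨X⸩} (hφ : LocRes.IsExpansionAt P.1 φ)
    {ψ : K' →ₐ[k] F'⸨X⸩} (hψ : LocRes.IsExpansionAt Q.1 ψ)
    (hn : e = Module.finrank K K') {s : K'} (hs : Q.1 s = exp (-1 : ℤ))
    {t : K} (ht : P.1 t = exp (-1 : ℤ)) :
    Q.1 (Polynomial.aeval s (Polynomial.derivative (minpoly K s))) =
      LocRes.vDiff ψ 1 (algebraMap K K' t) := by
  classical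
  have he0 : 0 < e := by rw [hn]; exact Module.finrank_pos
  set f := minpoly K s with hf
  have hint : IsIntegral K s := Algebra.IsIntegral.isIntegral s
  have hmonic : f.Monic := minpoly.monic hint
  have hroot : Polynomial.aeval s f = 0 := minpoly.aeval K s
  have hle : f.natDegree ≤ e := by rw [hn]; exact minpoly.natDegree_le s
  have hge : e ≤ f.natDegree := by
    by_contra hlt
    push Not at hlt
    have h1 := Polynomial.aeval_eq_sum_range' hlt s
    rw [hroot] at h1
    have h2 := eq_zero_of_sum_terms_eq_zero he hs (fun i => f.coeff i) (by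
      rw [h1]
      apply Finset.sum_congr rfl
      intro i _
      rw [Algebra.smul_def])
    have h3 := h2 f.natDegree hlt
    rw [hmonic.coeff_natDegree] at h3
    exact one_ne_zero h3
  have hdeg : f.natDegree = e := le_antisymm hle hge
  have hce : f.coeff e = 1 := by rw [← hdeg]; exact hmonic.coeff_natDegree
  have hrel : s ^ e + ∑ i ∈ Finset.range e, algebraMap K K' (f.coeff i) * s ^ i = 0 := by
    have h1 : Polynomial.aeval s f = ∑ i ∈ Finset.range (e + 1), f.coeff i • s ^ i :=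
      Polynomial.aeval_eq_sum_range' (by omega) s
    rw [hroot, Finset.sum_range_succ, hce, one_smul] at h1
    rw [add_comm, h1]
    congr 1
    apply Finset.sum_congr rfl
    intro i _
    rw [Algebra.smul_def]
  obtain ⟨hc0, hci⟩ := eisenstein_of_relation he hs he0 (fun i => f.coeff i) hrel
  -- differentiate the relation
  have hder := deriv_aeval (ψ : K' →+* F'⸨X⸩) (LocRes.D F' : F'⸨X⸩ →+ F'⸨X⸩)
    (fun a b => (LocRes.D F').leibniz a b) f (N := e + 1) (by omega) s
  rw [hroot, map_zero, map_zero, Finset.sum_range_succ, hce, map_one, map_one] at hder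
  have hD1 : (LocRes.D F' : F'⸨X⸩ →+ F'⸨X⸩) 1 = 0 := (LocRes.D F').map_one_eq_zero
  rw [hD1, zero_mul, add_zero] at hder
  replace hder : (0 : F'⸨X⸩) = ∑ i ∈ Finset.range e,
      LocRes.D F' (ψ (algebraMap K K' (f.coeff i))) * ψ s ^ i +
        ψ (Polynomial.aeval s (Polynomial.derivative f)) * LocRes.D F' (ψ s) := hder
  -- the differentials of the coefficients
  have hDt := D_exp_uniformizer_ne_zero hφ ht
  have hvt : LocRes.vDiff φ 1 t ≠ 0 := by
    unfold LocRes.vDiff
    rw [map_one, one_mul, ne_eq, map_eq_zero]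
    exact hDt
  have hdt := kaehler_D_ne_zero_of_vDiff_ne_zero φ hvt
  have hex : ∀ i : ℕ, ∃ g : K, KaehlerDifferential.D k K (f.coeff i) =
      g • KaehlerDifferential.D k K t := fun i => hd.exists_D_eq_smul hdt (f.coeff i)
  choose g hg' using hex
  let ψ' : K →ₐ[k] F'⸨X⸩ := ψ.comp (IsScalarTower.toAlgHom k K K')
  have h1 : ∀ i, LocRes.D F' (ψ (algebraMap K K' (f.coeff i))) =
      ψ (algebraMap K K' (g i)) * LocRes.D F' (ψ (algebraMap K K' t)) :=
    fun i => D_exp_eq_mul ψ' (hg' i)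
  have h2 : ∀ i, LocRes.D F (φ (f.coeff i)) = φ (g i) * LocRes.D F (φ t) :=
    fun i => D_exp_eq_mul φ (hg' i)
  have hvDt : Valued.v (LocRes.D F (φ t)) = 1 := val_D_eq_one (by rw [hφ.1, ht])
  have hPg : ∀ i, P.1 (g i) = Valued.v (LocRes.D F (φ (f.coeff i))) := by
    intro i
    rw [h2 i, map_mul, hvDt, mul_one, hφ.1]
  have hg0 : P.1 (g 0) = 1 := by
    rw [hPg]
    exact val_D_eq_one (by rw [hφ.1, hc0])
  have hgi : ∀ i < e, P.1 (g i) ≤ 1 := by
    intro i hi
    rw [hPg]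
    have := val_D_le (φ (f.coeff i)) (m := 1) (by rw [hφ.1]; exact hci i hi)
    simpa using this
  set G : K' := ∑ i ∈ Finset.range e, algebraMap K K' (g i) * s ^ i with hGdef
  have hG : Q.1 G = 1 := by
    have h00 : Q.1 (algebraMap K K' (g 0) * s ^ 0) = 1 := by
      rw [pow_zero, mul_one, he (g 0), hg0, one_pow]
    rw [hGdef, val_sum_eq_of_lt Q.1 (Finset.range e) _ (i₀ := 0) (Finset.mem_range.2 he0), h00]
    intro i hi hne
    rw [h00, val_term he hs]
    calc P.1 (g i) ^ e * exp (-(i : ℤ)) ≤ 1 * exp (-(i : ℤ)) :=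
          mul_le_mul' (pow_le_one' (hgi i (Finset.mem_range.1 hi)) e) le_rfl
      _ < 1 := by
          rw [one_mul, ← exp_zero, exp_lt_exp]
          omega
  have hsum : ∑ i ∈ Finset.range e,
      LocRes.D F' (ψ (algebraMap K K' (f.coeff i))) * ψ s ^ i =
      LocRes.D F' (ψ (algebraMap K K' t)) * ψ G := by
    rw [hGdef, map_sum, Finset.mul_sum]
    apply Finset.sum_congr rfl
    intro i _
    rw [h1 i, map_mul, map_pow]
    ring
  rw [hsum] at hder
  have hfin : ψ (Polynomial.aeval s (Polynomial.derivative f)) *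
      LocRes.D F' (ψ s) = -(LocRes.D F' (ψ (algebraMap K K' t)) * ψ G) := by
    rw [eq_neg_iff_add_eq_zero, add_comm]
    exact hder.symm
  have hv := congrArg (Valued.v : F'⸨X⸩ → ℤᵐ⁰) hfin
  rw [map_mul, Valuation.map_neg, map_mul,
    val_D_eq_one (by rw [hψ.1, hs]), mul_one, hψ.1, hψ.1 G, hG, mul_one] at hv
  rw [hv]
  unfold LocRes.vDiff
  rw [map_one, one_mul]

end Main'

end Groth.Agent.Lib.Helper88.TG
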