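/-
Regular differentials of hyperelliptic function fields `y² = f(x)` in characteristic `≠ 2`,
read through Laurent expansions: local computations.
Author: helper88
-/
import Groth.Agent.Lib.Helper88.ResSepGen
import Groth.Agent.Lib.Helper88.HyperGenus
import Groth.Agent.Lib.Helper44.FunFldASH1

set_option autoImplicit false
set_option linter.unusedSectionVars false
set_option linter.style.haveILetI false

namespace Groth.Agent.Lib.Helper88.Hyp

open FunFld WithZero Polynomial
open Groth.Agent.Lib.Helper88.FF Groth.Agent.Lib.Helper88.TG Groth.Agent.Lib.Helper44.FFExt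
open LaurentSeries

universe u v w

section Laurent

variable {F : Type w} [Field F]

/-- Differentiation preserves power series. -/
lemma val_D_le_one {f : F⸨X⸩} (hf : Valued.v f ≤ (1 : ℤᵐ⁰)) :
    Valued.v (LocRes.D F f) ≤ (1 : ℤᵐ⁰) := by
  have h1 : (1 : ℤᵐ⁰) = exp (-(0 : ℤ)) := by simp
  rw [h1] at hf ⊢
  rw [LaurentSeries.valuation_le_iff_coeff_lt_eq_zero]
  intro n hn
  rw [LocRes.D_coeff]
  rcases lt_or_eq_of_le (Int.lt_add_one_iff.1 (by omega : n + 1 < 0 + 1)) with h | h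
  · rw [LaurentSeries.coeff_zero_of_lt_valuation F hf h, smul_zero]
  · rw [h, zero_smul]

lemma D_mul (a b : F⸨X⸩) :
    LocRes.D F (a * b) = a * LocRes.D F b + b * LocRes.D F a := by
  rw [Derivation.leibniz, smul_eq_mul, smul_eq_mul]

/-- The constant coefficient is multiplicative on power series. -/
lemma coeff_zero_mul {a b : F⸨X⸩} (ha : Valued.v a ≤ (1 : ℤᵐ⁰)) (hb : Valued.v b ≤ (1 : ℤᵐ⁰)) :
    (a * b).coeff 0 = a.coeff 0 * b.coeff 0 := by
  obtain ⟨ga, rfl⟩ := (LaurentSeries.val_le_one_iff_eq_coe F a).1 ha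
  obtain ⟨gb, rfl⟩ := (LaurentSeries.val_le_one_iff_eq_coe F b).1 hb
  rw [← PowerSeries.coe_mul, PowerSeries.coeff_coe, PowerSeries.coeff_coe, PowerSeries.coeff_coe]
  simp only [lt_self_iff_false, if_false, Int.natAbs_zero]
  rw [PowerSeries.coeff_zero_eq_constantCoeff_apply, PowerSeries.coeff_zero_eq_constantCoeff_apply,
    PowerSeries.coeff_zero_eq_constantCoeff_apply, map_mul]

lemma coeff_zero_pow {a : F⸨X⸩} (ha : Valued.v a ≤ (1 : ℤᵐ⁰)) (n : ℕ) :
    (a ^ n).coeff 0 = a.coeff 0 ^ n := by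
  induction n with
  | zero => simp
  | succ n ih =>
    rw [pow_succ, coeff_zero_mul (by rw [map_pow]; exact pow_le_one' ha n) ha, ih, pow_succ]

/-- A power series of valuation `< 1` has zero constant coefficient, and conversely. -/
lemma val_lt_one_iff_coeff_zero {f : F⸨X⸩} (hf : Valued.v f ≤ (1 : ℤᵐ⁰)) :
    Valued.v f < (1 : ℤᵐ⁰) ↔ f.coeff 0 = 0 := by
  constructor
  · intro h
    have h1 : Valued.v f ≤ exp (-(1 : ℤ)) := lt_one_iff_le_exp_neg_one.1 h
    exact LaurentSeries.coeff_zero_of_lt_valuation F h1 (by norm_num)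
  · intro h
    exact lt_one_iff_le_exp_neg_one.2 (val_le_exp_neg_one_of_coeff_zero hf h)

end Laurent

section Residue

variable {k : Type u} {K : Type v} [Field k] [Field K] [Algebra k K]
variable {F : Type w} [Field F] [Algebra k F]
variable {P : Place k K} {ψ : K →ₐ[k] F⸨X⸩}

lemma coeff_zero_algebraMap (ψ : K →ₐ[k] F⸨X⸩) (c : k) :
    (ψ (algebraMap k K c)).coeff 0 = algebraMap k F c := by
  rw [LocRes.map_algebraMap, HahnSeries.C_apply, HahnSeries.coeff_single_same]

/-- The constant coefficient of the expansion of `p(x)`, for `x` integral. -/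
lemma coeff_zero_aeval (hψ : LocRes.IsExpansionAt P.1 ψ) {x : K} (hx : P.1 x ≤ 1) (p : k[X]) :
    (ψ (aeval x p)).coeff 0 = aeval ((ψ x).coeff 0) p := by
  have hvx : Valued.v (ψ x) ≤ (1 : ℤᵐ⁰) := by rw [hψ.1]; exact hx
  induction p using Polynomial.induction_on' with
  | add p q hp hq => rw [map_add, map_add, map_add, HahnSeries.coeff_add, hp, hq]
  | monomial n c =>
    rw [aeval_monomial, aeval_monomial, map_mul, map_pow,
      coeff_zero_mul (by rw [hψ.1]; exact P.2.1 c) (by rw [map_pow]; exact pow_le_one' hvx n),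
      coeff_zero_algebraMap, coeff_zero_pow hvx]

variable [FiniteDimensional k F]

/-- **Local separability**: at a place with an expansion, if a squarefree polynomial `f` vanishes
at `x` then `f'` does not. -/
theorem val_aeval_derivative_eq_one (hd : DiffGen k K) (hψ : LocRes.IsExpansionAt P.1 ψ)
    {x : K} (hx : P.1 x ≤ 1) {f : k[X]} (hf : Squarefree f) (hfx : P.1 (aeval x f) < 1) :
    P.1 (aeval x (derivative f)) = 1 := by
  haveI : Algebra.IsSeparable k F := isSeparable_of_expansion' hd hψ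
  set ξ₀ : F := (ψ x).coeff 0 with hξ₀
  have hle : ∀ p : k[X], Valued.v (ψ (aeval x p)) ≤ (1 : ℤᵐ⁰) := by
    intro p
    rw [hψ.1]
    exact val_aeval_le_one P hx p
  have hroot : aeval ξ₀ f = 0 := by
    rw [← coeff_zero_aeval hψ hx]
    exact (val_lt_one_iff_coeff_zero (hle f)).1 (by rw [hψ.1]; exact hfx)
  have hint : IsIntegral k ξ₀ := Algebra.IsIntegral.isIntegral ξ₀
  obtain ⟨q, hq⟩ := minpoly.dvd k ξ₀ hroot
  have hq0 : aeval ξ₀ q ≠ 0 := by
    intro h0
    obtain ⟨r, hr⟩ := minpoly.dvd k ξ₀ h0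
    have : minpoly k ξ₀ * minpoly k ξ₀ ∣ f := ⟨r, by rw [hq, hr]; ring⟩
    exact minpoly.not_isUnit k ξ₀ (hf _ this)
  have hsep : (minpoly k ξ₀).Separable := Algebra.IsSeparable.isSeparable k ξ₀
  have hp' : aeval ξ₀ (derivative (minpoly k ξ₀)) ≠ 0 :=
    hsep.aeval_derivative_ne_zero (minpoly.aeval k ξ₀)
  have hder : aeval ξ₀ (derivative f) ≠ 0 := by
    rw [hq, derivative_mul, map_add, map_mul, map_mul, minpoly.aeval, zero_mul, add_zero]
    exact mul_ne_zero hp' hq0
  rw [← coeff_zero_aeval hψ hx] at hder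
  have h1 := hle (derivative f)
  have h2 : ¬ Valued.v (ψ (aeval x (derivative f))) < (1 : ℤᵐ⁰) := fun h =>
    hder ((val_lt_one_iff_coeff_zero h1).1 h)
  rw [hψ.1] at h1 h2
  exact le_antisymm h1 (not_lt.1 h2)

end Residue

section LocalReg

variable {k : Type u} {K : Type v} [Field k] [Field K] [Algebra k K]
variable {F : Type w} [Field F] [Algebra k F]
variable {P : Place k K} {ψ : K →ₐ[k] F⸨X⸩}

lemma val_two_le_one (P : Place k K) : P.1 (2 : K) ≤ 1 := by
  have : (2 : K) = algebraMap k K 2 := (map_ofNat _ 2).symm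
  rw [this]
  exact P.2.1 2

lemma D_exp_sq (ψ : K →ₐ[k] F⸨X⸩) (y : K) :
    LocRes.D F (ψ (y ^ 2)) = ψ (2 * y) * LocRes.D F (ψ y) := by
  rw [pow_two, map_mul, D_mul, map_mul, map_ofNat]
  ring

lemma D_exp_aeval (ψ : K →ₐ[k] F⸨X⸩) (x : K) (f : k[X]) :
    LocRes.D F (ψ (aeval x f)) = ψ (aeval x (derivative f)) * LocRes.D F (ψ x) :=
  D_exp_eq_mul ψ ((KaehlerDifferential.D k K).map_aeval f x)

lemma D_exp_inv (ψ : K →ₐ[k] F⸨X⸩) (u : K) :
    LocRes.D F (ψ u⁻¹) = ψ (-u⁻¹ ^ 2) * LocRes.D F (ψ u) :=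
  D_exp_eq_mul ψ ((KaehlerDifferential.D k K).leibniz_inv u)

lemma val_D_exp_le_one (hψ : LocRes.IsExpansionAt P.1 ψ) {z : K} (hz : P.1 z ≤ 1) :
    Valued.v (LocRes.D F (ψ z)) ≤ (1 : ℤᵐ⁰) :=
  val_D_le_one (by rw [hψ.1]; exact hz)

/-- From `y² = c'`-type relations: if `2 y dy = c' dx` with `c'` a unit and `y` integral then
`v(dx) ≤ v(y)`. -/
lemma val_D_le_of_sq (hψ : LocRes.IsExpansionAt P.1 ψ) {x y c' : K} (hy : P.1 y ≤ 1)
    (hc' : P.1 c' = 1)
    (hrel : ψ (2 * y) * LocRes.D F (ψ y) = ψ c' * LocRes.D F (ψ x)) :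
    Valued.v (LocRes.D F (ψ x)) ≤ P.1 y := by
  have h1 : Valued.v (ψ (2 * y)) * Valued.v (LocRes.D F (ψ y)) =
      Valued.v (ψ c') * Valued.v (LocRes.D F (ψ x)) := by
    rw [← Valuation.map_mul, ← Valuation.map_mul, hrel]
  rw [hψ.1, hψ.1, hc', one_mul, Valuation.map_mul] at h1
  rw [← h1]
  calc P.1 2 * P.1 y * Valued.v (LocRes.D F (ψ y)) ≤ 1 * P.1 y * 1 :=
        mul_le_mul' (mul_le_mul' (val_two_le_one P) le_rfl) (val_D_exp_le_one hψ hy)
    _ = P.1 y := by rw [one_mul, mul_one]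

variable [FiniteDimensional k F]

/-- Regularity of `x^i dx / y` at the finite places. -/
theorem vDiff_le_one_finite (hd : DiffGen k K) (hψ : LocRes.IsExpansionAt P.1 ψ)
    {x y : K} {f : k[X]} (hf : Squarefree f) (heq : y ^ 2 = aeval x f) (hx : P.1 x ≤ 1) (i : ℕ) :
    LocRes.vDiff ψ (x ^ i / y) x ≤ 1 := by
  rw [vDiff_eq_mul hψ]
  have hf0 : f ≠ 0 := hf.ne_zero
  have hy1 : P.1 y ≤ 1 := by
    have : P.1 y ^ 2 ≤ 1 := by
      rw [← map_pow, heq]
      exact val_aeval_le_one P hx f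
    exact sq_le_sq_imp (by simpa using this)
  have hD : LocRes.vDiff ψ 1 x = Valued.v (LocRes.D F (ψ x)) := by
    unfold LocRes.vDiff
    rw [map_one, one_mul]
  rw [hD, map_div₀, map_pow]
  rcases eq_or_ne y 0 with rfl | hy0
  · simp
  have hy0' : P.1 y ≠ 0 := (_root_.map_ne_zero _).2 hy0
  have hxi : P.1 x ^ i ≤ 1 := pow_le_one' hx i
  have key : Valued.v (LocRes.D F (ψ x)) ≤ P.1 y := by
    rcases hy1.lt_or_eq with hlt | heq1
    · have hfx : P.1 (aeval x f) < 1 := by
        rw [← heq, map_pow]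
        exact pow_lt_one' hlt (by norm_num)
      have hc' := val_aeval_derivative_eq_one hd hψ hx hf hfx
      refine val_D_le_of_sq hψ hy1 hc' ?_
      rw [← D_exp_sq, heq, D_exp_aeval]
    · rw [heq1]
      exact val_D_exp_le_one hψ hx
  calc P.1 x ^ i / P.1 y * Valued.v (LocRes.D F (ψ x))
      = P.1 x ^ i * ((P.1 y)⁻¹ * Valued.v (LocRes.D F (ψ x))) := by
        rw [div_eq_mul_inv, mul_assoc]
    _ ≤ 1 * ((P.1 y)⁻¹ * P.1 y) := mul_le_mul' hxi (mul_le_mul' le_rfl key)
    _ = 1 := by rw [inv_mul_cancel₀ hy0', mul_one]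

omit [FiniteDimensional k F] in
/-- If `y'² = u c` with `c` a unit and `y'` integral then `v(du) ≤ v(y')`. -/
lemma val_D_le_of_sq_eq_mul (hψ : LocRes.IsExpansionAt P.1 ψ) {u y' c : K} (hy' : P.1 y' ≤ 1)
    (hc : P.1 c = 1) (hrel : y' ^ 2 = u * c) :
    Valued.v (LocRes.D F (ψ u)) ≤ P.1 y' := by
  have hu : P.1 u = P.1 y' ^ 2 := by
    rw [← map_pow, hrel, map_mul, hc, mul_one]
  have h1 : LocRes.D F (ψ (y' ^ 2)) = LocRes.D F (ψ (u * c)) := by rw [hrel]
  rw [D_exp_sq, map_mul ψ u c, D_mul] at h1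
  have h2 : ψ c * LocRes.D F (ψ u) =
      ψ (2 * y') * LocRes.D F (ψ y') - ψ u * LocRes.D F (ψ c) := by
    rw [h1]; ring
  have h3 : Valued.v (LocRes.D F (ψ u)) = Valued.v (ψ c * LocRes.D F (ψ u)) := by
    rw [Valuation.map_mul, hψ.1, hc, one_mul]
  rw [h3, h2]
  refine (Valuation.map_sub _ _ _).trans (max_le ?_ ?_)
  · rw [Valuation.map_mul, hψ.1, Valuation.map_mul]
    calc P.1 2 * P.1 y' * Valued.v (LocRes.D F (ψ y')) ≤ 1 * P.1 y' * 1 :=
          mul_le_mul' (mul_le_mul' (val_two_le_one P) le_rfl) (val_D_exp_le_one hψ hy')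
      _ = P.1 y' := by rw [one_mul, mul_one]
  · rw [Valuation.map_mul, hψ.1, hu, pow_two]
    calc P.1 y' * P.1 y' * Valued.v (LocRes.D F (ψ c)) ≤ P.1 y' * 1 * 1 :=
          mul_le_mul' (mul_le_mul' le_rfl hy') (val_D_exp_le_one hψ hc.le)
      _ = P.1 y' := by rw [mul_one, mul_one]

omit [FiniteDimensional k F] in
/-- Regularity of `x^i dx / y` at the places over infinity, for `i + 2 ≤ ⌈deg f / 2⌉`. -/
theorem vDiff_le_one_infinite (hψ : LocRes.IsExpansionAt P.1 ψ)
    {x y : K} {f : k[X]} (hf0 : f ≠ 0) (heq : y ^ 2 = aeval x f) (hx : 1 < P.1 x) {i : ℕ}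
    (hi : i + 2 ≤ (f.natDegree + 1) / 2) :
    LocRes.vDiff ψ (x ^ i / y) x ≤ 1 := by
  have := isTrivialOn_place P
  set d := f.natDegree with hd
  set m := (d + 1) / 2 with hm
  have hx0 : x ≠ 0 := by
    rintro rfl
    rw [map_zero] at hx
    exact absurd hx (by simp)
  have ha0 : P.1 x ≠ 0 := (_root_.map_ne_zero _).2 hx0
  set u : K := x⁻¹ with hu
  have hPu : P.1 u = (P.1 x)⁻¹ := map_inv₀ _ _
  have hPu1 : P.1 u ≤ 1 := by
    rw [hPu]
    exact inv_le_one_of_one_le₀ hx.le
  have hfx : P.1 (aeval x f) = P.1 x ^ d :=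
    Polynomial.valuation_aeval_eq_valuation_X_pow_natDegree_of_one_lt_valuation_X x hx hf0
  have hy0 : y ≠ 0 := by
    rintro rfl
    rw [zero_pow (by norm_num)] at heq
    rw [← heq, map_zero] at hfx
    exact pow_ne_zero d ha0 hfx.symm
  have hb0 : P.1 y ≠ 0 := (_root_.map_ne_zero _).2 hy0
  set y' : K := y * u ^ m with hy'
  set c : K := aeval x f * u ^ d with hc
  have hPc : P.1 c = 1 := by
    rw [hc, map_mul, hfx, map_pow, hPu, inv_pow, mul_inv_cancel₀ (pow_ne_zero d ha0)]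
  -- the key inequality
  have key : Valued.v (LocRes.D F (ψ u)) ≤ P.1 y' := by
    have hrel : y' ^ 2 = u ^ (2 * m - d) * c := by
      have h2m : 2 * m = (2 * m - d) + d := by omega
      rw [hy', hc, mul_pow, heq, ← pow_mul, mul_comm m 2]
      conv_lhs => rw [h2m, pow_add]
      ring
    have hy'1 : P.1 y' ≤ 1 := by
      have : P.1 y' ^ 2 ≤ 1 := by
        rw [← map_pow, hrel, map_mul, hPc, mul_one, map_pow]
        exact pow_le_one' hPu1 _
      exact sq_le_sq_imp (by simpa using this)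
    rcases Nat.even_or_odd d with hev | hodd
    · obtain ⟨r, hr⟩ := hev
      have h0 : 2 * m - d = 0 := by omega
      rw [h0, pow_zero, one_mul] at hrel
      have h1 : P.1 y' = 1 := by
        have h3 : P.1 y' ^ 2 = 1 := by rw [← map_pow, hrel, hPc]
        refine le_antisymm hy'1 (not_lt.1 fun hlt => ?_)
        have := pow_lt_one' hlt (show (2 : ℕ) ≠ 0 by norm_num)
        rw [h3] at this
        exact lt_irrefl _ this
      rw [h1]
      exact val_D_exp_le_one hψ hPu1
    · obtain ⟨r, hr⟩ := hodd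
      have h1 : 2 * m - d = 1 := by omega
      rw [h1, pow_one] at hrel
      exact val_D_le_of_sq_eq_mul hψ hy'1 hPc hrel
  rw [vDiff_eq_mul hψ]
  have hD : LocRes.vDiff ψ 1 x = P.1 x ^ 2 * Valued.v (LocRes.D F (ψ u)) := by
    unfold LocRes.vDiff
    rw [map_one, one_mul]
    have hxu : x = u⁻¹ := by rw [hu, inv_inv]
    conv_lhs => rw [hxu, D_exp_inv]
    rw [Valuation.map_mul, hψ.1, Valuation.map_neg, map_pow, ← hxu]
  rw [hD, map_div₀, map_pow]
  obtain ⟨j, hj⟩ : ∃ j, m = (i + 2) + j := ⟨m - (i + 2), by omega⟩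
  have hPy' : P.1 y' = P.1 y * ((P.1 x)⁻¹) ^ m := by
    rw [hy', map_mul, map_pow, hPu]
  calc P.1 x ^ i / P.1 y * (P.1 x ^ 2 * Valued.v (LocRes.D F (ψ u)))
      ≤ P.1 x ^ i / P.1 y * (P.1 x ^ 2 * P.1 y') :=
        mul_le_mul' le_rfl (mul_le_mul' le_rfl key)
    _ = (P.1 x ^ (i + 2) * ((P.1 x)⁻¹) ^ (i + 2)) * ((P.1 y)⁻¹ * P.1 y) * ((P.1 x)⁻¹) ^ j := by
        rw [hPy', hj, pow_add ((P.1 x)⁻¹), pow_add (P.1 x) i 2, div_eq_mul_inv]
        simp only [mul_comm, mul_left_comm, mul_assoc]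
    _ = ((P.1 x)⁻¹) ^ j := by
        rw [inv_pow, mul_inv_cancel₀ (pow_ne_zero _ ha0), inv_mul_cancel₀ hb0, one_mul, one_mul]
    _ ≤ 1 := pow_le_one' (by rw [← hPu]; exact hPu1) j

end LocalReg

section Global

variable {k : Type u} {K : Type v} [Field k] [Field K] [Algebra k K] [Algebra (RatFunc k) K]
  [IsScalarTower k (RatFunc k) K]

lemma algebraMap_poly_eq_aeval (p : k[X]) :
    algebraMap (RatFunc k) K (algebraMap k[X] (RatFunc k) p) =
      aeval (algebraMap (RatFunc k) K RatFunc.X) p := by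
  rw [← RatFunc.aeval_X_left_eq_algebraMap, Polynomial.aeval_algebraMap_apply]

/-- A quadratic extension `y² = F` in characteristic `≠ 2` is separable. -/
lemma isSeparable_quad (hdeg : Module.finrank (RatFunc k) K = 2) (h2 : ringChar k ≠ 2)
    {y : K} {F : RatFunc k} (hF : F ≠ 0) (heq : y ^ 2 = algebraMap (RatFunc k) K F)
    (hy : y ∉ Set.range (algebraMap (RatFunc k) K)) : Algebra.IsSeparable (RatFunc k) K := by
  have hspan := exists_add_mul_eq hdeg hy
  have h2R : ((2 : ℕ) : RatFunc k) ≠ 0 := by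
    have h2k : (2 : k) ≠ 0 := Ring.two_ne_zero h2
    have : ((2 : ℕ) : RatFunc k) = algebraMap k (RatFunc k) 2 := by
      rw [map_ofNat]; norm_num
    rw [this]
    exact (_root_.map_ne_zero _).2 h2k
  have hsepP : (X ^ 2 - C F : (RatFunc k)[X]).Separable := separable_X_pow_sub_C F h2R hF
  have hroot : aeval y (X ^ 2 - C F : (RatFunc k)[X]) = 0 := by
    rw [map_sub, map_pow, aeval_X, aeval_C, heq, sub_self]
  have hysep : IsSeparable (RatFunc k) y := hsepP.of_dvd (minpoly.dvd _ _ hroot)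
  refine ⟨fun w => ?_⟩
  obtain ⟨a, b, rfl⟩ := hspan w
  exact Field.isSeparable_add (isSeparable_algebraMap a)
    (Field.isSeparable_mul (isSeparable_algebraMap b) hysep)

/-- Separability over `k(X)` transfers to the intermediate field `k(x)`. -/
lemma isSeparable_adjoin_X [Algebra.IsSeparable (RatFunc k) K] :
    Algebra.IsSeparable
      (IntermediateField.adjoin k ({algebraMap (RatFunc k) K RatFunc.X} : Set K)) K := by
  have hinj : Function.Injective (algebraMap (RatFunc k) K) := (algebraMap (RatFunc k) K).injective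
  have hmap : (⊤ : IntermediateField k (RatFunc k)).map (IsScalarTower.toAlgHom k (RatFunc k) K) =
      IntermediateField.adjoin k ({algebraMap (RatFunc k) K RatFunc.X} : Set K) := by
    rw [← RatFunc.adjoin_X, IntermediateField.adjoin_map, Set.image_singleton,
      IsScalarTower.toAlgHom_apply]
  have hmem : ∀ r : RatFunc k, algebraMap (RatFunc k) K r ∈
      IntermediateField.adjoin k ({algebraMap (RatFunc k) K RatFunc.X} : Set K) := by
    intro r
    rw [← hmap]
    exact ⟨r, trivial, rfl⟩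
  let e₀ : RatFunc k →+*
      IntermediateField.adjoin k ({algebraMap (RatFunc k) K RatFunc.X} : Set K) :=
    (algebraMap (RatFunc k) K).codRestrict _ hmem
  have hbij : Function.Bijective e₀ := by
    constructor
    · intro a b hab
      exact hinj (congrArg Subtype.val hab)
    · rintro ⟨b, hb⟩
      rw [← hmap] at hb
      obtain ⟨a, -, rfl⟩ := hb
      exact ⟨a, rfl⟩
  let e₁ : RatFunc k ≃+*
      IntermediateField.adjoin k ({algebraMap (RatFunc k) K RatFunc.X} : Set K) :=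
    RingEquiv.ofBijective e₀ hbij
  exact Algebra.IsSeparable.of_equiv_equiv e₁ (RingEquiv.refl K) (by ext r; rfl)

variable {F : Place k K → Type w} [∀ P, Field (F P)] [∀ P, Algebra k (F P)]
  [∀ P, FiniteDimensional k (F P)]
variable {φ : ∀ P : Place k K, K →ₐ[k] (F P)⸨X⸩}

/-- **Regular differentials of a hyperelliptic function field** `y² = f(x)`, char `≠ 2`:
`x^i dx / y`, `i < g`, are regular and every regular `z dx` has `z = a(x)/y`, `deg a < g`. -/
theorem regular_differentials (hK : IsFunctionField k K)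
    (hdeg : Module.finrank (RatFunc k) K = 2) (h2 : ringChar k ≠ 2)
    {y : K} {f : k[X]} (hf : Squarefree f) (hd : 1 ≤ f.natDegree)
    (heq : y ^ 2 = algebraMap (RatFunc k) K (algebraMap k[X] (RatFunc k) f))
    (hφ : ∀ P, LocRes.IsExpansionAt P.1 (φ P)) :
    (∀ i : ℕ, i < genus k K → ∀ P,
      LocRes.vDiff (φ P) (algebraMap (RatFunc k) K RatFunc.X ^ i / y)
        (algebraMap (RatFunc k) K RatFunc.X) ≤ 1) ∧
    ∀ z : K, (∀ P, LocRes.vDiff (φ P) z (algebraMap (RatFunc k) K RatFunc.X) ≤ 1) →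
      ∃ a : k[X], a.degree < (genus k K : WithBot ℕ) ∧
        z = algebraMap (RatFunc k) K (algebraMap k[X] (RatFunc k) a) / y := by
  classical
  haveI : FiniteDimensional (RatFunc k) K :=
    Module.finite_of_finrank_pos (by rw [hdeg]; norm_num)
  set x : K := algebraMap (RatFunc k) K RatFunc.X with hx
  have hf0 : f ≠ 0 := hf.ne_zero
  have hF0 : algebraMap k[X] (RatFunc k) f ≠ 0 := by simpa using hf0
  have hy : y ∉ Set.range (algebraMap (RatFunc k) K) := by
    rintro ⟨r, rfl⟩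
    rw [← map_pow] at heq
    exact not_sq_of_squarefree hf hd r ((algebraMap (RatFunc k) K).injective heq)
  have hy0 : y ≠ 0 := by
    rintro rfl
    exact hy ⟨0, map_zero _⟩
  have heq' : y ^ 2 = aeval x f := by rw [heq, algebraMap_poly_eq_aeval]
  haveI : Algebra.IsSeparable (RatFunc k) K := isSeparable_quad hdeg h2 hF0 heq hy
  haveI : Algebra.IsSeparable (IntermediateField.adjoin k ({x} : Set K)) K := isSeparable_adjoin_X
  have hdg : DiffGen k K := diffGen_of_separable x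
  have hg : genus k K = (f.natDegree - 1) / 2 := genus_eq hK hdeg h2 hf hd heq
  have htr : Transcendental k x := transcendental_algebraMap_X
  -- `dx ≠ 0`
  have hv : KaehlerDifferential.D k K x ≠ 0 := by
    obtain ⟨P₀⟩ := exists_place hK
    obtain ⟨t, ht⟩ := (hφ P₀).2.2
    have hDt := D_exp_uniformizer_ne_zero (hφ P₀) ht
    have hvt : LocRes.vDiff (φ P₀) 1 t ≠ 0 := by
      unfold LocRes.vDiff
      rw [map_one, one_mul, ne_eq, map_eq_zero]
      exact hDt
    have hdt := kaehler_D_ne_zero_of_vDiff_ne_zero (φ P₀) hvt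
    obtain ⟨c, hc⟩ := kaehler_eq_smul_of_separable x (KaehlerDifferential.D k K t)
    intro h0
    rw [h0, smul_zero] at hc
    exact hdt hc
  -- first part
  have part1 : ∀ i : ℕ, i < genus k K → ∀ P, LocRes.vDiff (φ P) (x ^ i / y) x ≤ 1 := by
    intro i hi P
    rcases le_or_gt (P.1 x) 1 with hle | hgt
    · exact vDiff_le_one_finite hdg (hφ P) hf heq' hle i
    · refine vDiff_le_one_infinite (hφ P) hf0 heq' hgt ?_
      rw [hg] at hi
      omega
  refine ⟨part1, ?_⟩
  -- second part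
  obtain ⟨Cd, -, hCcan, hCv⟩ := exists_canonical_ordDiff' hK hφ hdg hv
  have hLC : ∀ z : K, z ∈ L Cd ↔ ∀ P, LocRes.vDiff (φ P) z x ≤ 1 := by
    intro z
    have h0 : z ∈ L Cd ↔ ∀ P : Place k K, P.1 z ≤ exp (Cd P) := Iff.rfl
    rw [h0]
    refine forall_congr' fun P => ?_
    rw [hCv z P]
    constructor
    · intro h
      calc P.1 z * exp (-(Cd P)) ≤ exp (Cd P) * exp (-(Cd P)) := mul_le_mul' h le_rfl
        _ = 1 := by rw [← exp_add, add_neg_cancel, exp_zero]
    · intro h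
      calc P.1 z = P.1 z * exp (-(Cd P)) * exp (Cd P) := by
            rw [mul_assoc, ← exp_add, neg_add_cancel, exp_zero, mul_one]
        _ ≤ 1 * exp (Cd P) := mul_le_mul' h le_rfl
        _ = exp (Cd P) := one_mul _
  have hell : ell Cd = genus k K := ((isCanonical_iff hK Cd).1 hCcan).1
  set g := genus k K with hgdef
  let V := degreeLT k g
  let Θ₀ : V →ₗ[k] K := (LinearMap.mulRight k y⁻¹).comp ((aeval x).toLinearMap.comp V.subtype)
  have hΘ₀ : ∀ a : V, Θ₀ a = aeval x a.1 / y := fun a => by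
    simp [Θ₀, div_eq_mul_inv]
  have hΘL : ∀ a : V, Θ₀ a ∈ L Cd := by
    intro a
    rw [hΘ₀]
    have ha := a.2
    rw [mem_degreeLT] at ha
    have hn : a.1.natDegree < g ∨ a.1 = 0 := by
      by_cases h0 : a.1 = 0
      · exact Or.inr h0
      · exact Or.inl ((natDegree_lt_iff_degree_lt h0).2 ha)
    rcases hn with hn | hn
    · rw [aeval_eq_sum_range' hn, div_eq_mul_inv, Finset.sum_mul]
      refine Submodule.sum_mem _ fun i hi => ?_
      rw [smul_mul_assoc, ← div_eq_mul_inv]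
      refine Submodule.smul_mem _ _ ?_
      rw [hLC]
      exact part1 i (Finset.mem_range.1 hi)
    · rw [hn, map_zero, zero_div]
      exact Submodule.zero_mem _
  let Θ : V →ₗ[k] L Cd := Θ₀.codRestrict _ hΘL
  have hinj : Function.Injective Θ := by
    rw [← LinearMap.ker_eq_bot, LinearMap.ker_eq_bot']
    intro a ha
    have h0 : Θ₀ a = 0 := congrArg Subtype.val ha
    rw [hΘ₀, div_eq_zero_iff] at h0
    rcases h0 with h0 | h0
    · exact Subtype.ext ((transcendental_iff.1 htr) a.1 h0)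
    · exact absurd h0 hy0
  have hV : Module.finrank k V = g := by
    rw [(degreeLTEquiv k g).finrank_eq, Module.finrank_fin_fun]
  haveI : Module.Finite k V := Module.Finite.equiv (degreeLTEquiv k g).symm
  haveI : FiniteDimensional k (L Cd) := finiteDimensional_L hK Cd
  have hsurj : Function.Surjective Θ :=
    (LinearMap.injective_iff_surjective_of_finrank_eq_finrank (by rw [hV]; exact hell.symm)).1 hinj
  intro z hz
  obtain ⟨a, ha⟩ := hsurj ⟨z, (hLC z).2 hz⟩
  refine ⟨a.1, mem_degreeLT.1 a.2, ?_⟩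
  have h1 : Θ₀ a = z := congrArg Subtype.val ha
  rw [← h1, hΘ₀, algebraMap_poly_eq_aeval]

end Global

end Groth.Agent.Lib.Helper88.Hyp
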