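/-
Numeric bookkeeping for weights of limit linear series along chains of curves.
Author: helper88
-/
import Mathlib.Algebra.BigOperators.Fin
import Mathlib.Algebra.Order.BigOperators.Group.Finset
import Mathlib.Data.Fintype.Card
import Mathlib.Tactic

set_option autoImplicit false

namespace Groth.Agent.Lib.Helper88.Chain

/-- Lower bound along a chain attached at `B 0`. -/
lemma tail_lower (n : ℕ) (α β : Fin (n + 1) → ℕ) (M c t : ℕ)
    (hcompat : ∀ l : Fin n, β l.castSucc + α l.succ = M)
    (hpair : ∀ l : Fin (n + 1), 0 < (l : ℕ) → (l : ℕ) < n → α l + β l ≤ M)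
    (hc : β 0 + c + 2 * t ≤ M + t) :
    ∀ l : Fin (n + 1), 0 < (l : ℕ) → c + t ≤ α l := by
  intro l
  induction l using Fin.induction with
  | zero => intro h; exact absurd h (lt_irrefl _)
  | succ i ih =>
    intro _
    have h1 := hcompat i
    by_cases hi : (i : ℕ) = 0
    · have h0 : i.castSucc = 0 := Fin.ext (by simp [hi])
      rw [h0] at h1
      omega
    · have h2 := ih (by rw [Fin.val_castSucc]; omega)
      have h3 := hpair i.castSucc (by rw [Fin.val_castSucc]; omega)
        (by rw [Fin.val_castSucc]; exact i.2)
      omega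

/-- The vanishing dimension at the upper node is at most one along a chain ending in a curve of
positive genus. -/
lemma tail_cusp (n : ℕ) (γ κ : Fin (n + 1) → ℕ) (r : ℕ)
    (hcompat : ∀ l : Fin n, κ l.castSucc + γ l.succ = r + 1)
    (hpair : ∀ l : Fin (n + 1), 0 < (l : ℕ) → (l : ℕ) < n → γ l + κ l ≤ r + 1)
    (hlast : γ (Fin.last n) ≤ 1) :
    ∀ l : Fin (n + 1), 0 < (l : ℕ) → γ l ≤ 1 := by
  intro l
  induction l using Fin.reverseInduction with
  | last => intro _; exact hlast
  | cast i ih =>
    intro hi
    rw [Fin.val_castSucc] at hi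
    have h1 := hcompat i
    have h2 := ih (by rw [Fin.val_succ]; omega)
    have h3 := hpair i.castSucc (by rw [Fin.val_castSucc]; omega)
      (by rw [Fin.val_castSucc]; exact i.2)
    omega

lemma filter_lt_succ {N : ℕ} (i : Fin N) :
    (Finset.univ.filter (fun j : Fin (N + 1) => j < i.succ)) =
      insert i.castSucc (Finset.univ.filter (fun j : Fin (N + 1) => j < i.castSucc)) := by
  ext j
  simp only [Finset.mem_filter, Finset.mem_univ, true_and, Finset.mem_insert, Fin.lt_def,
    Fin.ext_iff, Fin.val_succ, Fin.val_castSucc]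
  omega

lemma filter_castSucc_lt {N : ℕ} (i : Fin N) :
    (Finset.univ.filter (fun j : Fin (N + 1) => i.castSucc < j)) =
      insert i.succ (Finset.univ.filter (fun j : Fin (N + 1) => i.succ < j)) := by
  ext j
  simp only [Finset.mem_filter, Finset.mem_univ, true_and, Finset.mem_insert, Fin.lt_def,
    Fin.ext_iff, Fin.val_succ, Fin.val_castSucc]
  omega

/-- Weights at the nodes of a backbone accumulate the contributions `τ` of the other components. -/
lemma backbone_lower (N : ℕ) (α β τ : Fin (N + 1) → ℕ) (M t : ℕ)
    (hcompat : ∀ l : Fin N, β l.castSucc + α l.succ = M)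
    (hinner : ∀ l : Fin (N + 1), 0 < (l : ℕ) → (l : ℕ) < N → α l + β l + τ l ≤ M)
    (h0 : 0 < N → β 0 + τ 0 + t ≤ M)
    (hN : 0 < N → α (Fin.last N) + τ (Fin.last N) + t ≤ M) :
    (∀ l : Fin (N + 1), 0 < (l : ℕ) →
      t + ∑ j ∈ Finset.univ.filter (fun j : Fin (N + 1) => j < l), τ j ≤ α l) ∧
    (∀ l : Fin (N + 1), (l : ℕ) < N →
      t + ∑ j ∈ Finset.univ.filter (fun j : Fin (N + 1) => l < j), τ j ≤ β l) := by
  constructor
  · intro l
    induction l using Fin.induction with
    | zero => intro h; exact absurd h (lt_irrefl _)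
    | succ i ih =>
      intro _
      have hNpos : 0 < N := by have := i.2; omega
      have h1 := hcompat i
      rw [filter_lt_succ, Finset.sum_insert (by simp)]
      by_cases hi : (i : ℕ) = 0
      · have hz : i.castSucc = 0 := Fin.ext (by simp [hi])
        have hempty : (Finset.univ.filter (fun j : Fin (N + 1) => j < i.castSucc)) = ∅ := by
          rw [hz]
          ext j
          simp
        rw [hempty, Finset.sum_empty]
        rw [hz] at h1 ⊢
        have := h0 hNpos
        omega
      · have h2 := ih (by rw [Fin.val_castSucc]; omega)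
        have h3 := hinner i.castSucc (by rw [Fin.val_castSucc]; omega)
          (by rw [Fin.val_castSucc]; exact i.2)
        omega
  · intro l
    induction l using Fin.reverseInduction with
    | last => intro h; rw [Fin.val_last] at h; exact absurd h (lt_irrefl _)
    | cast i ih =>
      intro _
      have hNpos : 0 < N := by have := i.2; omega
      have h1 := hcompat i
      rw [filter_castSucc_lt, Finset.sum_insert (by simp)]
      by_cases hi : (i : ℕ) + 1 = N
      · have hz : i.succ = Fin.last N := Fin.ext (by simp [hi])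
        have hempty : (Finset.univ.filter (fun j : Fin (N + 1) => i.succ < j)) = ∅ := by
          rw [hz]
          ext j
          simp only [Finset.mem_filter, Finset.mem_univ, true_and, Finset.notMem_empty,
            iff_false, not_lt]
          exact Fin.le_last j
        rw [hempty, Finset.sum_empty]
        rw [hz] at h1 ⊢
        have := hN hNpos
        omega
      · have h2 := ih (by rw [Fin.val_succ]; have := i.2; omega)
        have h3 := hinner i.succ (by rw [Fin.val_succ]; omega)
          (by rw [Fin.val_succ]; have := i.2; omega)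
        omega

/-- Sums of an indicator weight. -/
lemma sum_filter_ite {ι : Type*} [DecidableEq ι] (S T : Finset ι) (r : ℕ) :
    ∑ j ∈ S, (if j ∈ T then r else 0) = r * (T ∩ S).card := by
  rw [← Finset.sum_filter, Finset.sum_const, smul_eq_mul, mul_comm]
  congr 2
  ext j
  simp [and_comm]

lemma card_erase_eq {N : ℕ} (T : Finset (Fin (N + 1))) (i : Fin (N + 1)) :
    (T.erase i).card = (T ∩ Finset.univ.filter (fun j : Fin (N + 1) => j < i)).card +
      (T ∩ Finset.univ.filter (fun j : Fin (N + 1) => i < j)).card := by
  rw [← Finset.card_union_of_disjoint]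
  · congr 1
    ext j
    simp only [Finset.mem_erase, Finset.mem_union, Finset.mem_inter, Finset.mem_filter,
      Finset.mem_univ, true_and]
    constructor
    · rintro ⟨h1, h2⟩
      rcases lt_or_gt_of_ne h1 with h | h
      · exact Or.inl ⟨h2, h⟩
      · exact Or.inr ⟨h2, h⟩
    · rintro (⟨h1, h2⟩ | ⟨h1, h2⟩)
      · exact ⟨ne_of_lt h2, h1⟩
      · exact ⟨ne_of_gt h2, h1⟩
  · rw [Finset.disjoint_left]
    intro j h1 h2
    simp only [Finset.mem_inter, Finset.mem_filter, Finset.mem_univ, true_and] at h1 h2
    exact lt_asymm h1.2 h2.2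

lemma card_eq_lt_last {N : ℕ} (T : Finset (Fin (N + 1))) :
    T.card = (T ∩ Finset.univ.filter (fun j : Fin (N + 1) => j < Fin.last N)).card +
      (if Fin.last N ∈ T then 1 else 0) := by
  have h := card_erase_eq T (Fin.last N)
  have hempty : (T ∩ Finset.univ.filter (fun j : Fin (N + 1) => Fin.last N < j)) = ∅ := by
    ext j
    simp only [Finset.mem_inter, Finset.mem_filter, Finset.mem_univ, true_and,
      Finset.notMem_empty, iff_false, not_and, not_lt]
    intro _
    exact Fin.le_last j
  rw [hempty, Finset.card_empty, add_zero] at h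
  rw [← h]
  split_ifs with hmem
  · rw [Finset.card_erase_of_mem hmem]
    have : 0 < T.card := Finset.card_pos.2 ⟨_, hmem⟩
    omega
  · rw [Finset.erase_eq_of_notMem hmem, add_zero]

end Groth.Agent.Lib.Helper88.Chain
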