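/-
Function fields of one variable over an algebraically closed field: torsion from large weights.
Author: helper88
-/
import Groth.Agent.Lib.Helper88.FunFldLinSeries2

set_option autoImplicit false

namespace Groth.Agent.Lib.Helper88.FF

open FunFld WithZero

/-- Combinatorial core of S18177. -/
lemma exists_two_large (d r : ℕ) (a b : ℕ → ℕ)
    (ha0 : a 0 = r + 1) (had : a (d + 1) = 0) (hstep : ∀ n, a n ≤ a (n + 1) + 1)
    (hanti : ∀ n, a (n + 1) ≤ a n) (hb0 : b 0 = r + 1)
    (hab : ∀ n, n ≤ d + 1 → a n + b (d + 1 - n) ≤ r + 1)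
    (hw : (r + 1) * d + 1 ≤
      (∑ n ∈ Finset.range d, a (n + 1)) + (∑ n ∈ Finset.range d, b (n + 1)) + r) :
    ∃ n₁ n₂, n₁ < n₂ ∧ n₂ ≤ d ∧ r + 2 ≤ a n₁ + b (d - n₁) ∧ r + 2 ≤ a n₂ + b (d - n₂) := by
  classical
  set G := (Finset.range (d + 1)).filter (fun n => r + 2 ≤ a n + b (d - n)) with hG
  suffices hcard : 2 ≤ G.card by
    obtain ⟨x, hx, y, hy, hxy⟩ := Finset.one_lt_card.1 hcard
    rw [hG, Finset.mem_filter, Finset.mem_range] at hx hy
    rcases lt_or_gt_of_ne hxy with h | h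
    · exact ⟨x, y, h, by omega, hx.2, hy.2⟩
    · exact ⟨y, x, h, by omega, hy.2, hx.2⟩
  -- telescoping sum of the jumps of `a`
  have htel : ∑ n ∈ Finset.range (d + 1), ((a n : ℤ) - a (n + 1)) = r + 1 := by
    rw [Finset.sum_range_sub', ha0, had]
    simp
  -- deficiency
  have hdef : ∑ n ∈ Finset.range d, ((r : ℤ) + 1 - a (n + 1) - b (d + 1 - (n + 1))) ≤ r - 1 := by
    have h1 : ∑ n ∈ Finset.range d, b (d + 1 - (n + 1)) = ∑ n ∈ Finset.range d, b (n + 1) := by
      rw [← Finset.sum_range_reflect (fun n => b (n + 1)) d]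
      apply Finset.sum_congr rfl
      intro n hn
      rw [Finset.mem_range] at hn
      congr 1
      omega
    rw [Finset.sum_sub_distrib, Finset.sum_sub_distrib, Finset.sum_const, Finset.card_range]
    have h2 : (∑ n ∈ Finset.range d, (b (d + 1 - (n + 1)) : ℤ)) =
        ((∑ n ∈ Finset.range d, b (n + 1) : ℕ) : ℤ) := by
      rw [← h1]; push_cast; rfl
    have h3 : (∑ n ∈ Finset.range d, (a (n + 1) : ℤ)) =
        ((∑ n ∈ Finset.range d, a (n + 1) : ℕ) : ℤ) := by
      push_cast; rfl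
    rw [h2, h3]
    have hw' : (((r + 1) * d + 1 : ℕ) : ℤ) ≤
        (((∑ n ∈ Finset.range d, a (n + 1)) + (∑ n ∈ Finset.range d, b (n + 1)) + r : ℕ) : ℤ) := by
      exact_mod_cast hw
    push_cast at hw' ⊢
    simp only [nsmul_eq_mul]
    linarith
  -- pointwise bound
  have hpt : ∀ n ∈ Finset.range (d + 1), ((a n : ℤ) - a (n + 1)) ≤
      (if r + 2 ≤ a n + b (d - n) then 1 else 0) +
        ((r : ℤ) + 1 - a (n + 1) - b (d + 1 - (n + 1))) := by
    intro n hn
    rw [Finset.mem_range] at hn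
    have h1 := hab (n + 1) (by omega)
    have h2 := hstep n
    have h3 := hanti n
    have e : d + 1 - (n + 1) = d - n := by omega
    rw [e] at h1 ⊢
    split_ifs with hc
    · have : (a n : ℤ) ≤ a (n + 1) + 1 := by exact_mod_cast h2
      have : ((a (n + 1) + b (d - n) : ℕ) : ℤ) ≤ r + 1 := by exact_mod_cast h1
      push_cast at this
      linarith
    · have hc' : a n + b (d - n) ≤ r + 1 := by omega
      have : ((a n + b (d - n) : ℕ) : ℤ) ≤ r + 1 := by exact_mod_cast hc'
      push_cast at this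
      linarith
  have hsum := Finset.sum_le_sum hpt
  rw [htel, Finset.sum_add_distrib, Finset.sum_range_succ (fun n =>
    ((r : ℤ) + 1 - a (n + 1) - b (d + 1 - (n + 1)))) d] at hsum
  have hlast : ((r : ℤ) + 1 - a (d + 1) - b (d + 1 - (d + 1))) = 0 := by
    rw [had, Nat.sub_self, hb0]; push_cast; ring
  rw [hlast, add_zero] at hsum
  have hcardeq : (∑ n ∈ Finset.range (d + 1), (if r + 2 ≤ a n + b (d - n) then (1 : ℤ) else 0)) =
      G.card := by
    rw [hG, Finset.card_filter]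
    push_cast
    rfl
  rw [hcardeq] at hsum
  have : (2 : ℤ) ≤ G.card := by linarith
  exact_mod_cast this

variable {k K : Type*} [Field k] [Field K] [Algebra k K]

/-- If the vanishing conditions `nP` and `(d-n)Q` together overdetermine `V`, there is a member
with divisor exactly `nP + (d-n)Q`. -/
lemma exists_member_of_large [IsAlgClosed k] (hK : IsFunctionField k K) (d r : ℕ)
    {D : Divisor k K} (hD : D.deg = d) {V : Submodule k K} (hV : V ≤ L D)
    (hVr : Module.finrank k ↥V = r + 1) {P Q : Place k K} (hPQ : P ≠ Q) {n : ℕ} (hn : n ≤ d)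
    (h : r + 2 ≤ Module.finrank k ↥(V ⊓ L (D - Finsupp.single P (n : ℤ))) +
      Module.finrank k ↥(V ⊓ L (D - Finsupp.single Q ((d - n : ℕ) : ℤ)))) :
    ∃ f : K, f ∈ V ∧ f ≠ 0 ∧
      FunFld.div k f = Finsupp.single P (n : ℤ) + Finsupp.single Q ((d - n : ℕ) : ℤ) - D := by
  classical
  have hfd := finiteDimensional_of_le_L hK hV
  set U₁ := V ⊓ L (D - Finsupp.single P (n : ℤ)) with hU₁
  set U₂ := V ⊓ L (D - Finsupp.single Q ((d - n : ℕ) : ℤ)) with hU₂
  have hfd1 : FiniteDimensional k U₁ := Submodule.finiteDimensional_of_le inf_le_left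
  have hfd2 : FiniteDimensional k U₂ := Submodule.finiteDimensional_of_le inf_le_left
  have hsum := Submodule.finrank_sup_add_finrank_inf_eq U₁ U₂
  have hle : Module.finrank k ↥(U₁ ⊔ U₂) ≤ r + 1 := by
    rw [← hVr]
    exact Submodule.finrank_mono (sup_le inf_le_left inf_le_left)
  have hpos : 0 < Module.finrank k ↥(U₁ ⊓ U₂) := by omega
  have hnt : Nontrivial ↥(U₁ ⊓ U₂) := Module.finrank_pos_iff.1 hpos
  obtain ⟨⟨f, hfmem⟩, hf⟩ := exists_ne (0 : ↥(U₁ ⊓ U₂))
  have hf0 : f ≠ 0 := fun h0 => hf (Subtype.ext h0)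
  refine ⟨f, hfmem.1.1, hf0, ?_⟩
  have h1 : f ∈ L (D - Finsupp.single P (n : ℤ)) := hfmem.1.2
  have h2 : f ∈ L (D - Finsupp.single Q ((d - n : ℕ) : ℤ)) := hfmem.2.2
  rw [mem_L_iff_div hK hf0] at h1 h2
  have hE : (0 : Divisor k K) ≤ FunFld.div k f + D - Finsupp.single P (n : ℤ) -
      Finsupp.single Q ((d - n : ℕ) : ℤ) := by
    intro R
    have e1 := h1 R
    have e2 := h2 R
    simp only [Finsupp.coe_zero, Pi.zero_apply, Finsupp.add_apply, Finsupp.sub_apply] at e1 e2 ⊢
    by_cases hR : R = P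
    · subst hR
      rw [Finsupp.single_eq_of_ne hPQ]
      omega
    · rw [Finsupp.single_eq_of_ne hR] at e1 ⊢
      omega
  have hdeg : (FunFld.div k f + D - Finsupp.single P (n : ℤ) -
      Finsupp.single Q ((d - n : ℕ) : ℤ)).deg = 0 := by
    rw [deg_sub, deg_sub, deg_add, deg_div hK, deg_single, deg_single, hD,
      deg_eq_one_of_isAlgClosed hK P, deg_eq_one_of_isAlgClosed hK Q]
    push_cast [Nat.cast_sub hn]
    ring
  have h0 := eq_zero_of_nonneg_of_deg_eq_zero hK hE hdeg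
  have : FunFld.div k f = (FunFld.div k f + D - Finsupp.single P (n : ℤ) -
      Finsupp.single Q ((d - n : ℕ) : ℤ)) +
      (Finsupp.single P (n : ℤ) + Finsupp.single Q ((d - n : ℕ) : ℤ) - D) := by abel
  rw [this, h0, zero_add]

/-- **S18177**: large weights at two places force `m (Q - P)` to be principal. -/
theorem exists_torsion_of_weights [IsAlgClosed k] (hK : IsFunctionField k K) (d r : ℕ)
    {D : Divisor k K} (hD : D.deg = d) {V : Submodule k K} (hV : V ≤ L D)
    (hVr : Module.finrank k ↥V = r + 1) {P Q : Place k K} (hPQ : P ≠ Q)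
    (hw : (r + 1) * d + 1 ≤
      (∑ n ∈ Finset.range d, Module.finrank k ↥(V ⊓ L (D - Finsupp.single P ((n : ℤ) + 1)))) +
        (∑ n ∈ Finset.range d, Module.finrank k ↥(V ⊓ L (D - Finsupp.single Q ((n : ℤ) + 1)))) + r) :
    ∃ m : ℕ, 1 ≤ m ∧ m ≤ d ∧ ∃ h : K, h ≠ 0 ∧
      FunFld.div k h = Finsupp.single Q (m : ℤ) - Finsupp.single P (m : ℤ) := by
  classical
  have hfd := finiteDimensional_of_le_L hK hV
  have hzero : ∀ R : Place k K, Module.finrank k ↥(V ⊓ L (D - Finsupp.single R ((0 : ℕ) : ℤ))) =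
      r + 1 := by
    intro R
    rw [Nat.cast_zero, Finsupp.single_zero, sub_zero, inf_eq_left.2 hV, hVr]
  have hbot : ∀ R : Place k K,
      Module.finrank k ↥(V ⊓ L (D - Finsupp.single R ((d + 1 : ℕ) : ℤ))) = 0 := by
    intro R
    have : L (D - Finsupp.single R ((d + 1 : ℕ) : ℤ)) = ⊥ := by
      apply L_eq_bot_of_deg_neg hK
      rw [deg_sub, deg_single, hD, deg_eq_one_of_isAlgClosed hK R]
      push_cast
      linarith
    rw [this, inf_bot_eq, finrank_bot]
  have hstep : ∀ (R : Place k K) (n : ℕ),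
      Module.finrank k ↥(V ⊓ L (D - Finsupp.single R (n : ℤ))) ≤
        Module.finrank k ↥(V ⊓ L (D - Finsupp.single R ((n + 1 : ℕ) : ℤ))) + 1 := by
    intro R n
    have := finrank_inf_step_le hK V (D - Finsupp.single R (n : ℤ)) R
    rw [deg_eq_one_of_isAlgClosed hK R, sub_sub, ← Finsupp.single_add] at this
    push_cast
    exact this
  have hanti : ∀ (R : Place k K) (n : ℕ),
      Module.finrank k ↥(V ⊓ L (D - Finsupp.single R ((n + 1 : ℕ) : ℤ))) ≤
        Module.finrank k ↥(V ⊓ L (D - Finsupp.single R (n : ℤ))) := by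
    intro R n
    have hfdn : FiniteDimensional k ↥(V ⊓ L (D - Finsupp.single R (n : ℤ))) :=
      Submodule.finiteDimensional_of_le inf_le_left
    apply Submodule.finrank_mono
    apply inf_le_inf le_rfl
    apply L_mono
    apply sub_le_sub_left
    rw [Finsupp.single_le_single]
    push_cast
    linarith
  have hab : ∀ n, n ≤ d + 1 →
      Module.finrank k ↥(V ⊓ L (D - Finsupp.single P (n : ℤ))) +
        Module.finrank k ↥(V ⊓ L (D - Finsupp.single Q ((d + 1 - n : ℕ) : ℤ))) ≤ r + 1 := by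
    intro n hn
    have := (weight_pair_le hK d r hD hV hVr hPQ).1 n hn
    have e : ((d + 1 - n : ℕ) : ℤ) = (d : ℤ) + 1 - n := by
      push_cast [Nat.cast_sub hn]; ring
    rw [e]
    exact this
  obtain ⟨n₁, n₂, hlt, hn₂, h1, h2⟩ := exists_two_large d r
    (fun n => Module.finrank k ↥(V ⊓ L (D - Finsupp.single P (n : ℤ))))
    (fun n => Module.finrank k ↥(V ⊓ L (D - Finsupp.single Q (n : ℤ))))
    (hzero P) (hbot P) (hstep P) (hanti P) (hzero Q) hab
    (by push_cast; exact hw)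
  obtain ⟨f₁, -, hf₁0, hf₁⟩ := exists_member_of_large hK d r hD hV hVr hPQ (show n₁ ≤ d by omega) h1
  obtain ⟨f₂, -, hf₂0, hf₂⟩ := exists_member_of_large hK d r hD hV hVr hPQ hn₂ h2
  refine ⟨n₂ - n₁, by omega, by omega, f₁ * f₂⁻¹, mul_ne_zero hf₁0 (inv_ne_zero hf₂0), ?_⟩
  rw [div_mul hK hf₁0 (inv_ne_zero hf₂0), div_inv hK, hf₁, hf₂]
  ext R
  simp only [Finsupp.add_apply, Finsupp.sub_apply, Finsupp.neg_apply, Finsupp.single_apply]
  split_ifs <;> omega

end Groth.Agent.Lib.Helper88.FF
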