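/-
Function fields of one variable over an algebraically closed field: sums of vanishing orders
(weights) of linear series, used for limit linear series on chains of curves.
Author: helper88
-/
import Groth.Agent.Lib.Helper88.FunFldLinSeries3

set_option autoImplicit false
set_option linter.unusedSectionVars false

namespace Groth.Agent.Lib.Helper88.FF

open FunFld WithZero

/-- Triangle lower bound. -/
lemma sum_ge_triangle (r : ℕ) : ∀ (d : ℕ) (a : ℕ → ℕ), r ≤ d →
    (∀ n, 1 ≤ n → r + 1 ≤ a n + n) → r * (r + 1) / 2 ≤ ∑ n ∈ Finset.range d, a (n + 1) := by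
  induction r with
  | zero => intro d a _ _; simp
  | succ r ih =>
    intro d a hd h
    obtain ⟨d', rfl⟩ : ∃ d', d = d' + 1 := ⟨d - 1, by omega⟩
    rw [Finset.sum_range_succ']
    have h1 := h 1 le_rfl
    have h2 := ih d' (fun n => a (n + 1)) (by omega) (by
      intro n hn
      have := h (n + 1) (by omega)
      omega)
    have e : (r + 1) * (r + 1 + 1) = r * (r + 1) + 2 * (r + 1) := by ring
    simp only [zero_add] at h1 ⊢
    omega

/-- Combinatorial core: counting the indices where the two vanishing sequences are complementary. -/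
lemma card_large_ge (d r : ℕ) (a b : ℕ → ℕ)
    (ha0 : a 0 = r + 1) (had : a (d + 1) = 0) (hstep : ∀ n, a n ≤ a (n + 1) + 1)
    (hanti : ∀ n, a (n + 1) ≤ a n) (hb0 : b 0 = r + 1)
    (hab : ∀ n, n ≤ d + 1 → a n + b (d + 1 - n) ≤ r + 1) :
    (r + 1) + (∑ n ∈ Finset.range d, a (n + 1)) + (∑ n ∈ Finset.range d, b (n + 1)) ≤
      ((Finset.range (d + 1)).filter (fun n => r + 2 ≤ a n + b (d - n))).card + (r + 1) * d := by
  classical
  set G := (Finset.range (d + 1)).filter (fun n => r + 2 ≤ a n + b (d - n)) with hG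
  have htel : ∑ n ∈ Finset.range (d + 1), ((a n : ℤ) - a (n + 1)) = r + 1 := by
    rw [Finset.sum_range_sub', ha0, had]
    simp
  have hdef : ∑ n ∈ Finset.range d, ((r : ℤ) + 1 - a (n + 1) - b (d + 1 - (n + 1))) =
      (r + 1) * d - ((∑ n ∈ Finset.range d, a (n + 1) : ℕ) : ℤ) -
        ((∑ n ∈ Finset.range d, b (n + 1) : ℕ) : ℤ) := by
    have h1 : ∑ n ∈ Finset.range d, b (d + 1 - (n + 1)) = ∑ n ∈ Finset.range d, b (n + 1) := by
      rw [← Finset.sum_range_reflect (fun n => b (n + 1)) d]
      apply Finset.sum_congr rfl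
      intro n hn
      rw [Finset.mem_range] at hn
      congr 1
      omega
    rw [Finset.sum_sub_distrib, Finset.sum_sub_distrib, Finset.sum_const, Finset.card_range]
    have h2 : (∑ n ∈ Finset.range d, (b (d + 1 - (n + 1)) : ℤ)) =
        ((∑ n ∈ Finset.range d, b (n + 1) : ℕ) : ℤ) := by
      rw [← h1]; push_cast; rfl
    have h3 : (∑ n ∈ Finset.range d, (a (n + 1) : ℤ)) =
        ((∑ n ∈ Finset.range d, a (n + 1) : ℕ) : ℤ) := by
      push_cast; rfl
    rw [h2, h3]
    simp only [nsmul_eq_mul]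
    ring
  have hpt : ∀ n ∈ Finset.range (d + 1), ((a n : ℤ) - a (n + 1)) ≤
      (if r + 2 ≤ a n + b (d - n) then 1 else 0) +
        ((r : ℤ) + 1 - a (n + 1) - b (d + 1 - (n + 1))) := by
    intro n hn
    rw [Finset.mem_range] at hn
    have h1 := hab (n + 1) (by omega)
    have h2 := hstep n
    have h3 := hanti n
    have e : d + 1 - (n + 1) = d - n := by omega
    rw [e] at h1 ⊢
    split_ifs with hc
    · have : (a n : ℤ) ≤ a (n + 1) + 1 := by exact_mod_cast h2
      have : ((a (n + 1) + b (d - n) : ℕ) : ℤ) ≤ r + 1 := by exact_mod_cast h1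
      push_cast at this
      linarith
    · have hc' : a n + b (d - n) ≤ r + 1 := by omega
      have : ((a n + b (d - n) : ℕ) : ℤ) ≤ r + 1 := by exact_mod_cast hc'
      push_cast at this
      linarith
  have hsum := Finset.sum_le_sum hpt
  rw [htel, Finset.sum_add_distrib, Finset.sum_range_succ (fun n =>
    ((r : ℤ) + 1 - a (n + 1) - b (d + 1 - (n + 1)))) d] at hsum
  have hlast : ((r : ℤ) + 1 - a (d + 1) - b (d + 1 - (d + 1))) = 0 := by
    rw [had, Nat.sub_self, hb0]; push_cast; ring
  rw [hlast, add_zero, hdef] at hsum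
  have hcardeq : (∑ n ∈ Finset.range (d + 1), (if r + 2 ≤ a n + b (d - n) then (1 : ℤ) else 0)) =
      G.card := by
    rw [hG, Finset.card_filter]
    push_cast
    rfl
  rw [hcardeq] at hsum
  have : (((r + 1) + (∑ n ∈ Finset.range d, a (n + 1)) + (∑ n ∈ Finset.range d, b (n + 1)) : ℕ) : ℤ) ≤
      ((G.card + (r + 1) * d : ℕ) : ℤ) := by
    push_cast at hsum ⊢
    linarith
  exact_mod_cast this

variable {k K : Type*} [Field k] [Field K] [Algebra k K]

/-- The sum of the vanishing orders of `V ⊆ L(D)` at `P` (`d = deg D`). -/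
noncomputable def ordSum (V : Submodule k K) (D : Divisor k K) (d : ℕ) (P : Place k K) : ℕ :=
  ∑ n ∈ Finset.range d, Module.finrank k ↥(V ⊓ L (D - Finsupp.single P ((n : ℤ) + 1)))

/-- `dim V(-nP)`. -/
noncomputable def van (V : Submodule k K) (D : Divisor k K) (P : Place k K) (n : ℕ) : ℕ :=
  Module.finrank k ↥(V ⊓ L (D - Finsupp.single P (n : ℤ)))

lemma ordSum_eq (V : Submodule k K) (D : Divisor k K) (d : ℕ) (P : Place k K) :
    ordSum V D d P = ∑ n ∈ Finset.range d, van V D P (n + 1) := by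
  unfold ordSum van
  apply Finset.sum_congr rfl
  intro n _
  push_cast
  rfl

section
variable (hK : IsFunctionField k K) {d r : ℕ} {D : Divisor k K} (hD : D.deg = d)
  {V : Submodule k K} (hV : V ≤ L D) (hVr : Module.finrank k ↥V = r + 1)
include hK hD hV hVr

lemma van_zero (R : Place k K) : van V D R 0 = r + 1 := by
  unfold van
  rw [Nat.cast_zero, Finsupp.single_zero, sub_zero, inf_eq_left.2 hV, hVr]

omit hVr in
lemma van_bot [IsAlgClosed k] (R : Place k K) : van V D R (d + 1) = 0 := by
  unfold van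
  have : L (D - Finsupp.single R ((d + 1 : ℕ) : ℤ)) = ⊥ := by
    apply L_eq_bot_of_deg_neg hK
    rw [deg_sub, deg_single, hD, deg_eq_one_of_isAlgClosed hK R]
    push_cast
    linarith
  rw [this, inf_bot_eq, finrank_bot]

omit hD hV hVr in
lemma van_step [IsAlgClosed k] (R : Place k K) (n : ℕ) : van V D R n ≤ van V D R (n + 1) + 1 := by
  unfold van
  have := finrank_inf_step_le hK V (D - Finsupp.single R (n : ℤ)) R
  rw [deg_eq_one_of_isAlgClosed hK R, sub_sub, ← Finsupp.single_add] at this
  push_cast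
  exact this

omit hD hVr in
lemma van_anti (R : Place k K) (n : ℕ) : van V D R (n + 1) ≤ van V D R n := by
  unfold van
  have hfd := finiteDimensional_of_le_L hK hV
  have hfdn : FiniteDimensional k ↥(V ⊓ L (D - Finsupp.single R (n : ℤ))) :=
    Submodule.finiteDimensional_of_le inf_le_left
  apply Submodule.finrank_mono
  apply inf_le_inf le_rfl
  apply L_mono
  apply sub_le_sub_left
  rw [Finsupp.single_le_single]
  push_cast
  linarith

lemma van_add_le {P Q : Place k K} (hPQ : P ≠ Q) (n : ℕ) (hn : n ≤ d + 1) :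
    van V D P n + van V D Q (d + 1 - n) ≤ r + 1 := by
  unfold van
  have := (weight_pair_le hK d r hD hV hVr hPQ).1 n hn
  have e : ((d + 1 - n : ℕ) : ℤ) = (d : ℤ) + 1 - n := by
    push_cast [Nat.cast_sub hn]; ring
  rw [e]
  exact this

/-- `van n + n ≥ r + 1`. -/
lemma van_add_ge [IsAlgClosed k] (R : Place k K) (n : ℕ) : r + 1 ≤ van V D R n + n := by
  induction n with
  | zero => rw [van_zero hK hD hV hVr R]
  | succ n ih =>
    have := van_step hK (V := V) (D := D) R n
    omega

lemma le_deg_of_finrank [IsAlgClosed k] : r ≤ d := by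
  obtain ⟨R⟩ := exists_place hK
  have h1 := van_add_ge hK hD hV hVr R (d + 1)
  rw [van_bot hK hD hV R] at h1
  omega

/-- Two-point bound. -/
lemma ordSum_add_le {P Q : Place k K} (hPQ : P ≠ Q) :
    ordSum V D d P + ordSum V D d Q ≤ (r + 1) * d :=
  (weight_pair_le hK d r hD hV hVr hPQ).2

/-- Weights are nonnegative. -/
lemma ordSum_ge [IsAlgClosed k] (R : Place k K) : r * (r + 1) / 2 ≤ ordSum V D d R := by
  rw [ordSum_eq]
  apply sum_ge_triangle r d _ (le_deg_of_finrank hK hD hV hVr)
  intro n _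
  exact van_add_ge hK hD hV hVr R n

/-- A cusp has weight at least `r`. -/
lemma ordSum_cusp_ge [IsAlgClosed k] {Q : Place k K}
    (hcusp : r ≤ Module.finrank k ↥(V ⊓ L (D - Finsupp.single Q ((2 : ℤ))))) :
    r + r * (r + 1) / 2 ≤ ordSum V D d Q := by
  rcases Nat.eq_zero_or_pos r with hr0 | hr0
  · subst hr0; simp
  have hc2 : r ≤ van V D Q 2 := hcusp
  have hge' : ∀ m, r + 2 ≤ van V D Q (m + 2) + (m + 2) := by
    intro m
    induction m with
    | zero => simpa using hc2
    | succ m ih =>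
      have := van_step hK (V := V) (D := D) Q (m + 2)
      have e : m + 1 + 2 = m + 2 + 1 := by ring
      rw [e]
      omega
  have hge : ∀ n, 2 ≤ n → r + 2 ≤ van V D Q n + n := by
    intro n hn
    obtain ⟨m, rfl⟩ : ∃ m, n = m + 2 := ⟨n - 2, by omega⟩
    exact hge' m
  have hrd := le_deg_of_finrank hK hD hV hVr
  have hd : r + 1 ≤ d := by
    have h1 := hge (d + 1) (by omega)
    rw [van_bot hK hD hV Q] at h1
    omega
  obtain ⟨d', rfl⟩ : ∃ d', d = d' + 1 := ⟨d - 1, by omega⟩
  rw [ordSum_eq, Finset.sum_range_succ']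
  have h1 : r ≤ van V D Q (0 + 1) := hc2.trans (van_anti hK hV Q 1)
  have h2 := sum_ge_triangle r d' (fun n => van V D Q (n + 1)) (by omega) (by
    intro n hn
    have := hge (n + 1) (by omega)
    omega)
  omega

/-- Upper bound for the sum of vanishing orders at one place. -/
lemma ordSum_le [IsAlgClosed k] (Q : Place k K) : ordSum V D d Q + r * (r + 1) / 2 ≤ (r + 1) * d := by
  obtain ⟨P, hP⟩ : ∃ P : Place k K, P ≠ Q := by
    obtain ⟨⟨x, hx, -⟩, -⟩ := id hK
    have hxk := not_mem_range_of_transcendental hx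
    obtain ⟨P₁, h1⟩ := exists_pole hK hxk
    obtain ⟨P₂, h2⟩ := exists_zero hK hxk
    by_cases h : P₁ = Q
    · refine ⟨P₂, ?_⟩
      rintro rfl
      rw [h] at h1
      omega
    · exact ⟨P₁, h⟩
  have h1 := ordSum_add_le hK hD hV hVr hP
  have h2 := ordSum_ge hK hD hV hVr P
  omega

/-- In genus zero with a cusp at a third place, at most one index is complementary. -/
lemma large_unique [IsAlgClosed k] [CharZero k] (hg0 : genus k K = 0) {Q : Place k K}
    (hcusp : r ≤ Module.finrank k ↥(V ⊓ L (D - Finsupp.single Q ((2 : ℤ)))))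
    {P P' : Place k K} (hPP' : P ≠ P') (hP : P ≠ Q) (hP' : P' ≠ Q) {x y : ℕ} (hx : x ≤ d)
    (hy : y ≤ d) (hx2 : r + 2 ≤ van V D P x + van V D P' (d - x))
    (hy2 : r + 2 ≤ van V D P y + van V D P' (d - y)) : x = y := by
  classical
  obtain ⟨f, hfV, hf0, hf⟩ := exists_member_of_large hK d r hD hV hVr hPP' hx hx2
  obtain ⟨g, hgV, hgne, hg⟩ := exists_member_of_large hK d r hD hV hVr hPP' hy hy2
  have hsupp : ∀ (z : ℕ) (u : K), FunFld.div k u = Finsupp.single P (z : ℤ) +
      Finsupp.single P' ((d - z : ℕ) : ℤ) - D →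
      ∀ R : Place k K, R ≠ P → R ≠ P' → (FunFld.div k u + D) R = 0 := by
    intro z u hu R h1 h2
    rw [hu, sub_add_cancel, Finsupp.add_apply, Finsupp.single_eq_of_ne h1,
      Finsupp.single_eq_of_ne h2, add_zero]
  obtain ⟨c, hc⟩ := eq_smul_of_cusp hK hg0 r hV hVr hcusp hP hP' hfV hgV hf0 hgne
    (hsupp x f hf) (hsupp y g hg)
  have hc0 : c ≠ 0 := by
    rintro rfl
    rw [zero_smul] at hc
    exact hgne hc
  have hdiv : FunFld.div k g = FunFld.div k f := by
    rw [hc, Algebra.smul_def, div_mul hK ((map_ne_zero _).2 hc0) hf0, div_algebraMap hK,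
      zero_add]
  rw [hf, hg] at hdiv
  have := DFunLike.congr_fun hdiv P
  simp only [Finsupp.sub_apply, Finsupp.add_apply, Finsupp.single_eq_same,
    Finsupp.single_eq_of_ne hPP'] at this
  omega

/-- Two-point bound in the presence of a cusp at a third place, in genus zero. -/
lemma ordSum_add_cusp_le [IsAlgClosed k] [CharZero k] (hg0 : genus k K = 0) {Q : Place k K}
    (hcusp : r ≤ Module.finrank k ↥(V ⊓ L (D - Finsupp.single Q ((2 : ℤ)))))
    {P P' : Place k K} (hPP' : P ≠ P') (hP : P ≠ Q) (hP' : P' ≠ Q) :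
    ordSum V D d P + ordSum V D d P' + r ≤ (r + 1) * d := by
  classical
  have hmain := card_large_ge d r (van V D P) (van V D P') (van_zero hK hD hV hVr P)
    (van_bot hK hD hV P) (van_step hK P) (van_anti hK hV P) (van_zero hK hD hV hVr P')
    (van_add_le hK hD hV hVr hPP')
  have hcard : ((Finset.range (d + 1)).filter
      (fun n => r + 2 ≤ van V D P n + van V D P' (d - n))).card ≤ 1 := by
    rw [Finset.card_le_one]
    intro x hx y hy
    rw [Finset.mem_filter, Finset.mem_range] at hx hy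
    exact large_unique hK hD hV hVr hg0 hcusp hPP' hP hP' (by omega) (by omega) hx.2 hy.2
  rw [← ordSum_eq, ← ordSum_eq] at hmain
  omega

end

/-- Compatible aspects have complementary sums of vanishing orders. -/
lemma ordSum_compat {KY KZ : Type*} [Field KY] [Algebra k KY] [Field KZ] [Algebra k KZ]
    (d r : ℕ) {DY : Divisor k KY} {DZ : Divisor k KZ} {VY : Submodule k KY} {VZ : Submodule k KZ}
    {P : Place k KY} {Q : Place k KZ}
    (hcomp : ∀ n : ℕ, n ≤ d + 1 →
      Module.finrank k ↥(VY ⊓ L (DY - Finsupp.single P ((n : ℤ)))) +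
        Module.finrank k ↥(VZ ⊓ L (DZ - Finsupp.single Q ((d : ℤ) + 1 - n))) = r + 1) :
    ordSum VY DY d P + ordSum VZ DZ d Q = (r + 1) * d := by
  unfold ordSum
  rw [← Finset.sum_range_reflect
    (fun n => Module.finrank k ↥(VZ ⊓ L (DZ - Finsupp.single Q ((n : ℤ) + 1)))) d,
    ← Finset.sum_add_distrib]
  calc ∑ n ∈ Finset.range d,
        (Module.finrank k ↥(VY ⊓ L (DY - Finsupp.single P ((n : ℤ) + 1))) +
          Module.finrank k ↥(VZ ⊓ L (DZ - Finsupp.single Q (((d - 1 - n : ℕ) : ℤ) + 1))))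
      = ∑ _n ∈ Finset.range d, (r + 1) := by
        apply Finset.sum_congr rfl
        intro n hn
        rw [Finset.mem_range] at hn
        have h2 := hcomp (n + 1) (by omega)
        have e : ((d - 1 - n : ℕ) : ℤ) + 1 = (d : ℤ) + 1 - ((n + 1 : ℕ) : ℤ) := by
          push_cast [Nat.cast_sub (show n ≤ d - 1 by omega), Nat.cast_sub (show 1 ≤ d by omega)]
          ring
        rw [e]
        push_cast at h2 ⊢
        exact h2
    _ = (r + 1) * d := by
        rw [Finset.sum_const, Finset.card_range, smul_eq_mul, mul_comm]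

end Groth.Agent.Lib.Helper88.FF
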