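/-
Limit linear series on chains of curves: weights at nodes.
Author: helper88
-/
import Groth.Agent.Lib.Helper88.FunFldLinSeries4
import Groth.Agent.Lib.Helper88.ChainNumeric

set_option autoImplicit false
set_option linter.unusedSectionVars false

namespace Groth.Agent.Lib.Helper88.FF

open FunFld WithZero Chain

lemma two_mul_tri (r : ℕ) : r * (r + 1) / 2 * 2 = r * (r + 1) :=
  Nat.div_mul_cancel (Nat.even_mul_succ_self r).two_dvd

section Tail

variable {k : Type*} [Field k] [IsAlgClosed k] [CharZero k]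
  {n : ℕ} {U : Fin (n + 1) → Type*} [∀ l, Field (U l)] [∀ l, Algebra k (U l)]
  (hU : ∀ l, IsFunctionField k (U l))
  {d r : ℕ} {D : ∀ l, Divisor k (U l)} (hD : ∀ l, (D l).deg = d)
  {V : ∀ l, Submodule k (U l)} (hV : ∀ l, V l ≤ L (D l))
  (hVr : ∀ l, Module.finrank k ↥(V l) = r + 1)
  {A B : ∀ l, Place k (U l)}
  (hAB : ∀ l : Fin (n + 1), 0 < (l : ℕ) → (l : ℕ) < n → A l ≠ B l)
  (hcomp : ∀ (l : Fin n) (m : ℕ), m ≤ d + 1 →
    Module.finrank k ↥((V l.castSucc) ⊓ L ((D l.castSucc) - Finsupp.single (B l.castSucc) ((m : ℤ)))) +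
      Module.finrank k ↥((V l.succ) ⊓ L ((D l.succ) - Finsupp.single (A l.succ) ((d : ℤ) + 1 - m))) =
        r + 1)
  {c : ℕ} (hc : ordSum (V 0) (D 0) d (B 0) + c + r * (r + 1) ≤ (r + 1) * d + r * (r + 1) / 2)
include hU hD hV hVr hAB hcomp hc

/-- **S18184**. -/
theorem tail_A_ge (l : Fin (n + 1)) (hl : 0 < (l : ℕ)) :
    c + r * (r + 1) / 2 ≤ ordSum (V l) (D l) d (A l) := by
  have h2 := two_mul_tri r
  exact tail_lower n (fun l => ordSum (V l) (D l) d (A l)) (fun l => ordSum (V l) (D l) d (B l))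
    ((r + 1) * d) c (r * (r + 1) / 2) (fun l => ordSum_compat d r (hcomp l))
    (fun l h1 h2 => ordSum_add_le (hU l) (hD l) (hV l) (hVr l) (hAB l h1 h2))
    (by omega) l hl

/-- **S18186**. -/
theorem tail_last_le (hn : 0 < n) {Q : Place k (U (Fin.last n))} (hQ : Q ≠ A (Fin.last n)) :
    ordSum (V (Fin.last n)) (D (Fin.last n)) d Q + c + r * (r + 1) ≤
      (r + 1) * d + r * (r + 1) / 2 := by
  have h1 := tail_A_ge hU hD hV hVr hAB hcomp hc (Fin.last n) (by rw [Fin.val_last]; exact hn)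
  have h2 := ordSum_add_le (hU _) (hD _) (hV _) (hVr _) hQ
  have h3 := two_mul_tri r
  omega

/-- Along a chain ending in a curve of positive genus, every inner aspect has a cusp at its lower
node. -/
theorem tail_cusp_B (hpos : 0 < genus k (U (Fin.last n))) (l : Fin (n + 1)) (hl0 : 0 < (l : ℕ))
    (hln : (l : ℕ) < n) :
    r ≤ Module.finrank k ↥((V l) ⊓ L ((D l) - Finsupp.single (B l) ((2 : ℤ)))) := by
  rcases Nat.eq_zero_or_pos r with hr0 | hr0
  · omega
  have hd : 1 ≤ d := by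
    have := le_deg_of_finrank (hU l) (hD l) (hV l) (hVr l)
    omega
  have hd' : (1 : ℤ) ≤ d := by exact_mod_cast hd
  have hone : ∀ j, (A j).deg = 1 := fun j => deg_eq_one_of_isAlgClosed (hU j) (A j)
  have hcompat : ∀ j : Fin n,
      Module.finrank k ↥((V j.castSucc) ⊓ L ((D j.castSucc) - Finsupp.single (B j.castSucc) ((2 : ℤ)))) +
        Module.finrank k ↥((V j.succ) ⊓ L ((D j.succ) - Finsupp.single (A j.succ) ((d : ℤ) + 1 - 2))) =
          r + 1 := by
    intro j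
    have := hcomp j 2 (by omega)
    simpa only [Nat.cast_ofNat] using this
  have hlast : Module.finrank k ↥((V (Fin.last n)) ⊓
      L ((D (Fin.last n)) - Finsupp.single (A (Fin.last n)) ((d : ℤ) + 1 - 2))) ≤ 1 := by
    have hdeg : ((D (Fin.last n)) - Finsupp.single (A (Fin.last n)) ((d : ℤ) + 1 - 2)).deg = 1 := by
      rw [deg_sub, deg_single, hD, hone]
      push_cast
      ring
    have h1 := ell_le_one_of_deg_one (hU _) hpos (hone _) hdeg
    have hfd := finiteDimensional_L (hU (Fin.last n))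
      ((D (Fin.last n)) - Finsupp.single (A (Fin.last n)) ((d : ℤ) + 1 - 2))
    have h2 : Module.finrank k ↥((V (Fin.last n)) ⊓
        L ((D (Fin.last n)) - Finsupp.single (A (Fin.last n)) ((d : ℤ) + 1 - 2))) ≤
        Module.finrank k ↥(L ((D (Fin.last n)) - Finsupp.single (A (Fin.last n)) ((d : ℤ) + 1 - 2))) :=
      Submodule.finrank_mono inf_le_right
    unfold ell at h1
    omega
  have hpair : ∀ j : Fin (n + 1), 0 < (j : ℕ) → (j : ℕ) < n →
      Module.finrank k ↥((V j) ⊓ L ((D j) - Finsupp.single (A j) ((d : ℤ) + 1 - 2))) +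
        Module.finrank k ↥((V j) ⊓ L ((D j) - Finsupp.single (B j) ((2 : ℤ)))) ≤ r + 1 := by
    intro j h1 h2
    have h3 := finrank_vanish_add_le (hU j) (hV j) (hAB j h1 h2)
      (n := (d : ℤ) + 1 - 2) (m := 2) (by linarith) (by norm_num) (by rw [hD j]; linarith)
    rw [hVr j] at h3
    exact h3
  have key := tail_cusp n
    (fun j => Module.finrank k ↥((V j) ⊓ L ((D j) - Finsupp.single (A j) ((d : ℤ) + 1 - 2))))
    (fun j => Module.finrank k ↥((V j) ⊓ L ((D j) - Finsupp.single (B j) ((2 : ℤ)))))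
    r hcompat hpair hlast
  -- `l = j.castSucc`
  obtain ⟨j, rfl⟩ : ∃ j : Fin n, l = j.castSucc := ⟨⟨l, hln⟩, rfl⟩
  have h1 := key j.succ (by rw [Fin.val_succ]; omega)
  have h2 := hcompat j
  omega

/-- **S18185**. -/
theorem tail_inner_le (hrat : ∀ l : Fin (n + 1), 0 < (l : ℕ) → (l : ℕ) < n → genus k (U l) = 0)
    (hpos : 0 < genus k (U (Fin.last n))) (l : Fin (n + 1)) (hl0 : 0 < (l : ℕ))
    (hln : (l : ℕ) < n) {Q' : Place k (U l)} (hQ'A : Q' ≠ A l) (hQ'B : Q' ≠ B l) :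
    ordSum (V l) (D l) d Q' + c + r + r * (r + 1) ≤ (r + 1) * d + r * (r + 1) / 2 := by
  have hcusp := tail_cusp_B hU hD hV hVr hAB hcomp hc hpos l hl0 hln
  have h1 := tail_A_ge hU hD hV hVr hAB hcomp hc l hl0
  have h2 := ordSum_add_cusp_le (hU l) (hD l) (hV l) (hVr l) (hrat l hl0 hln) hcusp hQ'A hQ'B
    (hAB l hl0 hln)
  have h3 := two_mul_tri r
  omega

end Tail

section Backbone

variable {k : Type*} [Field k] [IsAlgClosed k] [CharZero k]
  {N : ℕ} {Z : Fin (N + 1) → Type*} [∀ i, Field (Z i)] [∀ i, Algebra k (Z i)]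
  (hZ : ∀ i, IsFunctionField k (Z i)) (hrat : ∀ i, genus k (Z i) = 0)
  {d r : ℕ} {D : ∀ i, Divisor k (Z i)} (hD : ∀ i, (D i).deg = d)
  {V : ∀ i, Submodule k (Z i)} (hV : ∀ i, V i ≤ L (D i))
  (hVr : ∀ i, Module.finrank k ↥(V i) = r + 1)
  {A B : ∀ i, Place k (Z i)}
  (hAB : ∀ i : Fin (N + 1), 0 < (i : ℕ) → (i : ℕ) < N → A i ≠ B i)
  (hcomp : ∀ (l : Fin N) (m : ℕ), m ≤ d + 1 →
    Module.finrank k ↥((V l.castSucc) ⊓ L ((D l.castSucc) - Finsupp.single (B l.castSucc) ((m : ℤ)))) +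
      Module.finrank k ↥((V l.succ) ⊓ L ((D l.succ) - Finsupp.single (A l.succ) ((d : ℤ) + 1 - m))) =
        r + 1)
  {T : Finset (Fin (N + 1))} {Q : ∀ i, Place k (Z i)}
  (hQA : ∀ i ∈ T, 0 < (i : ℕ) → Q i ≠ A i) (hQB : ∀ i ∈ T, (i : ℕ) < N → Q i ≠ B i)
  (hcusp : ∀ i ∈ T, r ≤ Module.finrank k ↥((V i) ⊓ L ((D i) - Finsupp.single (Q i) ((2 : ℤ)))))
include hZ hrat hD hV hVr hAB hcomp hQA hQB hcusp

lemma backbone_first (hN : 0 < N) :
    ordSum (V 0) (D 0) d (B 0) + (if (0 : Fin (N + 1)) ∈ T then r else 0) + r * (r + 1) / 2 ≤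
      (r + 1) * d := by
  split_ifs with h0
  · have h1 := ordSum_add_le (hZ 0) (hD 0) (hV 0) (hVr 0) (hQB 0 h0 (by simpa using hN)).symm
    have h2 := ordSum_cusp_ge (hZ 0) (hD 0) (hV 0) (hVr 0) (hcusp 0 h0)
    omega
  · have := ordSum_le (hZ 0) (hD 0) (hV 0) (hVr 0) (B 0)
    omega

lemma backbone_last (hN : 0 < N) :
    ordSum (V (Fin.last N)) (D (Fin.last N)) d (A (Fin.last N)) +
      (if Fin.last N ∈ T then r else 0) + r * (r + 1) / 2 ≤ (r + 1) * d := by
  split_ifs with h0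
  · have h1 := ordSum_add_le (hZ _) (hD _) (hV _) (hVr _)
      (hQA (Fin.last N) h0 (by simpa using hN)).symm
    have h2 := ordSum_cusp_ge (hZ _) (hD _) (hV _) (hVr _) (hcusp _ h0)
    omega
  · have := ordSum_le (hZ _) (hD _) (hV _) (hVr _) (A (Fin.last N))
    omega

lemma backbone_inner (l : Fin (N + 1)) (h1 : 0 < (l : ℕ)) (h2 : (l : ℕ) < N) :
    ordSum (V l) (D l) d (A l) + ordSum (V l) (D l) d (B l) + (if l ∈ T then r else 0) ≤
      (r + 1) * d := by
  split_ifs with hl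
  · exact ordSum_add_cusp_le (hZ l) (hD l) (hV l) (hVr l) (hrat l) (hcusp l hl) (hAB l h1 h2)
      (hQA l hl h1).symm (hQB l hl h2).symm
  · have := ordSum_add_le (hZ l) (hD l) (hV l) (hVr l) (hAB l h1 h2)
    omega

theorem backbone_bounds :
    (∀ l : Fin (N + 1), 0 < (l : ℕ) →
      r * (r + 1) / 2 + r * (T ∩ Finset.univ.filter (fun j : Fin (N + 1) => j < l)).card ≤
        ordSum (V l) (D l) d (A l)) ∧
    (∀ l : Fin (N + 1), (l : ℕ) < N →
      r * (r + 1) / 2 + r * (T ∩ Finset.univ.filter (fun j : Fin (N + 1) => l < j)).card ≤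
        ordSum (V l) (D l) d (B l)) := by
  classical
  have h := backbone_lower N (fun l => ordSum (V l) (D l) d (A l))
    (fun l => ordSum (V l) (D l) d (B l)) (fun l => if l ∈ T then r else 0) ((r + 1) * d)
    (r * (r + 1) / 2) (fun l => ordSum_compat d r (hcomp l))
    (backbone_inner hZ hrat hD hV hVr hAB hcomp hQA hQB hcusp)
    (backbone_first hZ hrat hD hV hVr hAB hcomp hQA hQB hcusp)
    (backbone_last hZ hrat hD hV hVr hAB hcomp hQA hQB hcusp)
  simp only [sum_filter_ite] at h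
  exact h

/-- **S18180**. -/
theorem backbone_inner_ge (i : Fin (N + 1)) (hi0 : 0 < (i : ℕ)) (hiN : (i : ℕ) < N) :
    r * (T.erase i).card + r * (r + 1) ≤
      ordSum (V i) (D i) d (A i) + ordSum (V i) (D i) d (B i) := by
  obtain ⟨h1, h2⟩ := backbone_bounds hZ hrat hD hV hVr hAB hcomp hQA hQB hcusp
  have h3 := h1 i hi0
  have h4 := h2 i hiN
  rw [card_erase_eq, mul_add]
  have h5 := two_mul_tri r
  omega

/-- **S18179**. -/
theorem backbone_rho : r * T.card + r * (r + 1) ≤ (r + 1) * d := by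
  classical
  have h5 := two_mul_tri r
  by_cases hN : 0 < N
  · obtain ⟨h1, -⟩ := backbone_bounds hZ hrat hD hV hVr hAB hcomp hQA hQB hcusp
    have h3 := h1 (Fin.last N) (by rw [Fin.val_last]; exact hN)
    have h4 := backbone_last hZ hrat hD hV hVr hAB hcomp hQA hQB hcusp hN
    rw [card_eq_lt_last T, mul_add]
    split_ifs at h4 ⊢ with hmem
    · omega
    · omega
  · have hN0 : N = 0 := by omega
    have hcard : T.card ≤ 1 := by
      have := Finset.card_le_univ T
      rw [Fintype.card_fin] at this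
      omega
    by_cases hT : T.Nonempty
    · obtain ⟨i, hi⟩ := hT
      have h1 := ordSum_cusp_ge (hZ i) (hD i) (hV i) (hVr i) (hcusp i hi)
      have h2 := ordSum_le (hZ i) (hD i) (hV i) (hVr i) (Q i)
      have : r * T.card ≤ r := by
        calc r * T.card ≤ r * 1 := Nat.mul_le_mul_left r hcard
          _ = r := mul_one r
      omega
    · rw [Finset.not_nonempty_iff_eq_empty] at hT
      rw [hT, Finset.card_empty, mul_zero, zero_add]
      have h1 := ordSum_ge (hZ 0) (hD 0) (hV 0) (hVr 0) (A 0)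
      have h2 := ordSum_le (hZ 0) (hD 0) (hV 0) (hVr 0) (A 0)
      omega

end Backbone

end Groth.Agent.Lib.Helper88.FF
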