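/-
Bases adapted to a filtration with one-dimensional jumps.
Author: helper88
-/
import Mathlib.LinearAlgebra.FiniteDimensional.Lemmas
import Mathlib.LinearAlgebra.LinearIndependent.Lemmas
import Mathlib.LinearAlgebra.Dimension.Finrank
import Mathlib.Tactic

set_option autoImplicit false

namespace Groth.Agent.Lib.Helper88.Adapted

variable {k E : Type*} [Field k] [AddCommGroup E] [Module k E]

/-- A linear functional cuts the dimension of a subspace by at most one. -/
lemma finrank_le_inf_ker_add_one (U : Submodule k E) [FiniteDimensional k U] (φ : E →ₗ[k] k) :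
    Module.finrank k U ≤ Module.finrank k ↥(U ⊓ LinearMap.ker φ) + 1 := by
  set ψ : U →ₗ[k] k := φ.domRestrict U with hψ
  have h1 := LinearMap.finrank_range_add_finrank_ker ψ
  have h2 : Module.finrank k ↥(LinearMap.range ψ) ≤ 1 := by
    have := Submodule.finrank_le (LinearMap.range ψ)
    rwa [Module.finrank_self] at this
  have h3 : Module.finrank k ↥(LinearMap.ker ψ) = Module.finrank k ↥(U ⊓ LinearMap.ker φ) := by
    have hk : LinearMap.ker ψ = Submodule.comap U.subtype (LinearMap.ker φ) := by
      ext x
      simp [hψ]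
    have hm : Submodule.map U.subtype (LinearMap.ker ψ) = U ⊓ LinearMap.ker φ := by
      rw [hk, Submodule.map_comap_subtype]
    rw [← Submodule.finrank_map_subtype_eq U (LinearMap.ker ψ), hm]
  omega

lemma sum_range_ite_lt {d m : ℕ} (h : m ≤ d) :
    ∑ n ∈ Finset.range d, (if n < m then 1 else 0) = m := by
  rw [Finset.sum_ite, Finset.sum_const_zero, add_zero, Finset.sum_const, smul_eq_mul, mul_one]
  have : (Finset.range d).filter (fun n => n < m) = Finset.range m := by
    ext n
    simp only [Finset.mem_filter, Finset.mem_range]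
    omega
  rw [this, Finset.card_range]

/-- Existence of a basis adapted to a filtration with jumps of dimension at most one. -/
theorem exists_adapted (Fil : ℕ → Submodule k E) (hanti : ∀ n, Fil (n + 1) ≤ Fil n)
    (hstep : ∀ n, ∃ φ : E →ₗ[k] k, Fil (n + 1) = Fil n ⊓ LinearMap.ker φ) (d : ℕ) :
    ∀ (s : ℕ) (W : Submodule k E), FiniteDimensional k W → Module.finrank k W = s →
      W ≤ Fil 0 → W ⊓ Fil (d + 1) = ⊥ →
    ∃ (b : Fin s → E) (m : Fin s → ℕ), Function.Injective m ∧
      (∀ i, b i ∈ W ∧ b i ∈ Fil (m i) ∧ b i ∉ Fil (m i + 1)) ∧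
      LinearIndependent k b ∧ (∀ i, m i ≤ d) ∧
      ∑ n ∈ Finset.range d, Module.finrank k ↥(W ⊓ Fil (n + 1)) = ∑ i, m i := by
  have hmono : Antitone Fil := antitone_nat_of_succ_le hanti
  intro s
  induction s with
  | zero =>
    intro W hfd hW _ _
    have hbot : W = ⊥ := Submodule.finrank_eq_zero.1 hW
    refine ⟨Fin.elim0, Fin.elim0, fun i => i.elim0, fun i => i.elim0,
      linearIndependent_empty_type, fun i => i.elim0, ?_⟩
    rw [Finset.univ_eq_empty, Finset.sum_empty]
    apply Finset.sum_eq_zero
    intro n _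
    rw [hbot, bot_inf_eq, finrank_bot]
  | succ s ih =>
    intro W hfd hW hW0 hWd
    have hne : ∃ n, ¬ W ≤ Fil (n + 1) := by
      refine ⟨d, fun hle => ?_⟩
      rw [inf_eq_left.2 hle] at hWd
      rw [hWd, finrank_bot] at hW
      omega
    classical
    set m₀ := Nat.find hne with hm₀
    have h1 : ¬ W ≤ Fil (m₀ + 1) := Nat.find_spec hne
    have h2 : W ≤ Fil m₀ := by
      rcases Nat.eq_zero_or_pos m₀ with h0 | hpos
      · rw [h0]; exact hW0
      · have := Nat.find_min hne (m := m₀ - 1) (by omega)
        rw [not_not, Nat.sub_add_cancel hpos] at this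
        exact this
    have hm₀d : m₀ ≤ d := Nat.find_min' hne (by
      intro hle
      rw [inf_eq_left.2 hle] at hWd
      rw [hWd, finrank_bot] at hW
      omega)
    set W' := W ⊓ Fil (m₀ + 1) with hW'
    have hlt : W' < W := lt_of_le_of_ne inf_le_left (fun h => h1 (h ▸ inf_le_right))
    have hfd' : FiniteDimensional k W' := Submodule.finiteDimensional_of_le inf_le_left
    have hrk' : Module.finrank k W' = s := by
      obtain ⟨φ, hφ⟩ := hstep m₀
      have e : W' = W ⊓ LinearMap.ker φ := by
        rw [hW', hφ, ← inf_assoc, inf_eq_left.2 h2]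
      have h3 := finrank_le_inf_ker_add_one W φ
      rw [← e] at h3
      have h4 := Submodule.finrank_lt_finrank_of_lt hlt
      omega
    obtain ⟨x, hxW, hxF⟩ := SetLike.not_le_iff_exists.1 h1
    obtain ⟨b', m', hinj, hb', hli, hmd, hsum⟩ := ih W' hfd' hrk' (inf_le_left.trans hW0)
      (by
        rw [eq_bot_iff, ← hWd]
        exact inf_le_inf inf_le_left le_rfl)
    have hm'gt : ∀ i, m₀ < m' i := by
      intro i
      by_contra hcon
      push Not at hcon
      have h3 : Fil (m₀ + 1) ≤ Fil (m' i + 1) := hmono (by omega)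
      exact (hb' i).2.2 (h3 (hb' i).1.2)
    refine ⟨Fin.cons x b', Fin.cons m₀ m', ?_, ?_, ?_, ?_, ?_⟩
    · rw [Fin.cons_injective_iff]
      refine ⟨?_, hinj⟩
      rintro ⟨i, hi⟩
      have := hm'gt i
      omega
    · intro i
      refine Fin.cases ?_ (fun j => ?_) i
      · simp only [Fin.cons_zero]
        exact ⟨hxW, h2 hxW, hxF⟩
      · simp only [Fin.cons_succ]
        exact ⟨(hb' j).1.1, (hb' j).2.1, (hb' j).2.2⟩
    · rw [linearIndependent_finCons]
      refine ⟨hli, fun hx => hxF ?_⟩
      have hspan : Submodule.span k (Set.range b') ≤ Fil (m₀ + 1) := by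
        rw [Submodule.span_le]
        rintro _ ⟨i, rfl⟩
        exact (hb' i).1.2
      exact hspan hx
    · intro i
      refine Fin.cases ?_ (fun j => ?_) i
      · simp only [Fin.cons_zero]; exact hm₀d
      · simp only [Fin.cons_succ]; exact hmd j
    · rw [Fin.sum_univ_succ]
      simp only [Fin.cons_zero, Fin.cons_succ]
      rw [← hsum, ← sum_range_ite_lt hm₀d, ← Finset.sum_add_distrib]
      apply Finset.sum_congr rfl
      intro n _
      split_ifs with hn
      · have e1 : W ⊓ Fil (n + 1) = W := inf_eq_left.2 (h2.trans (hmono (by omega)))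
        have e2 : W' ⊓ Fil (n + 1) = W' :=
          inf_eq_left.2 (inf_le_right.trans (hmono (by omega)))
        rw [e1, e2, hW, hrk']
        omega
      · have e : W' ⊓ Fil (n + 1) = W ⊓ Fil (n + 1) := by
          rw [hW', inf_assoc, inf_eq_right.2 (hmono (by omega))]
        rw [e, zero_add]

end Groth.Agent.Lib.Helper88.Adapted
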