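/-
Wronskians of families of polynomials: change of basis, order at a point, degree bound.
Author: helper88
-/
import Mathlib.LinearAlgebra.Vandermonde
import Mathlib.LinearAlgebra.Matrix.Determinant.Basic
import Mathlib.Algebra.Polynomial.Derivative
import Mathlib.Algebra.Polynomial.BigOperators
import Mathlib.RingTheory.Polynomial.Pochhammer
import Mathlib.Tactic

set_option autoImplicit false

namespace Groth.Agent.Lib.Helper88.Wr

open Polynomial Matrix

variable {k : Type*} [Field k]

/-- The Wronskian determinant of a family of polynomials. -/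
noncomputable def wronskian {s : ℕ} (p : Fin s → k[X]) : k[X] :=
  (Matrix.of fun i j : Fin s => derivative^[(j : ℕ)] (p i)).det

/-- Change of basis. -/
theorem wronskian_mul {s : ℕ} (M : Matrix (Fin s) (Fin s) k) (p : Fin s → k[X]) :
    wronskian (fun i => ∑ l, M i l • p l) = C M.det * wronskian p := by
  unfold wronskian
  have h : (Matrix.of fun i j : Fin s => derivative^[(j : ℕ)] (∑ l, M i l • p l)) =
      (M.map C) * (Matrix.of fun i j : Fin s => derivative^[(j : ℕ)] (p i)) := by
    refine Matrix.ext fun i j => ?_
    rw [Matrix.mul_apply, Matrix.of_apply, iterate_derivative_sum]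
    apply Finset.sum_congr rfl
    intro l _
    rw [iterate_derivative_smul, Matrix.map_apply, Matrix.of_apply, smul_eq_C_mul]
  rw [h, Matrix.det_mul]
  congr 1
  exact (RingHom.map_det C M).symm

section Order

variable (a : k)

/-- The polynomials `N_j` with `(X-a)^j D^j ((X-a)^m q) = (X-a)^m N_j`. -/
noncomputable def Nfun (mm : k) (q : k[X]) : ℕ → k[X]
  | 0 => q
  | j + 1 => C (mm - j) * Nfun mm q j + (X - C a) * derivative (Nfun mm q j)

lemma X_sub_C_mul_derivative_pow (j : ℕ) :
    (X - C a) * derivative ((X - C a) ^ j) = C (j : k) * (X - C a) ^ j := by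
  rw [derivative_X_sub_C_pow]
  cases j with
  | zero => simp
  | succ j =>
    rw [Nat.add_sub_cancel, pow_succ]
    ring

lemma pow_mul_iterate_derivative (m : ℕ) (q : k[X]) (j : ℕ) :
    (X - C a) ^ j * derivative^[j] ((X - C a) ^ m * q) =
      (X - C a) ^ m * Nfun a (m : k) q j := by
  induction j with
  | zero => simp [Nfun]
  | succ j ih =>
    have h1 := congrArg derivative ih
    rw [derivative_mul, derivative_mul, ← Function.iterate_succ_apply' derivative] at h1
    have h2 := X_sub_C_mul_derivative_pow a j
    have h3 := X_sub_C_mul_derivative_pow a m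
    rw [Nfun, map_sub]
    linear_combination (X - C a) * h1 - derivative^[j] ((X - C a) ^ m * q) * h2 +
      Nfun a (m : k) q j * h3 - C (j : k) * ih

lemma eval_Nfun (mm : k) (q : k[X]) (j : ℕ) :
    (Nfun a mm q j).eval a = (∏ l ∈ Finset.range j, (mm - l)) * q.eval a := by
  induction j with
  | zero => simp [Nfun]
  | succ j ih =>
    rw [Nfun, eval_add, eval_mul, eval_mul, eval_C, eval_sub, eval_X, eval_C, sub_self, zero_mul,
      add_zero, ih, Finset.prod_range_succ]
    ring

/-- Order of vanishing of the Wronskian of a family with distinct orders at `a`. -/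
theorem wronskian_order [CharZero k] {s : ℕ} (m : Fin s → ℕ) (hm : Function.Injective m)
    (q : Fin s → k[X]) (hq : ∀ i, (q i).eval a ≠ 0) :
    ∃ G : k[X], G.eval a ≠ 0 ∧
      (X - C a) ^ (∑ j : Fin s, (j : ℕ)) * wronskian (fun i => (X - C a) ^ (m i) * q i) =
        (X - C a) ^ (∑ i, m i) * G := by
  refine ⟨(Matrix.of fun i j : Fin s => Nfun a (m i : k) (q i) (j : ℕ)).det, ?_, ?_⟩
  · rw [← coe_evalRingHom, RingHom.map_det]
    have h : (evalRingHom a).mapMatrix (Matrix.of fun i j : Fin s => Nfun a (m i : k) (q i) (j : ℕ)) =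
        Matrix.of fun i j : Fin s => (q i).eval a *
          (Matrix.of fun i j : Fin s => (descPochhammer k (j : ℕ)).eval (m i : k)) i j := by
      ext i j
      rw [RingHom.mapMatrix_apply, Matrix.map_apply, Matrix.of_apply, Matrix.of_apply,
        Matrix.of_apply, coe_evalRingHom, eval_Nfun, descPochhammer_eval_eq_prod_range, mul_comm]
    rw [h, Matrix.det_mul_column, ← Matrix.det_eval_matrixOfPolynomials_eq_det_vandermonde
      (fun i => (m i : k)) (fun j => descPochhammer k (j : ℕ))
      (fun i => descPochhammer_natDegree k i) (fun i => monic_descPochhammer k i)]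
    apply mul_ne_zero
    · exact Finset.prod_ne_zero_iff.2 fun i _ => hq i
    · rw [Matrix.det_vandermonde_ne_zero_iff]
      intro i j hij
      exact hm (Nat.cast_injective hij)
  · unfold wronskian
    rw [← Finset.prod_pow_eq_pow_sum, ← Finset.prod_pow_eq_pow_sum, ← Matrix.det_mul_row,
      ← Matrix.det_mul_column]
    congr 1
    refine Matrix.ext fun i j => ?_
    rw [Matrix.of_apply, Matrix.of_apply, Matrix.of_apply, Matrix.of_apply]
    exact pow_mul_iterate_derivative a (m i) (q i) j

end Order

lemma natDegree_X_pow_mul_iterate_derivative_le (p : k[X]) (j : ℕ) :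
    (X ^ j * derivative^[j] p).natDegree ≤ p.natDegree := by
  by_cases h : p.natDegree < j
  · rw [iterate_derivative_eq_zero h, mul_zero, natDegree_zero]
    exact Nat.zero_le _
  · push Not at h
    calc (X ^ j * derivative^[j] p).natDegree
        ≤ (X ^ j : k[X]).natDegree + (derivative^[j] p).natDegree := natDegree_mul_le
      _ ≤ j + (p.natDegree - j) := by
          apply add_le_add
          · exact natDegree_X_pow_le j
          · exact natDegree_iterate_derivative p j
      _ = p.natDegree := by omega

/-- Degree bound for the Wronskian. -/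
theorem wronskian_natDegree_le {s : ℕ} (p : Fin s → k[X]) (e : Fin s → ℕ)
    (he : ∀ i, (p i).natDegree ≤ e i) (h0 : wronskian p ≠ 0) :
    (∑ j : Fin s, (j : ℕ)) + (wronskian p).natDegree ≤ ∑ i, e i := by
  have h1 : (X : k[X]) ^ (∑ j : Fin s, (j : ℕ)) * wronskian p =
      (Matrix.of fun i j : Fin s => X ^ (j : ℕ) * derivative^[(j : ℕ)] (p i)).det := by
    unfold wronskian
    rw [← Finset.prod_pow_eq_pow_sum, ← Matrix.det_mul_row]
    rfl
  have h2 : ((X : k[X]) ^ (∑ j : Fin s, (j : ℕ)) * wronskian p).natDegree =
      (∑ j : Fin s, (j : ℕ)) + (wronskian p).natDegree := by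
    rw [natDegree_X_pow_mul _ h0, add_comm]
  rw [← h2, h1, Matrix.det_apply']
  apply natDegree_sum_le_of_forall_le
  intro σ _
  calc (((Equiv.Perm.sign σ : ℤ) : k[X]) * ∏ i, (Matrix.of fun i j : Fin s =>
          X ^ (j : ℕ) * derivative^[(j : ℕ)] (p i)) (σ i) i).natDegree
      ≤ ((((Equiv.Perm.sign σ : ℤ)) : k[X])).natDegree + (∏ i, (Matrix.of fun i j : Fin s =>
          X ^ (j : ℕ) * derivative^[(j : ℕ)] (p i)) (σ i) i).natDegree := natDegree_mul_le
    _ ≤ 0 + ∑ i, e (σ i) := by
        apply add_le_add
        · rw [natDegree_intCast]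
        · refine (natDegree_prod_le _ _).trans ?_
          apply Finset.sum_le_sum
          intro i _
          rw [Matrix.of_apply]
          exact (natDegree_X_pow_mul_iterate_derivative_le _ _).trans (he _)
    _ = ∑ i, e i := by
        rw [zero_add]
        exact Equiv.sum_comp σ e

end Groth.Agent.Lib.Helper88.Wr
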