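/-
The Pluecker inequality for spaces of polynomials of bounded degree (characteristic zero).
Author: helper88
-/
import Groth.Agent.Lib.Helper88.PolyWronskian
import Groth.Agent.Lib.Helper88.AdaptedBasis
import Mathlib.RingTheory.Polynomial.Basic
import Mathlib.Algebra.Polynomial.Taylor
import Mathlib.Algebra.Polynomial.Roots
import Mathlib.LinearAlgebra.Matrix.Basis

set_option autoImplicit false

namespace Groth.Agent.Lib.Helper88.Wr

open Polynomial Module

variable {k : Type*} [Field k]

/-- Multiples of `(X - a)^n`, as a `k`-subspace. -/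
def filAt (a : k) (n : ℕ) : Submodule k k[X] where
  carrier := {p | (X - C a) ^ n ∣ p}
  add_mem' := fun h1 h2 => dvd_add h1 h2
  zero_mem' := dvd_zero _
  smul_mem' := fun c p hp => by
    rw [Set.mem_ofPred_eq, smul_eq_C_mul]
    exact dvd_mul_of_dvd_right hp _

lemma mem_filAt {a : k} {n : ℕ} {p : k[X]} : p ∈ filAt a n ↔ (X - C a) ^ n ∣ p := Iff.rfl

lemma mem_filAt_iff_coeff {a : k} {n : ℕ} {p : k[X]} :
    p ∈ filAt a n ↔ ∀ i < n, (taylor a p).coeff i = 0 := by
  rw [mem_filAt, X_sub_C_pow_dvd_iff, ← taylor_apply, X_pow_dvd_iff]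

lemma filAt_zero (a : k) : filAt a 0 = ⊤ := by
  ext p
  simp [mem_filAt]

lemma filAt_succ_le (a : k) (n : ℕ) : filAt a (n + 1) ≤ filAt a n := by
  intro p hp
  rw [mem_filAt] at hp ⊢
  exact dvd_trans (pow_dvd_pow _ (Nat.le_succ n)) hp

lemma filAt_step (a : k) (n : ℕ) :
    ∃ φ : k[X] →ₗ[k] k, filAt a (n + 1) = filAt a n ⊓ LinearMap.ker φ := by
  refine ⟨(lcoeff k n) ∘ₗ (taylor a), ?_⟩
  ext p
  rw [Submodule.mem_inf, mem_filAt_iff_coeff, mem_filAt_iff_coeff, LinearMap.mem_ker,
    LinearMap.comp_apply, lcoeff_apply, Nat.forall_lt_succ_right]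

/-- Polynomials of degree at most `d - n`. -/
noncomputable def filInf (d n : ℕ) : Submodule k k[X] := degreeLT k (d + 1 - n)

lemma filInf_succ_le (d n : ℕ) : (filInf d (n + 1) : Submodule k k[X]) ≤ filInf d n := by
  unfold filInf
  exact degreeLT_mono (by omega)

lemma filInf_step (d n : ℕ) :
    ∃ φ : k[X] →ₗ[k] k, (filInf d (n + 1) : Submodule k k[X]) = filInf d n ⊓ LinearMap.ker φ := by
  refine ⟨lcoeff k (d - n), ?_⟩
  ext p
  unfold filInf
  rw [Submodule.mem_inf, mem_degreeLT, mem_degreeLT, degree_lt_iff_coeff_zero,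
    degree_lt_iff_coeff_zero, LinearMap.mem_ker, lcoeff_apply]
  constructor
  · intro h
    exact ⟨fun m hm => h m (by omega), h _ (by omega)⟩
  · rintro ⟨h1, h2⟩ m hm
    by_cases hmd : m = d - n
    · rw [hmd]; exact h2
    · exact h1 m (by omega)

/-- Two bases of the same space have proportional Wronskians. -/
lemma wronskian_eq_of_mem {s : ℕ} (W : Submodule k k[X]) [FiniteDimensional k W]
    (hW : finrank k W = s) (b c : Fin s → k[X]) (hb : LinearIndependent k b)
    (hc : LinearIndependent k c) (hbW : ∀ i, b i ∈ W) (hcW : ∀ i, c i ∈ W) :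
    ∃ u : k, u ≠ 0 ∧ wronskian b = C u * wronskian c := by
  classical
  have hb' : LinearIndependent k (fun i => (⟨b i, hbW i⟩ : W)) :=
    LinearIndependent.of_comp W.subtype hb
  have hc' : LinearIndependent k (fun i => (⟨c i, hcW i⟩ : W)) :=
    LinearIndependent.of_comp W.subtype hc
  have hcard : Fintype.card (Fin s) = finrank k W := by rw [Fintype.card_fin, hW]
  obtain ⟨Bb, hBb⟩ : ∃ B : Basis (Fin s) k W, ⇑B = fun i => (⟨b i, hbW i⟩ : W) :=
    ⟨_, coe_basisOfLinearIndependentOfCardEqFinrank' _ hb' hcard⟩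
  obtain ⟨Bc, hBc⟩ : ∃ B : Basis (Fin s) k W, ⇑B = fun i => (⟨c i, hcW i⟩ : W) :=
    ⟨_, coe_basisOfLinearIndependentOfCardEqFinrank' _ hc' hcard⟩
  have hsum : ∀ j, b j = ∑ i, (Bc.toMatrix Bb).transpose j i • c i := by
    intro j
    have h1 := Bc.sum_toMatrix_smul_self Bb j
    have h2 := congrArg W.subtype h1
    rw [map_sum] at h2
    simp only [map_smul, Submodule.subtype_apply] at h2
    have e1 : ∀ i, ((Bc i : W) : k[X]) = c i := fun i => by rw [hBc]
    have e2 : ((Bb j : W) : k[X]) = b j := by rw [hBb]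
    rw [e2] at h2
    rw [← h2]
    apply Finset.sum_congr rfl
    intro i _
    rw [e1, Matrix.transpose_apply]
  refine ⟨(Bc.toMatrix Bb).transpose.det, ?_, ?_⟩
  · rw [Matrix.det_transpose]
    have h1 := Bc.toMatrix_mul_toMatrix_flip Bb
    have h2 := congrArg Matrix.det h1
    rw [Matrix.det_mul, Matrix.det_one] at h2
    exact left_ne_zero_of_mul_eq_one h2
  · rw [← wronskian_mul]
    congr 1
    funext j
    exact hsum j

lemma sum_count_le_card {α : Type*} [DecidableEq α] (F : Finset α) (m : Multiset α) :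
    ∑ a ∈ F, m.count a ≤ Multiset.card m := by
  rw [← Multiset.toFinset_sum_count_eq]
  rw [← Finset.sum_filter_ne_zero (s := F)]
  apply Finset.sum_le_sum_of_subset
  intro a ha
  rw [Finset.mem_filter] at ha
  rw [Multiset.mem_toFinset]
  exact Multiset.count_ne_zero.1 ha.2

instance (n : ℕ) : FiniteDimensional k (degreeLT k n) :=
  Module.Finite.equiv (degreeLTEquiv k n).symm

/-- **Pluecker inequality** for a space of polynomials of degree at most `d`. -/
theorem poly_plucker [CharZero k] (d s : ℕ) (W : Submodule k k[X]) (hWd : W ≤ degreeLT k (d + 1))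
    (hW : finrank k W = s) (F : Finset k) :
    (∑ a ∈ F, ∑ n ∈ Finset.range d, finrank k ↥(W ⊓ filAt a (n + 1))) +
      (∑ n ∈ Finset.range d, finrank k ↥(W ⊓ filInf d (n + 1))) + (∑ j : Fin s, (j : ℕ)) ≤
        s * d + F.card * (∑ j : Fin s, (j : ℕ)) := by
  classical
  have hfd : FiniteDimensional k W := Submodule.finiteDimensional_of_le hWd
  -- basis adapted at infinity
  obtain ⟨c, mc, -, hc, hcli, hmcd, hsumc⟩ := Adapted.exists_adapted (filInf (k := k) d)
    (filInf_succ_le d) (filInf_step d) d s W hfd hW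
    (by unfold filInf; simpa using hWd)
    (by
      unfold filInf
      rw [Nat.sub_self, eq_bot_iff]
      intro p hp
      have : p ∈ degreeLT k 0 := hp.2
      rw [mem_degreeLT] at this
      simp only [Nat.cast_zero] at this
      rw [Submodule.mem_bot]
      exact degree_eq_bot.1 (Nat.WithBot.lt_zero_iff.1 this))
  have hcdeg : ∀ i, (c i).natDegree ≤ d - mc i := by
    intro i
    have h1 := (hc i).2.1
    unfold filInf at h1
    have h2 : d + 1 - mc i = (d - mc i) + 1 := by have := hmcd i; omega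
    rw [h2, degreeLT_succ_eq_degreeLE, mem_degreeLE] at h1
    exact natDegree_le_of_degree_le h1
  -- bases adapted at finite points
  have hpoint : ∀ a : k, ∃ (G : k[X]) (u : k), G.eval a ≠ 0 ∧ u ≠ 0 ∧
      (X - C a) ^ (∑ j : Fin s, (j : ℕ)) * (C u * wronskian c) =
        (X - C a) ^ (∑ n ∈ Finset.range d, finrank k ↥(W ⊓ filAt a (n + 1))) * G := by
    intro a
    obtain ⟨b, mb, hinj, hb, hbli, -, hsumb⟩ := Adapted.exists_adapted (filAt a)
      (filAt_succ_le a) (filAt_step a) d s W hfd hW (by rw [filAt_zero]; exact le_top)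
      (by
        rw [eq_bot_iff]
        intro p hp
        rw [Submodule.mem_bot]
        have h1 : degree p < (d + 1 : ℕ) := mem_degreeLT.1 (hWd hp.1)
        have h2 : (X - C a) ^ (d + 1) ∣ p := hp.2
        by_contra hp0
        have h3 := natDegree_le_of_dvd h2 hp0
        rw [natDegree_pow, natDegree_X_sub_C, mul_one] at h3
        have h4 := (natDegree_lt_iff_degree_lt hp0).2 h1
        omega)
    have hq : ∀ i, ∃ q : k[X], b i = (X - C a) ^ (mb i) * q ∧ q.eval a ≠ 0 := by
      intro i
      obtain ⟨q, hq⟩ := mem_filAt.1 (hb i).2.1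
      refine ⟨q, hq, fun h0 => (hb i).2.2 ?_⟩
      rw [mem_filAt, hq, pow_succ]
      exact mul_dvd_mul_left _ (dvd_iff_isRoot.2 h0)
    choose q hq1 hq2 using hq
    obtain ⟨G, hG, hGeq⟩ := wronskian_order a mb hinj q hq2
    obtain ⟨u, hu, hwr⟩ := wronskian_eq_of_mem W hW b c hbli hcli (fun i => (hb i).1)
      (fun i => (hc i).1)
    refine ⟨G, u, hG, hu, ?_⟩
    have hbq : b = fun i => (X - C a) ^ (mb i) * q i := funext hq1
    rw [← hbq, hwr, ← hsumb] at hGeq
    exact hGeq
  -- the Wronskian is nonzero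
  have hwr0 : wronskian c ≠ 0 := by
    obtain ⟨G, u, hG, hu, h⟩ := hpoint 0
    intro h0
    rw [h0, mul_zero, mul_zero] at h
    have : G = 0 := by
      rcases mul_eq_zero.1 h.symm with h1 | h1
      · exact absurd h1 (pow_ne_zero _ (X_sub_C_ne_zero 0))
      · exact h1
    rw [this, eval_zero] at hG
    exact hG rfl
  -- root multiplicities
  have hmult : ∀ a : k, (∑ j : Fin s, (j : ℕ)) + rootMultiplicity a (wronskian c) =
      ∑ n ∈ Finset.range d, finrank k ↥(W ⊓ filAt a (n + 1)) := by
    intro a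
    obtain ⟨G, u, hG, hu, h⟩ := hpoint a
    have hG0 : G ≠ 0 := by
      rintro rfl
      rw [eval_zero] at hG
      exact hG rfl
    have hCu : (C u : k[X]) ≠ 0 := C_ne_zero.2 hu
    have hl : (X - C a) ^ (∑ j : Fin s, (j : ℕ)) * (C u * wronskian c) ≠ 0 :=
      mul_ne_zero (pow_ne_zero _ (X_sub_C_ne_zero a)) (mul_ne_zero hCu hwr0)
    have hr : (X - C a) ^ (∑ n ∈ Finset.range d, finrank k ↥(W ⊓ filAt a (n + 1))) * G ≠ 0 :=
      mul_ne_zero (pow_ne_zero _ (X_sub_C_ne_zero a)) hG0
    have h1 := congrArg (rootMultiplicity a) h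
    rw [rootMultiplicity_mul hl, rootMultiplicity_mul hr, rootMultiplicity_X_sub_C_pow,
      rootMultiplicity_X_sub_C_pow, rootMultiplicity_mul (mul_ne_zero hCu hwr0),
      rootMultiplicity_C, zero_add, rootMultiplicity_eq_zero (p := G) (x := a) (by
        rw [IsRoot.def]
        exact hG), add_zero] at h1
    exact h1
  -- degree bound
  have hdeg := wronskian_natDegree_le c (fun i => d - mc i) hcdeg hwr0
  have hsumd : ∑ i, (d - mc i) + ∑ i, mc i = s * d := by
    rw [← Finset.sum_add_distrib]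
    have : ∀ i ∈ (Finset.univ : Finset (Fin s)), d - mc i + mc i = d := by
      intro i _
      have := hmcd i
      omega
    rw [Finset.sum_congr rfl this, Finset.sum_const, Finset.card_univ, Fintype.card_fin,
      smul_eq_mul]
  -- count roots
  have hroots : ∑ a ∈ F, rootMultiplicity a (wronskian c) ≤ (wronskian c).natDegree := by
    calc ∑ a ∈ F, rootMultiplicity a (wronskian c)
        = ∑ a ∈ F, (wronskian c).roots.count a := by
          apply Finset.sum_congr rfl
          intro a _
          rw [count_roots]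
      _ ≤ Multiset.card (wronskian c).roots := sum_count_le_card F _
      _ ≤ (wronskian c).natDegree := card_roots' _
  have hF : ∑ a ∈ F, ∑ n ∈ Finset.range d, finrank k ↥(W ⊓ filAt a (n + 1)) =
      F.card * (∑ j : Fin s, (j : ℕ)) + ∑ a ∈ F, rootMultiplicity a (wronskian c) := by
    rw [← smul_eq_mul, ← Finset.sum_const, ← Finset.sum_add_distrib]
    apply Finset.sum_congr rfl
    intro a _
    exact (hmult a).symm
  rw [hF, hsumc]
  omega

end Groth.Agent.Lib.Helper88.Wr
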