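/-
The Pluecker inequality on function fields of genus zero (algebraically closed constants of
characteristic zero), by reduction to polynomials.
Author: helper88
-/
import Groth.Agent.Lib.Helper88.FunFldChains
import Groth.Agent.Lib.Helper88.PolyPlucker

set_option autoImplicit false
set_option linter.unusedSectionVars false

namespace Groth.Agent.Lib.Helper88.FF

open FunFld WithZero Polynomial

variable {k K : Type*} [Field k] [Field K] [Algebra k K]

/-- In genus zero, divisors of degree zero are principal. -/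
lemma exists_div_eq_of_deg_zero (hK : IsFunctionField k K) (hg0 : genus k K = 0)
    (E : Divisor k K) (hE : E.deg = 0) : ∃ u : K, u ≠ 0 ∧ FunFld.div k u = E := by
  have hdeg : (-E).deg = 0 := by rw [deg_neg, hE, neg_zero]
  have hell := ell_eq_of_le_deg hK (D := -E) (by rw [hdeg, hg0]; simp)
  rw [hdeg, hg0] at hell
  have hpos : 0 < ell (-E) := by
    have : (ell (-E) : ℤ) = 1 := by simpa using hell
    omega
  obtain ⟨u, hu0, hu⟩ := exists_ne_zero_mem_L hK hpos
  rw [mem_L_iff_div hK hu0] at hu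
  have h0 := eq_zero_of_nonneg_of_deg_eq_zero hK hu (by rw [deg_add, deg_div hK, hdeg]; simp)
  refine ⟨u, hu0, ?_⟩
  have : FunFld.div k u = -(-E) := eq_neg_of_add_eq_zero_left h0
  rw [this, neg_neg]

section Coord

variable [IsAlgClosed k] (hK : IsFunctionField k K) (hg0 : genus k K = 0)
  {A B : Place k K} (hAB : A ≠ B) {t : K} (ht0 : t ≠ 0)
  (ht : FunFld.div k t = Finsupp.single A 1 - Finsupp.single B 1)
include hK hg0 hAB ht0 ht

lemma coord_mem_L : t ∈ L (Finsupp.single B 1 : Divisor k K) := by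
  rw [mem_L_iff_div hK ht0, ht, sub_add_cancel]
  exact Finsupp.single_nonneg.2 zero_le_one

lemma coord_transcendental : Transcendental k t := by
  apply transcendental_of_not_mem_range hK
  rintro ⟨c, rfl⟩
  rw [div_algebraMap hK] at ht
  have h2 := DFunLike.congr_fun ht A
  rw [Finsupp.sub_apply, Finsupp.single_eq_same, Finsupp.single_eq_of_ne hAB] at h2
  simp at h2

lemma coord_pow_mem_L (i m : ℕ) (him : i ≤ m) : t ^ i ∈ L (Finsupp.single B (m : ℤ) : Divisor k K) := by
  have h1 := pow_mem_L (coord_mem_L hK hg0 hAB ht0 ht) i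
  refine L_mono ?_ h1
  rw [Finsupp.smul_single, Finsupp.single_le_single]
  simp only [nsmul_eq_mul, mul_one]
  exact_mod_cast him

lemma aeval_mem_L {m : ℕ} {p : k[X]} (hp : p ∈ degreeLT k (m + 1)) :
    aeval t p ∈ L (Finsupp.single B (m : ℤ) : Divisor k K) := by
  classical
  rw [degreeLT_eq_span_X_pow] at hp
  refine Submodule.span_induction (p := fun p _ => aeval t p ∈ L (Finsupp.single B (m : ℤ) : Divisor k K))
    ?_ ?_ ?_ ?_ hp
  · intro x hx
    rw [Finset.coe_image, Set.mem_image] at hx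
    obtain ⟨i, hi, rfl⟩ := hx
    rw [Finset.mem_coe, Finset.mem_range] at hi
    rw [map_pow, aeval_X]
    exact coord_pow_mem_L hK hg0 hAB ht0 ht i m (by omega)
  · rw [map_zero]; exact Submodule.zero_mem _
  · intro x y _ _ hx hy
    rw [map_add]; exact Submodule.add_mem _ hx hy
  · intro c x _ hx
    rw [map_smul]; exact Submodule.smul_mem _ c hx

lemma aeval_injective : Function.Injective (aeval (R := k) t) :=
  transcendental_iff_injective.1 (coord_transcendental hK hg0 hAB ht0 ht)

lemma map_degreeLT_eq (m : ℕ) :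
    (degreeLT k (m + 1)).map (aeval (R := k) t).toLinearMap =
      L (Finsupp.single B (m : ℤ) : Divisor k K) := by
  have hfd := finiteDimensional_L hK (Finsupp.single B (m : ℤ) : Divisor k K)
  apply Submodule.eq_of_le_of_finrank_eq
  · rintro _ ⟨p, hp, rfl⟩
    exact aeval_mem_L hK hg0 hAB ht0 ht hp
  · have h1 : Module.finrank k ↥((degreeLT k (m + 1)).map (aeval (R := k) t).toLinearMap) = m + 1 := by
      rw [← LinearEquiv.finrank_eq (Submodule.equivMapOfInjective (aeval (R := k) t).toLinearMap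
        (aeval_injective hK hg0 hAB ht0 ht) (degreeLT k (m + 1))),
        LinearEquiv.finrank_eq (degreeLTEquiv k (m + 1)), Module.finrank_fin_fun]
    have h2 := ell_eq_of_le_deg hK (D := (Finsupp.single B (m : ℤ) : Divisor k K))
      (by rw [deg_single, hg0, deg_eq_one_of_isAlgClosed hK B]; simp)
    rw [deg_single, hg0, deg_eq_one_of_isAlgClosed hK B] at h2
    rw [h1]
    unfold ell at h2
    have : (Module.finrank k ↥(L (Finsupp.single B (m : ℤ) : Divisor k K)) : ℤ) = m + 1 := by
      rw [h2]; simp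
    exact_mod_cast this.symm

lemma mem_degreeLT_iff (m : ℕ) (p : k[X]) :
    p ∈ degreeLT k (m + 1) ↔ aeval t p ∈ L (Finsupp.single B (m : ℤ) : Divisor k K) := by
  constructor
  · exact aeval_mem_L hK hg0 hAB ht0 ht
  · intro h
    rw [← map_degreeLT_eq hK hg0 hAB ht0 ht m] at h
    obtain ⟨q, hq, hqp⟩ := h
    have : q = p := aeval_injective hK hg0 hAB ht0 ht hqp
    rw [← this]
    exact hq

/-- The divisor of `t - τ` when `τ` is the value of `t` at `P ≠ B`. -/
lemma div_coord_sub {P : Place k K} (hPB : P ≠ B) {τ : k} (hτ : P.1 (t - algebraMap k K τ) < 1) :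
    t - algebraMap k K τ ≠ 0 ∧
      FunFld.div k (t - algebraMap k K τ) = Finsupp.single P 1 - Finsupp.single B 1 := by
  have hs0 : t - algebraMap k K τ ≠ 0 := by
    intro h0
    have : t = algebraMap k K τ := sub_eq_zero.1 h0
    exact not_mem_range_of_transcendental (coord_transcendental hK hg0 hAB ht0 ht) ⟨τ, this.symm⟩
  refine ⟨hs0, ?_⟩
  set s := t - algebraMap k K τ with hs
  have hcL : algebraMap k K τ ∈ L (Finsupp.single B 1 : Divisor k K) := by
    have h0 : algebraMap k K τ ∈ L (0 : Divisor k K) := by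
      rw [L_zero_eq hK, Submodule.mem_one]
      exact ⟨τ, rfl⟩
    exact L_mono (Finsupp.single_nonneg.2 zero_le_one) h0
  have hsL : s ∈ L (Finsupp.single B 1 : Divisor k K) :=
    Submodule.sub_mem _ (coord_mem_L hK hg0 hAB ht0 ht) hcL
  rw [mem_L_iff_div hK hs0] at hsL
  have hords : 1 ≤ P.ord s := by
    have h1 : P.1 s ≤ exp (-1 : ℤ) := by
      rw [val_eq_exp_neg_ord P hs0] at hτ ⊢
      rw [← exp_zero, exp_lt_exp] at hτ
      rw [exp_le_exp]
      omega
    have := (val_le_exp_iff P hs0 (-1)).1 h1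
    simpa using this
  have hE : (0 : Divisor k K) ≤ FunFld.div k s + Finsupp.single B 1 - Finsupp.single P 1 := by
    intro R
    have h1 := hsL R
    rw [Finsupp.sub_apply]
    by_cases hR : R = P
    · subst hR
      rw [Finsupp.add_apply, div_apply hK, Finsupp.single_eq_of_ne hPB, Finsupp.single_eq_same]
      simp only [Finsupp.coe_zero, Pi.zero_apply]
      omega
    · rw [Finsupp.single_eq_of_ne hR, sub_zero]
      exact h1
  have hEdeg : (FunFld.div k s + Finsupp.single B 1 - Finsupp.single P 1 : Divisor k K).deg = 0 := by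
    rw [deg_sub, deg_add, deg_div hK, deg_single, deg_single, deg_eq_one_of_isAlgClosed hK B,
      deg_eq_one_of_isAlgClosed hK P]
    simp
  have hE0 := eq_zero_of_nonneg_of_deg_eq_zero hK hE hEdeg
  have : FunFld.div k s = (FunFld.div k s + Finsupp.single B 1 - Finsupp.single P 1) +
      (Finsupp.single P 1 - Finsupp.single B 1) := by abel
  rw [this, hE0, zero_add]

/-- Membership in `L(dB - nP)` in terms of divisibility by `(X - τ)^n`. -/
lemma dvd_iff_aeval_mem {P : Place k K} (hPB : P ≠ B) {τ : k}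
    (hτ : P.1 (t - algebraMap k K τ) < 1) {d n : ℕ} (hn : n ≤ d) {p : k[X]}
    (hp : p ∈ degreeLT k (d + 1)) :
    (X - C τ) ^ n ∣ p ↔
      aeval t p ∈ L (Finsupp.single B (d : ℤ) - Finsupp.single P (n : ℤ) : Divisor k K) := by
  obtain ⟨hs0, hsdiv⟩ := div_coord_sub hK hg0 hAB ht0 ht hPB hτ
  have hsn0 : (t - algebraMap k K τ) ^ n ≠ 0 := pow_ne_zero n hs0
  have hdivn : FunFld.div k ((t - algebraMap k K τ) ^ n) =
      Finsupp.single P (n : ℤ) - Finsupp.single B (n : ℤ) := by
    rw [div_pow hK, hsdiv, smul_sub, Finsupp.smul_single, Finsupp.smul_single]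
    simp
  have hE : (Finsupp.single B (d : ℤ) - Finsupp.single P (n : ℤ) : Divisor k K) +
      FunFld.div k ((t - algebraMap k K τ) ^ n) = Finsupp.single B ((d - n : ℕ) : ℤ) := by
    rw [hdivn]
    have : (Finsupp.single B (d : ℤ) : Divisor k K) = Finsupp.single B ((d - n : ℕ) : ℤ) +
        Finsupp.single B (n : ℤ) := by
      rw [← Finsupp.single_add]
      congr 1
      push_cast [Nat.cast_sub hn]
      ring
    rw [this]
    abel
  have haeval : aeval t ((X - C τ) ^ n) = (t - algebraMap k K τ) ^ n := by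
    rw [map_pow, map_sub, aeval_X, aeval_C]
  constructor
  · rintro ⟨q, rfl⟩
    rcases eq_or_ne q 0 with rfl | hq0
    · rw [mul_zero, map_zero]; exact Submodule.zero_mem _
    have hqdeg : q ∈ degreeLT k ((d - n) + 1) := by
      rw [mem_degreeLT] at hp ⊢
      have h1 := (natDegree_lt_iff_degree_lt (mul_ne_zero (pow_ne_zero n (X_sub_C_ne_zero τ)) hq0)).2 hp
      rw [natDegree_mul (pow_ne_zero n (X_sub_C_ne_zero τ)) hq0, natDegree_pow, natDegree_X_sub_C,
        mul_one] at h1
      rw [← natDegree_lt_iff_degree_lt hq0]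
      omega
    rw [map_mul, haeval, mul_mem_L_iff hK hsn0, hE]
    exact aeval_mem_L hK hg0 hAB ht0 ht hqdeg
  · intro h
    have h1 : (t - algebraMap k K τ) ^ n * (((t - algebraMap k K τ) ^ n)⁻¹ * aeval t p) ∈
        L (Finsupp.single B (d : ℤ) - Finsupp.single P (n : ℤ) : Divisor k K) := by
      rw [← mul_assoc, mul_inv_cancel₀ hsn0, one_mul]
      exact h
    rw [mul_mem_L_iff hK hsn0, hE, ← map_degreeLT_eq hK hg0 hAB ht0 ht (d - n)] at h1
    obtain ⟨q, -, hq⟩ := h1
    refine ⟨q, ?_⟩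
    apply aeval_injective hK hg0 hAB ht0 ht
    rw [map_mul, haeval]
    have : aeval t q = ((t - algebraMap k K τ) ^ n)⁻¹ * aeval t p := hq
    rw [this, ← mul_assoc, mul_inv_cancel₀ hsn0, one_mul]

end Coord

lemma exists_place_ne (hK : IsFunctionField k K) (Q : Place k K) : ∃ P : Place k K, P ≠ Q := by
  obtain ⟨⟨x, hx, -⟩, -⟩ := id hK
  have hxk := not_mem_range_of_transcendental hx
  obtain ⟨P₁, h1⟩ := exists_pole hK hxk
  obtain ⟨P₂, h2⟩ := exists_zero hK hxk
  by_cases h : P₁ = Q
  · refine ⟨P₂, ?_⟩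
    rintro rfl
    rw [h] at h1
    omega
  · exact ⟨P₁, h⟩

lemma sum_fin_id (r : ℕ) : ∑ j : Fin (r + 1), (j : ℕ) = r * (r + 1) / 2 := by
  rw [Fin.sum_univ_eq_sum_range (fun j => j) (r + 1), Finset.sum_range_id, Nat.add_sub_cancel,
    mul_comm]

/-- Transfer of dimensions along an injective linear map. -/
lemma finrank_inf_eq_of_iff {E : Type*} [AddCommGroup E] [Module k E] (Φ : E →ₗ[k] K)
    (hΦ : Function.Injective Φ) {V : Submodule k K} (hVΦ : V ≤ LinearMap.range Φ)
    (S : Submodule k E) (T : Submodule k K)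
    (h : ∀ p ∈ V.comap Φ, p ∈ S ↔ Φ p ∈ T) :
    Module.finrank k ↥(V ⊓ T) = Module.finrank k ↥(V.comap Φ ⊓ S) := by
  have hmap : (V.comap Φ ⊓ S).map Φ = V ⊓ T := by
    ext x
    constructor
    · rintro ⟨p, ⟨hpV, hpS⟩, rfl⟩
      exact ⟨hpV, (h p hpV).1 hpS⟩
    · rintro ⟨hxV, hxT⟩
      obtain ⟨p, rfl⟩ := hVΦ hxV
      exact ⟨p, ⟨hxV, (h p hxV).2 hxT⟩, rfl⟩
  rw [← hmap]
  exact (LinearEquiv.finrank_eq (Submodule.equivMapOfInjective Φ hΦ _)).symm

/-- **Pluecker inequality** on a function field of genus zero: the total weight of a `g^r_d` at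
finitely many places is at most `(r+1)(d-r)`. -/
theorem plucker_genus_zero [IsAlgClosed k] [CharZero k] (hK : IsFunctionField k K)
    (hg0 : genus k K = 0) {d r : ℕ} {D : Divisor k K} (hD : D.deg = d) {V : Submodule k K}
    (hV : V ≤ L D) (hVr : Module.finrank k ↥V = r + 1) (F : Finset (Place k K)) :
    ∑ P ∈ F, ordSum V D d P + r * (r + 1) ≤ (r + 1) * d + F.card * (r * (r + 1) / 2) := by
  classical
  have h2t := two_mul_tri r
  rcases F.eq_empty_or_nonempty with rfl | ⟨B, hB⟩
  · obtain ⟨R⟩ := exists_place hK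
    have h1 := ordSum_ge hK hD hV hVr R
    have h2 := ordSum_le hK hD hV hVr R
    simp only [Finset.sum_empty, Finset.card_empty, zero_mul, add_zero, zero_add]
    omega
  obtain ⟨A, hAB⟩ := exists_place_ne hK B
  obtain ⟨t, ht0, ht⟩ := exists_div_eq_sub hK hg0 A B
  obtain ⟨u, hu0, hu⟩ := exists_div_eq_of_deg_zero hK hg0 (D - Finsupp.single B (d : ℤ)) (by
    rw [deg_sub, deg_single, hD, deg_eq_one_of_isAlgClosed hK B]; simp)
  have hui0 : u⁻¹ ≠ 0 := inv_ne_zero hu0
  set Φ : k[X] →ₗ[k] K := (mulEquiv (k := k) u⁻¹ hui0).toLinearMap ∘ₗ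
    (aeval (R := k) t).toLinearMap with hΦdef
  have hΦapp : ∀ p, Φ p = u⁻¹ * aeval t p := fun p => rfl
  have hΦinj : Function.Injective Φ := by
    intro p q hpq
    rw [hΦapp, hΦapp] at hpq
    exact aeval_injective hK hg0 hAB ht0 ht (mul_left_cancel₀ hui0 hpq)
  have hΦmem : ∀ (E : Divisor k K) (p : k[X]),
      Φ p ∈ L (D - E) ↔ aeval t p ∈ L (Finsupp.single B (d : ℤ) - E) := by
    intro E p
    rw [hΦapp, mul_mem_L_iff hK hui0, div_inv hK, hu]
    have : D - E + -(D - Finsupp.single B (d : ℤ)) = Finsupp.single B (d : ℤ) - E := by abel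
    rw [this]
  set W := V.comap Φ with hWdef
  have hWd : W ≤ degreeLT k (d + 1) := by
    intro p hp
    have h1 : Φ p ∈ L (D - 0) := by rw [sub_zero]; exact hV hp
    rw [hΦmem, sub_zero] at h1
    exact (mem_degreeLT_iff hK hg0 hAB ht0 ht d p).2 h1
  have hVΦ : V ≤ LinearMap.range Φ := by
    intro x hx
    have h1 : u * x ∈ L (Finsupp.single B (d : ℤ) : Divisor k K) := by
      rw [mul_mem_L_iff hK hu0, hu]
      have : Finsupp.single B (d : ℤ) + (D - Finsupp.single B (d : ℤ)) = D := by abel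
      rw [this]
      exact hV hx
    rw [← map_degreeLT_eq hK hg0 hAB ht0 ht d] at h1
    obtain ⟨p, -, hp⟩ := h1
    refine ⟨p, ?_⟩
    have hp' : aeval t p = u * x := hp
    rw [hΦapp, hp', ← mul_assoc, inv_mul_cancel₀ hu0, one_mul]
  have hWr : Module.finrank k ↥W = r + 1 := by
    have h1 := finrank_inf_eq_of_iff Φ hΦinj hVΦ ⊤ ⊤ (fun p _ => by simp)
    rw [inf_top_eq, inf_top_eq] at h1
    rw [← h1, hVr]
  -- the values of `t` at the places other than `B`
  have hval : ∀ P : Place k K, P ≠ B → P.1 t ≤ 1 := by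
    intro P hP
    rw [val_eq_exp_neg_ord P ht0, ← exp_zero, exp_le_exp, ← div_apply hK, ht, Finsupp.sub_apply,
      Finsupp.single_eq_of_ne hP, sub_zero]
    have : (0 : ℤ) ≤ (Finsupp.single A (1 : ℤ) : Divisor k K) P := by
      rw [Finsupp.single_apply]
      split_ifs <;> norm_num
    omega
  have hex : ∀ P : Place k K, ∃ τ : k, P ≠ B → P.1 (t - algebraMap k K τ) < 1 := by
    intro P
    by_cases hP : P = B
    · exact ⟨0, fun h => absurd hP h⟩
    · obtain ⟨τ, hτ⟩ := exists_val_sub_lt hK P (hval P hP)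
      exact ⟨τ, fun _ => hτ⟩
  choose aOf haOf using hex
  have hinjOn : Set.InjOn aOf ↑(F.erase B) := by
    intro P hP P' hP' heq
    rw [Finset.mem_coe, Finset.mem_erase] at hP hP'
    obtain ⟨hs0, hsdiv⟩ := div_coord_sub hK hg0 hAB ht0 ht hP.1 (haOf P hP.1)
    have h1 := haOf P' hP'.1
    rw [← heq] at h1
    by_contra hne
    have h2 : (FunFld.div k (t - algebraMap k K (aOf P))) P' = 0 := by
      rw [hsdiv, Finsupp.sub_apply, Finsupp.single_eq_of_ne (Ne.symm hne),
        Finsupp.single_eq_of_ne hP'.1, sub_zero]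
    rw [div_apply hK] at h2
    rw [val_eq_exp_neg_ord P' hs0, h2, neg_zero, exp_zero] at h1
    exact lt_irrefl _ h1
  -- dimension transfer at finite places
  have hfin : ∀ P ∈ F.erase B, ordSum V D d P =
      ∑ n ∈ Finset.range d, Module.finrank k ↥(W ⊓ Wr.filAt (aOf P) (n + 1)) := by
    intro P hP
    rw [Finset.mem_erase] at hP
    unfold ordSum
    apply Finset.sum_congr rfl
    intro n hn
    rw [Finset.mem_range] at hn
    apply finrank_inf_eq_of_iff Φ hΦinj hVΦ
    intro p hp
    have e : ((n : ℤ) + 1) = ((n + 1 : ℕ) : ℤ) := by push_cast; rfl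
    rw [hΦmem, e, Wr.mem_filAt]
    exact dvd_iff_aeval_mem hK hg0 hAB ht0 ht hP.1 (haOf P hP.1) (by omega) (hWd hp)
  -- dimension transfer at `B`
  have hinf : ordSum V D d B =
      ∑ n ∈ Finset.range d, Module.finrank k ↥(W ⊓ Wr.filInf d (n + 1)) := by
    unfold ordSum
    apply Finset.sum_congr rfl
    intro n hn
    rw [Finset.mem_range] at hn
    apply finrank_inf_eq_of_iff Φ hΦinj hVΦ
    intro p _
    have e : (Finsupp.single B (d : ℤ) - Finsupp.single B ((n : ℤ) + 1) : Divisor k K) =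
        Finsupp.single B ((d - (n + 1) : ℕ) : ℤ) := by
      rw [← Finsupp.single_sub]
      congr 1
      push_cast [Nat.cast_sub (show n + 1 ≤ d by omega)]
      ring
    rw [hΦmem, e]
    unfold Wr.filInf
    have e2 : d + 1 - (n + 1) = (d - (n + 1)) + 1 := by omega
    rw [e2]
    exact mem_degreeLT_iff hK hg0 hAB ht0 ht (d - (n + 1)) p
  have hmain := Wr.poly_plucker d (r + 1) W hWd hWr ((F.erase B).image aOf)
  rw [Finset.sum_image hinjOn, Finset.card_image_of_injOn hinjOn, Finset.card_erase_of_mem hB,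
    sum_fin_id] at hmain
  rw [← Finset.add_sum_erase F _ hB, hinf, Finset.sum_congr rfl hfin]
  have hcard : 1 ≤ F.card := Finset.card_pos.2 ⟨B, hB⟩
  obtain ⟨c, hc⟩ : ∃ c, F.card = c + 1 := ⟨F.card - 1, by omega⟩
  rw [hc] at hmain ⊢
  rw [Nat.add_sub_cancel] at hmain
  have e : (c + 1) * (r * (r + 1) / 2) = c * (r * (r + 1) / 2) + r * (r + 1) / 2 := by ring
  rw [e]
  omega

end Groth.Agent.Lib.Helper88.FF
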