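/-
Explicit basis of `L(nP)` on a function field of genus one (S19396).
Author: helper88
-/
import Groth.Agent.Lib.Helper88.FunFldElliptic

set_option autoImplicit false
set_option linter.unusedSectionVars false

namespace Groth.Agent.Lib.Helper88.FF

open FunFld WithZero

variable {k K : Type*} [Field k] [Field K] [Algebra k K]

/-- **S19396**. -/
theorem elliptic_basis (hK : IsFunctionField k K) (hgen : genus k K = 1)
    (P : Place k K) (hP : P.deg = 1) (f g : K)
    (hf : f ∈ L (Finsupp.single P 2 : Divisor k K)) (hf2 : P.ord f = -2)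
    (hg : g ∈ L (Finsupp.single P 3 : Divisor k K)) (hg3 : P.ord g = -3) (n : ℕ) (hn : 2 ≤ n) :
    LinearIndependent k
        (Sum.elim (fun i : Fin (n / 2 + 1) => f ^ (i : ℕ))
          (fun i : Fin ((n - 1) / 2) => f ^ (i : ℕ) * g)) ∧
      Submodule.span k (Set.range
        (Sum.elim (fun i : Fin (n / 2 + 1) => f ^ (i : ℕ))
          (fun i : Fin ((n - 1) / 2) => f ^ (i : ℕ) * g))) =
        L (Finsupp.single P (n : ℤ)) := by
  classical
  have hf0 : f ≠ 0 := by
    rintro rfl
    rw [ord_zero] at hf2
    omega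
  have hg0 : g ≠ 0 := by
    rintro rfl
    rw [ord_zero] at hg3
    omega
  set z : Fin (n / 2 + 1) ⊕ Fin ((n - 1) / 2) → K :=
    Sum.elim (fun i : Fin (n / 2 + 1) => f ^ (i : ℕ))
      (fun i : Fin ((n - 1) / 2) => f ^ (i : ℕ) * g) with hz
  have hz0 : ∀ i, z i ≠ 0 := by
    rintro (i | i)
    · exact pow_ne_zero _ hf0
    · exact mul_ne_zero (pow_ne_zero _ hf0) hg0
  have hordl : ∀ i : Fin (n / 2 + 1), P.ord (z (Sum.inl i)) = -2 * (i : ℕ) := by
    intro i
    simp only [hz, Sum.elim_inl]
    rw [ord_pow, hf2]; ring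
  have hordr : ∀ i : Fin ((n - 1) / 2), P.ord (z (Sum.inr i)) = -2 * (i : ℕ) - 3 := by
    intro i
    simp only [hz, Sum.elim_inr]
    rw [ord_mul P (pow_ne_zero _ hf0) hg0, ord_pow, hf2, hg3]; ring
  have hinj : Function.Injective fun i => P.1 (z i) := by
    intro i j hij
    have hord : P.ord (z i) = P.ord (z j) := by
      unfold Place.ord
      rw [show P.1 (z i) = P.1 (z j) from hij]
    rcases i with i | i <;> rcases j with j | j
    · rw [hordl, hordl] at hord
      congr 1
      exact Fin.ext (by omega)
    · rw [hordl, hordr] at hord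
      omega
    · rw [hordl, hordr] at hord
      omega
    · rw [hordr, hordr] at hord
      congr 1
      exact Fin.ext (by omega)
  have hli : LinearIndependent k z := linearIndependent_of_val_injective P z hz0 hinj
  refine ⟨hli, ?_⟩
  have hfd := finiteDimensional_L hK (Finsupp.single P (n : ℤ) : Divisor k K)
  have hmem : ∀ i, z i ∈ L (Finsupp.single P (n : ℤ) : Divisor k K) := by
    rintro (i | i)
    · have h1 := pow_mem_L hf (i : ℕ)
      refine L_mono ?_ h1
      rw [Finsupp.smul_single, nsmul_eq_mul]
      apply Finsupp.single_le_single.2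
      have := i.2
      have h2 : 2 * (i : ℕ) ≤ n := by omega
      have : (2 * (i : ℕ) : ℤ) ≤ n := by exact_mod_cast h2
      linarith
    · have h1 := mul_mem_L (pow_mem_L hf (i : ℕ)) hg
      refine L_mono ?_ h1
      rw [Finsupp.smul_single, nsmul_eq_mul, ← Finsupp.single_add]
      apply Finsupp.single_le_single.2
      have := i.2
      have h2 : 2 * (i : ℕ) + 3 ≤ n := by omega
      have : (2 * (i : ℕ) + 3 : ℤ) ≤ n := by exact_mod_cast h2
      linarith
  have hle : Submodule.span k (Set.range z) ≤ L (Finsupp.single P (n : ℤ) : Divisor k K) := by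
    rw [Submodule.span_le]
    rintro _ ⟨i, rfl⟩
    exact hmem i
  apply Submodule.eq_of_le_of_finrank_eq hle
  rw [finrank_span_eq_card hli]
  have hell := ell_eq_of_le_deg hK (D := (Finsupp.single P (n : ℤ) : Divisor k K))
    (by rw [hgen, deg_single, hP]; push_cast; have : (2 : ℤ) ≤ n := by exact_mod_cast hn
        linarith)
  rw [hgen, deg_single, hP] at hell
  unfold ell at hell
  have : (Module.finrank k ↥(L (Finsupp.single P (n : ℤ) : Divisor k K)) : ℤ) = n := by
    rw [hell]; push_cast; ring
  have h3 : Module.finrank k ↥(L (Finsupp.single P (n : ℤ) : Divisor k K)) = n := by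
    exact_mod_cast this
  rw [h3, Fintype.card_sum, Fintype.card_fin, Fintype.card_fin]
  omega

end Groth.Agent.Lib.Helper88.FF
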