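import Mathlib

set_option autoImplicit false

universe u

open TensorProduct IsLocalRing CategoryTheory AlgebraicGeometry

open scoped Pointwise

namespace Groth.Agent.Lib.Helper88.PrimBR

theorem hmem {X : Scheme.{u}} (x : X) {U : X.Opens} (hU : IsAffineOpen U) (hxU : x ∈ U)
    (s : Γ(X, U)) :
    s ∈ (hU.primeIdealOf ⟨x, hxU⟩).asIdeal ↔ (X.evaluation U x hxU).hom s = 0 := by
  rw [hU.primeIdealOf_eq_map_closedPoint]
  change (X.presheaf.germ U x hxU).hom s ∈ IsLocalRing.maximalIdeal _ ↔ _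
  rw [← IsLocalRing.residue_eq_zero_iff]
  rfl

theorem hfrac {Y : Scheme.{u}} (y : Y) {V : Y.Opens} (hV : IsAffineOpen V) (hyV : y ∈ V)
    (c : Y.residueField y) :
    ∃ s t : Γ(Y, V), (Y.evaluation V y hyV).hom t ≠ 0 ∧
      c = (Y.evaluation V y hyV).hom s / (Y.evaluation V y hyV).hom t := by
  obtain ⟨c', rfl⟩ := Y.residue_surjective y c
  let _ := TopCat.Presheaf.algebra_section_stalk Y.presheaf (⟨y, hyV⟩ : V)
  have := hV.isLocalization_stalk ⟨y, hyV⟩
  obtain ⟨s, t, rfl⟩ := IsLocalization.exists_mk'_eq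
    (hV.primeIdealOf ⟨y, hyV⟩).asIdeal.primeCompl c'
  have ht : (Y.evaluation V y hyV).hom t.1 ≠ 0 := by
    intro h
    exact t.2 ((hmem y hV hyV t.1).mpr h)
  refine ⟨s, t.1, ht, ?_⟩
  rw [eq_div_iff ht]
  have := IsLocalization.mk'_spec (M := (hV.primeIdealOf ⟨y, hyV⟩).asIdeal.primeCompl)
    (Y.presheaf.stalk y) s t
  have h2 := congrArg (Y.residue y).hom this
  rw [map_mul] at h2
  exact h2

theorem evnat {X Y : Scheme.{u}} (f : X ⟶ Y) (x : X) {U : X.Opens} (hxU : x ∈ U)
    {V : Y.Opens} (hUV : U ≤ f ⁻¹ᵁ V) (s : Γ(Y, V)) :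
    (X.evaluation U x hxU).hom ((f.appLE V U hUV).hom s) =
      (f.residueFieldMap x).hom ((Y.evaluation V (f x) (hUV hxU)).hom s) := by
  have h1 := Scheme.evaluation_naturality_apply f x (hUV hxU) s
  rw [show (f.residueFieldMap x).hom ((Y.evaluation V (f x) (hUV hxU)).hom s) =
    f.residueFieldMap x (Y.evaluation V (f x) (hUV hxU) s) from rfl, h1]
  rw [Scheme.Hom.appLE]
  simp only [CommRingCat.hom_comp, RingHom.coe_comp, Function.comp_apply]
  rw [← Scheme.germ_residue, ← Scheme.germ_residue]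
  simp only [CommRingCat.hom_comp, RingHom.coe_comp, Function.comp_apply]
  congr 1
  exact TopCat.Presheaf.germ_res_apply X.presheaf (homOfLE hUV) x hxU _

theorem primary_bridge {X Y : Scheme.{u}} (f : X ⟶ Y) (x : X)
    (hprim : letI := (f.residueFieldMap x).hom.toAlgebra;
      ∀ a : ↑(X.residueField x), IsSeparable ↑(Y.residueField (f x)) a →
        a ∈ (f.residueFieldMap x).hom.range)
    {U : X.Opens} (hU : IsAffineOpen U) (hxU : x ∈ U) {V : Y.Opens} (hV : IsAffineOpen V)
    (hUV : U ≤ f ⁻¹ᵁ V) :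
    letI : Algebra Γ(Y, V) Γ(X, U) := (f.appLE V U hUV).hom.toAlgebra;
    ∀ a : (hU.primeIdealOf ⟨x, hxU⟩).asIdeal.ResidueField,
      IsSeparable ↥(Subfield.closure (Set.range (algebraMap Γ(Y, V)
        (hU.primeIdealOf ⟨x, hxU⟩).asIdeal.ResidueField))) a →
      a ∈ Subfield.closure (Set.range (algebraMap Γ(Y, V)
        (hU.primeIdealOf ⟨x, hxU⟩).asIdeal.ResidueField)) := by
  letI : Algebra Γ(Y, V) Γ(X, U) := (f.appLE V U hUV).hom.toAlgebra
  intro a ha
  set 𝔭 := (hU.primeIdealOf ⟨x, hxU⟩).asIdeal with h𝔭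
  set F := Subfield.closure (Set.range (algebraMap Γ(Y, V) 𝔭.ResidueField)) with hF
  let ev : Γ(X, U) →+* X.residueField x := (X.evaluation U x hxU).hom
  let φ : Y.residueField (f x) →+* X.residueField x := (f.residueFieldMap x).hom
  let evY : Γ(Y, V) →+* Y.residueField (f x) := (Y.evaluation V (f x) (hUV hxU)).hom
  have h1 : 𝔭 ≤ RingHom.ker ev := fun s hs => (hmem x hU hxU s).mp hs
  have h2 : 𝔭.primeCompl ≤ (IsUnit.submonoid (X.residueField x)).comap ev := by
    intro s hs
    change IsUnit (ev s)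
    rw [isUnit_iff_ne_zero]
    exact fun h => hs ((hmem x hU hxU s).mpr h)
  let e : 𝔭.ResidueField →+* X.residueField x := Ideal.ResidueField.lift 𝔭 ev h1 h2
  have he : ∀ r : Γ(X, U), e (algebraMap Γ(X, U) 𝔭.ResidueField r) = ev r :=
    fun r => Ideal.ResidueField.lift_algebraMap 𝔭 ev h1 h2 r
  have heY : ∀ s : Γ(Y, V), e (algebraMap Γ(Y, V) 𝔭.ResidueField s) = φ (evY s) := by
    intro s
    rw [IsScalarTower.algebraMap_apply Γ(Y, V) Γ(X, U) 𝔭.ResidueField, he]
    exact evnat f x hxU hUV s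
  have hB : F ≤ φ.fieldRange.comap e := by
    rw [hF, Subfield.closure_le]
    rintro _ ⟨s, rfl⟩
    change e _ ∈ φ.fieldRange
    rw [heY]
    exact ⟨_, rfl⟩
  have hC : ∀ c : Y.residueField (f x), ∃ y ∈ F, e y = φ c := by
    intro c
    obtain ⟨s, t, ht, rfl⟩ := hfrac (f x) hV (hUV hxU) c
    refine ⟨algebraMap Γ(Y, V) 𝔭.ResidueField s / algebraMap Γ(Y, V) 𝔭.ResidueField t,
      div_mem (Subfield.subset_closure ⟨s, rfl⟩) (Subfield.subset_closure ⟨t, rfl⟩), ?_⟩
    rw [map_div₀, map_div₀, heY, heY]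
  -- the comparison map F → k0
  let eF : F →+* X.residueField x := e.comp F.subtype
  have heF : ∀ y : F, eF y ∈ φ.fieldRange := fun y => hB y.2
  let ψ : F →+* Y.residueField (f x) :=
    (φ.rangeRestrictFieldEquiv.symm : φ.fieldRange →+* Y.residueField (f x)).comp
      (eF.codRestrict φ.fieldRange heF)
  have hψ : ∀ y : F, φ (ψ y) = e y := by
    intro y
    change φ (φ.rangeRestrictFieldEquiv.symm (eF.codRestrict φ.fieldRange heF y)) = _
    rw [RingHom.rangeRestrictFieldEquiv_apply_symm_apply]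
    rfl
  letI : Algebra (Y.residueField (f x)) (X.residueField x) := φ.toAlgebra
  have hsep : IsSeparable (Y.residueField (f x)) (e a) := by
    have hp : (minpoly F a).Separable := ha
    have hq : ((minpoly F a).map ψ).Separable := hp.map
    have hroot : Polynomial.aeval (e a) ((minpoly F a).map ψ) = 0 := by
      rw [Polynomial.aeval_def, Polynomial.eval₂_map]
      have h3 : (algebraMap (Y.residueField (f x)) (X.residueField x)).comp ψ =
          e.comp (algebraMap F 𝔭.ResidueField) := by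
        ext y
        exact hψ y
      rw [h3, ← Polynomial.hom_eval₂, ← Polynomial.aeval_def, minpoly.aeval, map_zero]
    exact hq.of_dvd (minpoly.dvd _ _ hroot)
  obtain ⟨c, hc⟩ := hprim (e a) hsep
  obtain ⟨y, hy, hye⟩ := hC c
  have : y = a := e.injective (by rw [hye]; exact hc)
  rw [← this]
  exact hy

end Groth.Agent.Lib.Helper88.PrimBR
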