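/-
Canonical ideals, part II-a: subalgebras `A ⊆ k[[t]]` containing `t^c k[[t]]` over which `k[[t]]`
is finite: `A` is a Noetherian local ring.
Author: helper88
-/
import Mathlib

set_option autoImplicit false
set_option linter.style.haveILetI false

namespace Groth.Agent.Lib.Helper88.CanonPS

open PowerSeries

universe u

variable {k : Type u} [Field k]

lemma exists_eq_X_pow_mul {f : k⟦X⟧} {n : ℕ} (h : (n : ℕ∞) ≤ order f) :
    ∃ g : k⟦X⟧, f = X ^ n * g := by
  have : (X : k⟦X⟧) ^ n ∣ f := by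
    rw [PowerSeries.X_pow_dvd_iff]
    intro m hm
    exact coeff_of_lt_order m (lt_of_lt_of_le (by exact_mod_cast hm) h)
  obtain ⟨g, hg⟩ := this
  exact ⟨g, hg⟩

lemma ne_zero_of_order_eq {f : k⟦X⟧} {n : ℕ} (h : order f = n) : f ≠ 0 := by
  rintro rfl
  rw [order_zero] at h
  exact ENat.top_ne_coe _ h

lemma exists_unit_factor {f : k⟦X⟧} {n : ℕ} (h : order f = n) :
    ∃ g : k⟦X⟧, constantCoeff g ≠ 0 ∧ f = X ^ n * g := by
  have hf0 : f ≠ 0 := ne_zero_of_order_eq h
  refine ⟨divXPowOrder f, ?_, ?_⟩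
  · rw [Ne, constantCoeff_divXPowOrder_eq_zero_iff]
    exact hf0
  · have := X_pow_order_mul_divXPowOrder (f := f)
    rw [h, ENat.toNat_coe] at this
    exact this.symm

lemma order_X_pow_mul (n : ℕ) (g : k⟦X⟧) : order (X ^ n * g) = n + order g := by
  rw [order_mul, order_X_pow]

lemma order_eq_zero_of_constantCoeff_ne_zero {g : k⟦X⟧} (h : constantCoeff g ≠ 0) :
    order g = 0 := by
  by_contra hne
  exact h (order_ne_zero_iff_constCoeff_eq_zero.1 hne)

/-- Killing the leading term. -/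
lemma exists_order_sub_gt {f g : k⟦X⟧} {n : ℕ} (hf : order f = n) (hg : order g = n) :
    ∃ c : k, (n : ℕ∞) < order (f - C c * g) := by
  obtain ⟨hfn, hflt⟩ := order_eq_nat.1 hf
  obtain ⟨hgn, hglt⟩ := order_eq_nat.1 hg
  refine ⟨coeff n f / coeff n g, ?_⟩
  have h1 : ((n + 1 : ℕ) : ℕ∞) ≤ order (f - C (coeff n f / coeff n g) * g) := by
    apply nat_le_order
    intro i hi
    rw [map_sub, coeff_C_mul]
    rcases Nat.lt_succ_iff_lt_or_eq.1 hi with h | h
    · rw [hflt i h, hglt i h, mul_zero, sub_zero]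
    · rw [h, div_mul_cancel₀ _ hgn, sub_self]
  refine lt_of_lt_of_le ?_ h1
  exact_mod_cast Nat.lt_succ_self n

/-- The standing assumptions: `k[[t]]` is finite over `A` and `t^c k[[t]] ⊆ A`, `c ≥ 1`. -/
structure Setup (A : Subalgebra k k⟦X⟧) (c : ℕ) : Prop where
  fin : Module.Finite ↥A k⟦X⟧
  cond : ∀ f : k⟦X⟧, (c : ℕ∞) ≤ order f → f ∈ A
  cpos : 1 ≤ c

variable {A : Subalgebra k k⟦X⟧} {c : ℕ}

lemma Setup.X_pow_mul_mem (h : Setup A c) (b : k⟦X⟧) : X ^ c * b ∈ A := by
  apply h.cond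
  rw [order_X_pow_mul]
  exact le_self_add

lemma Setup.C_mem (A : Subalgebra k k⟦X⟧) (a : k) : C a ∈ A := A.algebraMap_mem a

/-- Elements of `A` with nonzero constant term are invertible in `A`. -/
lemma Setup.inv_mem (h : Setup A c) {a : k⟦X⟧} (ha : a ∈ A) (ha0 : constantCoeff a ≠ 0) :
    a⁻¹ ∈ A := by
  set a₀ := constantCoeff a with ha₀
  set hh : k⟦X⟧ := 1 - C a₀⁻¹ * a with hhh
  have hhA : hh ∈ A := A.sub_mem A.one_mem (A.mul_mem (Setup.C_mem A _) ha)
  have hh0 : constantCoeff hh = 0 := by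
    rw [hhh, map_sub, map_one, map_mul, constantCoeff_C, ← ha₀, inv_mul_cancel₀ ha0, sub_self]
  set s : k⟦X⟧ := C a₀⁻¹ * ∑ i ∈ Finset.range c, hh ^ i with hs
  have hsA : s ∈ A :=
    A.mul_mem (Setup.C_mem A _) (A.sum_mem (fun i _ => A.pow_mem hhA i))
  have h1 : a * s = 1 - hh ^ c := by
    have : C a₀⁻¹ * a = 1 - hh := by rw [hhh]; ring
    rw [hs, ← mul_assoc, mul_comm a, this, mul_neg_geom_sum]
  have h2 : a⁻¹ = s + a⁻¹ * hh ^ c := by
    have h3 : a⁻¹ * (a * s) = s := by
      rw [← mul_assoc, PowerSeries.inv_mul_cancel _ ha0, one_mul]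
    rw [h1] at h3
    rw [← h3]
    ring
  rw [h2]
  refine A.add_mem hsA (h.cond _ ?_)
  refine le_trans ?_ (le_order_mul _ _)
  refine le_trans ?_ (add_le_add_right (le_order_pow_of_constantCoeff_eq_zero c hh0) _)
  exact le_add_self

lemma Setup.isUnit_iff (h : Setup A c) (a : ↥A) :
    IsUnit a ↔ constantCoeff (a : k⟦X⟧) ≠ 0 := by
  constructor
  · rintro ⟨u, rfl⟩
    intro h0
    have h1 : ((u : ↥A) : k⟦X⟧) * ((u⁻¹ : (↥A)ˣ) : ↥A) = 1 := by
      have := congrArg (Subtype.val) u.mul_inv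
      exact this
    have h2 := congrArg constantCoeff h1
    rw [map_mul, h0, zero_mul, map_one] at h2
    exact zero_ne_one h2
  · intro h0
    refine ⟨⟨a, ⟨(a : k⟦X⟧)⁻¹, h.inv_mem a.2 h0⟩, ?_, ?_⟩, rfl⟩
    · exact Subtype.ext (PowerSeries.mul_inv_cancel _ h0)
    · exact Subtype.ext (PowerSeries.inv_mul_cancel _ h0)

theorem Setup.isLocalRing (h : Setup A c) : IsLocalRing ↥A := by
  apply IsLocalRing.of_nonunits_add
  intro a b ha hb
  rw [mem_nonunits_iff, h.isUnit_iff, not_not] at ha hb ⊢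
  rw [Subalgebra.coe_add, map_add, ha, hb, add_zero]

lemma Setup.mem_maximalIdeal_iff (h : Setup A c) (a : ↥A) :
    haveI := h.isLocalRing
    a ∈ IsLocalRing.maximalIdeal ↥A ↔ constantCoeff (a : k⟦X⟧) = 0 := by
  haveI := h.isLocalRing
  rw [IsLocalRing.mem_maximalIdeal, mem_nonunits_iff, h.isUnit_iff, not_not]

/-- Every `A`-submodule of `k[[t]]` is finitely generated. -/
theorem Setup.fg_submodule (h : Setup A c) (N : Submodule ↥A k⟦X⟧) : N.FG := by
  classical
  haveI := h.fin
  by_cases hN : N = ⊥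
  · rw [hN]
    exact Submodule.fg_bot
  have hex : ∃ n : ℕ, ∃ f ∈ N, order f = n := by
    obtain ⟨f, hf, hf0⟩ := Submodule.exists_mem_ne_zero_of_ne_bot hN
    exact ⟨(order f).toNat, f, hf, (coe_toNat_order hf0).symm⟩
  set d := Nat.find hex with hd
  obtain ⟨f₀, hf₀N, hf₀⟩ := Nat.find_spec hex
  have hmin : ∀ f ∈ N, f ≠ 0 → (d : ℕ∞) ≤ order f := by
    intro f hf hf0
    have h1 : d ≤ (order f).toNat :=
      Nat.find_min' hex ⟨f, hf, (coe_toNat_order hf0).symm⟩
    rw [← coe_toNat_order hf0]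
    exact_mod_cast h1
  -- generators
  set g : ℕ → k⟦X⟧ := fun j =>
    if hj : ∃ f ∈ N, order f = ((d + j : ℕ) : ℕ∞) then hj.choose else 0 with hg
  have hgN : ∀ j, g j ∈ N := by
    intro j
    simp only [hg]
    split_ifs with hj
    · exact hj.choose_spec.1
    · exact N.zero_mem
  have hgord : ∀ j, (∃ f ∈ N, order f = ((d + j : ℕ) : ℕ∞)) →
      order (g j) = ((d + j : ℕ) : ℕ∞) := by
    intro j hj
    simp only [hg]
    rw [dif_pos hj]
    exact hj.choose_spec.2
  set T : Submodule ↥A k⟦X⟧ :=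
    Submodule.map (LinearMap.mulLeft ↥A (X ^ (d + c) : k⟦X⟧)) ⊤ with hT
  set P : Submodule ↥A k⟦X⟧ := Submodule.span ↥A (g '' (Finset.range c : Set ℕ)) ⊔ T with hP
  have hPfg : P.FG :=
    (Submodule.fg_span ((Finset.range c).finite_toSet.image g)).sup
      ((Module.Finite.fg_top).map _)
  have hTN : T ≤ N := by
    rintro _ ⟨b, -, rfl⟩
    obtain ⟨w, hw0, hw⟩ := exists_unit_factor hf₀
    show X ^ (d + c) * b ∈ N
    have h1 : X ^ (d + c) * b = (⟨X ^ c * (w⁻¹ * b), h.X_pow_mul_mem _⟩ : ↥A) • f₀ := by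
      show X ^ (d + c) * b = X ^ c * (w⁻¹ * b) * f₀
      rw [hw, pow_add]
      have : w⁻¹ * w = 1 := PowerSeries.inv_mul_cancel _ hw0
      calc X ^ d * X ^ c * b = X ^ d * X ^ c * b * (w⁻¹ * w) := by rw [this, mul_one]
        _ = _ := by ring
    rw [h1]
    exact N.smul_mem _ hf₀N
  have hPN : P ≤ N := by
    refine sup_le (Submodule.span_le.2 ?_) hTN
    rintro _ ⟨j, -, rfl⟩
    exact hgN j
  have hNP : ∀ e : ℕ, ∀ f ∈ N, ((d + c : ℕ) : ℕ∞) ≤ order f + e → f ∈ P := by
    intro e
    induction e with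
    | zero =>
      intro f hf hle
      rw [Nat.cast_zero, add_zero] at hle
      obtain ⟨b, rfl⟩ := exists_eq_X_pow_mul hle
      exact Submodule.mem_sup_right ⟨b, Submodule.mem_top, rfl⟩
    | succ e ih =>
      intro f hf hle
      by_cases hcase : ((d + c : ℕ) : ℕ∞) ≤ order f + e
      · exact ih f hf hcase
      · rw [not_le] at hcase
        have hf0 : f ≠ 0 := by
          rintro rfl
          rw [order_zero, top_add] at hcase
          exact absurd hcase (not_lt.2 le_top)
        set n' := (order f).toNat with hn'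
        have hord : order f = n' := (coe_toNat_order hf0).symm
        rw [hord] at hcase hle
        have hlt : n' + e < d + c := by exact_mod_cast hcase
        have hge : d + c ≤ n' + (e + 1) := by exact_mod_cast hle
        have hdn : d ≤ n' := by
          have := hmin f hf hf0
          rw [hord] at this
          exact_mod_cast this
        have hjc : n' - d < c := by omega
        have hn'eq : d + (n' - d) = n' := by omega
        have hgj : order (g (n' - d)) = (n' : ℕ∞) := by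
          have := hgord (n' - d) ⟨f, hf, by rw [hord, hn'eq]⟩
          rw [hn'eq] at this
          exact this
        obtain ⟨l, hl⟩ := exists_order_sub_gt hord hgj
        have hmem : f - C l * g (n' - d) ∈ N := by
          refine N.sub_mem hf ?_
          have : C l * g (n' - d) = (⟨C l, Setup.C_mem A l⟩ : ↥A) • g (n' - d) := rfl
          rw [this]
          exact N.smul_mem _ (hgN _)
        have h2 := ih _ hmem (by
          have h3 : ((n' + 1 : ℕ) : ℕ∞) ≤ order (f - C l * g (n' - d)) := by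
            rw [Nat.cast_add, Nat.cast_one]
            exact (ENat.add_one_le_iff (ENat.natCast_ne_top n')).2 hl
          calc ((d + c : ℕ) : ℕ∞) ≤ ((n' + 1 + e : ℕ) : ℕ∞) := by exact_mod_cast (by omega)
            _ = ((n' + 1 : ℕ) : ℕ∞) + e := by push_cast; rfl
            _ ≤ _ := add_le_add_left h3 _)
        have h4 : C l * g (n' - d) ∈ P := by
          apply Submodule.mem_sup_left
          have : C l * g (n' - d) = (⟨C l, Setup.C_mem A l⟩ : ↥A) • g (n' - d) := rfl
          rw [this]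
          exact Submodule.smul_mem _ _ (Submodule.subset_span
            ⟨n' - d, by simpa using hjc, rfl⟩)
        have h5 : f = (f - C l * g (n' - d)) + C l * g (n' - d) := by ring
        rw [h5]
        exact P.add_mem h2 h4
  have hNP' : N ≤ P := by
    intro f hf
    refine hNP (d + c) f hf ?_
    exact le_add_self
  rw [le_antisymm hNP' hPN]
  exact hPfg

theorem Setup.isNoetherian (h : Setup A c) : IsNoetherian ↥A k⟦X⟧ :=
  ⟨fun N => h.fg_submodule N⟩

theorem Setup.isNoetherianRing (h : Setup A c) : IsNoetherianRing ↥A := by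
  haveI := h.isNoetherian
  exact isNoetherian_of_injective (Algebra.linearMap ↥A k⟦X⟧) Subtype.val_injective

end Groth.Agent.Lib.Helper88.CanonPS
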