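/-
Canonical ideals, part II-b: homomorphisms between `A`-submodules of `k[[t]]` are multiplications;
the duality step.
Author: helper88
-/
import Groth.Agent.Lib.Helper88.CanonPS
import Groth.Agent.Lib.Helper88.CanonExt

set_option autoImplicit false
set_option linter.style.haveILetI false

namespace Groth.Agent.Lib.Helper88.CanonPS

open PowerSeries CategoryTheory

universe u

variable {k : Type u} [Field k] {A : Subalgebra k k⟦X⟧} {c : ℕ}

/-- `t^j k[[t]]` as an `A`-submodule. -/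
noncomputable def T (A : Subalgebra k k⟦X⟧) (j : ℕ) : Submodule ↥A k⟦X⟧ :=
  LinearMap.range (LinearMap.mulLeft ↥A (X ^ j : k⟦X⟧))

lemma mem_T {j : ℕ} {f : k⟦X⟧} : f ∈ T A j ↔ ∃ b : k⟦X⟧, X ^ j * b = f := by
  rw [T, LinearMap.mem_range]
  rfl

lemma X_pow_mul_mem_T (j : ℕ) (b : k⟦X⟧) : X ^ j * b ∈ T A j := mem_T.2 ⟨b, rfl⟩

lemma const_split (b : k⟦X⟧) : ∃ b' : k⟦X⟧, b = C (constantCoeff b) + X * b' := by
  have h0 : constantCoeff (b - C (constantCoeff b)) = 0 := by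
    rw [map_sub, constantCoeff_C, sub_self]
  obtain ⟨b', hb'⟩ := X_dvd_iff.2 h0
  exact ⟨b', by rw [← hb']; ring⟩

/-- **Homomorphisms are multiplications** (cross-multiplied form). -/
lemma hom_cross (h : Setup A c) (ω : Submodule ↥A k⟦X⟧) {P : Type*} [AddCommGroup P]
    [Module ↥A P] (ι : P →ₗ[↥A] k⟦X⟧) (hι : Function.Injective ι) (φ : P →ₗ[↥A] ↥ω)
    (x₀ x : P) : ι x₀ * (φ x : k⟦X⟧) = ι x * (φ x₀ : k⟦X⟧) := by
  set a : ↥A := ⟨X ^ c * ι x₀, h.X_pow_mul_mem _⟩ with ha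
  set b : ↥A := ⟨X ^ c * ι x, h.X_pow_mul_mem _⟩ with hb
  have h1 : a • x = b • x₀ := by
    apply hι
    rw [map_smul, map_smul]
    show X ^ c * ι x₀ * ι x = X ^ c * ι x * ι x₀
    ring
  have h2 : ((φ (a • x) : ↥ω) : k⟦X⟧) = ((φ (b • x₀) : ↥ω) : k⟦X⟧) := by rw [h1]
  rw [map_smul, map_smul] at h2
  have h3 : X ^ c * ι x₀ * (φ x : k⟦X⟧) = X ^ c * ι x * (φ x₀ : k⟦X⟧) := h2
  have hX : (X : k⟦X⟧) ^ c ≠ 0 := pow_ne_zero c X_ne_zero
  apply mul_left_cancel₀ hX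
  rw [← mul_assoc, h3, mul_assoc]

/-- The quotient `(M + t^j B)/(M + t^{j+1} B)` is cyclic on the class of `t^j`, with annihilator
the maximal ideal, when `j` is not a value of `M` (stated for abstract modules `Q → P` with images
`M + t^{j+1} B ⊆ M + t^j B`). -/
theorem quot_facts {P Q : Type u} [AddCommGroup P] [Module ↥A P] [AddCommGroup Q]
    [Module ↥A Q] (ι : P →ₗ[↥A] k⟦X⟧) (f : Q →ₗ[↥A] P)
    (M : Submodule ↥A k⟦X⟧) (j : ℕ)
    (hj : ¬ ∃ x ∈ M, order x = (j : ℕ∞))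
    (hP : LinearMap.range ι = M ⊔ T A j)
    (hQ : ∀ p : P, p ∈ LinearMap.range f ↔ ι p ∈ M ⊔ T A (j + 1))
    (p₀ : P) (hp₀ : ι p₀ = X ^ j) :
    (∀ a : ↥A, a • p₀ ∈ LinearMap.range f ↔ constantCoeff (a : k⟦X⟧) = 0) ∧
      (∀ y : P, ∃ a : ↥A, y - a • p₀ ∈ LinearMap.range f) := by
  set N := M ⊔ T A (j + 1) with hN
  set M' := M ⊔ T A j with hM'
  have hrange : ∀ p : P, p ∈ LinearMap.range f ↔ ι p ∈ N := hQ
  constructor
  · intro a
    rw [hrange, map_smul, hp₀]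
    show (a : k⟦X⟧) * X ^ j ∈ N ↔ _
    constructor
    · intro hmem
      by_contra h0
      obtain ⟨x, hx, y, hy, hxy⟩ := Submodule.mem_sup.1 hmem
      obtain ⟨b, rfl⟩ := mem_T.1 hy
      apply hj
      refine ⟨x, hx, ?_⟩
      have hx' : x = (a : k⟦X⟧) * X ^ j - X ^ (j + 1) * b := by rw [← hxy]; ring
      rw [hx', order_eq_nat]
      constructor
      · rw [map_sub, coeff_mul_X_pow', if_pos le_rfl, Nat.sub_self, coeff_zero_eq_constantCoeff,
          coeff_X_pow_mul', if_neg (by omega), sub_zero]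
        exact h0
      · intro i hi
        rw [map_sub, coeff_mul_X_pow', if_neg (by omega), coeff_X_pow_mul', if_neg (by omega),
          sub_zero]
    · intro h0
      obtain ⟨a', ha'⟩ := X_dvd_iff.2 h0
      apply Submodule.mem_sup_right
      rw [ha']
      have : X * a' * X ^ j = X ^ (j + 1) * a' := by ring
      rw [this]
      exact X_pow_mul_mem_T _ _
  · intro y
    have hy : ι y ∈ M' := by rw [← hP]; exact ⟨y, rfl⟩
    obtain ⟨x, hx, z, hz, hxz⟩ := Submodule.mem_sup.1 hy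
    obtain ⟨b, rfl⟩ := mem_T.1 hz
    obtain ⟨b', hb'⟩ := const_split b
    refine ⟨⟨C (constantCoeff b), Setup.C_mem A _⟩, ?_⟩
    rw [hrange, map_sub, map_smul, hp₀]
    show ι y - C (constantCoeff b) * X ^ j ∈ N
    have : ι y - C (constantCoeff b) * X ^ j = x + X ^ (j + 1) * b' := by
      linear_combination (-1 : k⟦X⟧) * hxz + X ^ j * hb'
    rw [this]
    exact N.add_mem (Submodule.mem_sup_left hx) (Submodule.mem_sup_right (X_pow_mul_mem_T _ _))

/-- The same facts for `k[[t]] / t k[[t]]`. -/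
theorem quot_facts_top :
    (∀ a : ↥A, a • (1 : k⟦X⟧) ∈ LinearMap.range (LinearMap.mulLeft ↥A (X : k⟦X⟧)) ↔
      constantCoeff (a : k⟦X⟧) = 0) ∧
      (∀ y : k⟦X⟧, ∃ a : ↥A, y - a • (1 : k⟦X⟧) ∈
        LinearMap.range (LinearMap.mulLeft ↥A (X : k⟦X⟧))) := by
  constructor
  · intro a
    rw [LinearMap.mem_range]
    show (∃ y : k⟦X⟧, X * y = (a : k⟦X⟧) * 1) ↔ _
    rw [mul_one, ← X_dvd_iff]
    constructor
    · rintro ⟨y, hy⟩
      exact ⟨y, hy.symm⟩
    · rintro ⟨y, hy⟩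
      exact ⟨y, hy.symm⟩
  · intro b
    obtain ⟨b', hb'⟩ := const_split b
    refine ⟨⟨C (constantCoeff b), Setup.C_mem A _⟩, ?_⟩
    rw [LinearMap.mem_range]
    refine ⟨b', ?_⟩
    show X * b' = b - C (constantCoeff b) * 1
    linear_combination (-1 : k⟦X⟧) * hb'

end Groth.Agent.Lib.Helper88.CanonPS
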