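/-
Canonical ideals, part III: the duality step and the value set of `(ω : M)`.
Author: helper88
-/
import Groth.Agent.Lib.Helper88.CanonHom

set_option autoImplicit false
set_option linter.style.haveILetI false

namespace Groth.Agent.Lib.Helper88.CanonPS

open PowerSeries CategoryTheory

universe u

/-- Transport of a non-member along an isomorphism of quotients. -/
lemma exists_not_mem_of_quot_equiv {R : Type*} [CommRing R] {H₁ H₂ : Type*} [AddCommGroup H₁]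
    [Module R H₁] [AddCommGroup H₂] [Module R H₂] (S₁ : Submodule R H₁) (S₂ : Submodule R H₂)
    (E : (H₁ ⧸ S₁) ≃ₗ[R] (H₂ ⧸ S₂)) (φ₀ : H₂) (hφ₀ : φ₀ ∉ S₂) : ∃ ψ : H₁, ψ ∉ S₁ := by
  by_contra hall
  push Not at hall
  apply hφ₀
  rw [← Submodule.Quotient.mk_eq_zero]
  apply E.symm.injective
  rw [map_zero]
  obtain ⟨ψ, hψ⟩ := Submodule.Quotient.mk_surjective _ (E.symm (Submodule.Quotient.mk φ₀))
  rw [← hψ, Submodule.Quotient.mk_eq_zero]
  exact hall ψ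

variable {k : Type u} [Field k] {A : Subalgebra k k⟦X⟧} {c : ℕ}

lemma T_succ_le (j : ℕ) : T A (j + 1) ≤ T A j := by
  intro f hf
  obtain ⟨b, rfl⟩ := mem_T.1 hf
  rw [pow_succ, mul_assoc]
  exact X_pow_mul_mem_T _ _

/-- **The duality step**: if `j` is not a value of `M ∋ 1`, there is a multiplier `u` with
`u M ⊆ ω` of order `m - 1 - j`, where `t^m k[[t]]` is the largest `k[[t]]`-ideal in `ω`. -/
theorem exists_mul_of_gap (h : Setup A c) (ω : Submodule ↥A k⟦X⟧)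
    (hωinj : HasInjectiveDimensionLT (ModuleCat.of ↥A ↥ω) 2)
    (m : ℕ) (hm1 : ∀ b : k⟦X⟧, X ^ m * b ∈ ω)
    (hm2 : ∀ u : k⟦X⟧, (∀ b, u * b ∈ ω) → (m : ℕ∞) ≤ order u)
    (M : Submodule ↥A k⟦X⟧) (hM1 : (1 : k⟦X⟧) ∈ M) (j : ℕ)
    (hj : ¬ ∃ x ∈ M, order x = (j : ℕ∞)) :
    ∃ u : k⟦X⟧, (∀ x ∈ M, u * x ∈ ω) ∧ order u + ((j + 1 : ℕ) : ℕ∞) = m := by
  haveI := h.isLocalRing
  haveI := h.isNoetherianRing
  haveI := h.isNoetherian
  haveI := h.fin
  set N := M ⊔ T A (j + 1) with hN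
  set M' := M ⊔ T A j with hM'
  have hle : N ≤ M' := sup_le_sup_left (T_succ_le j) M
  -- the class of `t^j`
  have hXjM' : (X : k⟦X⟧) ^ j ∈ M' := by
    refine Submodule.mem_sup_right ?_
    have := X_pow_mul_mem_T (A := A) j 1
    rwa [mul_one] at this
  set p₀ : ↥M' := ⟨X ^ j, hXjM'⟩ with hp₀
  obtain ⟨hk₁, hs₁⟩ := quot_facts (P := ↥M') (Q := ↥N) M'.subtype
    (Submodule.inclusion hle) M j hj (Submodule.range_subtype M') (by
      intro p
      rw [Submodule.range_inclusion]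
      rfl) p₀ rfl
  obtain ⟨hk₂, hs₂⟩ := quot_facts_top (A := A)
  -- the regular element
  have hXc : (X : k⟦X⟧) ^ c ∈ A := by
    have := h.X_pow_mul_mem (1 : k⟦X⟧)
    rwa [mul_one] at this
  set xA : ↥A := ⟨X ^ c, hXc⟩ with hxA
  have hx : xA ∈ IsLocalRing.maximalIdeal ↥A := by
    rw [h.mem_maximalIdeal_iff]
    show constantCoeff ((X : k⟦X⟧) ^ c) = 0
    rw [map_pow, constantCoeff_X, zero_pow]
    have := h.cpos
    omega
  have hX0 : (X : k⟦X⟧) ^ c ≠ 0 := pow_ne_zero c X_ne_zero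
  have hreg : IsSMulRegular ↥M' xA := by
    intro y y' hyy'
    apply Subtype.ext
    have h1 : ((xA • y : ↥M') : k⟦X⟧) = ((xA • y' : ↥M') : k⟦X⟧) := congrArg Subtype.val hyy'
    exact mul_left_cancel₀ hX0 h1
  have hreg' : IsSMulRegular k⟦X⟧ xA := by
    intro y y' hyy'
    exact mul_left_cancel₀ hX0 hyy'
  set f' : k⟦X⟧ →ₗ[↥A] k⟦X⟧ := LinearMap.mulLeft ↥A (X : k⟦X⟧) with hf'
  have hf'inj : Function.Injective f' := fun a b hab => mul_left_cancel₀ X_ne_zero hab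
  -- the second cokernel is nonzero
  set φ₀ : k⟦X⟧ →ₗ[↥A] ↥ω :=
    LinearMap.codRestrict ω (LinearMap.mulLeft ↥A ((X : k⟦X⟧) ^ m)) (fun b => hm1 b) with hφ₀
  have hφ₀not : ¬ ∃ φ : k⟦X⟧ →ₗ[↥A] ↥ω, φ ∘ₗ f' = φ₀ := by
    rintro ⟨φ, hφ⟩
    set w : k⟦X⟧ := (φ 1 : k⟦X⟧) with hw
    have hcross : ∀ b : k⟦X⟧, (φ b : k⟦X⟧) = b * w := by
      intro b
      have := hom_cross h ω (LinearMap.id : k⟦X⟧ →ₗ[↥A] k⟦X⟧) Function.injective_id φ 1 b
      simpa using this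
    have hwB : ∀ b : k⟦X⟧, w * b ∈ ω := by
      intro b
      rw [mul_comm, ← hcross]
      exact (φ b).2
    have hmw := hm2 w hwB
    have h1 : ((φ₀ 1 : ↥ω) : k⟦X⟧) = ((φ (f' 1) : ↥ω) : k⟦X⟧) := by
      rw [← hφ]
      rfl
    rw [hcross] at h1
    have h2 : (X : k⟦X⟧) ^ m * 1 = X * 1 * w := h1
    have h3 := congrArg order h2
    rw [mul_one, mul_one, order_X_pow, order_mul, order_X] at h3
    have hne : order w ≠ ⊤ := by
      intro htop
      rw [htop, add_top] at h3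
      exact ENat.natCast_ne_top _ h3
    obtain ⟨d, hd⟩ := ENat.ne_top_iff_exists.1 hne
    rw [← hd] at h3 hmw
    have h4 : m = 1 + d := by exact_mod_cast h3
    have h5 : m ≤ d := by exact_mod_cast hmw
    omega
  have hfinM' : Module.Finite ↥A ↥M' := Module.Finite.iff_fg.2 (h.fg_submodule M')
  have hfinω : Module.Finite ↥A ↥ω := Module.Finite.iff_fg.2 (h.fg_submodule ω)
  obtain ⟨ψ, hψ⟩ := CanonExt.exists_nonextendable (R' := ↥A) h.isNoetherianRing h.isLocalRing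
    ↥ω hfinω hωinj (N := ↥N) (M := ↥M') (N' := k⟦X⟧) (M' := k⟦X⟧) hfinM' h.fin
    (Submodule.inclusion hle) (Submodule.inclusion_injective hle) f' hf'inj p₀ 1
    hs₁ hs₂ (fun a => by rw [hk₁, hk₂]) xA hx hreg hreg' φ₀ hφ₀not
  have hN1 : (1 : k⟦X⟧) ∈ N := Submodule.mem_sup_left hM1
  set u : k⟦X⟧ := (ψ ⟨1, hN1⟩ : k⟦X⟧) with hu
  have hcross : ∀ x : ↥N, (ψ x : k⟦X⟧) = u * (x : k⟦X⟧) := by
    intro x
    have := hom_cross h ω N.subtype Subtype.val_injective ψ ⟨1, hN1⟩ x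
    simp only [Submodule.subtype_apply, one_mul] at this
    rw [this, mul_comm]
  have huN : ∀ x ∈ N, u * x ∈ ω := by
    intro x hx
    have := hcross ⟨x, hx⟩
    rw [← this]
    exact (ψ ⟨x, hx⟩).2
  have huM : ∀ x ∈ M, u * x ∈ ω := fun x hx => huN x (Submodule.mem_sup_left hx)
  have hub : ∀ b : k⟦X⟧, u * X ^ (j + 1) * b ∈ ω := by
    intro b
    rw [mul_assoc]
    exact huN _ (Submodule.mem_sup_right (X_pow_mul_mem_T _ _))
  have hle1 : (m : ℕ∞) ≤ order u + ((j + 1 : ℕ) : ℕ∞) := by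
    have := hm2 _ hub
    rwa [order_mul, order_X_pow] at this
  -- non-extendability
  have hex : ∃ y ∈ M', u * y ∉ ω := by
    by_contra hall
    push Not at hall
    apply hψ
    refine ⟨LinearMap.codRestrict ω ((LinearMap.mulLeft ↥A u) ∘ₗ M'.subtype)
      (fun y => hall y y.2), ?_⟩
    refine LinearMap.ext (fun x => Subtype.ext ?_)
    show u * (x : k⟦X⟧) = (ψ x : k⟦X⟧)
    rw [hcross]
  obtain ⟨y, hy, hyω⟩ := hex
  obtain ⟨x, hx, z, hz, rfl⟩ := Submodule.mem_sup.1 hy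
  obtain ⟨b, rfl⟩ := mem_T.1 hz
  have hzω : u * X ^ j * b ∉ ω := by
    intro hmem
    apply hyω
    rw [mul_add, ← mul_assoc]
    exact ω.add_mem (huM x hx) hmem
  have hlt : order (u * X ^ j) < (m : ℕ∞) := by
    by_contra hge
    rw [not_lt] at hge
    obtain ⟨g, hg⟩ := exists_eq_X_pow_mul hge
    apply hzω
    rw [hg, mul_assoc]
    exact hm1 _
  rw [order_mul, order_X_pow] at hlt
  refine ⟨u, huM, le_antisymm ?_ hle1⟩
  have hne : order u + (j : ℕ∞) ≠ ⊤ := ne_top_of_lt hlt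
  have := (ENat.add_one_le_iff hne).2 hlt
  rw [add_assoc] at this
  exact_mod_cast this

end Groth.Agent.Lib.Helper88.CanonPS
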