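/-
Length of a quotient of `A`-modules embedded in `k[[t]]` as the number of values gained.
Author: helper88
-/
import Groth.Agent.Lib.Helper88.CanonStep
import Groth.Agent.Lib.Helper88.ExtLen

set_option autoImplicit false
set_option linter.style.haveILetI false

namespace Groth.Agent.Lib.Helper88.CanonPS

open PowerSeries

universe u

variable {k : Type u} [Field k] {A : Subalgebra k k⟦X⟧} {c : ℕ}

lemma mem_T_iff_le_order {j : ℕ} {f : k⟦X⟧} : f ∈ T A j ↔ (j : ℕ∞) ≤ order f := by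
  rw [mem_T]
  constructor
  · rintro ⟨b, rfl⟩
    rw [order_X_pow_mul]
    exact le_self_add
  · intro hle
    obtain ⟨g, hg⟩ := exists_eq_X_pow_mul hle
    exact ⟨g, hg.symm⟩

/-- If `order x = n` and `order y > n` then `order (x - y) = n`. -/
lemma order_sub_eq_of_lt {x y : k⟦X⟧} {n : ℕ} (hx : order x = n) (hy : (n : ℕ∞) < order y) :
    order (x - y) = n := by
  obtain ⟨hxn, hxlt⟩ := order_eq_nat.1 hx
  rw [order_eq_nat]
  constructor
  · rw [map_sub, coeff_of_lt_order n hy, sub_zero]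
    exact hxn
  · intro i hi
    rw [map_sub, hxlt i hi, coeff_of_lt_order i (lt_trans (by exact_mod_cast hi) hy), sub_zero]

section Filtration

variable {P : Type u} [AddCommGroup P] [Module ↥A P]

/-- The filtration `S + ι⁻¹(t^n k[[t]])`. -/
noncomputable def Gfil (ι : P →ₗ[↥A] k⟦X⟧) (S : Submodule ↥A P) (n : ℕ) : Submodule ↥A P :=
  S ⊔ Submodule.comap ι (T A n)

lemma mem_Gfil {ι : P →ₗ[↥A] k⟦X⟧} {S : Submodule ↥A P} {n : ℕ} {p : P} :
    p ∈ Gfil ι S n ↔ ∃ s ∈ S, (n : ℕ∞) ≤ order (ι (p - s)) := by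
  rw [Gfil, Submodule.mem_sup]
  constructor
  · rintro ⟨s, hs, z, hz, rfl⟩
    refine ⟨s, hs, ?_⟩
    rw [Submodule.mem_comap, mem_T_iff_le_order] at hz
    have : s + z - s = z := by abel
    rw [this]
    exact hz
  · rintro ⟨s, hs, hle⟩
    refine ⟨s, hs, p - s, ?_, by abel⟩
    rw [Submodule.mem_comap, mem_T_iff_le_order]
    exact hle

/-- The set of values gained. -/
def gained (ι : P →ₗ[↥A] k⟦X⟧) (S : Submodule ↥A P) : Set ℕ :=
  {n | (∃ p : P, order (ι p) = (n : ℕ∞)) ∧ ¬ ∃ s ∈ S, order (ι s) = (n : ℕ∞)}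

lemma Gfil_zero (ι : P →ₗ[↥A] k⟦X⟧) (S : Submodule ↥A P) : Gfil ι S 0 = ⊤ := by
  rw [eq_top_iff]
  intro p _
  rw [mem_Gfil]
  exact ⟨0, S.zero_mem, by rw [Nat.cast_zero]; exact zero_le⟩

lemma Gfil_anti (ι : P →ₗ[↥A] k⟦X⟧) (S : Submodule ↥A P) (n : ℕ) :
    Gfil ι S (n + 1) ≤ Gfil ι S n := by
  intro p hp
  rw [mem_Gfil] at hp ⊢
  obtain ⟨s, hs, hle⟩ := hp
  refine ⟨s, hs, le_trans ?_ hle⟩
  exact_mod_cast Nat.le_succ n

lemma smulC (l : k) (p : P) (ι : P →ₗ[↥A] k⟦X⟧) :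
    ι ((⟨C l, Setup.C_mem A l⟩ : ↥A) • p) = C l * ι p := by
  rw [map_smul]
  rfl

lemma Gfil_triv (ι : P →ₗ[↥A] k⟦X⟧) (S : Submodule ↥A P) (n : ℕ) (hn : n ∉ gained ι S) :
    Gfil ι S n ≤ Gfil ι S (n + 1) := by
  intro p hp
  rw [mem_Gfil] at hp ⊢
  obtain ⟨s, hs, hle⟩ := hp
  by_cases hlt : ((n + 1 : ℕ) : ℕ∞) ≤ order (ι (p - s))
  · exact ⟨s, hs, hlt⟩
  · rw [not_le] at hlt
    have hr0 : ι (p - s) ≠ 0 := by
      intro h0
      rw [h0, order_zero] at hlt
      exact absurd hlt (not_lt.2 le_top)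
    set n' := (order (ι (p - s))).toNat with hn'
    have hord : order (ι (p - s)) = n' := (coe_toNat_order hr0).symm
    rw [hord] at hlt hle
    have h1 : n' < n + 1 := by exact_mod_cast hlt
    have h2 : n ≤ n' := by exact_mod_cast hle
    have h3 : n' = n := by omega
    rw [h3] at hord
    have hex : ∃ s₀ ∈ S, order (ι s₀) = (n : ℕ∞) := by
      by_contra hno
      exact hn ⟨⟨p - s, hord⟩, hno⟩
    obtain ⟨s₀, hs₀, hs₀o⟩ := hex
    obtain ⟨l, hl⟩ := exists_order_sub_gt hord hs₀o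
    refine ⟨s + (⟨C l, Setup.C_mem A l⟩ : ↥A) • s₀, S.add_mem hs (S.smul_mem _ hs₀), ?_⟩
    have h4 : ι (p - (s + (⟨C l, Setup.C_mem A l⟩ : ↥A) • s₀)) = ι (p - s) - C l * ι s₀ := by
      rw [← smulC, ← map_sub]
      congr 1
      abel
    rw [h4]
    have := (ENat.add_one_le_iff (ENat.natCast_ne_top n)).2 hl
    exact_mod_cast this

lemma Gfil_simple (ι : P →ₗ[↥A] k⟦X⟧) (S : Submodule ↥A P) (n : ℕ) (hn : n ∈ gained ι S) :
    ∃ p₀ ∈ Gfil ι S n, (∀ a : ↥A, a • p₀ ∈ Gfil ι S (n + 1) ↔ constantCoeff (a : k⟦X⟧) = 0) ∧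
      ∀ y ∈ Gfil ι S n, ∃ a : ↥A, y - a • p₀ ∈ Gfil ι S (n + 1) := by
  obtain ⟨⟨p₀, hp₀⟩, hno⟩ := hn
  refine ⟨p₀, ?_, ?_, ?_⟩
  · rw [mem_Gfil]
    exact ⟨0, S.zero_mem, by rw [sub_zero, hp₀]⟩
  · intro a
    have hsm : ι (a • p₀) = (a : k⟦X⟧) * ι p₀ := by rw [map_smul]; rfl
    constructor
    · intro hmem
      by_contra h0
      rw [mem_Gfil] at hmem
      obtain ⟨s, hs, hle⟩ := hmem
      apply hno
      refine ⟨s, hs, ?_⟩
      have h1 : order (ι (a • p₀)) = (n : ℕ∞) := by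
        rw [hsm, order_mul, hp₀, order_eq_zero_of_constantCoeff_ne_zero h0, zero_add]
      have h2 : ι s = ι (a • p₀) - ι (a • p₀ - s) := by
        rw [map_sub]
        ring
      rw [h2]
      refine order_sub_eq_of_lt h1 (lt_of_lt_of_le ?_ hle)
      exact_mod_cast Nat.lt_succ_self n
    · intro h0
      rw [mem_Gfil]
      refine ⟨0, S.zero_mem, ?_⟩
      rw [sub_zero, hsm, order_mul, hp₀]
      obtain ⟨a', ha'⟩ := X_dvd_iff.2 h0
      rw [ha', order_mul, order_X]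
      push_cast
      calc (n : ℕ∞) + 1 ≤ (1 + order a') + n := by
            rw [add_comm (n : ℕ∞) 1, add_assoc, add_comm (order a') n, ← add_assoc]
            exact le_self_add
        _ = _ := rfl
  · intro y hy
    rw [mem_Gfil] at hy
    obtain ⟨s, hs, hle⟩ := hy
    by_cases hlt : ((n + 1 : ℕ) : ℕ∞) ≤ order (ι (y - s))
    · refine ⟨0, ?_⟩
      rw [zero_smul, sub_zero, mem_Gfil]
      exact ⟨s, hs, hlt⟩
    · rw [not_le] at hlt
      have hr0 : ι (y - s) ≠ 0 := by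
        intro h0
        rw [h0, order_zero] at hlt
        exact absurd hlt (not_lt.2 le_top)
      set n' := (order (ι (y - s))).toNat with hn'
      have hord : order (ι (y - s)) = n' := (coe_toNat_order hr0).symm
      rw [hord] at hlt hle
      have h1 : n' < n + 1 := by exact_mod_cast hlt
      have h2 : n ≤ n' := by exact_mod_cast hle
      have h3 : n' = n := by omega
      rw [h3] at hord
      obtain ⟨l, hl⟩ := exists_order_sub_gt hord hp₀
      refine ⟨⟨C l, Setup.C_mem A l⟩, ?_⟩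
      rw [mem_Gfil]
      refine ⟨s, hs, ?_⟩
      have h4 : ι (y - (⟨C l, Setup.C_mem A l⟩ : ↥A) • p₀ - s) = ι (y - s) - C l * ι p₀ := by
        rw [← smulC, ← map_sub]
        congr 1
        abel
      rw [h4]
      have := (ENat.add_one_le_iff (ENat.natCast_ne_top n)).2 hl
      exact_mod_cast this

lemma Gfil_eq_of_le (ι : P →ₗ[↥A] k⟦X⟧) (S : Submodule ↥A P) (N' : ℕ)
    (hN' : ∀ p : P, (N' : ℕ∞) ≤ order (ι p) → p ∈ S) : Gfil ι S N' = S := by
  apply le_antisymm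
  · intro p hp
    rw [mem_Gfil] at hp
    obtain ⟨s, hs, hle⟩ := hp
    have := S.add_mem (hN' _ hle) hs
    rwa [sub_add_cancel] at this
  · exact le_sup_left

lemma gained_lt (ι : P →ₗ[↥A] k⟦X⟧) (S : Submodule ↥A P) (N' : ℕ)
    (hN' : ∀ p : P, (N' : ℕ∞) ≤ order (ι p) → p ∈ S) {n : ℕ} (hn : n ∈ gained ι S) : n < N' := by
  by_contra hge
  rw [not_lt] at hge
  obtain ⟨⟨p, hp⟩, hno⟩ := hn
  apply hno
  exact ⟨p, hN' p (by rw [hp]; exact_mod_cast hge), hp⟩

/-- **Length = number of values gained.** -/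
theorem length_quot_eq_ncard_gained (h : Setup A c) (ι : P →ₗ[↥A] k⟦X⟧) (S : Submodule ↥A P)
    (N' : ℕ) (hN' : ∀ p : P, (N' : ℕ∞) ≤ order (ι p) → p ∈ S) :
    Module.length ↥A (P ⧸ S) = ((gained ι S).ncard : ℕ∞) := by
  classical
  have hloc := h.isLocalRing
  have key := ExtLen.length_quot_of_filtration (R := ↥A) hloc (Gfil ι S) (Gfil_zero ι S)
    (Gfil_anti ι S) (gained ι S) (Gfil_triv ι S) (by
      intro n hn
      obtain ⟨p₀, hp₀, hk, hs⟩ := Gfil_simple ι S n hn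
      refine ⟨p₀, hp₀, ?_, hs⟩
      intro a
      rw [hk a, h.mem_maximalIdeal_iff]) N'
  have hG : Gfil ι S N' = S := Gfil_eq_of_le ι S N' hN'
  have hset : gained ι S = ↑((Finset.range N').filter (· ∈ gained ι S)) := by
    ext n
    simp only [Finset.coe_filter, Finset.mem_range, Set.mem_ofPred_eq]
    constructor
    · intro hn
      exact ⟨gained_lt ι S N' hN' hn, hn⟩
    · rintro ⟨-, hn⟩
      exact hn
  rw [hG] at key
  rw [key]
  conv_rhs => rw [hset]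
  rw [Set.ncard_coe_finset]

end Filtration

end Groth.Agent.Lib.Helper88.CanonPS
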