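/-
`Ext^1(M, N)` for a two-generated module `M = A + A g ⊆ k[[t]]`: concrete description of
`Hom(K, N)` for the kernel `K` of `A² → M`.
Author: helper88
-/
import Groth.Agent.Lib.Helper88.ValLen

set_option autoImplicit false
set_option linter.style.haveILetI false

namespace Groth.Agent.Lib.Helper88.TwoGen

open PowerSeries CategoryTheory Groth.Agent.Lib.Helper88.CanonPS

universe u

/-- A linear map from a functional, additive and homogeneous relation. -/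
lemma exists_linearMap_of_rel {R M N : Type*} [Semiring R] [AddCommMonoid M] [Module R M]
    [AddCommMonoid N] [Module R N] (r : M → N → Prop) (hex : ∀ m, ∃ n, r m n)
    (huniq : ∀ m n n', r m n → r m n' → n = n')
    (hadd : ∀ m m' n n', r m n → r m' n' → r (m + m') (n + n'))
    (hsmul : ∀ (a : R) m n, r m n → r (a • m) (a • n)) :
    ∃ φ : M →ₗ[R] N, ∀ m, r m (φ m) := by
  classical
  choose f hf using hex
  refine ⟨{ toFun := f, map_add' := ?_, map_smul' := ?_ }, hf⟩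
  · intro m m'
    exact huniq _ _ _ (hf _) (hadd _ _ _ _ (hf m) (hf m'))
  · intro a m
    exact huniq _ _ _ (hf _) (hsmul a _ _ (hf m))

/-- Specialised instance: avoids a nested unification failure of `Subalgebra.toRing`. -/
noncomputable scoped instance psRing {k : Type u} [Field k] (A : Subalgebra k k⟦X⟧) : Ring ↥A := A.toRing

variable {k : Type u} [Field k] (A : Subalgebra k k⟦X⟧) (g : k⟦X⟧)

/-- The module `A + A g`. -/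
noncomputable abbrev Mg : Submodule ↥A k⟦X⟧ := Submodule.span ↥A ({1, g} : Set k⟦X⟧)

lemma one_mem_Mg : (1 : k⟦X⟧) ∈ Mg A g := Submodule.subset_span (by simp)

lemma g_mem_Mg : g ∈ Mg A g := Submodule.subset_span (by simp)

/-- The presentation `A² → A + A g`. -/
noncomputable def piMap : (↥A × ↥A) →ₗ[↥A] ↥(Mg A g) :=
  (LinearMap.toSpanSingleton ↥A ↥(Mg A g) ⟨1, one_mem_Mg A g⟩).coprod
    (LinearMap.toSpanSingleton ↥A ↥(Mg A g) ⟨g, g_mem_Mg A g⟩)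

lemma piMap_coe (x : ↥A × ↥A) :
    ((piMap A g x : ↥(Mg A g)) : k⟦X⟧) = (x.1 : k⟦X⟧) + (x.2 : k⟦X⟧) * g := by
  show (x.1 : k⟦X⟧) * 1 + (x.2 : k⟦X⟧) * g = _
  rw [mul_one]

lemma piMap_surjective : Function.Surjective (piMap A g) := by
  rintro ⟨x, hx⟩
  obtain ⟨a, b, hab⟩ := Submodule.mem_span_pair.1 hx
  refine ⟨(a, b), Subtype.ext ?_⟩
  rw [piMap_coe]
  show (a : k⟦X⟧) + (b : k⟦X⟧) * g = x
  rw [← hab]
  show (a : k⟦X⟧) + (b : k⟦X⟧) * g = (a : k⟦X⟧) * 1 + (b : k⟦X⟧) * g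
  rw [mul_one]

/-- The kernel of the presentation. -/
noncomputable abbrev Ker : Submodule ↥A (↥A × ↥A) := LinearMap.ker (piMap A g)

lemma mem_Ker (x : ↥A × ↥A) : x ∈ Ker A g ↔ (x.1 : k⟦X⟧) + (x.2 : k⟦X⟧) * g = 0 := by
  rw [LinearMap.mem_ker, ← piMap_coe]
  constructor
  · intro hx
    rw [hx]
    rfl
  · intro hx
    exact Subtype.ext hx

/-- The element `(-b g, b)` of the kernel for `b ∈ A` with `b g ∈ A`. -/
noncomputable def kerElt (b : k⟦X⟧) (hb : b ∈ A) (hbg : b * g ∈ A) : ↥(Ker A g) :=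
  ⟨(⟨-(b * g), A.neg_mem hbg⟩, ⟨b, hb⟩), by
    rw [mem_Ker]
    show -(b * g) + b * g = 0
    ring⟩

variable (N : Submodule ↥A k⟦X⟧)

/-- `Hom(K, N)`. -/
abbrev HomK : Type u := ↥(Ker A g) →ₗ[↥A] ↥N

/-- The image of restriction `Hom(A², N) → Hom(K, N)`. -/
noncomputable def resRange : Submodule ↥A (HomK A g N) :=
  LinearMap.range (LinearMap.lcomp ↥A ↥N (Ker A g).subtype)

/-- Evaluation at a kernel element, as a map to `k[[t]]`. -/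
noncomputable def ev (κ₀ : ↥(Ker A g)) : HomK A g N →ₗ[↥A] k⟦X⟧ where
  toFun φ := (φ κ₀ : k⟦X⟧)
  map_add' φ φ' := rfl
  map_smul' a φ := rfl

variable {A g N}

lemma ev_apply (κ₀ : ↥(Ker A g)) (φ : HomK A g N) : ev A g N κ₀ φ = (φ κ₀ : k⟦X⟧) := rfl

/-- **Key identity**: `a₀ φ(κ) = κ.2 · φ(κ₀)` for `κ₀ = (-a₀ g, a₀)`. -/
lemma key_identity {a₀ : k⟦X⟧} (ha₀ : a₀ ∈ A) (ha₀g : a₀ * g ∈ A) (φ : HomK A g N)
    (κ : ↥(Ker A g)) :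
    a₀ * (φ κ : k⟦X⟧) = ((κ : ↥A × ↥A).2 : k⟦X⟧) * ev A g N (kerElt A g a₀ ha₀ ha₀g) φ := by
  have h1 : (⟨a₀, ha₀⟩ : ↥A) • κ = (κ : ↥A × ↥A).2 • kerElt A g a₀ ha₀ ha₀g := by
    apply Subtype.ext
    have hκ := (mem_Ker A g κ.1).1 κ.2
    refine Prod.ext (Subtype.ext ?_) (Subtype.ext ?_)
    · show a₀ * ((κ : ↥A × ↥A).1 : k⟦X⟧) = ((κ : ↥A × ↥A).2 : k⟦X⟧) * -(a₀ * g)
      linear_combination a₀ * hκ
    · show a₀ * ((κ : ↥A × ↥A).2 : k⟦X⟧) = ((κ : ↥A × ↥A).2 : k⟦X⟧) * a₀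
      ring
  have h2 := congrArg (fun y => ((φ y : ↥N) : k⟦X⟧)) h1
  simp only [map_smul] at h2
  exact h2

/-- A homomorphism whose value at `κ₀` is `a₀ n₂` with `n₂ ∈ N` extends to `A²`. -/
lemma mem_resRange_of_ev {a₀ : k⟦X⟧} (ha₀ : a₀ ∈ A) (ha₀g : a₀ * g ∈ A) (ha₀0 : a₀ ≠ 0)
    (φ : HomK A g N) (n₂ : k⟦X⟧) (hn₂ : n₂ ∈ N)
    (hφ : ev A g N (kerElt A g a₀ ha₀ ha₀g) φ = a₀ * n₂) : φ ∈ resRange A g N := by
  refine ⟨(LinearMap.toSpanSingleton ↥A ↥N ⟨n₂, hn₂⟩) ∘ₗ LinearMap.snd ↥A ↥A ↥A, ?_⟩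
  refine LinearMap.ext (fun κ => Subtype.ext ?_)
  show ((κ : ↥A × ↥A).2 : k⟦X⟧) * n₂ = (φ κ : k⟦X⟧)
  have := key_identity ha₀ ha₀g φ κ
  rw [hφ] at this
  apply mul_left_cancel₀ ha₀0
  rw [this]
  ring

/-- Values of evaluation on the image of restriction. -/
lemma ev_resRange {a₀ : k⟦X⟧} (ha₀ : a₀ ∈ A) (ha₀g : a₀ * g ∈ A) (φ : HomK A g N)
    (hφ : φ ∈ resRange A g N) :
    ∃ n₁ ∈ N, ∃ n₂ ∈ N, ev A g N (kerElt A g a₀ ha₀ ha₀g) φ = a₀ * (n₂ - g * n₁) := by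
  obtain ⟨ψ, rfl⟩ := hφ
  refine ⟨(ψ (1, 0) : k⟦X⟧), (ψ (1, 0)).2, (ψ (0, 1) : k⟦X⟧), (ψ (0, 1)).2, ?_⟩
  have h1 : ((kerElt A g a₀ ha₀ ha₀g : ↥(Ker A g)) : ↥A × ↥A) =
      (⟨-(a₀ * g), A.neg_mem ha₀g⟩ : ↥A) • ((1 : ↥A), (0 : ↥A)) +
        (⟨a₀, ha₀⟩ : ↥A) • ((0 : ↥A), (1 : ↥A)) := by
    refine Prod.ext (Subtype.ext ?_) (Subtype.ext ?_)
    · show -(a₀ * g) = -(a₀ * g) * 1 + a₀ * 0
      ring
    · show a₀ = -(a₀ * g) * 0 + a₀ * 1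
      ring
  show ((ψ ((kerElt A g a₀ ha₀ ha₀g : ↥(Ker A g)) : ↥A × ↥A) : ↥N) : k⟦X⟧) = _
  rw [h1, map_add, map_smul, map_smul]
  show -(a₀ * g) * (ψ (1, 0) : k⟦X⟧) + a₀ * (ψ (0, 1) : k⟦X⟧) = _
  ring

lemma exists_resRange_ev {a₀ : k⟦X⟧} (ha₀ : a₀ ∈ A) (ha₀g : a₀ * g ∈ A) (n₁ n₂ : k⟦X⟧)
    (hn₁ : n₁ ∈ N) (hn₂ : n₂ ∈ N) :
    ∃ φ ∈ resRange A g N, ev A g N (kerElt A g a₀ ha₀ ha₀g) φ = a₀ * (n₂ - g * n₁) := by
  set ψ : (↥A × ↥A) →ₗ[↥A] ↥N :=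
    (LinearMap.toSpanSingleton ↥A ↥N ⟨n₁, hn₁⟩).coprod
      (LinearMap.toSpanSingleton ↥A ↥N ⟨n₂, hn₂⟩) with hψ
  refine ⟨LinearMap.lcomp ↥A ↥N (Ker A g).subtype ψ, ⟨ψ, rfl⟩, ?_⟩
  show -(a₀ * g) * n₁ + a₀ * n₂ = _
  ring

/-- Construction of homomorphisms `K → N` with prescribed value at `κ₀`. -/
lemma exists_hom_of_ev {a₀ : k⟦X⟧} (ha₀ : a₀ ∈ A) (ha₀g : a₀ * g ∈ A) (ha₀0 : a₀ ≠ 0)
    (w : k⟦X⟧)
    (hw : ∀ b : k⟦X⟧, b ∈ A → b * g ∈ A → ∃ n ∈ N, a₀ * n = b * w) :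
    ∃ φ : HomK A g N, ev A g N (kerElt A g a₀ ha₀ ha₀g) φ = w := by
  have hbg : ∀ κ : ↥(Ker A g), ((κ : ↥A × ↥A).2 : k⟦X⟧) * g ∈ A := by
    intro κ
    have hκ := (mem_Ker A g κ.1).1 κ.2
    have : ((κ : ↥A × ↥A).2 : k⟦X⟧) * g = -((κ : ↥A × ↥A).1 : k⟦X⟧) := by
      linear_combination hκ
    rw [this]
    exact A.neg_mem (κ : ↥A × ↥A).1.2
  obtain ⟨φ, hφ⟩ := exists_linearMap_of_rel (R := ↥A) (M := ↥(Ker A g)) (N := ↥N)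
    (fun κ n => a₀ * (n : k⟦X⟧) = ((κ : ↥A × ↥A).2 : k⟦X⟧) * w)
    (by
      intro κ
      obtain ⟨n, hn, hnw⟩ := hw _ (κ : ↥A × ↥A).2.2 (hbg κ)
      exact ⟨⟨n, hn⟩, hnw⟩)
    (by
      intro κ n n' h1 h2
      apply Subtype.ext
      apply mul_left_cancel₀ ha₀0
      rw [h1, h2])
    (by
      intro κ κ' n n' h1 h2
      show a₀ * ((n : k⟦X⟧) + (n' : k⟦X⟧)) =
        (((κ : ↥A × ↥A).2 : k⟦X⟧) + ((κ' : ↥A × ↥A).2 : k⟦X⟧)) * w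
      rw [mul_add, h1, h2, add_mul])
    (by
      intro a κ n h1
      show a₀ * ((a : k⟦X⟧) * (n : k⟦X⟧)) = ((a : k⟦X⟧) * ((κ : ↥A × ↥A).2 : k⟦X⟧)) * w
      rw [mul_left_comm, h1, mul_assoc])
  refine ⟨φ, ?_⟩
  have := hφ (kerElt A g a₀ ha₀ ha₀g)
  apply mul_left_cancel₀ ha₀0
  rw [ev_apply, this]
  rfl

variable (A g N)

/-- **Length of `Ext^1(A + A g, N)`** as the number of values gained by `Hom(K, N)` over the
image of restriction. -/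
theorem length_ext_one {c : ℕ} (h : Setup A c) (κ₀ : ↥(Ker A g)) (N' : ℕ)
    (hN' : ∀ φ : HomK A g N, (N' : ℕ∞) ≤ order (ev A g N κ₀ φ) → φ ∈ resRange A g N) :
    Module.length ↥A (Abelian.Ext (ModuleCat.of ↥A ↥(Mg A g)) (ModuleCat.of ↥A ↥N) 1) =
      ((gained (P := HomK A g N) (ev A g N κ₀) (resRange A g N)).ncard : ℕ∞) := by
  obtain ⟨e⟩ := ExtLen.nonempty_coker_equiv_ext_one (R := ↥A) (N := ↥N) (piMap A g)
    (piMap_surjective A g)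
  have h1 := e.length_eq
  have h2 := length_quot_eq_ncard_gained (P := HomK A g N) h (ev A g N κ₀) (resRange A g N) N' hN'
  have h3 := h1.symm.trans h2
  refine Eq.trans ?_ h3
  rfl

end Groth.Agent.Lib.Helper88.TwoGen
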