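/-
Power series with exponents in a prescribed set, and monomial subalgebras of `k[[t]]`.
Author: helper88
-/
import Groth.Agent.Lib.Helper88.TwoGen

set_option autoImplicit false
set_option linter.style.haveILetI false

namespace Groth.Agent.Lib.Helper88.MonSet

open PowerSeries Groth.Agent.Lib.Helper88.CanonPS

universe u

variable {k : Type u} [Field k]

/-- Power series all of whose exponents lie in `S`. -/
def Mon (S : Set ℕ) : Set k⟦X⟧ := {f | ∀ n, coeff n f ≠ 0 → n ∈ S}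

lemma mem_Mon {S : Set ℕ} {f : k⟦X⟧} : f ∈ Mon S ↔ ∀ n, coeff n f ≠ 0 → n ∈ S := Iff.rfl

lemma Mon_zero (S : Set ℕ) : (0 : k⟦X⟧) ∈ Mon S := by
  intro n hn
  rw [map_zero] at hn
  exact absurd rfl hn

lemma Mon_add {S : Set ℕ} {f g : k⟦X⟧} (hf : f ∈ Mon S) (hg : g ∈ Mon S) : f + g ∈ Mon S := by
  intro n hn
  rw [map_add] at hn
  by_cases h0 : coeff n f = 0
  · rw [h0, zero_add] at hn
    exact hg n hn
  · exact hf n h0

lemma Mon_neg {S : Set ℕ} {f : k⟦X⟧} (hf : f ∈ Mon S) : -f ∈ Mon S := by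
  intro n hn
  rw [map_neg, neg_ne_zero] at hn
  exact hf n hn

lemma Mon_sub {S : Set ℕ} {f g : k⟦X⟧} (hf : f ∈ Mon S) (hg : g ∈ Mon S) : f - g ∈ Mon S := by
  rw [sub_eq_add_neg]
  exact Mon_add hf (Mon_neg hg)

lemma Mon_mono {S S' : Set ℕ} (h : S ⊆ S') {f : k⟦X⟧} (hf : f ∈ Mon S) : f ∈ Mon S' :=
  fun n hn => h (hf n hn)

lemma Mon_mul {S₁ S₂ S₃ : Set ℕ} (h : ∀ a ∈ S₁, ∀ b ∈ S₂, a + b ∈ S₃) {f g : k⟦X⟧}
    (hf : f ∈ Mon S₁) (hg : g ∈ Mon S₂) : f * g ∈ Mon S₃ := by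
  intro n hn
  rw [coeff_mul] at hn
  obtain ⟨p, hp, hp0⟩ := Finset.exists_ne_zero_of_sum_ne_zero hn
  have hp' : p.1 + p.2 = n := Finset.HasAntidiagonal.mem_antidiagonal.1 hp
  rw [← hp']
  exact h _ (hf _ (left_ne_zero_of_mul hp0)) _ (hg _ (right_ne_zero_of_mul hp0))

lemma X_pow_mem_Mon {S : Set ℕ} {s : ℕ} (hs : s ∈ S) : (X : k⟦X⟧) ^ s ∈ Mon S := by
  intro n hn
  rw [coeff_X_pow] at hn
  by_cases h : n = s
  · rw [h]; exact hs
  · rw [if_neg h] at hn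
    exact absurd rfl hn

lemma one_mem_Mon {S : Set ℕ} (hs : 0 ∈ S) : (1 : k⟦X⟧) ∈ Mon S := by
  have := X_pow_mem_Mon (k := k) hs
  rwa [pow_zero] at this

lemma C_mul_mem_Mon {S : Set ℕ} (l : k) {f : k⟦X⟧} (hf : f ∈ Mon S) : C l * f ∈ Mon S := by
  intro n hn
  rw [coeff_C_mul] at hn
  exact hf n (right_ne_zero_of_mul hn)

lemma order_mem_of_Mon {S : Set ℕ} {f : k⟦X⟧} (hf : f ∈ Mon S) {n : ℕ}
    (ho : order f = (n : ℕ∞)) : n ∈ S :=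
  hf n (order_eq_nat.1 ho).1

/-- Dividing by `t^a` when all exponents are at least `a`. -/
lemma exists_eq_X_pow_mul_Mon {S : Set ℕ} {f : k⟦X⟧} (hf : f ∈ Mon S) (a : ℕ)
    (ha : ∀ n ∈ S, a ≤ n) : ∃ f' : k⟦X⟧, f = X ^ a * f' ∧ f' ∈ Mon {m | m + a ∈ S} := by
  refine ⟨PowerSeries.mk (fun m => coeff (m + a) f), ?_, ?_⟩
  · ext n
    rw [coeff_X_pow_mul']
    split_ifs with h
    · rw [coeff_mk, Nat.sub_add_cancel h]
    · by_contra hne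
      exact h (ha n (hf n hne))
  · intro m hm
    rw [coeff_mk] at hm
    exact hf _ hm

/-- Exponents of `b` when `b` and `b t^e` both have exponents in `Γ`. -/
lemma mem_Mon_inter_shift {Γ : Set ℕ} {b : k⟦X⟧} (e : ℕ) (hb : b ∈ Mon Γ)
    (hbe : b * X ^ e ∈ Mon Γ) : b ∈ Mon {s | s ∈ Γ ∧ s + e ∈ Γ} := by
  intro s hs
  refine ⟨hb s hs, hbe (s + e) ?_⟩
  rw [coeff_mul_X_pow]
  exact hs

end Groth.Agent.Lib.Helper88.MonSet
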