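/-
`Ext^1` between rank-one modules over the `A_{2δ}` curve singularity `k[[t², t^{2δ+1}]]`.
Author: helper88
-/
import Groth.Agent.Lib.Helper88.MonSet

set_option autoImplicit false
set_option linter.style.haveILetI false

namespace Groth.Agent.Lib.Helper88.A2d

open PowerSeries CategoryTheory Groth.Agent.Lib.Helper88.CanonPS Groth.Agent.Lib.Helper88.TwoGen
  Groth.Agent.Lib.Helper88.MonSet

universe u

/-- The value set of `M_j = A + A t^{2δ+1-2j}`: even numbers and numbers `≥ 2δ+1-2j`. -/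
def Sj (δ j : ℕ) : Set ℕ := {n | n % 2 = 0 ∨ 2 * δ + 1 ≤ n + 2 * j}

lemma mem_Sj {δ j n : ℕ} : n ∈ Sj δ j ↔ (n % 2 = 0 ∨ 2 * δ + 1 ≤ n + 2 * j) := Iff.rfl

lemma mem_closure_iff (δ n : ℕ) :
    n ∈ AddSubmonoid.closure ({2, 2 * δ + 1} : Set ℕ) ↔ n ∈ Sj δ 0 := by
  rw [AddSubmonoid.mem_closure_pair, mem_Sj]
  constructor
  · rintro ⟨m, n', rfl⟩
    simp only [smul_eq_mul]
    rcases Nat.eq_zero_or_pos n' with h0 | hpos
    · left
      rw [h0]
      omega
    · right
      have : 2 * δ + 1 ≤ n' * (2 * δ + 1) := Nat.le_mul_of_pos_left _ hpos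
      omega
  · rintro (h | h)
    · refine ⟨n / 2, 0, ?_⟩
      simp only [smul_eq_mul]
      omega
    · by_cases hpar : n % 2 = 0
      · refine ⟨n / 2, 0, ?_⟩
        simp only [smul_eq_mul]
        omega
      · refine ⟨(n - (2 * δ + 1)) / 2, 1, ?_⟩
        simp only [smul_eq_mul]
        omega

lemma Sj_add {δ j a b : ℕ} (ha : a ∈ Sj δ 0) (hb : b ∈ Sj δ j) : a + b ∈ Sj δ j := by
  rw [mem_Sj] at *
  omega

lemma Sj_mono {δ j j' : ℕ} (h : j ≤ j') : Sj δ j ⊆ Sj δ j' := by
  intro n hn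
  rw [mem_Sj] at *
  omega

variable {k : Type u} [Field k]

/-- The standing hypothesis: `A` is the monomial ring of `⟨2, 2δ+1⟩`. -/
structure Hyp (A : Subalgebra k k⟦X⟧) (δ : ℕ) : Prop where
  mono : ∀ f : k⟦X⟧, f ∈ A ↔ f ∈ Mon (Sj δ 0)
  pos : 1 ≤ δ

variable {A : Subalgebra k k⟦X⟧} {δ : ℕ}

lemma Hyp.cond (H : Hyp A δ) (f : k⟦X⟧) (hf : ((2 * δ : ℕ) : ℕ∞) ≤ order f) : f ∈ A := by
  rw [H.mono]
  intro n hn
  rw [mem_Sj]
  by_contra hcon
  have hlt : n < 2 * δ := by omega
  exact hn (coeff_of_lt_order n (lt_of_lt_of_le (by exact_mod_cast hlt) hf))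

lemma Hyp.X_pow_mem (H : Hyp A δ) {s : ℕ} (hs : s ∈ Sj δ 0) : (X : k⟦X⟧) ^ s ∈ A :=
  (H.mono _).2 (X_pow_mem_Mon hs)

theorem Hyp.finite (H : Hyp A δ) : Module.Finite ↥A k⟦X⟧ := by
  classical
  refine ⟨⟨(Finset.range (2 * δ + 1)).image (fun i => (X : k⟦X⟧) ^ i), ?_⟩⟩
  rw [eq_top_iff]
  have key : ∀ m : ℕ, ∀ f : k⟦X⟧, ((2 * δ - m : ℕ) : ℕ∞) ≤ order f →
      f ∈ Submodule.span ↥A
        (((Finset.range (2 * δ + 1)).image (fun i => (X : k⟦X⟧) ^ i) : Finset k⟦X⟧) :
          Set k⟦X⟧) := by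
    intro m
    induction m with
    | zero =>
      intro f hf
      have hfA : f ∈ A := H.cond f hf
      have h1 : f = (⟨f, hfA⟩ : ↥A) • (X : k⟦X⟧) ^ 0 := by
        show f = f * X ^ 0
        rw [pow_zero, mul_one]
      rw [h1]
      refine Submodule.smul_mem _ _ (Submodule.subset_span ?_)
      rw [Finset.coe_image]
      exact ⟨0, by simp, rfl⟩
    | succ m ih =>
      intro f hf
      by_cases hm : 2 * δ ≤ m
      · apply ih
        have : 2 * δ - m = 2 * δ - (m + 1) := by omega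
        rw [this]
        exact hf
      · set n := 2 * δ - (m + 1) with hn
        have h2 : f = (⟨C (coeff n f), Setup.C_mem A _⟩ : ↥A) • (X : k⟦X⟧) ^ n +
            (f - C (coeff n f) * X ^ n) := by
          show f = C (coeff n f) * X ^ n + (f - C (coeff n f) * X ^ n)
          ring
        rw [h2]
        refine Submodule.add_mem _ (Submodule.smul_mem _ _ (Submodule.subset_span ?_)) ?_
        · rw [Finset.coe_image]
          exact ⟨n, by simp; omega, rfl⟩
        · apply ih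
          apply nat_le_order
          intro i hi
          rw [map_sub, coeff_C_mul, coeff_X_pow]
          by_cases hin : i = n
          · rw [if_pos hin, mul_one, hin, sub_self]
          · rw [if_neg hin, mul_zero, sub_zero]
            apply coeff_of_lt_order
            refine lt_of_lt_of_le ?_ hf
            exact_mod_cast (by omega : i < 2 * δ - (m + 1))
  intro f _
  exact key (2 * δ) f (by rw [Nat.sub_self, Nat.cast_zero]; exact zero_le)

theorem Hyp.setup (H : Hyp A δ) : Setup A (2 * δ) :=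
  ⟨H.finite, H.cond, by have := H.pos; omega⟩

/-- `Mon S` as an `A`-submodule when `Γ + S ⊆ S`. -/
def Hyp.monSub (H : Hyp A δ) (S : Set ℕ) (hS : ∀ a ∈ Sj δ 0, ∀ b ∈ S, a + b ∈ S) :
    Submodule ↥A k⟦X⟧ where
  carrier := Mon S
  zero_mem' := Mon_zero S
  add_mem' := Mon_add
  smul_mem' := by
    intro a f hf
    exact Mon_mul hS ((H.mono _).1 a.2) hf

/-- `A + A t^{2δ+1-2j}` is the monomial module of `Sj δ j`. -/
theorem Hyp.mem_Mg (H : Hyp A δ) {j : ℕ} (hj : j ≤ δ) (f : k⟦X⟧) :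
    f ∈ Mg A ((X : k⟦X⟧) ^ (2 * δ + 1 - 2 * j)) ↔ f ∈ Mon (Sj δ j) := by
  constructor
  · intro hf
    have hle : Mg A ((X : k⟦X⟧) ^ (2 * δ + 1 - 2 * j)) ≤
        H.monSub (Sj δ j) (fun a ha b hb => Sj_add ha hb) := by
      rw [Submodule.span_le]
      rintro x (rfl | rfl)
      · exact one_mem_Mon (by rw [mem_Sj]; omega)
      · exact X_pow_mem_Mon (by rw [mem_Sj]; omega)
    exact hle hf
  · intro hf
    classical
    set e := 2 * δ + 1 - 2 * j with he
    set f₁ : k⟦X⟧ := PowerSeries.mk (fun n => if n ∈ Sj δ 0 then coeff n f else 0) with hf₁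
    set f₂ : k⟦X⟧ := PowerSeries.mk
      (fun m => if m % 2 = 0 ∧ m + e < 2 * δ + 1 then coeff (m + e) f else 0) with hf₂
    have hf₁A : f₁ ∈ A := by
      rw [H.mono]
      intro n hn
      rw [hf₁, coeff_mk] at hn
      by_contra hcon
      rw [if_neg hcon] at hn
      exact hn rfl
    have hf₂A : f₂ ∈ A := by
      rw [H.mono]
      intro m hm
      rw [hf₂, coeff_mk] at hm
      by_cases hc : m % 2 = 0 ∧ m + e < 2 * δ + 1
      · rw [mem_Sj]
        left
        exact hc.1
      · rw [if_neg hc] at hm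
        exact absurd rfl hm
    have hdec : f = f₁ + X ^ e * f₂ := by
      ext n
      rw [map_add, coeff_X_pow_mul', hf₁, hf₂, coeff_mk]
      by_cases hn : n ∈ Sj δ 0
      · rw [if_pos hn]
        split_ifs with h1
        · rw [coeff_mk]
          have hnot : ¬ ((n - e) % 2 = 0 ∧ n - e + e < 2 * δ + 1) := by
            rw [mem_Sj] at hn
            omega
          rw [if_neg hnot, add_zero]
        · rw [add_zero]
      · rw [if_neg hn, zero_add]
        split_ifs with h1
        · rw [coeff_mk]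
          have hyes : (n - e) % 2 = 0 ∧ n - e + e < 2 * δ + 1 := by
            rw [mem_Sj] at hn
            omega
          rw [if_pos hyes, Nat.sub_add_cancel h1]
        · by_contra hne
          have := hf n hne
          rw [mem_Sj] at this hn
          omega
    rw [hdec]
    refine Submodule.add_mem _ ?_ ?_
    · have : f₁ = (⟨f₁, hf₁A⟩ : ↥A) • (1 : k⟦X⟧) := (mul_one _).symm
      rw [this]
      exact Submodule.smul_mem _ _ (one_mem_Mg A _)
    · have : X ^ e * f₂ = (⟨f₂, hf₂A⟩ : ↥A) • ((X : k⟦X⟧) ^ e) := mul_comm _ _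
      rw [this]
      exact Submodule.smul_mem _ _ (g_mem_Mg A _)

end Groth.Agent.Lib.Helper88.A2d
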