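/-
`Ext^1` between rank-one modules over the `A_{2δ}` curve singularity: the length computation.
Author: helper88
-/
import Groth.Agent.Lib.Helper88.A2d

set_option autoImplicit false
set_option linter.style.haveILetI false

namespace Groth.Agent.Lib.Helper88.A2d

open PowerSeries CategoryTheory Groth.Agent.Lib.Helper88.CanonPS Groth.Agent.Lib.Helper88.TwoGen
  Groth.Agent.Lib.Helper88.MonSet

universe u

variable {k : Type u} [Field k] {A : Subalgebra k k⟦X⟧} {δ : ℕ}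

section Main

variable (H : Hyp A δ) {i j : ℕ} (hi : i ≤ δ) (hj : j ≤ δ)

include H hi

lemma a0_mem : (X : k⟦X⟧) ^ (2 * i) ∈ A := H.X_pow_mem (by rw [mem_Sj]; omega)

lemma a0g_mem : (X : k⟦X⟧) ^ (2 * i) * X ^ (2 * δ + 1 - 2 * i) ∈ A := by
  rw [← pow_add]
  exact H.X_pow_mem (by rw [mem_Sj]; omega)

lemma a1_mem : (X : k⟦X⟧) ^ (2 * δ + 1) ∈ A := H.X_pow_mem (by rw [mem_Sj]; omega)

lemma a1g_mem : (X : k⟦X⟧) ^ (2 * δ + 1) * X ^ (2 * δ + 1 - 2 * i) ∈ A := by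
  rw [← pow_add]
  exact H.X_pow_mem (by rw [mem_Sj]; omega)

omit H hi in
lemma a0_ne : (X : k⟦X⟧) ^ (2 * i) ≠ 0 := pow_ne_zero _ X_ne_zero

include hj

/-- (G1) orders of evaluations of homomorphisms. -/
lemma ev_order_mem (φ : HomK A ((X : k⟦X⟧) ^ (2 * δ + 1 - 2 * i))
      (Mg A ((X : k⟦X⟧) ^ (2 * δ + 1 - 2 * j)))) (n : ℕ)
    (hn : order (ev A _ _ (kerElt A _ _ (a0_mem H hi) (a0g_mem H hi)) φ) = (n : ℕ∞)) :
    n ∈ Sj δ j ∧ n + (2 * δ + 1 - 2 * i) ∈ Sj δ j := by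
  constructor
  · refine order_mem_of_Mon ((H.mem_Mg hj _).1 ?_) hn
    rw [ev_apply]
    exact (φ _).2
  · have hkey := key_identity (a0_mem H hi) (a0g_mem H hi) φ
      (kerElt A _ _ (a1_mem H hi) (a1g_mem H hi))
    set y : k⟦X⟧ := (φ (kerElt A _ _ (a1_mem H hi) (a1g_mem H hi)) : k⟦X⟧) with hy
    have hyN : y ∈ Mon (Sj δ j) := (H.mem_Mg hj _).1 (φ _).2
    have h1 : (X : k⟦X⟧) ^ (2 * i) * y = X ^ (2 * δ + 1) *
        ev A _ _ (kerElt A _ _ (a0_mem H hi) (a0g_mem H hi)) φ := hkey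
    have h2 := congrArg order h1
    rw [order_X_pow_mul, order_X_pow_mul, hn] at h2
    have hne : order y ≠ ⊤ := by
      intro htop
      rw [htop, add_top] at h2
      exact ENat.top_ne_natCast _ (by rw [h2]; push_cast; rfl)
    obtain ⟨d, hd⟩ := ENat.ne_top_iff_exists.1 hne
    rw [← hd] at h2
    have h3 : 2 * i + d = 2 * δ + 1 + n := by exact_mod_cast h2
    have h4 : d = n + (2 * δ + 1 - 2 * i) := by omega
    rw [← h4]
    exact order_mem_of_Mon hyN hd.symm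

/-- (G2) existence of homomorphisms with prescribed order. -/
lemma exists_ev_order (n : ℕ) (hn1 : n ∈ Sj δ j) (hn2 : n + (2 * δ + 1 - 2 * i) ∈ Sj δ j) :
    ∃ φ : HomK A ((X : k⟦X⟧) ^ (2 * δ + 1 - 2 * i)) (Mg A ((X : k⟦X⟧) ^ (2 * δ + 1 - 2 * j))),
      order (ev A _ _ (kerElt A _ _ (a0_mem H hi) (a0g_mem H hi)) φ) = (n : ℕ∞) := by
  obtain ⟨φ, hφ⟩ := exists_hom_of_ev (N := Mg A ((X : k⟦X⟧) ^ (2 * δ + 1 - 2 * j)))
    (a0_mem H hi) (a0g_mem H hi) a0_ne ((X : k⟦X⟧) ^ n) (by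
      intro b hb hbg
      have hb' := mem_Mon_inter_shift (2 * δ + 1 - 2 * i) ((H.mono _).1 hb) ((H.mono _).1 hbg)
      have hbn : b * X ^ n ∈ Mon {t | 2 * i ≤ t ∧ t - 2 * i ∈ Sj δ j} := by
        refine Mon_mul (S₂ := {n}) ?_ hb' (X_pow_mem_Mon rfl)
        rintro s ⟨hs1, hs2⟩ b' rfl
        rw [mem_Sj] at hs1 hs2 hn1 hn2
        refine ⟨by omega, ?_⟩
        rw [mem_Sj]
        omega
      obtain ⟨y, hy, hyM⟩ := exists_eq_X_pow_mul_Mon hbn (2 * i) (fun t ht => ht.1)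
      refine ⟨y, (H.mem_Mg hj _).2 (Mon_mono ?_ hyM), hy.symm⟩
      intro m hm
      have := hm.2
      rwa [Nat.add_sub_cancel] at this)
  exact ⟨φ, by rw [hφ, order_X_pow]⟩

/-- (G3) orders on the image of restriction. -/
lemma res_order_mem (φ : HomK A ((X : k⟦X⟧) ^ (2 * δ + 1 - 2 * i))
      (Mg A ((X : k⟦X⟧) ^ (2 * δ + 1 - 2 * j))))
    (hφ : φ ∈ resRange A _ _) (n : ℕ)
    (hn : order (ev A _ _ (kerElt A _ _ (a0_mem H hi) (a0g_mem H hi)) φ) = (n : ℕ∞)) :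
    2 * i ≤ n ∧ n - 2 * i ∈ Sj δ (max i j) := by
  obtain ⟨n₁, hn₁, n₂, hn₂, hev⟩ := ev_resRange (a0_mem H hi) (a0g_mem H hi) φ hφ
  have hn₁' := (H.mem_Mg hj _).1 hn₁
  have hn₂' := (H.mem_Mg hj _).1 hn₂
  set z : k⟦X⟧ := n₂ - X ^ (2 * δ + 1 - 2 * i) * n₁ with hz
  have hzM : z ∈ Mon (Sj δ (max i j)) := by
    refine Mon_sub (Mon_mono (Sj_mono (le_max_right i j)) hn₂') ?_
    refine Mon_mul (S₁ := {2 * δ + 1 - 2 * i}) ?_ (X_pow_mem_Mon rfl) hn₁'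
    rintro a rfl b _
    rw [mem_Sj]
    have := le_max_left i j
    omega
  rw [hev, order_X_pow_mul] at hn
  have hne : order z ≠ ⊤ := by
    intro htop
    rw [htop, add_top] at hn
    exact ENat.top_ne_natCast _ hn
  obtain ⟨d, hd⟩ := ENat.ne_top_iff_exists.1 hne
  rw [← hd] at hn
  have h3 : 2 * i + d = n := by exact_mod_cast hn
  refine ⟨by omega, ?_⟩
  have h4 : n - 2 * i = d := by omega
  rw [h4]
  exact order_mem_of_Mon hzM hd.symm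

/-- (G4) existence on the image of restriction. -/
lemma exists_res_order (n : ℕ) (h1 : 2 * i ≤ n) (h2 : n - 2 * i ∈ Sj δ (max i j)) :
    ∃ φ ∈ resRange A ((X : k⟦X⟧) ^ (2 * δ + 1 - 2 * i)) (Mg A ((X : k⟦X⟧) ^ (2 * δ + 1 - 2 * j))),
      order (ev A _ _ (kerElt A _ _ (a0_mem H hi) (a0g_mem H hi)) φ) = (n : ℕ∞) := by
  by_cases hs : n - 2 * i ∈ Sj δ j
  · obtain ⟨φ, hφ, hev⟩ := exists_resRange_ev (N := Mg A ((X : k⟦X⟧) ^ (2 * δ + 1 - 2 * j)))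
      (a0_mem H hi) (a0g_mem H hi) 0 (X ^ (n - 2 * i)) (Submodule.zero_mem _)
      ((H.mem_Mg hj _).2 (X_pow_mem_Mon hs))
    refine ⟨φ, hφ, ?_⟩
    rw [hev, mul_zero, sub_zero, ← pow_add, order_X_pow]
    congr 1
    omega
  · have hmax : max i j = i := by
      rcases le_total i j with hij | hij
      · rw [max_eq_right hij] at h2
        exact absurd h2 hs
      · exact max_eq_left hij
    rw [hmax] at h2
    rw [mem_Sj] at h2 hs
    have hle : 2 * δ + 1 - 2 * i ≤ n - 2 * i := by omega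
    obtain ⟨φ, hφ, hev⟩ := exists_resRange_ev (N := Mg A ((X : k⟦X⟧) ^ (2 * δ + 1 - 2 * j)))
      (a0_mem H hi) (a0g_mem H hi) (X ^ (n - 2 * i - (2 * δ + 1 - 2 * i))) 0
      ((H.mem_Mg hj _).2 (X_pow_mem_Mon (by rw [mem_Sj]; omega))) (Submodule.zero_mem _)
    refine ⟨φ, hφ, ?_⟩
    rw [hev, zero_sub, mul_neg, order_neg, ← pow_add, ← pow_add, order_X_pow]
    congr 1
    omega

/-- (G6) homomorphisms of large order extend. -/
lemma mem_resRange_of_large (φ : HomK A ((X : k⟦X⟧) ^ (2 * δ + 1 - 2 * i))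
      (Mg A ((X : k⟦X⟧) ^ (2 * δ + 1 - 2 * j))))
    (hφ : ((2 * δ + 2 * i : ℕ) : ℕ∞) ≤
      order (ev A _ _ (kerElt A _ _ (a0_mem H hi) (a0g_mem H hi)) φ)) :
    φ ∈ resRange A _ _ := by
  obtain ⟨w', hw'⟩ := exists_eq_X_pow_mul hφ
  have hn₂A : (X : k⟦X⟧) ^ (2 * δ) * w' ∈ A := H.setup.X_pow_mul_mem w'
  have hn₂ : (X : k⟦X⟧) ^ (2 * δ) * w' ∈ Mg A ((X : k⟦X⟧) ^ (2 * δ + 1 - 2 * j)) := by
    have : (X : k⟦X⟧) ^ (2 * δ) * w' =
        (⟨(X : k⟦X⟧) ^ (2 * δ) * w', hn₂A⟩ : ↥A) • (1 : k⟦X⟧) := (mul_one _).symm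
    rw [this]
    exact Submodule.smul_mem _ _ (one_mem_Mg A _)
  refine mem_resRange_of_ev (a0_mem H hi) (a0g_mem H hi) a0_ne φ _ hn₂ ?_
  rw [hw', ← mul_assoc, ← pow_add]
  congr 2
  omega

end Main

end Groth.Agent.Lib.Helper88.A2d
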