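/-
`Ext^1` between rank-one modules over the `A_{2δ}` curve singularity: the final count.
Author: helper88
-/
import Groth.Agent.Lib.Helper88.A2dMain

set_option autoImplicit false
set_option linter.style.haveILetI false

namespace Groth.Agent.Lib.Helper88.A2d

open PowerSeries CategoryTheory Groth.Agent.Lib.Helper88.CanonPS Groth.Agent.Lib.Helper88.TwoGen
  Groth.Agent.Lib.Helper88.MonSet

universe u

/-- The counting lemma. -/
lemma ncard_D (δ i j : ℕ) (hi : i ≤ δ) (hj : j ≤ δ) :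
    {n | (n ∈ Sj δ j ∧ n + (2 * δ + 1 - 2 * i) ∈ Sj δ j) ∧
      ¬ (2 * i ≤ n ∧ n - 2 * i ∈ Sj δ (max i j))}.ncard = 2 * min i j := by
  classical
  set F : Finset ℕ := (Finset.Ico (i - min i j) i).image (fun l => 2 * l) ∪
    (Finset.Ico (δ - j) (δ - j + min i j)).image (fun l => 2 * l + 1) with hF
  have hset : {n | (n ∈ Sj δ j ∧ n + (2 * δ + 1 - 2 * i) ∈ Sj δ j) ∧
      ¬ (2 * i ≤ n ∧ n - 2 * i ∈ Sj δ (max i j))} = ↑F := by
    ext n
    simp only [hF, mem_Sj, Set.mem_ofPred_eq, Finset.coe_union, Finset.coe_image, Finset.coe_Ico,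
      Set.mem_union, Set.mem_image, Set.mem_Ico]
    rcases le_total i j with hij | hij
    · rw [min_eq_left hij, max_eq_right hij]
      constructor
      · intro h
        by_cases hpar : n % 2 = 0
        · left
          exact ⟨n / 2, by omega, by omega⟩
        · right
          exact ⟨n / 2, by omega, by omega⟩
      · rintro (⟨l, hl, rfl⟩ | ⟨l, hl, rfl⟩) <;> omega
    · rw [min_eq_right hij, max_eq_left hij]
      constructor
      · intro h
        by_cases hpar : n % 2 = 0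
        · left
          exact ⟨n / 2, by omega, by omega⟩
        · right
          exact ⟨n / 2, by omega, by omega⟩
      · rintro (⟨l, hl, rfl⟩ | ⟨l, hl, rfl⟩) <;> omega
  rw [hset, Set.ncard_coe_finset, hF, Finset.card_union_of_disjoint]
  · rw [Finset.card_image_of_injective _ (fun a b hab => by simpa using hab),
      Finset.card_image_of_injective _ (fun a b hab => by simpa using hab), Nat.card_Ico,
      Nat.card_Ico]
    have := min_le_left i j
    omega
  · rw [Finset.disjoint_left]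
    intro n h1 h2
    rw [Finset.mem_image] at h1 h2
    obtain ⟨l, -, rfl⟩ := h1
    obtain ⟨l', -, h⟩ := h2
    omega

variable {k : Type u} [Field k] {A : Subalgebra k k⟦X⟧} {δ : ℕ}

theorem gained_eq (H : Hyp A δ) {i j : ℕ} (hi : i ≤ δ) (hj : j ≤ δ) :
    gained (P := HomK A ((X : k⟦X⟧) ^ (2 * δ + 1 - 2 * i))
        (Mg A ((X : k⟦X⟧) ^ (2 * δ + 1 - 2 * j))))
      (ev A _ _ (kerElt A _ _ (a0_mem H hi) (a0g_mem H hi))) (resRange A _ _) =
    {n | (n ∈ Sj δ j ∧ n + (2 * δ + 1 - 2 * i) ∈ Sj δ j) ∧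
      ¬ (2 * i ≤ n ∧ n - 2 * i ∈ Sj δ (max i j))} := by
  ext n
  constructor
  · rintro ⟨⟨p, hp⟩, hno⟩
    refine ⟨ev_order_mem H hi hj p n hp, ?_⟩
    rintro ⟨h1, h2⟩
    obtain ⟨φ, hφ, ho⟩ := exists_res_order H hi hj n h1 h2
    exact hno ⟨φ, hφ, ho⟩
  · rintro ⟨⟨h1, h2⟩, hno⟩
    refine ⟨exists_ev_order H hi hj n h1 h2, ?_⟩
    rintro ⟨s, hs, ho⟩
    exact hno (res_order_mem H hi hj s hs n ho)

/-- **Length of `Ext^1(M_i, M_j)` over the `A_{2δ}` singularity.** -/
theorem length_ext (H : Hyp A δ) {i j : ℕ} (hi : i ≤ δ) (hj : j ≤ δ) :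
    Module.length ↥A (Abelian.Ext
      (ModuleCat.of ↥A ↥(Mg A ((X : k⟦X⟧) ^ (2 * δ + 1 - 2 * i))))
      (ModuleCat.of ↥A ↥(Mg A ((X : k⟦X⟧) ^ (2 * δ + 1 - 2 * j)))) 1) =
      ((2 * min i j : ℕ) : ℕ∞) := by
  rw [TwoGen.length_ext_one A _ _ H.setup (kerElt A _ _ (a0_mem H hi) (a0g_mem H hi))
    (2 * δ + 2 * i) (mem_resRange_of_large H hi hj), gained_eq H hi hj, ncard_D δ i j hi hj]

end Groth.Agent.Lib.Helper88.A2d
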