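/-
Duality lengths, abstract part: for a finite module `W` of injective dimension at most one over a
Noetherian local ring and a finite module `M` with a regular element, the cokernel of restriction
`Hom(M, W) → Hom(N, W)` to a submodule `N` of finite colength `n` has length `n · type(W)`, where
`type(W)` is the length of `Ext^1(k, W)`.
Author: helper88
-/
import Groth.Agent.Lib.Helper88.CanonExt
import Groth.Agent.Lib.Helper88.ExtLen

set_option autoImplicit false
set_option linter.style.haveILetI false

namespace Groth.Agent.Lib.Helper88.CanDual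

open CategoryTheory Abelian IsLocalRing

universe u

/-- The type of `W`: the length of `Ext^1(k, W)`. -/
noncomputable def typ (R : Type u) [CommRing R] [IsLocalRing R] (W : Type u) [AddCommGroup W]
    [Module R W] : ℕ∞ :=
  Module.length R (Ext (ModuleCat.of R (R ⧸ maximalIdeal R)) (ModuleCat.of R W) 1)

variable {R : Type u} [CommRing R]

/-- The cokernel of restriction along an injection is `Ext^1` of the cokernel. -/
theorem nonempty_cokerRes_equiv_ext (W : Type u) [AddCommGroup W] [Module R W]
    {N M : Type u} [AddCommGroup N] [Module R N] [AddCommGroup M] [Module R M]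
    (f : N →ₗ[R] M) (hf : Function.Injective f)
    (h2 : Subsingleton (Ext (ModuleCat.of R M) (ModuleCat.of R W) 1)) :
    Nonempty (((N →ₗ[R] W) ⧸ LinearMap.range (LinearMap.lcomp R W f)) ≃ₗ[R]
      Ext (ModuleCat.of R (M ⧸ LinearMap.range f)) (ModuleCat.of R W) 1) := by
  let S : ShortComplex (ModuleCat.{u} R) :=
    ModuleCat.shortComplexOfCompEqZero f (LinearMap.range f).mkQ (by
      ext a
      simp)
  have hS : S.ShortExact := ModuleCat.shortComplex_shortExact S
    (by
      intro y
      show (LinearMap.range f).mkQ y = 0 ↔ y ∈ Set.range f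
      rw [Submodule.mkQ_apply, Submodule.Quotient.mk_eq_zero]
      rfl) hf (Submodule.mkQ_surjective _)
  exact CanonExt.nonempty_coker_equiv hS (ModuleCat.of R W) h2

variable [IsNoetherianRing R] [IsLocalRing R]

/-- The simple step. -/
theorem length_cokerRes_simple (W : Type u) [AddCommGroup W] [Module R W] [Module.Finite R W]
    (hW : HasInjectiveDimensionLT (ModuleCat.of R W) 2)
    {N M : Type u} [AddCommGroup N] [Module R N] [AddCommGroup M] [Module R M]
    [Module.Finite R M] (f : N →ₗ[R] M) (hf : Function.Injective f)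
    (e : (M ⧸ LinearMap.range f) ≃ₗ[R] (R ⧸ maximalIdeal R))
    (x : R) (hx : x ∈ maximalIdeal R) (hreg : IsSMulRegular M x) :
    Module.length R ((N →ₗ[R] W) ⧸ LinearMap.range (LinearMap.lcomp R W f)) = typ R W := by
  haveI : Module.Finite R (ModuleCat.of R W) := ‹Module.Finite R W›
  haveI : Module.Finite R (ModuleCat.of R M) := ‹Module.Finite R M›
  have h2 : Subsingleton (Ext (ModuleCat.of R M) (ModuleCat.of R W) 1) :=
    CanonExt.ext_one_subsingleton_of_regular (ModuleCat.of R W) hW (ModuleCat.of R M) x hx hreg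
  obtain ⟨e1⟩ := nonempty_cokerRes_equiv_ext W f hf h2
  obtain ⟨e2⟩ := CanonExt.nonempty_ext_equiv_of_iso
    (X := ModuleCat.of R (M ⧸ LinearMap.range f)) (X' := ModuleCat.of R (R ⧸ maximalIdeal R))
    e.toModuleIso (ModuleCat.of R W) 1
  exact (e1.trans e2).length_eq

/-- **Length of the cokernel of restriction** to a submodule of finite colength. -/
theorem length_cokerRes (W : Type u) [AddCommGroup W] [Module R W] [Module.Finite R W]
    (hW : HasInjectiveDimensionLT (ModuleCat.of R W) 2)
    (M : Type u) [AddCommGroup M] [Module R M] [Module.Finite R M]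
    (x : R) (hx : x ∈ maximalIdeal R) (hreg : IsSMulRegular M x)
    (N₀ : Submodule R M) (d : R) (hdW : ∀ w : W, d • w = 0 → w = 0) (hdM : ∀ y : M, d • y ∈ N₀) :
    ∀ (n : ℕ) (N : Submodule R M), N₀ ≤ N → Module.length R (M ⧸ N) = (n : ℕ∞) →
      Module.length R ((↥N →ₗ[R] W) ⧸ LinearMap.range (LinearMap.lcomp R W N.subtype)) =
        (n : ℕ∞) * typ R W := by
  intro n
  induction n with
  | zero =>
    intro N _ hlen
    rw [Nat.cast_zero, Module.length_eq_zero_iff] at hlen
    have hN : N = ⊤ := by
      rw [eq_top_iff]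
      intro y _
      have := Subsingleton.elim (Submodule.Quotient.mk y : M ⧸ N) 0
      rwa [Submodule.Quotient.mk_eq_zero] at this
    have htop : LinearMap.range (LinearMap.lcomp R W N.subtype) = ⊤ := by
      rw [eq_top_iff]
      intro φ _
      refine ⟨φ ∘ₗ LinearMap.codRestrict N LinearMap.id (fun y => by rw [hN]; trivial), ?_⟩
      refine LinearMap.ext (fun y => ?_)
      show φ _ = φ y
      congr 1
    rw [Nat.cast_zero, zero_mul, Module.length_eq_zero_iff, htop]
    infer_instance
  | succ n ih =>
    intro N hN₀ hlen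
    -- an atom of `M ⧸ N`
    have hfl : IsFiniteLength R (M ⧸ N) :=
      Module.length_ne_top_iff.1 (by rw [hlen]; exact ENat.natCast_ne_top _)
    obtain ⟨_, hart⟩ := isFiniteLength_iff_isNoetherian_isArtinian.1 hfl
    haveI : IsAtomic (Submodule R (M ⧸ N)) := isAtomic_of_orderBot_wellFounded_lt (wellFounded_lt (α := Submodule R (M ⧸ N)))
    have hne : (⊤ : Submodule R (M ⧸ N)) ≠ ⊥ := by
      intro h
      have hsub : Subsingleton (M ⧸ N) := by
        refine ⟨fun a b => ?_⟩
        have ha : a ∈ (⊤ : Submodule R (M ⧸ N)) := trivial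
        have hb : b ∈ (⊤ : Submodule R (M ⧸ N)) := trivial
        rw [h, Submodule.mem_bot] at ha hb
        rw [ha, hb]
      have := (Module.length_eq_zero_iff (R := R)).2 hsub
      rw [hlen] at this
      exact absurd this (by simp)
    obtain ⟨S, hS, -⟩ := (eq_bot_or_exists_atom_le (⊤ : Submodule R (M ⧸ N))).resolve_left hne
    haveI hsimple : IsSimpleModule R ↥S := isSimpleModule_iff_isAtom.2 hS
    obtain ⟨𝔭, h𝔭, ⟨eS⟩⟩ := isSimpleModule_iff_quot_maximal.1 hsimple
    have h𝔭m : 𝔭 = maximalIdeal R := IsLocalRing.eq_maximalIdeal h𝔭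
    subst h𝔭m
    -- the preimage
    set N' : Submodule R M := Submodule.comap N.mkQ S with hN'
    have hNN' : N ≤ N' := by
      intro y hy
      rw [hN', Submodule.mem_comap, Submodule.mkQ_apply, (Submodule.Quotient.mk_eq_zero N).2 hy]
      exact S.zero_mem
    set g : ↥N' →ₗ[R] ↥S := (N.mkQ ∘ₗ N'.subtype).codRestrict S (fun y => y.2) with hg
    have hgsurj : Function.Surjective g := by
      rintro ⟨s, hs⟩
      obtain ⟨y, rfl⟩ := Submodule.mkQ_surjective N s
      exact ⟨⟨y, hs⟩, rfl⟩
    have hgker : LinearMap.ker g = LinearMap.range (Submodule.inclusion hNN') := by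
      ext y
      rw [LinearMap.mem_ker, Submodule.range_inclusion, Submodule.mem_comap]
      constructor
      · intro h
        have h' := congrArg Subtype.val h
        exact (Submodule.Quotient.mk_eq_zero N).1 h'
      · intro h
        apply Subtype.ext
        exact (Submodule.Quotient.mk_eq_zero N).2 h
    have e' : (↥N' ⧸ LinearMap.range (Submodule.inclusion hNN')) ≃ₗ[R] ↥S :=
      (Submodule.quotEquivOfEq _ _ hgker.symm).trans (g.quotKerEquivOfSurjective hgsurj)
    -- lengths
    have hstep := ExtLen.length_quot_step N' N hNN'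
    have h1 : Module.length R (↥N' ⧸ Submodule.comap N'.subtype N) = 1 := by
      rw [← Submodule.range_inclusion N N' hNN', e'.length_eq, Module.length_eq_one_iff]
      exact hsimple
    rw [hlen, h1] at hstep
    have hlen' : Module.length R (M ⧸ N') = (n : ℕ∞) := by
      have : (1 : ℕ∞) + (n : ℕ∞) = 1 + Module.length R (M ⧸ N') := by
        rw [← hstep]
        push_cast
        rw [add_comm]
      exact (ENat.add_right_injective_of_ne_top (by simp) this).symm
    have hIH := ih N' (le_trans hN₀ hNN') hlen'
    -- regularity and finiteness on `N'`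
    have hreg' : IsSMulRegular ↥N' x := by
      intro a b hab
      apply Subtype.ext
      apply hreg
      exact congrArg Subtype.val hab
    have hsimp := length_cokerRes_simple W hW (Submodule.inclusion hNN')
      (Submodule.inclusion_injective hNN') (e'.trans eS) x hx hreg'
    -- combine
    set ρ : (↥N' →ₗ[R] W) →ₗ[R] (↥N →ₗ[R] W) := LinearMap.lcomp R W (Submodule.inclusion hNN')
      with hρ
    have hρinj : Function.Injective ρ := by
      rw [← LinearMap.ker_eq_bot, LinearMap.ker_eq_bot']
      intro ψ hψ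
      refine LinearMap.ext (fun y => ?_)
      apply hdW
      have hy : d • (y : M) ∈ N := hN₀ (hdM y)
      have h3 : d • y = Submodule.inclusion hNN' ⟨d • (y : M), hy⟩ := rfl
      rw [← map_smul, h3]
      exact LinearMap.congr_fun hψ ⟨d • (y : M), hy⟩
    set G₁ : Submodule R (↥N →ₗ[R] W) := LinearMap.range ρ with hG₁
    set G₂ : Submodule R (↥N →ₗ[R] W) := LinearMap.range (LinearMap.lcomp R W N.subtype) with hG₂
    have hG : G₂ ≤ G₁ := by
      rintro φ ⟨ψ, rfl⟩
      exact ⟨ψ ∘ₗ N'.subtype, rfl⟩
    have hstep2 := ExtLen.length_quot_step G₁ G₂ hG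
    set E : (↥N' →ₗ[R] W) ≃ₗ[R] ↥G₁ := LinearEquiv.ofInjective ρ hρinj with hE
    have hmap : Submodule.map (E : (↥N' →ₗ[R] W) →ₗ[R] ↥G₁)
        (LinearMap.range (LinearMap.lcomp R W N'.subtype)) = Submodule.comap G₁.subtype G₂ := by
      ext φ
      rw [Submodule.mem_map, Submodule.mem_comap]
      constructor
      · rintro ⟨ψ', ⟨ψ, rfl⟩, rfl⟩
        exact ⟨ψ, rfl⟩
      · rintro ⟨ψ, hψ⟩
        refine ⟨ψ ∘ₗ N'.subtype, ⟨ψ, rfl⟩, Subtype.ext ?_⟩
        exact Eq.trans (LinearMap.ext fun y => rfl) hψ
    have h2 : Module.length R (↥G₁ ⧸ Submodule.comap G₁.subtype G₂) = (n : ℕ∞) * typ R W := by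
      rw [← hIH]
      exact (Submodule.Quotient.equiv _ _ E hmap).length_eq.symm
    rw [hstep2, h2, hsimp]
    push_cast
    rw [add_mul, one_mul]

end Groth.Agent.Lib.Helper88.CanDual
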