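/-
Duality lengths for fractional ideals of a one-dimensional Noetherian local domain: for a finite
submodule `ω ⊆ K` of injective dimension at most one, `ℓ((ω : I)/(ω : J)) = ℓ(J/I) · type(ω)`.
Author: helper88
-/
import Groth.Agent.Lib.Helper88.CanDual1
import Groth.Agent.Lib.Helper71.TFCurv
import Mathlib.RingTheory.FractionalIdeal.Operations

set_option autoImplicit false
set_option linter.style.haveILetI false

namespace Groth.Agent.Lib.Helper88.CanDual

open CategoryTheory Abelian IsLocalRing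

universe u

section Rl

variable {O : Type*} [CommRing O] {E : Type*} [AddCommGroup E] [Module O E]

/-- The relative length `ℓ(B / A ∩ B)`. -/
noncomputable def rl (A B : Submodule O E) : ℕ∞ :=
  Module.length O (↥B ⧸ Submodule.comap B.subtype A)

theorem rl_add {A B C : Submodule O E} (hAB : A ≤ B) (hBC : B ≤ C) :
    rl A C = rl A B + rl B C := by
  have h := ExtLen.length_quot_step (Submodule.comap C.subtype B) (Submodule.comap C.subtype A)
    (Submodule.comap_mono hAB)
  unfold rl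
  rw [h]
  congr 1
  set e := Submodule.comapSubtypeEquivOfLe hBC with he
  have hmap : Submodule.map (e : ↥(Submodule.comap C.subtype B) →ₗ[O] ↥B)
      (Submodule.comap (Submodule.comap C.subtype B).subtype (Submodule.comap C.subtype A)) =
      Submodule.comap B.subtype A := by
    ext y
    rw [Submodule.mem_map, Submodule.mem_comap]
    constructor
    · rintro ⟨z, hz, rfl⟩
      exact hz
    · intro hy
      exact ⟨⟨⟨y, hBC y.2⟩, y.2⟩, hy, rfl⟩
  exact (Submodule.Quotient.equiv _ _ e hmap).length_eq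

theorem rl_eq_zero_iff {A B : Submodule O E} : rl A B = 0 ↔ B ≤ A := by
  unfold rl
  rw [Module.length_eq_zero_iff]
  constructor
  · intro h y hy
    have := Subsingleton.elim (Submodule.Quotient.mk ⟨y, hy⟩ :
      ↥B ⧸ Submodule.comap B.subtype A) 0
    rwa [Submodule.Quotient.mk_eq_zero] at this
  · intro h
    refine ⟨fun a b => ?_⟩
    obtain ⟨a, rfl⟩ := Submodule.Quotient.mk_surjective _ a
    obtain ⟨b, rfl⟩ := Submodule.Quotient.mk_surjective _ b
    rw [Submodule.Quotient.eq, Submodule.mem_comap]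
    exact h (B.sub_mem a.2 b.2)

end Rl

variable {O : Type u} [CommRing O] [IsDomain O] {K : Type u} [Field K] [Algebra O K]
  [IsFractionRing O K]

section MulHom

variable (W I : Submodule O K) {N : Type u} [AddCommGroup N] [Module O N] (ι : N →ₗ[O] K)
  (hι : ∀ y, ι y ∈ I)

/-- Multiplication by an element of `W / I` as a homomorphism `N → W` for `ι : N → I`. -/
noncomputable def mulHom : ↥(W / I) →ₗ[O] (N →ₗ[O] ↥W) where
  toFun x :=
    { toFun := fun y => ⟨(x : K) * ι y, Submodule.mem_div_iff_forall_mul_mem.1 x.2 _ (hι y)⟩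
      map_add' := by
        intro y y'
        apply Subtype.ext
        show (x : K) * ι (y + y') = (x : K) * ι y + (x : K) * ι y'
        rw [map_add, mul_add]
      map_smul' := by
        intro a y
        apply Subtype.ext
        show (x : K) * ι (a • y) = a • ((x : K) * ι y)
        rw [map_smul, mul_smul_comm] }
  map_add' := by
    intro x x'
    refine LinearMap.ext (fun y => Subtype.ext ?_)
    show ((x : K) + (x' : K)) * ι y = (x : K) * ι y + (x' : K) * ι y
    rw [add_mul]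
  map_smul' := by
    intro a x
    refine LinearMap.ext (fun y => Subtype.ext ?_)
    show (a • (x : K)) * ι y = a • ((x : K) * ι y)
    rw [smul_mul_assoc]

omit [IsDomain O] [IsFractionRing O K] in
lemma mulHom_apply (x : ↥(W / I)) (y : N) : ((mulHom W I ι hι x y : ↥W) : K) = (x : K) * ι y := rfl

/-- Cross-multiplication for linear maps into `K`. -/
lemma cross_mul (hinj : Function.Injective ι) (φ : N →ₗ[O] K) (y y₀ : N) (hy₀ : ι y₀ ≠ 0) :
    ι y₀ * φ y = ι y * φ y₀ := by
  obtain ⟨s, a, ha⟩ := IsLocalization.exists_integer_multiple (nonZeroDivisors O) (ι y)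
  obtain ⟨s₀, b, hb⟩ := IsLocalization.exists_integer_multiple (nonZeroDivisors O) (ι y₀)
  have hb0 : b ≠ 0 := by
    rintro rfl
    rw [map_zero] at hb
    have h2 : (s₀ : O) • ι y₀ = 0 := hb.symm
    rw [Algebra.smul_def, mul_eq_zero] at h2
    rcases h2 with h2 | h2
    · rw [map_eq_zero_iff _ (IsFractionRing.injective O K)] at h2
      exact nonZeroDivisors.ne_zero s₀.2 h2
    · exact hy₀ h2
  have hs0 : (s : O) ≠ 0 := nonZeroDivisors.ne_zero s.2
  have h1 : (b * (s : O)) • y = (a * (s₀ : O)) • y₀ := by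
    apply hinj
    rw [map_smul, map_smul, mul_smul, mul_smul]
    have e1 : (s : O) • ι y = algebraMap O K a := ha.symm
    have e2 : (s₀ : O) • ι y₀ = algebraMap O K b := hb.symm
    rw [e1, e2, Algebra.smul_def, Algebra.smul_def, ← map_mul, ← map_mul, mul_comm]
  have h2 := congrArg φ h1
  rw [map_smul, map_smul] at h2
  have h3 := congrArg ι h1
  rw [map_smul, map_smul] at h3
  rw [Algebra.smul_def, Algebra.smul_def] at h2 h3
  have hc : algebraMap O K (b * (s : O)) ≠ 0 := by
    rw [Ne, map_eq_zero_iff _ (IsFractionRing.injective O K)]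
    exact mul_ne_zero hb0 hs0
  apply mul_left_cancel₀ hc
  calc algebraMap O K (b * (s : O)) * (ι y₀ * φ y)
      = ι y₀ * (algebraMap O K (b * (s : O)) * φ y) := by ring
    _ = ι y₀ * (algebraMap O K (a * (s₀ : O)) * φ y₀) := by rw [h2]
    _ = (algebraMap O K (a * (s₀ : O)) * ι y₀) * φ y₀ := by ring
    _ = (algebraMap O K (b * (s : O)) * ι y) * φ y₀ := by rw [h3]
    _ = algebraMap O K (b * (s : O)) * (ι y * φ y₀) := by ring

omit [IsDomain O] [IsFractionRing O K] in
lemma mulHom_injective (y₀ : N) (hy₀ : ι y₀ ≠ 0) : Function.Injective (mulHom W I ι hι) := by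
  intro x x' hxx'
  have h1 := congrArg (fun ψ : N →ₗ[O] ↥W => ((ψ y₀ : ↥W) : K)) hxx'
  simp only [mulHom_apply] at h1
  exact Subtype.ext (mul_right_cancel₀ hy₀ h1)

lemma mulHom_surjective (hinj : Function.Injective ι) (hsurj : ∀ z ∈ I, ∃ y, ι y = z)
    (y₀ : N) (hy₀ : ι y₀ ≠ 0) : Function.Surjective (mulHom W I ι hι) := by
  intro φ
  set φ' : N →ₗ[O] K := W.subtype ∘ₗ φ with hφ'
  set x : K := φ' y₀ / ι y₀ with hx
  have hkey : ∀ y : N, x * ι y = φ' y := by
    intro y
    rw [hx, div_mul_eq_mul_div, div_eq_iff hy₀, mul_comm (φ' y₀), mul_comm (φ' y)]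
    exact (cross_mul ι hinj φ' y y₀ hy₀).symm
  have hxm : x ∈ W / I := by
    rw [Submodule.mem_div_iff_forall_mul_mem]
    intro z hz
    obtain ⟨y, rfl⟩ := hsurj z hz
    rw [hkey]
    exact (φ y).2
  refine ⟨⟨x, hxm⟩, LinearMap.ext (fun y => Subtype.ext ?_)⟩
  rw [mulHom_apply]
  exact hkey y

/-- `W / I ≃ Hom(N, W)` for `N ≃ I`. -/
noncomputable def divEquivHom (hinj : Function.Injective ι) (hsurj : ∀ z ∈ I, ∃ y, ι y = z)
    (y₀ : N) (hy₀ : ι y₀ ≠ 0) : ↥(W / I) ≃ₗ[O] (N →ₗ[O] ↥W) :=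
  LinearEquiv.ofBijective (mulHom W I ι hι)
    ⟨mulHom_injective W I ι hι y₀ hy₀, mulHom_surjective W I ι hι hinj hsurj y₀ hy₀⟩

end MulHom


section Main

variable [IsNoetherianRing O] [IsLocalRing O]

omit [IsDomain O] [IsNoetherianRing O] [IsLocalRing O] in
lemma algebraMap_ne_zero' {a : O} (ha : a ≠ 0) : algebraMap O K a ≠ 0 := by
  rw [Ne, map_eq_zero_iff _ (IsFractionRing.injective O K)]
  exact ha

omit [IsDomain O] [IsFractionRing O K] [IsNoetherianRing O] [IsLocalRing O] in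
lemma div_anti (W : Submodule O K) {I J : Submodule O K} (hIJ : I ≤ J) : W / J ≤ W / I := by
  intro x hx
  rw [Submodule.mem_div_iff_forall_mul_mem] at hx ⊢
  intro y hy
  exact hx y (hIJ hy)

omit [IsNoetherianRing O] in
/-- A common multiplier bringing a finitely generated `J` into `I ≠ 0`. -/
lemma exists_smul_mem {I J : Submodule O K} (hI : ∃ y ∈ I, y ≠ 0) (hJ : J.FG) :
    ∃ d : O, d ≠ 0 ∧ ∀ z ∈ J, d • z ∈ I := by
  obtain ⟨s, hs, hsJ⟩ := FractionalIdeal.isFractional_of_fg (S := nonZeroDivisors O) hJ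
  obtain ⟨y₀, hy₀I, hy₀⟩ := hI
  obtain ⟨t, a, ha⟩ := IsLocalization.exists_integer_multiple (nonZeroDivisors O) y₀
  have ha0 : a ≠ 0 := by
    rintro rfl
    rw [map_zero] at ha
    have h2 : (t : O) • y₀ = 0 := ha.symm
    rw [Algebra.smul_def, mul_eq_zero] at h2
    rcases h2 with h2 | h2
    · exact algebraMap_ne_zero' (nonZeroDivisors.ne_zero t.2) h2
    · exact hy₀ h2
  refine ⟨a * s, mul_ne_zero ha0 (nonZeroDivisors.ne_zero hs), ?_⟩
  intro z hz
  obtain ⟨c', hc⟩ := hsJ z hz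
  have e1 : (t : O) • y₀ = algebraMap O K a := ha.symm
  have : (a * s) • z = (c' * (t : O)) • y₀ := by
    rw [mul_smul, ← hc, mul_smul, e1, Algebra.smul_def, Algebra.smul_def, ← map_mul, ← map_mul,
      mul_comm]
  rw [this]
  exact I.smul_mem _ hy₀I

/-- **Duality lengths for fractional ideals.** -/
theorem rl_div (hdim : ringKrullDim O = 1) (ω : Submodule O K) [Module.Finite O ↥ω]
    (hω : HasInjectiveDimensionLT (ModuleCat.of O ↥ω) 2) {I J : Submodule O K} (hIJ : I ≤ J)
    (hI : ∃ y ∈ I, y ≠ 0) (hJ : J.FG) :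
    rl (ω / J) (ω / I) = rl I J * typ O ↥ω := by
  classical
  haveI : Module.Finite O ↥J := Module.Finite.iff_fg.2 hJ
  obtain ⟨x, hx, hx0⟩ := Helper71.TFCurv.exists_mem_max_ne_zero hdim
  have hreg : IsSMulRegular ↥J x := by
    intro a b hab
    apply Subtype.ext
    have h1 : x • (a : K) = x • (b : K) := congrArg Subtype.val hab
    rw [Algebra.smul_def, Algebra.smul_def] at h1
    exact mul_left_cancel₀ (algebraMap_ne_zero' hx0) h1
  obtain ⟨d₀, hd₀, hd₀J⟩ := exists_smul_mem hI hJ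
  set d : O := d₀ * x with hd
  have hd0 : d ≠ 0 := mul_ne_zero hd₀ hx0
  have hdm : d ∈ maximalIdeal O := Ideal.mul_mem_left _ _ hx
  have hdJ : ∀ z ∈ J, d • z ∈ I := by
    intro z hz
    rw [hd, mul_comm, mul_smul]
    exact I.smul_mem _ (hd₀J z hz)
  set N₀ : Submodule O ↥J := Submodule.comap J.subtype I with hN₀
  have hdW : ∀ w : ↥ω, d • w = 0 → w = 0 := by
    intro w hw
    apply Subtype.ext
    have h1 : d • (w : K) = 0 := congrArg Subtype.val hw
    rw [Algebra.smul_def, mul_eq_zero] at h1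
    exact h1.resolve_left (algebraMap_ne_zero' hd0)
  have hdM : ∀ y : ↥J, d • y ∈ N₀ := fun y => hdJ y y.2
  have hfin : Module.length O (↥J ⧸ N₀) ≠ ⊤ := by
    refine Helper71.TFCurv.length_ne_top_of_torsion
      (Helper71.TFCurv.dimLEOne hdim) d hd0 hdm ?_
    intro q
    obtain ⟨y, rfl⟩ := Submodule.Quotient.mk_surjective _ q
    rw [← Submodule.Quotient.mk_smul, Submodule.Quotient.mk_eq_zero]
    exact hdM y
  obtain ⟨n, hn⟩ := ENat.ne_top_iff_exists.1 hfin
  have key := length_cokerRes ↥ω hω ↥J x hx hreg N₀ d hdW hdM n N₀ le_rfl hn.symm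
  have hrl : rl I J = (n : ℕ∞) := hn.symm
  rw [hrl, ← key]
  -- identification of both sides
  obtain ⟨y₀, hy₀I, hy₀⟩ := hI
  set ι : ↥N₀ →ₗ[O] K := J.subtype ∘ₗ N₀.subtype with hι
  have hιI : ∀ y, ι y ∈ I := fun y => y.2
  have hιinj : Function.Injective ι := by
    intro a b hab
    exact Subtype.ext (Subtype.ext hab)
  have hιsurj : ∀ z ∈ I, ∃ y, ι y = z := fun z hz => ⟨⟨⟨z, hIJ hz⟩, hz⟩, rfl⟩
  set E := divEquivHom ω I ι hιI hιinj hιsurj (⟨⟨y₀, hIJ hy₀I⟩, hy₀I⟩ : ↥N₀) hy₀ with hE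
  have hJsub : ∀ y : ↥J, J.subtype y ∈ J := fun y => y.2
  have hmap : Submodule.map (E : ↥(ω / I) →ₗ[O] (↥N₀ →ₗ[O] ↥ω))
      (Submodule.comap (ω / I).subtype (ω / J)) =
      LinearMap.range (LinearMap.lcomp O ↥ω N₀.subtype) := by
    ext φ
    rw [Submodule.mem_map]
    constructor
    · rintro ⟨x', hx', rfl⟩
      rw [Submodule.mem_comap] at hx'
      refine ⟨mulHom ω J J.subtype hJsub ⟨(x' : K), hx'⟩, ?_⟩
      refine LinearMap.ext (fun y => Subtype.ext ?_)
      rfl
    · rintro ⟨ψ, rfl⟩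
      obtain ⟨x', hx'⟩ := mulHom_surjective ω J J.subtype hJsub Subtype.val_injective
        (fun z hz => ⟨⟨z, hz⟩, rfl⟩) (⟨y₀, hIJ hy₀I⟩ : ↥J) hy₀ ψ
      refine ⟨⟨(x' : K), div_anti ω hIJ x'.2⟩, ?_, ?_⟩
      · rw [Submodule.mem_comap]
        exact x'.2
      · rw [← hx']
        refine LinearMap.ext (fun y => Subtype.ext ?_)
        rfl
  unfold rl
  exact (Submodule.Quotient.equiv _ _ E hmap).length_eq

end Main

end Groth.Agent.Lib.Helper88.CanDual
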