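/-
Canonical ideals of one-dimensional local domains: the type is one, `(ω : ω) = O`, the conductor
`(ω : Õ)`, and the identity `ℓ(ω/O) + ℓ(Õ/C) = 2 ℓ(Õ/O)`.
Author: helper88
-/
import Groth.Agent.Lib.Helper88.CanDual2
import Mathlib.RingTheory.IntegralClosure.Algebra.Basic

set_option autoImplicit false
set_option linter.style.haveILetI false

namespace Groth.Agent.Lib.Helper88.CanDual

open CategoryTheory Abelian IsLocalRing

universe u

variable {O : Type u} [CommRing O] [IsDomain O] [IsNoetherianRing O] [IsLocalRing O]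
  {K : Type u} [Field K] [Algebra O K] [IsFractionRing O K]

/-! ### Generalities on `D(I) = ω / I` -/

omit [IsDomain O] [IsNoetherianRing O] [IsLocalRing O] [IsFractionRing O K] in
lemma le_div_div (ω I : Submodule O K) : I ≤ ω / (ω / I) := by
  intro y hy
  rw [Submodule.mem_div_iff_forall_mul_mem]
  intro x hx
  rw [mul_comm]
  exact (Submodule.mem_div_iff_forall_mul_mem.1 hx) y hy

omit [IsDomain O] [IsNoetherianRing O] [IsLocalRing O] [IsFractionRing O K] in
lemma div_one' (ω : Submodule O K) : ω / (1 : Submodule O K) = ω := by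
  ext x
  rw [Submodule.mem_div_iff_forall_mul_mem]
  constructor
  · intro h
    have := h 1 (Submodule.one_le.1 le_rfl)
    rwa [mul_one] at this
  · intro hx y hy
    obtain ⟨a, rfl⟩ := Submodule.mem_one.1 hy
    rw [mul_comm, ← Algebra.smul_def]
    exact ω.smul_mem a hx

omit [IsDomain O] [IsLocalRing O] [IsFractionRing O K] in
lemma div_fg {ω : Submodule O K} (hω : ω.FG) {I : Submodule O K} (hI : ∃ y ∈ I, y ≠ 0) :
    (ω / I).FG := by
  obtain ⟨y₀, hy₀I, hy₀⟩ := hI
  set S : Submodule O K := Submodule.map (LinearMap.mulLeft O y₀⁻¹) ω with hS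
  have hSfg : S.FG := hω.map _
  have hle : ω / I ≤ S := by
    intro x hx
    have h1 := (Submodule.mem_div_iff_forall_mul_mem.1 hx) y₀ hy₀I
    refine ⟨x * y₀, h1, ?_⟩
    show y₀⁻¹ * (x * y₀) = x
    field_simp
  haveI := isNoetherian_of_fg_of_noetherian S hSfg
  exact (isNoetherian_submodule.1 this) _ hle

omit [IsNoetherianRing O] in
lemma div_ne {ω : Submodule O K} (hω1 : (1 : Submodule O K) ≤ ω) {I : Submodule O K}
    (hI : I.FG) : ∃ x ∈ ω / I, x ≠ 0 := by
  obtain ⟨d, hd, hdI⟩ := exists_smul_mem (I := (1 : Submodule O K)) (J := I)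
    ⟨1, Submodule.one_le.1 le_rfl, one_ne_zero⟩ hI
  refine ⟨algebraMap O K d, ?_, algebraMap_ne_zero' hd⟩
  rw [Submodule.mem_div_iff_forall_mul_mem]
  intro z hz
  rw [← Algebra.smul_def]
  exact hω1 (hdI z hz)

/-! ### Scaling -/

/-- The scaled submodule `u I`. -/
noncomputable def sc (u : K) (I : Submodule O K) : Submodule O K :=
  Submodule.map (LinearMap.mulLeft O u) I

omit [IsDomain O] [IsNoetherianRing O] [IsLocalRing O] [IsFractionRing O K] in
lemma mem_sc {u : K} {I : Submodule O K} {z : K} : z ∈ sc u I ↔ ∃ y ∈ I, u * y = z := Iff.rfl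

omit [IsDomain O] [IsNoetherianRing O] [IsLocalRing O] [IsFractionRing O K] in
lemma div_sc (ω I : Submodule O K) {u : K} (hu : u ≠ 0) : ω / sc u I = sc u⁻¹ (ω / I) := by
  ext x
  rw [Submodule.mem_div_iff_forall_mul_mem, mem_sc]
  constructor
  · intro h
    refine ⟨x * u, ?_, ?_⟩
    · rw [Submodule.mem_div_iff_forall_mul_mem]
      intro y hy
      rw [mul_assoc]
      exact h _ ⟨y, hy, rfl⟩
    · field_simp
  · rintro ⟨x', hx', rfl⟩ z ⟨y, hy, rfl⟩
    have := (Submodule.mem_div_iff_forall_mul_mem.1 hx') y hy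
    have e : u⁻¹ * x' * (u * y) = x' * y := by field_simp
    show u⁻¹ * x' * (u * y) ∈ ω
    rw [e]
    exact this

omit [IsDomain O] [IsNoetherianRing O] [IsLocalRing O] [IsFractionRing O K] in
lemma div_div_sc (ω I : Submodule O K) {u : K} (hu : u ≠ 0) :
    ω / (ω / sc u I) = sc u (ω / (ω / I)) := by
  rw [div_sc ω I hu, div_sc ω (ω / I) (inv_ne_zero hu), inv_inv]


/-! ### The main argument -/

section Main

variable (hdim : ringKrullDim O = 1) (hfin : Module.Finite O ↥(integralClosure O K))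
  (ω : Submodule O K) (hω1 : (1 : Submodule O K) ≤ ω)
  (hω2 : ω ≤ Subalgebra.toSubmodule (integralClosure O K))
  (hωinj : HasInjectiveDimensionLT (ModuleCat.of O ↥ω) 2)

/-- The normalization as a submodule. -/
local notation "Õs" => Subalgebra.toSubmodule (integralClosure O K)

include hfin in
omit [IsDomain O] [IsNoetherianRing O] [IsLocalRing O] [IsFractionRing O K] in
lemma normal_fg : (Õs : Submodule O K).FG := by
  have : Module.Finite O ↥(Õs : Submodule O K) := hfin
  exact Module.Finite.iff_fg.1 this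

include hfin hω2 in
omit [IsDomain O] [IsLocalRing O] [IsFractionRing O K] in
lemma omega_fg : ω.FG := by
  haveI := isNoetherian_of_fg_of_noetherian _ (normal_fg (K := K) hfin)
  exact (isNoetherian_submodule.1 this) _ hω2

omit [IsDomain O] [IsNoetherianRing O] [IsLocalRing O] [IsFractionRing O K] in
lemma one_le_normal : (1 : Submodule O K) ≤ Õs := by
  rw [Submodule.one_le]
  exact (integralClosure O K).one_mem

omit [IsDomain O] [IsNoetherianRing O] [IsLocalRing O] [IsFractionRing O K] in
lemma one_ne : ∃ y ∈ (1 : Submodule O K), y ≠ 0 :=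
  ⟨1, Submodule.one_le.1 le_rfl, one_ne_zero⟩

include hdim hω1 hωinj in
/-- Double duality on lengths. -/
theorem rl_div_div [Module.Finite O ↥ω] {I J : Submodule O K} (hIJ : I ≤ J)
    (hI : ∃ y ∈ I, y ≠ 0) (hJ : J.FG) :
    rl (ω / (ω / I)) (ω / (ω / J)) = rl I J * typ O ↥ω * typ O ↥ω := by
  have hωfg : ω.FG := Module.Finite.iff_fg.1 inferInstance
  have h1 := rl_div hdim ω hωinj hIJ hI hJ
  have h2 := rl_div hdim ω hωinj (div_anti ω hIJ) (div_ne hω1 hJ) (div_fg hωfg hI)
  rw [h2, h1]

include hfin hω1 hω2 in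
/-- `D D(Õ) = Õ` by integrality. -/
theorem div_div_normal : ω / (ω / Õs) = Õs := by
  apply le_antisymm
  · intro x hx
    set 𝔠 : Submodule O K := ω / Õs with h𝔠
    have hst : ∀ c' ∈ 𝔠, ∀ z ∈ (Õs : Submodule O K), c' * z ∈ 𝔠 := by
      intro c' hc z hz
      rw [h𝔠, Submodule.mem_div_iff_forall_mul_mem]
      intro z' hz'
      rw [mul_assoc]
      exact (Submodule.mem_div_iff_forall_mul_mem.1 hc) _ ((integralClosure O K).mul_mem hz hz')
    have hx𝔠 : ∀ c' ∈ 𝔠, x • c' ∈ 𝔠 := by
      intro c' hc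
      rw [smul_eq_mul, h𝔠, Submodule.mem_div_iff_forall_mul_mem]
      intro z hz
      rw [mul_assoc]
      exact (Submodule.mem_div_iff_forall_mul_mem.1 hx) _ (hst c' hc z hz)
    have hne : 𝔠 ≠ ⊥ := by
      obtain ⟨y, hy, hy0⟩ := div_ne hω1 (normal_fg (K := K) hfin)
      intro h
      rw [h𝔠] at h
      rw [h, Submodule.mem_bot] at hy
      exact hy0 hy
    have hfg : 𝔠.FG := div_fg (omega_fg hfin ω hω2)
      ⟨1, (integralClosure O K).one_mem, one_ne_zero⟩
    exact isIntegral_of_smul_mem_submodule 𝔠 hne hfg x hx𝔠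
  · exact le_div_div ω _


include hdim hfin in
/-- Finiteness of relative lengths below the normalization. -/
lemma rl_ne_top {I : Submodule O K} (hI : ∃ y ∈ I, y ≠ 0) :
    rl I (Õs : Submodule O K) ≠ ⊤ := by
  obtain ⟨x, hx, hx0⟩ := Helper71.TFCurv.exists_mem_max_ne_zero hdim
  obtain ⟨d₀, hd₀, hd₀J⟩ := exists_smul_mem hI (normal_fg (K := K) hfin)
  haveI : Module.Finite O ↥(Õs : Submodule O K) := hfin
  unfold rl
  refine Helper71.TFCurv.length_ne_top_of_torsion (Helper71.TFCurv.dimLEOne hdim) (d₀ * x)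
    (mul_ne_zero hd₀ hx0) (Ideal.mul_mem_left _ _ hx) ?_
  intro q
  obtain ⟨y, rfl⟩ := Submodule.Quotient.mk_surjective _ q
  rw [← Submodule.Quotient.mk_smul, Submodule.Quotient.mk_eq_zero, Submodule.mem_comap]
  show (d₀ * x) • (y : K) ∈ I
  rw [mul_comm, mul_smul]
  exact I.smul_mem _ (hd₀J _ y.2)

include hdim hfin hω1 hω2 hωinj in
/-- **The type of a canonical ideal is one.** -/
theorem typ_eq_one [Module.Finite O ↥ω] : typ O ↥ω = 1 := by
  obtain ⟨a, ha, ha0⟩ := Helper71.TFCurv.exists_mem_max_ne_zero hdim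
  set u : K := algebraMap O K a with hu
  have hu0 : u ≠ 0 := algebraMap_ne_zero' ha0
  have hnfg := normal_fg (K := K) hfin
  have huN : sc u (Õs : Submodule O K) ≤ Õs := by
    rintro z ⟨y, hy, rfl⟩
    exact (integralClosure O K).mul_mem ((integralClosure O K).algebraMap_mem a) hy
  have hne : ∃ y ∈ sc u (Õs : Submodule O K), y ≠ 0 :=
    ⟨u * 1, ⟨1, (integralClosure O K).one_mem, rfl⟩, by rw [mul_one]; exact hu0⟩
  have hDD := rl_div_div hdim ω hω1 hωinj huN hne hnfg
  rw [div_div_sc ω _ hu0, div_div_normal hfin ω hω1 hω2] at hDD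
  set L := rl (sc u (Õs : Submodule O K)) Õs with hL
  have hLtop : L ≠ ⊤ := rl_ne_top hdim hfin hne
  have hL0 : L ≠ 0 := by
    intro h0
    rw [hL, rl_eq_zero_iff] at h0
    have hle : (Õs : Submodule O K) ≤ maximalIdeal O • (Õs : Submodule O K) := by
      intro z hz
      obtain ⟨y, hy, rfl⟩ := h0 hz
      have : u * y = a • y := by rw [hu, Algebra.smul_def]
      show u * y ∈ _
      rw [this]
      exact Submodule.smul_mem_smul ha hy
    have hbot := Submodule.eq_bot_of_le_smul_of_le_jacobson_bot (maximalIdeal O)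
      (Õs : Submodule O K) hnfg hle
      (by rw [IsLocalRing.jacobson_eq_maximalIdeal ⊥ bot_ne_top])
    have h1 : (1 : K) ∈ (Õs : Submodule O K) := (integralClosure O K).one_mem
    rw [hbot, Submodule.mem_bot] at h1
    exact one_ne_zero h1
  obtain ⟨l, hl⟩ := ENat.ne_top_iff_exists.1 hLtop
  have hl0 : l ≠ 0 := by
    rintro rfl
    exact hL0 hl.symm
  set r := typ O ↥ω with hr
  rcases eq_or_ne r ⊤ with hrtop | hrtop
  · exfalso
    rw [hrtop, ← hl] at hDD
    have h1 : ((l : ℕ∞) * ⊤) = ⊤ := ENat.mul_top (by exact_mod_cast hl0)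
    rw [h1, ENat.top_mul (by simp)] at hDD
    exact ENat.natCast_ne_top _ hDD
  · obtain ⟨s, hs⟩ := ENat.ne_top_iff_exists.1 hrtop
    rw [← hs, ← hl] at hDD
    have h2 : l = l * s * s := by exact_mod_cast hDD
    have h3 : s * s = 1 := by
      have : l * 1 = l * (s * s) := by rw [mul_one, ← mul_assoc]; exact h2
      exact (Nat.eq_of_mul_eq_mul_left (Nat.pos_of_ne_zero hl0) this).symm
    have h4 : s = 1 := Nat.eq_one_of_mul_eq_one_right h3
    rw [← hs, h4]
    rfl

include hdim hfin hω1 hω2 hωinj in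
/-- `(ω : ω) = O`. -/
theorem div_self_eq_one [Module.Finite O ↥ω] : ω / ω = 1 := by
  have htyp := typ_eq_one hdim hfin ω hω1 hω2 hωinj
  have hnfg := normal_fg (K := K) hfin
  have hDD := rl_div_div hdim ω hω1 hωinj (one_le_normal (O := O) (K := K)) one_ne hnfg
  rw [htyp, mul_one, mul_one, div_div_normal hfin ω hω1 hω2, div_one'] at hDD
  have h1 : (1 : Submodule O K) ≤ ω / ω := by
    have := le_div_div ω (1 : Submodule O K)
    rwa [div_one'] at this
  have h2 : ω / ω ≤ Õs := by
    have := div_anti ω (div_anti ω (one_le_normal (O := O) (K := K)))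
    rwa [div_div_normal hfin ω hω1 hω2, div_one'] at this
  have hadd := rl_add h1 h2
  rw [hDD] at hadd
  have hfinl : rl (1 : Submodule O K) Õs ≠ ⊤ := rl_ne_top hdim hfin one_ne
  have h0 : rl (1 : Submodule O K) (ω / ω) = 0 := by
    have h3 : (0 : ℕ∞) + rl (1 : Submodule O K) Õs =
        rl (1 : Submodule O K) (ω / ω) + rl (1 : Submodule O K) Õs := by
      rw [zero_add]
      exact hadd
    exact (ENat.add_left_injective_of_ne_top hfinl h3).symm
  exact le_antisymm (rl_eq_zero_iff.1 h0) h1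

include hdim hfin hω1 hω2 hωinj in
/-- The conductor `𝔠 = ω / Õ` satisfies `ℓ(O/𝔠) = ℓ(Õ/ω)`. -/
theorem rl_cond [Module.Finite O ↥ω] :
    rl (ω / Õs) (1 : Submodule O K) = rl ω (Õs : Submodule O K) := by
  have htyp := typ_eq_one hdim hfin ω hω1 hω2 hωinj
  have h := rl_div hdim ω hωinj hω2
    ⟨1, hω1 (Submodule.one_le.1 le_rfl), one_ne_zero⟩ (normal_fg (K := K) hfin)
  rw [htyp, mul_one, div_self_eq_one hdim hfin ω hω1 hω2 hωinj] at h
  exact h

include hdim hfin hω1 hω2 hωinj in
/-- **The numerical identity** `ℓ(ω/O) + ℓ(Õ/𝔠) = 2 ℓ(Õ/O)`. -/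
theorem rl_main [Module.Finite O ↥ω] :
    rl (1 : Submodule O K) ω + rl (ω / Õs) (Õs : Submodule O K) =
      2 * rl (1 : Submodule O K) (Õs : Submodule O K) := by
  have hc1 : ω / Õs ≤ (1 : Submodule O K) := by
    have := div_anti ω hω2
    rwa [div_self_eq_one hdim hfin ω hω1 hω2 hωinj] at this
  rw [rl_add hc1 (one_le_normal (O := O) (K := K)), rl_cond hdim hfin ω hω1 hω2 hωinj,
    two_mul]
  have h2 := rl_add hω1 hω2
  rw [← add_assoc, ← h2]


/-- The identity map from the normalization as a subalgebra to the normalization as a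
submodule. -/
noncomputable def toSub : ↥(integralClosure O K) ≃ₗ[O] ↥(Õs : Submodule O K) where
  toFun z := ⟨z.1, z.2⟩
  invFun z := ⟨z.1, z.2⟩
  map_add' _ _ := rfl
  map_smul' _ _ := rfl
  left_inv _ := rfl
  right_inv _ := rfl

include hdim hfin hω1 hω2 hωinj in
/-- The conductor ideal of `O` generates `ω / Õ` in the normalization. -/
theorem length_colon_eq [Module.Finite O ↥ω] :
    Module.length O (↥(integralClosure O K) ⧸
      ((1 : Submodule O K).colon ((Õs : Submodule O K) : Set K)) •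
        (⊤ : Submodule O ↥(integralClosure O K))) =
    rl (ω / Õs) (Õs : Submodule O K) := by
  have hself := div_self_eq_one hdim hfin ω hω1 hω2 hωinj
  have hc1 : ω / Õs ≤ (1 : Submodule O K) := by
    have := div_anti ω hω2
    rwa [hself] at this
  have hst : ∀ c' ∈ ω / Õs, ∀ z ∈ (Õs : Submodule O K), c' * z ∈ ω / Õs := by
    intro c' hc z hz
    rw [Submodule.mem_div_iff_forall_mul_mem]
    intro z' hz'
    rw [mul_assoc]
    exact (Submodule.mem_div_iff_forall_mul_mem.1 hc) _ ((integralClosure O K).mul_mem hz hz')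
  have hmap : Submodule.map (toSub (O := O) (K := K) :
        ↥(integralClosure O K) →ₗ[O] ↥(Õs : Submodule O K))
      (((1 : Submodule O K).colon ((Õs : Submodule O K) : Set K)) •
        (⊤ : Submodule O ↥(integralClosure O K))) =
      Submodule.comap (Õs : Submodule O K).subtype (ω / Õs) := by
    apply le_antisymm
    · rw [Submodule.map_le_iff_le_comap, Submodule.smul_le]
      intro c' hc z _
      rw [Submodule.mem_comap, Submodule.mem_comap]
      show c' • (z : K) ∈ ω / Õs
      rw [Submodule.mem_div_iff_forall_mul_mem]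
      intro z' hz'
      rw [smul_mul_assoc]
      exact hω1 (Submodule.mem_colon.1 hc _ ((integralClosure O K).mul_mem z.2 hz'))
    · intro y hy
      rw [Submodule.mem_comap] at hy
      have hy' : (y : K) ∈ ω / Õs := hy
      obtain ⟨c', hc'⟩ := Submodule.mem_one.1 (hc1 hy')
      have hcol : c' ∈ (1 : Submodule O K).colon ((Õs : Submodule O K) : Set K) := by
        rw [Submodule.mem_colon]
        intro z hz
        rw [Algebra.smul_def, hc']
        exact hc1 (hst _ hy' z hz)
      refine ⟨c' • (1 : ↥(integralClosure O K)), Submodule.smul_mem_smul hcol trivial, ?_⟩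
      apply Subtype.ext
      show c' • (1 : K) = (y : K)
      rw [Algebra.smul_def, mul_one, hc']
  unfold rl
  exact (Submodule.Quotient.equiv _ _ (toSub (O := O) (K := K)) hmap).length_eq

include hdim hfin hω1 hω2 hωinj in
/-- **The statement in final form.** -/
theorem main_identity [Module.Finite O ↥ω] :
    Module.length O (↥ω ⧸ Submodule.comap ω.subtype (1 : Submodule O K)) +
      Module.length O (↥(integralClosure O K) ⧸
        ((1 : Submodule O K).colon ((Õs : Submodule O K) : Set K)) •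
          (⊤ : Submodule O ↥(integralClosure O K))) =
    2 * Module.length O (↥(Õs : Submodule O K) ⧸
      Submodule.comap (Õs : Submodule O K).subtype (1 : Submodule O K)) := by
  rw [length_colon_eq hdim hfin ω hω1 hω2 hωinj]
  exact rl_main hdim hfin ω hω1 hω2 hωinj

end Main

end Groth.Agent.Lib.Helper88.CanDual
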