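/-
Canonical duality, part 4: the covariant connecting map, injective dimension of finite free
modules, Gorenstein rings of dimension one, and reflexivity of fractional ideals.
Author: helper88
-/
import Groth.Agent.Lib.Helper88.CanDual3
import Groth.Agent.Lib.Helper4.GorCM
import Mathlib.Algebra.Category.ModuleCat.Biproducts

set_option autoImplicit false
set_option linter.style.haveILetI false

namespace Groth.Agent.Lib.Helper88.CanDual

open CategoryTheory Abelian IsLocalRing

universe u

section Covariant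

variable {R : Type u} [CommRing R]
  {S : ShortComplex (ModuleCat.{u} R)} (hS : S.ShortExact) (X : ModuleCat.{u} R)

/-- The connecting map `Hom(X, X₃) → Ext^1(X, X₁)`. -/
noncomputable def coδ₀ : (X →ₗ[R] S.X₃) →ₗ[R] Ext.{u} X S.X₁ 1 :=
  Ext.postcompOfLinear hS.extClass R X (zero_add 1) ∘ₗ
    (Ext.linearEquiv₀ (R := R)).symm.toLinearMap ∘ₗ
    (ModuleCat.homLinearEquiv (S := R)).symm.toLinearMap

theorem coδ₀_apply (ψ : X →ₗ[R] S.X₃) :
    coδ₀ hS X ψ = (Ext.mk₀ (ModuleCat.ofHom ψ)).comp hS.extClass (zero_add 1) := rfl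

theorem coδ₀_surjective (h2 : Subsingleton (Ext.{u} X S.X₂ 1)) :
    Function.Surjective (coδ₀ hS X) := by
  intro x₁
  obtain ⟨x₃, hx₃⟩ := Ext.covariant_sequence_exact₁ X hS x₁
    (Subsingleton.elim (h := h2) _ _) (zero_add 1)
  obtain ⟨φ, rfl⟩ := (Ext.mk₀_bijective _ _).2 x₃
  exact ⟨φ.hom, hx₃⟩

theorem coδ₀_exact :
    Function.Exact (LinearMap.compRight R (M := X) S.g.hom) (coδ₀ hS X) := by
  intro ψ
  constructor
  · intro hψ
    rw [coδ₀_apply] at hψ
    obtain ⟨x₂, hx₂⟩ := Ext.covariant_sequence_exact₃ X hS _ (zero_add 1) hψ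
    obtain ⟨χ, rfl⟩ := (Ext.mk₀_bijective _ _).2 x₂
    rw [Ext.mk₀_comp_mk₀] at hx₂
    have := (Ext.mk₀_bijective _ _).1 hx₂
    refine ⟨χ.hom, ?_⟩
    have h2 := congrArg ModuleCat.Hom.hom this
    exact h2
  · rintro ⟨χ, rfl⟩
    rw [coδ₀_apply]
    have : ModuleCat.ofHom ((LinearMap.compRight R (M := X) S.g.hom) χ) =
        ModuleCat.ofHom χ ≫ S.g := rfl
    rw [this, ← Ext.mk₀_comp_mk₀, Ext.comp_assoc_of_second_deg_zero, hS.comp_extClass,
      Ext.comp_zero]

include hS in
/-- The cokernel of postcomposition is `Ext^1` into the kernel. -/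
theorem nonempty_cokerPost_equiv_ext (h2 : Subsingleton (Ext.{u} X S.X₂ 1)) :
    Nonempty (((X →ₗ[R] S.X₃) ⧸ LinearMap.range (LinearMap.compRight R (M := X) S.g.hom)) ≃ₗ[R]
      Ext.{u} X S.X₁ 1) := by
  have hker : LinearMap.ker (coδ₀ hS X) =
      LinearMap.range (LinearMap.compRight R (M := X) S.g.hom) :=
    (LinearMap.exact_iff.1 (coδ₀_exact hS X))
  rw [← hker]
  exact ⟨LinearMap.quotKerEquivOfSurjective _ (coδ₀_surjective hS X h2)⟩

end Covariant


section InjDim

variable {R : Type u} [CommRing R]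

/-- Injective dimension of finite free modules. -/
theorem injdim_pi (m : ℕ) (h : HasInjectiveDimensionLT (ModuleCat.of R R) m) (n : ℕ) :
    HasInjectiveDimensionLT (ModuleCat.of R (Fin n → R)) m := by
  induction n with
  | zero =>
    have hz : Limits.IsZero (ModuleCat.of R (Fin 0 → R)) := ModuleCat.isZero_of_subsingleton _
    haveI := hz.hasInjectiveDimensionLT_zero
    exact hasInjectiveDimensionLT_of_ge _ 0 m (Nat.zero_le m)
  | succ n ih =>
    haveI := h
    haveI := ih
    have e1 : (ModuleCat.of R R ⊞ ModuleCat.of R (Fin n → R) : ModuleCat.{u} R) ≅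
        ModuleCat.of R (R × (Fin n → R)) := ModuleCat.biprodIsoProd _ _
    have e2 : ModuleCat.of R (R × (Fin n → R)) ≅ ModuleCat.of R (Fin (n + 1) → R) :=
      (Fin.consLinearEquiv R (fun _ : Fin (n + 1) => R)).toModuleIso
    exact hasInjectiveDimensionLT_of_iso (e1 ≪≫ e2) m

/-- The dual of a finite free module. -/
noncomputable def dualPiEquiv (n : ℕ) : ((Fin n → R) →ₗ[R] R) ≃ₗ[R] (Fin n → R) :=
  (LinearMap.lsum R (fun _ : Fin n => R) R).symm.trans
    (LinearEquiv.piCongrRight (fun _ => LinearMap.ringLmapEquivSelf R R R))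

theorem injdim_dual_pi (m : ℕ) (h : HasInjectiveDimensionLT (ModuleCat.of R R) m) (n : ℕ) :
    HasInjectiveDimensionLT (ModuleCat.of R ((Fin n → R) →ₗ[R] R)) m := by
  haveI := injdim_pi m h n
  exact hasInjectiveDimensionLT_of_iso (dualPiEquiv (R := R) n).symm.toModuleIso m

end InjDim

section Gor

variable {O : Type u} [CommRing O] [IsDomain O] {K : Type u} [Field K] [Algebra O K]
  [IsFractionRing O K]

/-- `O ≃ 1 ⊆ K`. -/
noncomputable def oneEquiv : O ≃ₗ[O] ↥(1 : Submodule O K) :=
  LinearEquiv.ofBijective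
    (LinearMap.codRestrict (1 : Submodule O K) (Algebra.linearMap O K)
      (fun a => Submodule.mem_one.2 ⟨a, rfl⟩))
    ⟨fun a b hab => IsFractionRing.injective O K (congrArg Subtype.val hab),
      fun y => by
        obtain ⟨a, ha⟩ := Submodule.mem_one.1 y.2
        exact ⟨a, Subtype.ext ha⟩⟩

omit [IsDomain O] in
lemma oneEquiv_apply (a : O) : ((oneEquiv (K := K) a : ↥(1 : Submodule O K)) : K) =
    algebraMap O K a := rfl

omit [IsDomain O] in
theorem injdim_self [LocCoh.IsGorensteinLocalRing O] (hdim : ringKrullDim O = 1) :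
    HasInjectiveDimensionLT (ModuleCat.of O O) 2 := by
  obtain ⟨d, hd, -, hinj⟩ := Groth.Agent.Lib.Helper4.GorCM.gorenstein_dim O
  have : d = 1 := by
    rw [hdim] at hd
    exact_mod_cast hd.symm
  subst this
  exact hinj

theorem injdim_one [LocCoh.IsGorensteinLocalRing O] (hdim : ringKrullDim O = 1) :
    HasInjectiveDimensionLT (ModuleCat.of O ↥(1 : Submodule O K)) 2 := by
  haveI := injdim_self hdim
  exact hasInjectiveDimensionLT_of_iso (oneEquiv (O := O) (K := K)).toModuleIso 2

end Gor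

section Reflexive

variable {O : Type u} [CommRing O] [IsDomain O] [IsNoetherianRing O] [IsLocalRing O]
  {K : Type u} [Field K] [Algebra O K] [IsFractionRing O K]
  (hdim : ringKrullDim O = 1) (hfin : Module.Finite O ↥(integralClosure O K))
  (ω : Submodule O K) (hω1 : (1 : Submodule O K) ≤ ω)
  (hω2 : ω ≤ Subalgebra.toSubmodule (integralClosure O K))
  (hωinj : HasInjectiveDimensionLT (ModuleCat.of O ↥ω) 2)

include hdim hfin hω1 hω2 hωinj in
/-- **Reflexivity** of fractional ideals inside the normalization. -/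
theorem div_div_eq [Module.Finite O ↥ω] {I : Submodule O K} (hI : ∃ y ∈ I, y ≠ 0)
    (hIN : I ≤ Subalgebra.toSubmodule (integralClosure O K)) : ω / (ω / I) = I := by
  have htyp := typ_eq_one hdim hfin ω hω1 hω2 hωinj
  have hnfg := normal_fg (K := K) hfin
  have hDD := rl_div_div hdim ω hω1 hωinj hIN hI hnfg
  rw [htyp, mul_one, mul_one, div_div_normal hfin ω hω1 hω2] at hDD
  have h1 : I ≤ ω / (ω / I) := le_div_div ω I
  have h2 : ω / (ω / I) ≤ Subalgebra.toSubmodule (integralClosure O K) := by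
    have := div_anti ω (div_anti ω hIN)
    rwa [div_div_normal hfin ω hω1 hω2] at this
  have hadd := rl_add h1 h2
  rw [hDD] at hadd
  have hfinl : rl I (Subalgebra.toSubmodule (integralClosure O K)) ≠ ⊤ := rl_ne_top hdim hfin hI
  have h0 : rl I (ω / (ω / I)) = 0 := by
    have h3 : (0 : ℕ∞) + rl I (Subalgebra.toSubmodule (integralClosure O K)) =
        rl I (ω / (ω / I)) + rl I (Subalgebra.toSubmodule (integralClosure O K)) := by
      rw [zero_add]
      exact hadd
    exact (ENat.add_left_injective_of_ne_top hfinl h3).symm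
  exact le_antisymm (rl_eq_zero_iff.1 h0) h1

end Reflexive

end Groth.Agent.Lib.Helper88.CanDual
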