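import Groth.Agent.Lib.Helper88.CanDual4

set_option autoImplicit false
set_option linter.style.haveILetI false

namespace Groth.Agent.Lib.Helper88.CanDual

open CategoryTheory Abelian IsLocalRing

universe u

/-- A linear map from a functional, additive and homogeneous relation. -/
lemma exists_linearMap_of_rel' {R M N : Type*} [Semiring R] [AddCommMonoid M] [Module R M]
    [AddCommMonoid N] [Module R N] (r : M → N → Prop) (hex : ∀ m, ∃ n, r m n)
    (huniq : ∀ m n n', r m n → r m n' → n = n')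
    (hadd : ∀ m m' n n', r m n → r m' n' → r (m + m') (n + n'))
    (hsmul : ∀ (a : R) m n, r m n → r (a • m) (a • n)) :
    ∃ φ : M →ₗ[R] N, ∀ m, r m (φ m) := by
  classical
  choose f hf using hex
  refine ⟨{ toFun := f, map_add' := ?_, map_smul' := ?_ }, hf⟩
  · intro m m'
    exact huniq _ _ _ (hf _) (hadd _ _ _ _ (hf m) (hf m'))
  · intro a m
    exact huniq _ _ _ (hf _) (hsmul a _ _ (hf m))

variable {O : Type u} [CommRing O] [IsDomain O] [LocCoh.IsGorensteinLocalRing O]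
  {K : Type u} [Field K] [Algebra O K] [IsFractionRing O K]

section Over

variable (hdim : ringKrullDim O = 1) (hfin : Module.Finite O ↥(integralClosure O K))
  (M : Subalgebra O K) (hM : M ≤ integralClosure O K)

/-- The overring as a submodule. -/
local notation "Ms" => Subalgebra.toSubmodule M

/-- The inverse ideal `M⁻¹ = (O : M)`. -/
local notation "𝔣" => ((1 : Submodule O K) / Subalgebra.toSubmodule M)

omit [IsDomain O] [LocCoh.IsGorensteinLocalRing O] [IsFractionRing O K] in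
lemma one_le_Ms : (1 : Submodule O K) ≤ Ms := by
  rw [Submodule.one_le]
  exact M.one_mem

omit [IsDomain O] [LocCoh.IsGorensteinLocalRing O] [IsFractionRing O K] in
lemma Ms_ne : ∃ y ∈ (Ms : Submodule O K), y ≠ 0 := ⟨1, M.one_mem, one_ne_zero⟩

include hfin hM in
omit [IsDomain O] [IsFractionRing O K] in
lemma Ms_fg : (Ms : Submodule O K).FG := by
  haveI := isNoetherian_of_fg_of_noetherian _ (normal_fg (K := K) hfin)
  exact (isNoetherian_submodule.1 this) _ hM

omit [IsDomain O] [LocCoh.IsGorensteinLocalRing O] [IsFractionRing O K] in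
lemma f_le_one : 𝔣 ≤ (1 : Submodule O K) := by
  have := div_anti (1 : Submodule O K) (one_le_Ms M)
  rwa [div_one'] at this

include hfin hM in
lemma f_ne : ∃ y ∈ 𝔣, y ≠ 0 := div_ne le_rfl (Ms_fg hfin M hM)

omit [IsDomain O] [LocCoh.IsGorensteinLocalRing O] [IsFractionRing O K] in
lemma f_stable {x m : K} (hx : x ∈ 𝔣) (hm : m ∈ (Ms : Submodule O K)) : m * x ∈ 𝔣 := by
  rw [Submodule.mem_div_iff_forall_mul_mem]
  intro m' hm'
  have : m * x * m' = x * (m * m') := by ring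
  rw [this]
  exact (Submodule.mem_div_iff_forall_mul_mem.1 hx) _ (M.mul_mem hm hm')

include hdim hfin hM in
/-- Reflexivity: `(O : (O : M)) = M`. -/
theorem one_div_f : (1 : Submodule O K) / 𝔣 = Ms := by
  haveI : Module.Finite O ↥(1 : Submodule O K) := Module.Finite.equiv (oneEquiv (O := O) (K := K))
  exact div_div_eq hdim hfin (1 : Submodule O K) le_rfl (one_le_normal (O := O) (K := K))
    (injdim_one hdim) (Ms_ne M) hM


/-! ### The duality isomorphism `Hom(P, M) ≃ Hom(𝔣, Hom(P, O))` -/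

section Theta

variable {P : Type u} [AddCommGroup P] [Module O P]

/-- `Θ(φ)(x)(p) = x φ(p)`. -/
noncomputable def Theta : (P →ₗ[O] ↥M) →ₗ[O] (↥𝔣 →ₗ[O] (P →ₗ[O] ↥(1 : Submodule O K))) where
  toFun φ := mulHom (1 : Submodule O K) Ms (M.val.toLinearMap ∘ₗ φ) (fun p => (φ p).2)
  map_add' := by
    intro φ φ'
    refine LinearMap.ext (fun x => LinearMap.ext (fun p => Subtype.ext ?_))
    show (x : K) * (((φ p + φ' p : ↥M)) : K) = (x : K) * ((φ p : ↥M) : K) + (x : K) * ((φ' p : ↥M) : K)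
    rw [← mul_add]
    rfl
  map_smul' := by
    intro a φ
    refine LinearMap.ext (fun x => LinearMap.ext (fun p => Subtype.ext ?_))
    show (x : K) * (((a • φ p : ↥M)) : K) = a • ((x : K) * ((φ p : ↥M) : K))
    rw [← mul_smul_comm]
    rfl

omit [IsDomain O] [LocCoh.IsGorensteinLocalRing O] [IsFractionRing O K] in
lemma Theta_apply (φ : P →ₗ[O] ↥M) (x : ↥𝔣) (p : P) :
    ((Theta M φ x p : ↥(1 : Submodule O K)) : K) = (x : K) * ((φ p : ↥M) : K) := rfl

include hfin hM in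
lemma Theta_injective : Function.Injective (Theta (P := P) M) := by
  obtain ⟨y, hy, hy0⟩ := f_ne hfin M hM
  intro φ φ' h
  refine LinearMap.ext (fun p => Subtype.ext ?_)
  have h1 := congrArg (fun Ψ : ↥𝔣 →ₗ[O] (P →ₗ[O] ↥(1 : Submodule O K)) =>
    ((Ψ ⟨y, hy⟩ p : ↥(1 : Submodule O K)) : K)) h
  simp only [Theta_apply] at h1
  exact mul_left_cancel₀ hy0 h1

include hdim hfin hM in
lemma Theta_surjective : Function.Surjective (Theta (P := P) M) := by
  obtain ⟨y, hy, hy0⟩ := f_ne hfin M hM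
  intro Ψ
  have hrefl := one_div_f hdim hfin M hM
  -- for each `p`, the functional `x ↦ Ψ x p` is multiplication by an element of `M`
  have hex : ∀ p : P, ∃ m : ↥M, ∀ x : ↥𝔣, (x : K) * (m : K) = ((Ψ x p : ↥(1 : Submodule O K)) : K) := by
    intro p
    obtain ⟨m, hm⟩ := mulHom_surjective (1 : Submodule O K) 𝔣 (𝔣).subtype (fun x => x.2)
      Subtype.val_injective (fun z hz => ⟨⟨z, hz⟩, rfl⟩) (⟨y, hy⟩ : ↥𝔣) hy0 (Ψ.flip p)
    have hmM : (m : K) ∈ (Ms : Submodule O K) := le_of_eq hrefl m.2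
    refine ⟨⟨(m : K), hmM⟩, ?_⟩
    intro x
    have : (m : K) * (x : K) = ((Ψ x p : ↥(1 : Submodule O K)) : K) :=
      congrArg (fun χ : ↥𝔣 →ₗ[O] ↥(1 : Submodule O K) => ((χ x : ↥(1 : Submodule O K)) : K)) hm
    rw [mul_comm]
    exact this
  obtain ⟨φ, hφ⟩ := exists_linearMap_of_rel' (R := O) (M := P)
    (N := ↥M)
    (fun p m => ∀ x : ↥𝔣, (x : K) * (m : K) = ((Ψ x p : ↥(1 : Submodule O K)) : K))
    hex
    (by
      intro p m m' h1 h2
      apply Subtype.ext
      have := (h1 ⟨y, hy⟩).trans (h2 ⟨y, hy⟩).symm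
      exact mul_left_cancel₀ hy0 this)
    (by
      intro p p' m m' h1 h2 x
      show (x : K) * ((m : K) + (m' : K)) = _
      rw [mul_add, h1 x, h2 x, map_add]
      rfl)
    (by
      intro a p m h1 x
      show (x : K) * (a • (m : K)) = _
      rw [mul_smul_comm, h1 x, map_smul]
      rfl)
  refine ⟨φ, ?_⟩
  refine LinearMap.ext (fun x => LinearMap.ext (fun p => Subtype.ext ?_))
  rw [Theta_apply]
  exact hφ p x

/-- `Θ` as an equivalence. -/
noncomputable def ThetaEquiv :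
    (P →ₗ[O] ↥M) ≃ₗ[O] (↥𝔣 →ₗ[O] (P →ₗ[O] ↥(1 : Submodule O K))) :=
  LinearEquiv.ofBijective (Theta (P := P) M)
    ⟨Theta_injective hfin M hM, Theta_surjective hdim hfin M hM⟩

end Theta


/-! ### The dual of a presentation -/

section Chain

variable {n : ℕ} (π : (Fin n → O) →ₗ[O] ↥M) (hπ : Function.Surjective π)

/-- `𝔣 → F^*`. -/
noncomputable def fDual : ↥𝔣 →ₗ[O] ((Fin n → O) →ₗ[O] ↥(1 : Submodule O K)) :=
  Theta M π

/-- `F^* → K₁^*`. -/
noncomputable def gDual : ((Fin n → O) →ₗ[O] ↥(1 : Submodule O K)) →ₗ[O]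
    (↥(LinearMap.ker π) →ₗ[O] ↥(1 : Submodule O K)) :=
  LinearMap.lcomp O ↥(1 : Submodule O K) (LinearMap.ker π).subtype

omit [IsDomain O] [LocCoh.IsGorensteinLocalRing O] [IsFractionRing O K] in
lemma gDual_comp_fDual : (gDual M π).comp (fDual M π) = 0 := by
  refine LinearMap.ext (fun x => LinearMap.ext (fun κ => Subtype.ext ?_))
  show (x : K) * ((π (κ : Fin n → O) : ↥M) : K) = 0
  have : π (κ : Fin n → O) = 0 := κ.2
  rw [this]
  exact mul_zero _

include hπ in
omit [IsDomain O] [LocCoh.IsGorensteinLocalRing O] [IsFractionRing O K] in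
lemma fDual_injective : Function.Injective (fDual M π) := by
  intro x x' h
  obtain ⟨v, hv⟩ := hπ 1
  have h1 := congrArg (fun ψ : (Fin n → O) →ₗ[O] ↥(1 : Submodule O K) =>
    ((ψ v : ↥(1 : Submodule O K)) : K)) h
  have h2 : (x : K) * ((π v : ↥M) : K) = (x' : K) * ((π v : ↥M) : K) := h1
  rw [hv] at h2
  apply Subtype.ext
  have h3 : (((1 : ↥M)) : K) = 1 := rfl
  rw [h3, mul_one, mul_one] at h2
  exact h2

include hπ in
omit [LocCoh.IsGorensteinLocalRing O] in
lemma fDual_exact : Function.Exact (fDual M π) (gDual M π) := by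
  intro ψ
  constructor
  · intro hψ
    -- `ψ` factors through `π`
    have hker : ∀ v v' : Fin n → O, π v = π v' → ψ v = ψ v' := by
      intro v v' hvv
      have hk : v - v' ∈ LinearMap.ker π := by
        rw [LinearMap.mem_ker, map_sub, hvv, sub_self]
      have := LinearMap.congr_fun hψ ⟨v - v', hk⟩
      have h2 : ψ (v - v') = 0 := this
      rw [map_sub, sub_eq_zero] at h2
      exact h2
    obtain ⟨ψ', hψ'⟩ := exists_linearMap_of_rel' (R := O) (M := ↥M)
      (N := ↥(1 : Submodule O K)) (fun m w => ∃ v, π v = m ∧ ψ v = w)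
      (by
        intro m
        obtain ⟨v, hv⟩ := hπ m
        exact ⟨ψ v, v, hv, rfl⟩)
      (by
        rintro m w w' ⟨v, hv, rfl⟩ ⟨v', hv', rfl⟩
        exact hker v v' (hv.trans hv'.symm))
      (by
        rintro m m' w w' ⟨v, hv, rfl⟩ ⟨v', hv', rfl⟩
        exact ⟨v + v', by rw [map_add, hv, hv'], by rw [map_add]⟩)
      (by
        rintro a m w ⟨v, hv, rfl⟩
        exact ⟨a • v, by rw [map_smul, hv], by rw [map_smul]⟩)
    obtain ⟨x, hx⟩ := mulHom_surjective (1 : Submodule O K) Ms M.val.toLinearMap (fun m => m.2)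
      Subtype.val_injective (fun z hz => ⟨⟨z, hz⟩, rfl⟩) (1 : ↥M) one_ne_zero ψ'
    refine ⟨x, ?_⟩
    refine LinearMap.ext (fun v => ?_)
    obtain ⟨v', hv', hv''⟩ := hψ' (π v)
    rw [hker v v' hv'.symm, hv'', ← hx]
    rfl
  · rintro ⟨x, rfl⟩
    exact LinearMap.congr_fun (gDual_comp_fDual M π) x


include hfin hM in
omit [IsDomain O] [IsFractionRing O K] in
lemma finite_M : Module.Finite O ↥M := by
  have : Module.Finite O ↥(Ms : Submodule O K) := Module.Finite.iff_fg.2 (Ms_fg hfin M hM)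
  exact this

omit [IsDomain O] [LocCoh.IsGorensteinLocalRing O] in
lemma regular_of_le (N : Submodule O K) {x : O} (hx0 : x ≠ 0) : IsSMulRegular ↥N x := by
  intro a b hab
  apply Subtype.ext
  have h1 : x • (a : K) = x • (b : K) := congrArg Subtype.val hab
  rw [Algebra.smul_def, Algebra.smul_def] at h1
  exact mul_left_cancel₀ (algebraMap_ne_zero' hx0) h1

include hdim hfin hM hπ in
lemma gDual_surjective : Function.Surjective (gDual M π) := by
  haveI := finite_M hfin M hM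
  obtain ⟨x, hx, hx0⟩ := Helper71.TFCurv.exists_mem_max_ne_zero hdim
  haveI : Module.Finite O ↥(1 : Submodule O K) := Module.Finite.equiv (oneEquiv (O := O) (K := K))
  haveI : Module.Finite O (ModuleCat.of O ↥(1 : Submodule O K)) :=
    ‹Module.Finite O ↥(1 : Submodule O K)›
  haveI : Module.Finite O (ModuleCat.of O ↥M) := ‹Module.Finite O ↥M›
  have hreg : IsSMulRegular ↥M x := regular_of_le (Ms : Submodule O K) hx0
  have h2 : Subsingleton (Ext (ModuleCat.of O ↥M) (ModuleCat.of O ↥(1 : Submodule O K)) 1) :=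
    CanonExt.ext_one_subsingleton_of_regular (ModuleCat.of O ↥(1 : Submodule O K))
      (injdim_one hdim) (ModuleCat.of O ↥M) x hx hreg
  obtain ⟨e⟩ := ExtLen.nonempty_coker_equiv_ext_one (R := O) (N := ↥(1 : Submodule O K)) π hπ
  intro ψ
  have h0 := e.injective (Subsingleton.elim (h := h2) (e (Submodule.Quotient.mk ψ)) (e 0))
  exact (Submodule.Quotient.mk_eq_zero _).1 h0

/-- The dual short complex `0 → 𝔣 → F^* → K₁^* → 0`. -/
noncomputable abbrev dualComplex : ShortComplex (ModuleCat.{u} O) :=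
  ModuleCat.shortComplexOfCompEqZero (R := O) (M := ↥𝔣)
    (N := ((Fin n → O) →ₗ[O] ↥(1 : Submodule O K)))
    (L := (↥(LinearMap.ker π) →ₗ[O] ↥(1 : Submodule O K)))
    (fDual M π) (gDual M π) (gDual_comp_fDual M π)

include hdim hfin hM hπ in
lemma dualComplex_shortExact : (dualComplex M π).ShortExact :=
  ModuleCat.shortComplex_shortExact _ (fDual_exact M π hπ) (fDual_injective M π hπ)
    (gDual_surjective hdim hfin M hM π hπ)

include hdim in
omit [IsDomain O] in
/-- `Ext^1(𝔣, F^*) = 0`. -/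
lemma ext_f_dualFree_subsingleton :
    Subsingleton (Ext (ModuleCat.of O ↥𝔣)
      (ModuleCat.of O ((Fin n → O) →ₗ[O] ↥(1 : Submodule O K))) 1) := by
  obtain ⟨x, hx, hx0⟩ := Helper71.TFCurv.exists_mem_max_ne_zero hdim
  have e : ((Fin n → O) →ₗ[O] ↥(1 : Submodule O K)) ≃ₗ[O] ((Fin n → O) →ₗ[O] O) :=
    LinearEquiv.congrRight (oneEquiv (O := O) (K := K)).symm
  have hY : HasInjectiveDimensionLT
      (ModuleCat.of O ((Fin n → O) →ₗ[O] ↥(1 : Submodule O K))) 2 := by
    haveI := injdim_dual_pi 2 (injdim_self (O := O) hdim) n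
    exact hasInjectiveDimensionLT_of_iso e.symm.toModuleIso 2
  haveI : Module.Finite O ((Fin n → O) →ₗ[O] ↥(1 : Submodule O K)) :=
    Module.Finite.equiv (e.trans (dualPiEquiv (R := O) n)).symm
  haveI : Module.Finite O (ModuleCat.of O ((Fin n → O) →ₗ[O] ↥(1 : Submodule O K))) :=
    ‹Module.Finite O ((Fin n → O) →ₗ[O] ↥(1 : Submodule O K))›
  haveI : Module.Finite O ↥(1 : Submodule O K) := Module.Finite.equiv (oneEquiv (O := O) (K := K))
  have hffg : (𝔣 : Submodule O K).FG :=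
    div_fg (Module.Finite.iff_fg.1 inferInstance) (Ms_ne M)
  haveI : Module.Finite O ↥𝔣 := Module.Finite.iff_fg.2 hffg
  haveI : Module.Finite O (ModuleCat.of O ↥𝔣) := ‹Module.Finite O ↥𝔣›
  exact CanonExt.ext_one_subsingleton_of_regular _ hY (ModuleCat.of O ↥𝔣) x hx
    (regular_of_le 𝔣 hx0)

include hdim hfin hM hπ in
/-- **Duality for `Ext^1`**: `Ext^1(M, M) ≃ Ext^1(𝔣, 𝔣)`. -/
theorem nonempty_ext_equiv_ext_dual :
    Nonempty (Ext (ModuleCat.of O ↥M) (ModuleCat.of O ↥M) 1 ≃ₗ[O]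
      Ext (ModuleCat.of O ↥𝔣) (ModuleCat.of O ↥𝔣) 1) := by
  obtain ⟨E1⟩ := ExtLen.nonempty_coker_equiv_ext_one (R := O) (N := ↥M) π hπ
  have hS' := dualComplex_shortExact hdim hfin M hM π hπ
  obtain ⟨E3⟩ := nonempty_cokerPost_equiv_ext hS' (ModuleCat.of O ↥𝔣)
    (ext_f_dualFree_subsingleton hdim M)
  obtain ⟨TK, hTK⟩ : ∃ TK : (↥(LinearMap.ker π) →ₗ[O] ↥M) ≃ₗ[O]
      (↑(ModuleCat.of O ↥𝔣) →ₗ[O] ↑(dualComplex M π).X₃),
      ∀ φ, (TK φ : ↑(ModuleCat.of O ↥𝔣) →ₗ[O] ↑(dualComplex M π).X₃) = Theta M φ :=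
    ⟨ThetaEquiv hdim hfin M hM (P := ↥(LinearMap.ker π)), fun _ => rfl⟩
  have hmap : Submodule.map (TK : (↥(LinearMap.ker π) →ₗ[O] ↥M) →ₗ[O]
      (↑(ModuleCat.of O ↥𝔣) →ₗ[O] ↑(dualComplex M π).X₃))
      (LinearMap.range (LinearMap.lcomp O ↥M (LinearMap.ker π).subtype)) =
      LinearMap.range (LinearMap.compRight O (M := ↑(ModuleCat.of O ↥𝔣))
        (dualComplex M π).g.hom) := by
    ext Ψ
    rw [Submodule.mem_map]
    constructor
    · rintro ⟨φ, ⟨φ', rfl⟩, rfl⟩
      refine ⟨Theta M φ', ?_⟩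
      refine Eq.trans ?_ (hTK _).symm
      refine LinearMap.ext (fun x => LinearMap.ext (fun κ => Subtype.ext ?_))
      rfl
    · rintro ⟨Ψ', rfl⟩
      obtain ⟨φ', rfl⟩ := Theta_surjective hdim hfin M hM (P := Fin n → O) Ψ'
      refine ⟨φ' ∘ₗ (LinearMap.ker π).subtype, ⟨φ', rfl⟩, ?_⟩
      refine Eq.trans (hTK _) ?_
      refine LinearMap.ext (fun x => LinearMap.ext (fun κ => Subtype.ext ?_))
      rfl
  have E2 : (_ ⧸ LinearMap.range (LinearMap.lcomp O ↥M (LinearMap.ker π).subtype)) ≃ₗ[O]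
      (_ ⧸ LinearMap.range (LinearMap.compRight O (M := ↑(ModuleCat.of O ↥𝔣))
        (dualComplex M π).g.hom)) :=
    Submodule.Quotient.equiv _ _ TK hmap
  exact ⟨(E1.symm.trans E2).trans E3⟩

end Chain


/-! ### The final sequence `0 → 𝔣 → O → O ⧸ 𝔣 → 0` -/

section Final

/-- The ideal `𝔣 ∩ O` of `O`. -/
local notation "𝔞" => (Submodule.comap (Algebra.linearMap O K) 𝔣)

/-- The inclusion `𝔣 → O`. -/
noncomputable def fIncl : ↥𝔣 →ₗ[O] O :=
  (oneEquiv (O := O) (K := K)).symm.toLinearMap ∘ₗ Submodule.inclusion (f_le_one M)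

omit [IsDomain O] [LocCoh.IsGorensteinLocalRing O] in
lemma fIncl_spec (x : ↥𝔣) : algebraMap O K (fIncl M x) = (x : K) := by
  have h := (oneEquiv (O := O) (K := K)).apply_symm_apply (Submodule.inclusion (f_le_one M) x)
  exact congrArg Subtype.val h

omit [LocCoh.IsGorensteinLocalRing O] in
lemma fIncl_injective : Function.Injective (fIncl M) := by
  intro x x' h
  apply Subtype.ext
  rw [← fIncl_spec M x, ← fIncl_spec M x', h]

omit [LocCoh.IsGorensteinLocalRing O] in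
lemma fIncl_exact : Function.Exact (fIncl M) (Submodule.mkQ 𝔞) := by
  intro a
  constructor
  · intro ha
    have ha' : a ∈ 𝔞 := (Submodule.Quotient.mk_eq_zero _).1 ha
    refine ⟨⟨algebraMap O K a, ha'⟩, ?_⟩
    apply IsFractionRing.injective O K
    rw [fIncl_spec]
  · rintro ⟨x, rfl⟩
    refine (Submodule.Quotient.mk_eq_zero _).2 ?_
    show algebraMap O K (fIncl M x) ∈ 𝔣
    rw [fIncl_spec]
    exact x.2

/-- The short complex `0 → 𝔣 → O → O ⧸ 𝔣 → 0`. -/
noncomputable abbrev finalComplex : ShortComplex (ModuleCat.{u} O) :=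
  ModuleCat.shortComplexOfCompEqZero (R := O) (M := ↥𝔣) (N := O) (L := O ⧸ 𝔞)
    (fIncl M) (Submodule.mkQ 𝔞) (by
      refine LinearMap.ext (fun x => ?_)
      exact ((fIncl_exact M) (fIncl M x)).2 ⟨x, rfl⟩)

omit [LocCoh.IsGorensteinLocalRing O] in
lemma finalComplex_shortExact : (finalComplex M).ShortExact :=
  ModuleCat.shortComplex_shortExact _ (fIncl_exact M) (fIncl_injective M)
    (Submodule.mkQ_surjective _)

include hdim hfin hM in
/-- Every homomorphism `𝔣 → O` has image in `𝔣`. -/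
lemma hom_f_mem (χ : ↥𝔣 →ₗ[O] O) (x : ↥𝔣) : χ x ∈ 𝔞 := by
  obtain ⟨y, hy, hy0⟩ := f_ne hfin M hM
  obtain ⟨m, hm⟩ := mulHom_surjective (1 : Submodule O K) 𝔣 (𝔣).subtype (fun x => x.2)
    Subtype.val_injective (fun z hz => ⟨⟨z, hz⟩, rfl⟩) (⟨y, hy⟩ : ↥𝔣) hy0
    ((oneEquiv (O := O) (K := K)).toLinearMap ∘ₗ χ)
  have hmM : (m : K) ∈ (Ms : Submodule O K) := le_of_eq (one_div_f hdim hfin M hM) m.2
  have h1 : (m : K) * (x : K) = algebraMap O K (χ x) :=
    congrArg (fun ψ : ↥𝔣 →ₗ[O] ↥(1 : Submodule O K) => ((ψ x : ↥(1 : Submodule O K)) : K)) hm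
  show algebraMap O K (χ x) ∈ 𝔣
  rw [← h1]
  exact f_stable M x.2 hmM

include hdim hfin hM in
/-- **Main theorem**: `Ext^1(M, M) ≃ Hom(𝔣, O ⧸ 𝔣)`. -/
theorem nonempty_ext_equiv_hom :
    Nonempty (Ext (ModuleCat.of O ↥M) (ModuleCat.of O ↥M) 1 ≃ₗ[O] (↥𝔣 →ₗ[O] (O ⧸ 𝔞))) := by
  haveI := finite_M hfin M hM
  obtain ⟨n, π, hπ⟩ := Module.Finite.exists_fin' O ↥M
  obtain ⟨EA⟩ := nonempty_ext_equiv_ext_dual hdim hfin M hM π hπ
  obtain ⟨x, hx, hx0⟩ := Helper71.TFCurv.exists_mem_max_ne_zero hdim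
  haveI : Module.Finite O ↥(1 : Submodule O K) := Module.Finite.equiv (oneEquiv (O := O) (K := K))
  have hffg : (𝔣 : Submodule O K).FG :=
    div_fg (Module.Finite.iff_fg.1 inferInstance) (Ms_ne M)
  haveI : Module.Finite O ↥𝔣 := Module.Finite.iff_fg.2 hffg
  haveI : Module.Finite O (ModuleCat.of O ↥𝔣) := ‹Module.Finite O ↥𝔣›
  haveI : Module.Finite O (ModuleCat.of O O) := Module.Finite.self O
  have h2 : Subsingleton (Ext (ModuleCat.of O ↥𝔣) (finalComplex M).X₂ 1) :=
    CanonExt.ext_one_subsingleton_of_regular (ModuleCat.of O O) (injdim_self hdim)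
      (ModuleCat.of O ↥𝔣) x hx (regular_of_le 𝔣 hx0)
  obtain ⟨EB⟩ := nonempty_cokerPost_equiv_ext (finalComplex_shortExact M) (ModuleCat.of O ↥𝔣) h2
  have hbot : LinearMap.range (LinearMap.compRight O (M := ↑(ModuleCat.of O ↥𝔣))
      (finalComplex M).g.hom) = ⊥ := by
    rw [eq_bot_iff]
    rintro Ψ ⟨χ, rfl⟩
    rw [Submodule.mem_bot]
    refine LinearMap.ext (fun y => ?_)
    exact (Submodule.Quotient.mk_eq_zero _).2 (hom_f_mem hdim hfin M hM χ y)
  have EC := Submodule.quotEquivOfEqBot _ hbot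
  exact ⟨(EA.trans EB.symm).trans EC⟩

end Final

end Over

end Groth.Agent.Lib.Helper88.CanDual
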