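/-
Canonical ideals, part IV: the value set of `(ω : M)` is the dual of the value set of `M`.
Author: helper88
-/
import Groth.Agent.Lib.Helper88.CanonStep

set_option autoImplicit false
set_option linter.style.haveILetI false

namespace Groth.Agent.Lib.Helper88.CanonPS

open PowerSeries CategoryTheory

universe u

variable {k : Type u} [Field k] {A : Subalgebra k k⟦X⟧} {c : ℕ}

/-- A closed subalgebra whose value semigroup contains everything from `c` on contains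
`t^c k[[t]]`. -/
theorem setup_of_closed (A : Subalgebra k k⟦X⟧) (hA : Module.Finite ↥A k⟦X⟧)
    (hcl : ∀ f : k⟦X⟧, (∀ n : ℕ, ∃ g ∈ A, (n : ℕ∞) ≤ order (f - g)) → f ∈ A) (c : ℕ)
    (hc : ∀ n : ℕ, c ≤ n → ∃ f ∈ A, order f = (n : ℕ∞)) (hc0 : c ≠ 0) : Setup A c := by
  refine ⟨hA, ?_, Nat.one_le_iff_ne_zero.2 hc0⟩
  have key : ∀ e : ℕ, ∀ f : k⟦X⟧, (c : ℕ∞) ≤ order f →
      ∃ g ∈ A, ((c + e : ℕ) : ℕ∞) ≤ order (f - g) := by
    intro e
    induction e with
    | zero =>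
      intro f hf
      exact ⟨0, A.zero_mem, by rwa [sub_zero, add_zero]⟩
    | succ e ih =>
      intro f hf
      obtain ⟨g, hg, hle⟩ := ih f hf
      by_cases hlt : ((c + (e + 1) : ℕ) : ℕ∞) ≤ order (f - g)
      · exact ⟨g, hg, hlt⟩
      · rw [not_le] at hlt
        set r := f - g with hr
        have hr0 : r ≠ 0 := by
          intro h0
          rw [h0, order_zero] at hlt
          exact absurd hlt (not_lt.2 le_top)
        set n' := (order r).toNat with hn'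
        have hord : order r = n' := (coe_toNat_order hr0).symm
        rw [hord] at hlt hle
        have h1 : n' < c + (e + 1) := by exact_mod_cast hlt
        have h2 : c + e ≤ n' := by exact_mod_cast hle
        have h3 : n' = c + e := by omega
        rw [h3] at hord
        obtain ⟨a, ha, hao⟩ := hc (c + e) (Nat.le_add_right c e)
        obtain ⟨l, hl⟩ := exists_order_sub_gt hord hao
        refine ⟨g + C l * a, A.add_mem hg (A.mul_mem (Setup.C_mem A l) ha), ?_⟩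
        have h4 : f - (g + C l * a) = r - C l * a := by rw [hr]; ring
        rw [h4]
        have := (ENat.add_one_le_iff (ENat.natCast_ne_top (c + e))).2 hl
        exact_mod_cast this
  intro f hf
  apply hcl
  intro n
  obtain ⟨g, hg, hle⟩ := key n f hf
  refine ⟨g, hg, le_trans ?_ hle⟩
  exact_mod_cast Nat.le_add_left n c

/-- The conductor exponent of `ω`. -/
theorem exists_cond_exponent (h : Setup A c) (ω : Submodule ↥A k⟦X⟧) (hω1 : (1 : k⟦X⟧) ∈ ω) :
    ∃ m : ℕ, m ≤ c ∧ (∀ b : k⟦X⟧, X ^ m * b ∈ ω) ∧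
      (∀ u : k⟦X⟧, (∀ b, u * b ∈ ω) → (m : ℕ∞) ≤ order u) := by
  classical
  have hPc : ∀ b : k⟦X⟧, X ^ c * b ∈ ω := by
    intro b
    have : X ^ c * b = (⟨X ^ c * b, h.X_pow_mul_mem b⟩ : ↥A) • (1 : k⟦X⟧) := by
      show _ = X ^ c * b * 1
      rw [mul_one]
    rw [this]
    exact ω.smul_mem _ hω1
  have hex : ∃ m : ℕ, ∀ b : k⟦X⟧, X ^ m * b ∈ ω := ⟨c, hPc⟩
  refine ⟨Nat.find hex, Nat.find_min' hex hPc, Nat.find_spec hex, ?_⟩
  intro u hu
  by_contra hlt
  rw [not_le] at hlt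
  have hu0 : u ≠ 0 := by
    intro h0
    rw [h0, order_zero] at hlt
    exact absurd hlt (not_lt.2 le_top)
  set d := (order u).toNat with hd
  have hord : order u = d := (coe_toNat_order hu0).symm
  rw [hord] at hlt
  have hdm : d < Nat.find hex := by exact_mod_cast hlt
  obtain ⟨w, hw0, hw⟩ := exists_unit_factor hord
  have hPd : ∀ b : k⟦X⟧, X ^ d * b ∈ ω := by
    intro b
    have : X ^ d * b = u * (w⁻¹ * b) := by
      rw [hw]
      have hww : w * w⁻¹ = 1 := PowerSeries.mul_inv_cancel _ hw0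
      calc X ^ d * b = X ^ d * (w * w⁻¹) * b := by rw [hww, mul_one]
        _ = _ := by ring
    rw [this]
    exact hu _
  exact absurd (Nat.find_min' hex hPd) (not_le.2 hdm)

/-- `ω` has no element of order `m - 1`. -/
theorem no_order_pred (ω : Submodule ↥A k⟦X⟧) (m : ℕ)
    (hm1 : ∀ b : k⟦X⟧, X ^ m * b ∈ ω)
    (hm2 : ∀ u : k⟦X⟧, (∀ b, u * b ∈ ω) → (m : ℕ∞) ≤ order u) (hmpos : 1 ≤ m) :
    ¬ ∃ z ∈ ω, order z = ((m - 1 : ℕ) : ℕ∞) := by
  rintro ⟨z, hz, hzo⟩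
  have hzB : ∀ b : k⟦X⟧, z * b ∈ ω := by
    intro b
    obtain ⟨b', hb'⟩ := const_split b
    have hzX : (m : ℕ∞) ≤ order (z * X) := by
      rw [order_mul, hzo, order_X]
      exact_mod_cast (by omega : m ≤ m - 1 + 1)
    obtain ⟨g, hg⟩ := exists_eq_X_pow_mul hzX
    have h1 : z * b = (⟨C (constantCoeff b), Setup.C_mem A _⟩ : ↥A) • z + X ^ m * (g * b') := by
      show z * b = C (constantCoeff b) * z + X ^ m * (g * b')
      rw [← mul_assoc, ← hg]
      linear_combination z * hb'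
    rw [h1]
    exact ω.add_mem (ω.smul_mem _ hz) (hm1 _)
  have := hm2 z hzB
  rw [hzo] at this
  have h2 : m ≤ m - 1 := by exact_mod_cast this
  omega

/-- **Value set of the dual.** -/
theorem valueSet_dual (h : Setup A c)
    (hc1 : ¬ ∃ f ∈ A, order f = ((c - 1 : ℕ) : ℕ∞))
    (ω : Submodule ↥A k⟦X⟧) (hω1 : (1 : k⟦X⟧) ∈ ω)
    (hωinj : HasInjectiveDimensionLT (ModuleCat.of ↥A ↥ω) 2)
    (M : Submodule ↥A k⟦X⟧) (hM1 : (1 : k⟦X⟧) ∈ M) (n : ℕ) :
    (∃ u : k⟦X⟧, order u = (n : ℕ∞) ∧ ∀ x ∈ M, u * x ∈ ω) ↔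
      (c ≤ n ∨ ¬ ∃ x ∈ M, order x = ((c - 1 - n : ℕ) : ℕ∞)) := by
  obtain ⟨m, hmc, hm1, hm2⟩ := exists_cond_exponent h ω hω1
  have hcpos := h.cpos
  have hcm : c ≤ m := by
    obtain ⟨u, -, huo⟩ := exists_mul_of_gap h ω hωinj m hm1 hm2
      (Submodule.span ↥A {(1 : k⟦X⟧)}) (Submodule.subset_span rfl) (c - 1) (by
        rintro ⟨x, hx, hxo⟩
        obtain ⟨a, rfl⟩ := Submodule.mem_span_singleton.1 hx
        apply hc1
        refine ⟨(a : k⟦X⟧), a.2, ?_⟩
        have : a • (1 : k⟦X⟧) = (a : k⟦X⟧) * 1 := rfl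
        rw [this, mul_one] at hxo
        exact hxo)
    have h1 : c - 1 + 1 = c := by omega
    rw [h1] at huo
    have h2 : (c : ℕ∞) ≤ (m : ℕ∞) := by
      rw [← huo]
      exact le_add_self
    exact_mod_cast h2
  have hmeq : m = c := le_antisymm hmc hcm
  subst hmeq
  have hbig : m ≤ n → ∃ u : k⟦X⟧, order u = (n : ℕ∞) ∧ ∀ x ∈ M, u * x ∈ ω := by
    intro hcn
    refine ⟨X ^ n, order_X_pow n, ?_⟩
    intro x _
    have : (X : k⟦X⟧) ^ n * x = X ^ m * (X ^ (n - m) * x) := by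
      rw [← mul_assoc, ← pow_add, Nat.add_sub_cancel' hcn]
    rw [this]
    exact hm1 _
  constructor
  · rintro ⟨u, huo, huM⟩
    by_cases hcn : m ≤ n
    · exact Or.inl hcn
    · right
      rintro ⟨x, hx, hxo⟩
      apply no_order_pred ω m hm1 hm2 hcpos
      refine ⟨u * x, huM x hx, ?_⟩
      rw [order_mul, huo, hxo]
      exact_mod_cast (by omega : n + (m - 1 - n) = m - 1)
  · rintro (hcn | hgap)
    · exact hbig hcn
    · by_cases hcn : m ≤ n
      · exact hbig hcn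
      · obtain ⟨u, huM, huo⟩ := exists_mul_of_gap h ω hωinj m hm1 hm2 M hM1 (m - 1 - n) hgap
        refine ⟨u, ?_, huM⟩
        have hne : order u ≠ ⊤ := by
          intro htop
          rw [htop, top_add] at huo
          exact ENat.top_ne_natCast _ huo
        obtain ⟨d, hd⟩ := ENat.ne_top_iff_exists.1 hne
        rw [← hd] at huo ⊢
        have h1 : d + (m - 1 - n + 1) = m := by exact_mod_cast huo
        have h2 : d = n := by omega
        rw [h2]

/-- **Value set of the canonical ideal.** -/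
theorem valueSet_canonical (h : Setup A c)
    (hc1 : ¬ ∃ f ∈ A, order f = ((c - 1 : ℕ) : ℕ∞))
    (ω : Submodule ↥A k⟦X⟧) (hω1 : (1 : k⟦X⟧) ∈ ω)
    (hωinj : HasInjectiveDimensionLT (ModuleCat.of ↥A ↥ω) 2) (n : ℕ) :
    (∃ f ∈ ω, order f = (n : ℕ∞)) ↔
      (c ≤ n ∨ ¬ ∃ f ∈ A, order f = ((c - 1 - n : ℕ) : ℕ∞)) := by
  have key := valueSet_dual h hc1 ω hω1 hωinj (Submodule.span ↥A {(1 : k⟦X⟧)})
    (Submodule.subset_span rfl) n
  have hsm : ∀ a : ↥A, a • (1 : k⟦X⟧) = (a : k⟦X⟧) := fun a => mul_one _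
  have e1 : (∃ f ∈ ω, order f = (n : ℕ∞)) ↔
      (∃ u : k⟦X⟧, order u = (n : ℕ∞) ∧ ∀ x ∈ Submodule.span ↥A {(1 : k⟦X⟧)}, u * x ∈ ω) := by
    constructor
    · rintro ⟨f, hf, hfo⟩
      refine ⟨f, hfo, ?_⟩
      intro x hx
      obtain ⟨a, rfl⟩ := Submodule.mem_span_singleton.1 hx
      rw [hsm]
      have : f * (a : k⟦X⟧) = a • f := mul_comm _ _
      rw [this]
      exact ω.smul_mem _ hf
    · rintro ⟨u, huo, hu⟩
      refine ⟨u, ?_, huo⟩
      have := hu 1 (Submodule.subset_span rfl)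
      rwa [mul_one] at this
  have e2 : (∃ x ∈ Submodule.span ↥A {(1 : k⟦X⟧)}, order x = ((c - 1 - n : ℕ) : ℕ∞)) ↔
      (∃ f ∈ A, order f = ((c - 1 - n : ℕ) : ℕ∞)) := by
    constructor
    · rintro ⟨x, hx, hxo⟩
      obtain ⟨a, rfl⟩ := Submodule.mem_span_singleton.1 hx
      rw [hsm] at hxo
      exact ⟨(a : k⟦X⟧), a.2, hxo⟩
    · rintro ⟨f, hf, hfo⟩
      refine ⟨f, Submodule.mem_span_singleton.2 ⟨⟨f, hf⟩, hsm _⟩, hfo⟩
  rw [e1, key, e2]

end Groth.Agent.Lib.Helper88.CanonPS
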