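import Mathlib

/-!
# Flat tensor products, intersections and Artin–Rees (towards S7061)
-/

set_option autoImplicit false
universe u

namespace Groth.Agent.Lib.Helper88.ComplFlat1

open TensorProduct

variable {A : Type u} [CommRing A] (N : Type u) [AddCommGroup N] [Module A N]
variable {M : Type u} [AddCommGroup M] [Module A M]

/-- the image of `U ⊗ N` in `M ⊗ N` -/
def tU (U : Submodule A M) : Submodule A (M ⊗[A] N) :=
  LinearMap.range (LinearMap.rTensor N U.subtype)

theorem tmul_mem_tU (U : Submodule A M) {u : M} (hu : u ∈ U) (x : N) : u ⊗ₜ[A] x ∈ tU N U :=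
  ⟨(⟨u, hu⟩ : U) ⊗ₜ[A] x, rfl⟩

theorem tU_mono {U V : Submodule A M} (h : U ≤ V) : tU N U ≤ tU N V := by
  rintro _ ⟨z, rfl⟩
  refine ⟨LinearMap.rTensor N (Submodule.inclusion h) z, ?_⟩
  rw [← LinearMap.comp_apply, ← LinearMap.rTensor_comp]
  rfl

theorem tU_top : tU N (⊤ : Submodule A M) = ⊤ := by
  rw [tU, LinearMap.range_eq_top]
  apply LinearMap.rTensor_surjective
  intro m
  exact ⟨⟨m, Submodule.mem_top⟩, rfl⟩

theorem smul_tU (J : Ideal A) (U : Submodule A M) : J • tU N U = tU N (J • U) := by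
  apply le_antisymm
  · rw [Submodule.smul_le]
    rintro j hj _ ⟨z, rfl⟩
    induction z using TensorProduct.induction_on with
    | zero => simp
    | tmul u x =>
      rw [LinearMap.rTensor_tmul, TensorProduct.smul_tmul']
      exact tmul_mem_tU N _ (Submodule.smul_mem_smul hj u.2) x
    | add z z' hz hz' =>
      rw [map_add, smul_add]
      exact Submodule.add_mem _ hz hz'
  · rintro _ ⟨z, rfl⟩
    induction z using TensorProduct.induction_on with
    | zero => simp
    | tmul w x =>
      rw [LinearMap.rTensor_tmul]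
      have hw : (w : M) ∈ J • U := w.2
      change (w : M) ⊗ₜ[A] x ∈ J • tU N U
      refine Submodule.smul_induction_on (p := fun w => w ⊗ₜ[A] x ∈ J • tU N U) hw ?_ ?_
      · intro j hj u hu
        rw [← TensorProduct.smul_tmul']
        exact Submodule.smul_mem_smul hj (tmul_mem_tU N U hu x)
      · intro w₁ w₂ h₁ h₂
        rw [TensorProduct.add_tmul]
        exact Submodule.add_mem _ h₁ h₂
    | add z z' hz hz' =>
      rw [map_add]
      exact Submodule.add_mem _ hz hz'

theorem pow_smul_top_eq_tU (I : Ideal A) (n : ℕ) :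
    (I ^ n • ⊤ : Submodule A (M ⊗[A] N)) = tU N (I ^ n • ⊤ : Submodule A M) := by
  rw [← smul_tU, tU_top]

theorem tU_inf [Module.Flat A N] (U V : Submodule A M) : tU N U ⊓ tU N V ≤ tU N (U ⊓ V) := by
  rintro _ ⟨⟨z', rfl⟩, hzV⟩
  have hexV : Function.Exact (LinearMap.rTensor N V.subtype) (LinearMap.rTensor N V.mkQ) :=
    rTensor_exact N (LinearMap.exact_subtype_mkQ V) (Submodule.mkQ_surjective V)
  have h1 : LinearMap.rTensor N V.mkQ (LinearMap.rTensor N U.subtype z') = 0 := (hexV _).2 hzV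
  have h2 : LinearMap.rTensor N (V.mkQ ∘ₗ U.subtype) z' = 0 := by
    rw [LinearMap.rTensor_comp]
    exact h1
  have hex : Function.Exact (LinearMap.ker (V.mkQ ∘ₗ U.subtype)).subtype (V.mkQ ∘ₗ U.subtype) :=
    LinearMap.exact_subtype_ker_map _
  have hex' := Module.Flat.rTensor_exact N hex
  obtain ⟨z'', rfl⟩ := (hex' z').1 h2
  let j : LinearMap.ker (V.mkQ ∘ₗ U.subtype) →ₗ[A] (U ⊓ V : Submodule A M) :=
    LinearMap.codRestrict _ (U.subtype ∘ₗ (LinearMap.ker (V.mkQ ∘ₗ U.subtype)).subtype)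
      (fun w => ⟨w.1.2, by
        have := w.2
        rw [LinearMap.mem_ker, LinearMap.comp_apply, Submodule.mkQ_apply,
          Submodule.Quotient.mk_eq_zero] at this
        exact this⟩)
  refine ⟨LinearMap.rTensor N j z'', ?_⟩
  rw [← LinearMap.comp_apply, ← LinearMap.rTensor_comp, ← LinearMap.comp_apply,
    ← LinearMap.rTensor_comp]
  rfl

theorem range_rTensor {M' : Type u} [AddCommGroup M'] [Module A M'] (f : M' →ₗ[A] M) :
    LinearMap.range (LinearMap.rTensor N f) = tU N (LinearMap.range f) := by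
  have h : f = (LinearMap.range f).subtype ∘ₗ f.rangeRestrict := rfl
  conv_lhs => rw [h, LinearMap.rTensor_comp]
  rw [LinearMap.range_comp_of_range_eq_top]
  · rfl
  · rw [LinearMap.range_eq_top]
    exact LinearMap.rTensor_surjective N (LinearMap.surjective_rangeRestrict f)

/-- Artin–Rees for `range (f ⊗ N)` with `N` flat -/
theorem exists_AR [IsNoetherianRing A] [Module.Finite A M] [Module.Flat A N] (I : Ideal A)
    {M' : Type u} [AddCommGroup M'] [Module A M'] (f : M' →ₗ[A] M) :
    ∃ k : ℕ, ∀ n ≥ k, (I ^ n • ⊤ ⊓ LinearMap.range (LinearMap.rTensor N f) :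
      Submodule A (M ⊗[A] N)) ≤ I ^ (n - k) • LinearMap.range (LinearMap.rTensor N f) := by
  obtain ⟨k, hk⟩ := Ideal.exists_pow_inf_eq_pow_smul I (LinearMap.range f)
  refine ⟨k, fun n hn => ?_⟩
  rw [range_rTensor, pow_smul_top_eq_tU, smul_tU]
  refine (tU_inf N _ _).trans (tU_mono N ?_)
  rw [hk n hn]
  exact smul_mono_right _ inf_le_right

end Groth.Agent.Lib.Helper88.ComplFlat1
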