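import Mathlib

/-!
# Exactness of adic completion under an Artin–Rees hypothesis
(adaptation of `Mathlib.RingTheory.AdicCompletion.Exactness`, towards S7061)
-/

set_option autoImplicit false
universe u

namespace Groth.Agent.Lib.Helper88.ComplFlat2

open AdicCompletion LinearMap Submodule

variable {R : Type u} [CommRing R] {I : Ideal R}
variable {M : Type u} [AddCommGroup M] [Module R M]
variable {N : Type u} [AddCommGroup N] [Module R N]
variable {P : Type u} [AddCommGroup P] [Module R P]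

/-- Adic completion preserves injectivity under an Artin–Rees hypothesis. -/
theorem map_injective' {f : M →ₗ[R] N} (hf : Function.Injective f) (k : ℕ)
    (hk : ∀ n ≥ k, (I ^ n • ⊤ ⊓ range f : Submodule R N) ≤ I ^ (n - k) • range f) :
    Function.Injective (map I f) := by
  rw [← LinearMap.ker_eq_bot, LinearMap.ker_eq_bot']
  intro x
  apply AdicCompletion.induction_on I M x (fun a ↦ ?_)
  intro hx
  refine AdicCompletion.mk_zero_of _ _ _ ⟨42, fun n _ ↦ ⟨n + k, by lia, n, by lia, ?_⟩⟩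
  rw [← Submodule.comap_map_eq_of_injective hf (I ^ n • ⊤ : Submodule R M),
    Submodule.map_smul'', Submodule.map_top]
  have h1 := hk (n + k) (by lia)
  rw [Nat.add_sub_cancel] at h1
  apply h1
  exact ⟨by simpa using congrArg (fun x ↦ x.val (n + k)) hx, ⟨a (n + k), rfl⟩⟩

section

variable {f : M →ₗ[R] N} {g : N →ₗ[R] P} (hf : Function.Injective f)
  (hfg : Function.Exact f g) (hg : Function.Surjective g)

section

variable {k : ℕ}
  (hkn : ∀ n ≥ k, (I ^ n • ⊤ ⊓ LinearMap.range f : Submodule R N) ≤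
    I ^ (n - k) • LinearMap.range f)
  (x : AdicCauchySequence I N) (hker : ∀ (n : ℕ), g (x n) ∈ (I ^ n • ⊤ : Submodule R P))

include hf hkn in
theorem exists_delta {n : ℕ} {d : N}
    (hdmem : d ∈ (I ^ (k + n + 1) • ⊤ : Submodule R N)) {y yₙ : M}
    (hd : f y = x (k + n + 1) - d) (hyₙ : f yₙ - x (k + n) ∈ (I ^ (k + n) • ⊤ : Submodule R N)) :
    ∃ d' : M, d' ∈ (I ^ n • ⊤ : Submodule R M) ∧
      f (yₙ + d') - x (k + n + 1) ∈ (I ^ (k + n + 1) • ⊤ : Submodule R N) := by
  have h : f (y - yₙ) ∈ (I ^ (k + n) • ⊤ : Submodule R N) := by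
    simp only [map_sub, hd]
    convert_to x (k + n + 1) - x (k + n) - d - (f yₙ - x (k + n)) ∈ I ^ (k + n) • ⊤
    · abel
    · refine Submodule.sub_mem _ (Submodule.sub_mem _ ?_ ?_) hyₙ
      · rw [← Submodule.Quotient.eq]
        exact AdicCauchySequence.mk_eq_mk (by lia) _
      · exact (Submodule.smul_mono_left (Ideal.pow_le_pow_right (by lia))) hdmem
  have hyyₙ : y - yₙ ∈ (I ^ n • ⊤ : Submodule R M) := by
    convert_to y - yₙ ∈ (I ^ (k + n - k) • ⊤ : Submodule R M)
    · simp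
    · rw [← Submodule.comap_map_eq_of_injective hf (I ^ (k + n - k) • ⊤ : Submodule R M),
        Submodule.map_smul'', Submodule.map_top]
      apply hkn (k + n) (by lia)
      exact ⟨h, ⟨y - yₙ, rfl⟩⟩
  refine ⟨y - yₙ, hyyₙ, ?_⟩
  have : f (yₙ + (y - yₙ)) - x (k + n + 1) = -d := by
    rw [add_sub_cancel, hd]
    abel
  rw [this]
  exact Submodule.neg_mem _ hdmem

include hfg hg hker in
theorem exists_pre (n : ℕ) : ∃ (d : N) (y : M),
    d ∈ (I ^ (k + n) • ⊤ : Submodule R N) ∧ f y = x (k + n) - d := by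
  have h1 : g (x (k + n)) ∈ Submodule.map g (I ^ (k + n) • ⊤ : Submodule R N) := by
    rw [map_smul'', Submodule.map_top, range_eq_top.mpr hg]
    exact hker (k + n)
  obtain ⟨d, hdmem, hd⟩ := h1
  obtain ⟨y, hdy⟩ := (hfg (x (k + n) - d)).mp (by simp [hd])
  exact ⟨d, y, hdmem, hdy⟩

include hf hfg hg hkn hker in
/-- a compatible sequence of approximate preimages -/
theorem exists_seq : ∃ a : ℕ → M, (∀ n, f (a n) - x (k + n) ∈ (I ^ (k + n) • ⊤ : Submodule R N)) ∧
    ∀ n, a (n + 1) - a n ∈ (I ^ n • ⊤ : Submodule R M) := by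
  have hstep : ∀ n (yₙ : M), f yₙ - x (k + n) ∈ (I ^ (k + n) • ⊤ : Submodule R N) →
      ∃ y' : M, f y' - x (k + (n + 1)) ∈ (I ^ (k + (n + 1)) • ⊤ : Submodule R N) ∧
        y' - yₙ ∈ (I ^ n • ⊤ : Submodule R M) := by
    intro n yₙ hyₙ
    obtain ⟨d, y, hdmem, hdy⟩ := exists_pre hfg hg x hker (k := k) (n + 1)
    obtain ⟨d', hd', hd''⟩ := exists_delta hf hkn x hdmem hdy hyₙ
    exact ⟨yₙ + d', hd'', by simpa using hd'⟩
  obtain ⟨d0, y0, hd0, hy0⟩ := exists_pre hfg hg x hker (k := k) 0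
  have h0 : f y0 - x (k + 0) ∈ (I ^ (k + 0) • ⊤ : Submodule R N) := by
    rw [hy0]
    simpa using hd0
  let S : ℕ → Type u := fun n => {y : M // f y - x (k + n) ∈ (I ^ (k + n) • ⊤ : Submodule R N)}
  let step : ∀ n, S n → S (n + 1) := fun n y =>
    ⟨(hstep n y.1 y.2).choose, (hstep n y.1 y.2).choose_spec.1⟩
  let seq : ∀ n, S n := fun n => Nat.rec (motive := S) ⟨y0, h0⟩ step n
  refine ⟨fun n => (seq n).1, fun n => (seq n).2, fun n => ?_⟩
  exact (hstep n (seq n).1 (seq n).2).choose_spec.2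

end

include hf hfg hg in
/-- `AdicCompletion` is exact under an Artin–Rees hypothesis. -/
theorem map_exact' (k : ℕ)
    (hk : ∀ n ≥ k, (I ^ n • ⊤ ⊓ LinearMap.range f : Submodule R N) ≤
      I ^ (n - k) • LinearMap.range f) :
    Function.Exact (map I f) (map I g) := by
  refine LinearMap.exact_of_comp_eq_zero_of_ker_le_range ?_ (fun y ↦ ?_)
  · rw [AdicCompletion.map_comp, hfg.linearMap_comp_eq_zero, AdicCompletion.map_zero]
  · apply AdicCompletion.induction_on I N y (fun b ↦ ?_)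
    intro hz
    have hb (n : ℕ) : g (b n) ∈ (I ^ n • ⊤ : Submodule R P) := by
      simpa using congrArg (fun x ↦ x.val n) hz
    obtain ⟨a, ha1, ha2⟩ := exists_seq hf hfg hg hk b hb
    refine ⟨AdicCompletion.mk I M (AdicCauchySequence.mk I M a ?_), ?_⟩
    · intro n
      refine SModEq.symm ?_
      rw [SModEq.sub_mem]
      exact ha2 n
    · ext n
      suffices h : Submodule.Quotient.mk (p := (I ^ n • ⊤ : Submodule R N)) (f (a n)) =
            Submodule.Quotient.mk (p := (I ^ n • ⊤ : Submodule R N)) (b (k + n)) by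
        simp [h, AdicCauchySequence.mk_eq_mk (show n ≤ k + n by lia)]
      rw [Submodule.Quotient.eq]
      have hle : (I ^ (k + n) • ⊤ : Submodule R N) ≤ (I ^ n • ⊤ : Submodule R N) :=
        Submodule.smul_mono_left (Ideal.pow_le_pow_right (by lia))
      exact hle (ha1 n)

end

end Groth.Agent.Lib.Helper88.ComplFlat2
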