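import Mathlib
import Groth.Agent.Lib.Helper88.ComplFlat1
import Groth.Agent.Lib.Helper88.ComplFlat2

/-!
# The completion of a flat module over a Noetherian ring (towards S7061)

`cmap : M ⊗ N^ → (M ⊗ N)^` is bijective for `M` finite, `N` flat, `A` Noetherian; `N^` is flat.
-/

set_option autoImplicit false
universe u

namespace Groth.Agent.Lib.Helper88.ComplFlat3

open TensorProduct AdicCompletion
open Groth.Agent.Lib.Helper88.ComplFlat1 Groth.Agent.Lib.Helper88.ComplFlat2

variable {A : Type u} [CommRing A] (I : Ideal A)

section MapLinear

variable {X Y : Type u} [AddCommGroup X] [Module A X] [AddCommGroup Y] [Module A Y]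

theorem map_add_apply (f g : X →ₗ[A] Y) (x : AdicCompletion I X) :
    map I (f + g) x = map I f x + map I g x := by
  induction x using AdicCompletion.induction_on with
  | _ a =>
    rw [map_mk, map_mk, map_mk]
    ext n
    simp

theorem map_smul_apply (r : A) (f : X →ₗ[A] Y) (x : AdicCompletion I X) :
    map I (r • f) x = r • map I f x := by
  induction x using AdicCompletion.induction_on with
  | _ a =>
    rw [map_mk, map_mk]
    ext n
    simp [AdicCompletion.val_smul_apply]

end MapLinear

variable (N : Type u) [AddCommGroup N] [Module A N]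

section Cmap

variable (M : Type u) [AddCommGroup M] [Module A M]

/-- the canonical map `M ⊗ N^ → (M ⊗ N)^` -/
noncomputable def cmap : M ⊗[A] AdicCompletion I N →ₗ[A] AdicCompletion I (M ⊗[A] N) :=
  TensorProduct.lift
    { toFun := fun m => (map I (TensorProduct.mk A M N m)).restrictScalars A
      map_add' := fun m m' => by
        apply LinearMap.ext
        intro x
        simp only [LinearMap.coe_restrictScalars, LinearMap.add_apply, map_add]
        exact map_add_apply I _ _ x
      map_smul' := fun r m => by
        apply LinearMap.ext
        intro x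
        simp only [LinearMap.coe_restrictScalars, LinearMap.smul_apply, map_smul,
          RingHom.id_apply]
        exact map_smul_apply I r _ x }

theorem cmap_tmul (m : M) (x : AdicCompletion I N) :
    cmap I N M (m ⊗ₜ[A] x) = map I (TensorProduct.mk A M N m) x := rfl

theorem cmap_tmul_of (m : M) (n : N) :
    cmap I N M (m ⊗ₜ[A] of I N n) = of I (M ⊗[A] N) (m ⊗ₜ[A] n) := by
  rw [cmap_tmul, map_of]
  rfl

variable {M}

theorem cmap_naturality {M' : Type u} [AddCommGroup M'] [Module A M'] (f : M →ₗ[A] M') :
    (map I (LinearMap.rTensor N f)).restrictScalars A ∘ₗ cmap I N M =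
      cmap I N M' ∘ₗ LinearMap.rTensor (AdicCompletion I N) f := by
  apply TensorProduct.ext'
  intro m x
  simp only [LinearMap.coe_comp, Function.comp_apply, LinearMap.coe_restrictScalars, cmap_tmul,
    LinearMap.rTensor_tmul]
  rw [← LinearMap.comp_apply, AdicCompletion.map_comp]
  rfl

theorem cmap_naturality_apply {M' : Type u} [AddCommGroup M'] [Module A M'] (f : M →ₗ[A] M')
    (z : M ⊗[A] AdicCompletion I N) :
    map I (LinearMap.rTensor N f) (cmap I N M z) =
      cmap I N M' (LinearMap.rTensor (AdicCompletion I N) f z) :=
  LinearMap.congr_fun (cmap_naturality I N f) z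

end Cmap

/-- `cmap` is bijective for `M = A` -/
theorem cmap_self_bijective : Function.Bijective (cmap I N A) := by
  let e1 : A ⊗[A] AdicCompletion I N ≃ₗ[A] AdicCompletion I N := TensorProduct.lid A _
  let e2 : AdicCompletion I (A ⊗[A] N) ≃ₗ[A] AdicCompletion I N :=
    (AdicCompletion.congr I (TensorProduct.lid A N)).restrictScalars A
  have h : e2.toLinearMap ∘ₗ cmap I N A = e1.toLinearMap := by
    apply TensorProduct.ext'
    intro a x
    simp only [LinearMap.coe_comp, LinearEquiv.coe_coe, Function.comp_apply, cmap_tmul, e1, e2,
      LinearEquiv.restrictScalars_apply, AdicCompletion.congr_apply, TensorProduct.lid_tmul]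
    rw [← LinearMap.comp_apply, AdicCompletion.map_comp]
    have h2 : (TensorProduct.lid A N).toLinearMap ∘ₗ TensorProduct.mk A A N a =
        a • LinearMap.id := by
      ext n
      simp
    rw [h2, map_smul_apply, AdicCompletion.map_id]
    rfl
  have hb : Function.Bijective (e2 ∘ cmap I N A) := by
    have : (e2 ∘ cmap I N A) = e1 := by
      funext z
      exact LinearMap.congr_fun h z
    rw [this]
    exact e1.bijective
  exact (Function.Bijective.of_comp_iff' e2.bijective _).1 hb

end Groth.Agent.Lib.Helper88.ComplFlat3
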