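import Mathlib
import Groth.Agent.Lib.Helper88.ComplFlat3

/-!
# `M ⊗ N^ ≅ (M ⊗ N)^` for finite `M`, flat `N` over a Noetherian ring; `N^` is flat
-/

set_option autoImplicit false
universe u

namespace Groth.Agent.Lib.Helper88.ComplFlat4

open TensorProduct AdicCompletion
open Groth.Agent.Lib.Helper88.ComplFlat1 Groth.Agent.Lib.Helper88.ComplFlat2
open Groth.Agent.Lib.Helper88.ComplFlat3

variable {A : Type u} [CommRing A]

/-- induction principle for finite modules: cyclic modules and extensions -/
theorem finite_induction
    (Pr : ∀ (M : Type u) [AddCommGroup M] [Module A M], Prop)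
    (hcyc : ∀ (M : Type u) [AddCommGroup M] [Module A M] (p : A →ₗ[A] M),
      Function.Surjective p → Pr M)
    (hext : ∀ (M : Type u) [AddCommGroup M] [Module A M] [Module.Finite A M]
      (M₁ : Submodule A M), Pr M₁ → Pr (M ⧸ M₁) → Pr M)
    (M : Type u) [AddCommGroup M] [Module A M] [Module.Finite A M] : Pr M := by
  obtain ⟨n, s, hs⟩ := Module.Finite.exists_fin (R := A) (M := M)
  induction n generalizing M with
  | zero =>
    have hsub : Subsingleton M := by
      have : (⊤ : Submodule A M) = ⊥ := by
        rw [← hs]
        simp
      exact (Submodule.subsingleton_iff A).1 (subsingleton_of_bot_eq_top this.symm)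
    exact hcyc M 0 (fun m => ⟨0, Subsingleton.elim _ _⟩)
  | succ n ih =>
    let M₁ : Submodule A M := Submodule.span A {s 0}
    have h1 : Pr M₁ := by
      refine hcyc M₁ (LinearMap.codRestrict M₁ (LinearMap.toSpanSingleton A M (s 0))
        (fun r => ?_)) ?_
      · exact Submodule.smul_mem _ r (Submodule.subset_span rfl)
      · rintro ⟨m, hm⟩
        obtain ⟨r, rfl⟩ := Submodule.mem_span_singleton.1 hm
        exact ⟨r, rfl⟩
    have h2 : Pr (M ⧸ M₁) := by
      haveI : Module.Finite A (M ⧸ M₁) := inferInstance
      refine ih (M ⧸ M₁) (fun i => M₁.mkQ (s i.succ)) ?_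
      rw [eq_top_iff]
      rintro x -
      obtain ⟨m, rfl⟩ := M₁.mkQ_surjective x
      have hm : m ∈ Submodule.span A (Set.range s) := by rw [hs]; exact Submodule.mem_top
      refine Submodule.span_induction (p := fun m _ => M₁.mkQ m ∈
        Submodule.span A (Set.range fun i : Fin n => M₁.mkQ (s i.succ))) ?_ ?_ ?_ ?_ hm
      · rintro _ ⟨i, rfl⟩
        refine Fin.cases ?_ (fun j => ?_) i
        · have : M₁.mkQ (s 0) = 0 := by
            rw [Submodule.mkQ_apply, Submodule.Quotient.mk_eq_zero]
            exact Submodule.subset_span rfl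
          rw [this]
          exact Submodule.zero_mem _
        · exact Submodule.subset_span ⟨j, rfl⟩
      · rw [_root_.map_zero]
        exact Submodule.zero_mem _
      · intro a b _ _ ha hb
        rw [_root_.map_add]
        exact Submodule.add_mem _ ha hb
      · intro r a _ ha
        rw [_root_.map_smul]
        exact Submodule.smul_mem _ r ha
    exact hext M M₁ h1 h2

variable (I : Ideal A) (N : Type u) [AddCommGroup N] [Module A N]

section T

variable [IsNoetherianRing A] [Module.Flat A N]
variable {M' M M'' : Type u} [AddCommGroup M'] [Module A M'] [AddCommGroup M] [Module A M]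
  [AddCommGroup M''] [Module A M'']

theorem T_injective [Module.Finite A M] (f : M' →ₗ[A] M) (hf : Function.Injective f) :
    Function.Injective (map I (LinearMap.rTensor N f)) := by
  obtain ⟨k, hk⟩ := exists_AR N I f
  exact map_injective' (Module.Flat.rTensor_preserves_injective_linearMap f hf) k hk

theorem T_exact [Module.Finite A M] (f : M' →ₗ[A] M) (g : M →ₗ[A] M'')
    (hf : Function.Injective f) (hfg : Function.Exact f g) (hg : Function.Surjective g) :
    Function.Exact (map I (LinearMap.rTensor N f)) (map I (LinearMap.rTensor N g)) := by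
  obtain ⟨k, hk⟩ := exists_AR N I f
  exact map_exact' (Module.Flat.rTensor_preserves_injective_linearMap f hf)
    (rTensor_exact N hfg hg) (LinearMap.rTensor_surjective N hg) k hk

omit [IsNoetherianRing A] [Module.Flat A N] in
theorem T_surjective (g : M →ₗ[A] M'') (hg : Function.Surjective g) :
    Function.Surjective (map I (LinearMap.rTensor N g)) :=
  AdicCompletion.map_surjective I (LinearMap.rTensor_surjective N hg)

end T

section Main

variable [IsNoetherianRing A] [Module.Flat A N]

theorem cmap_surjective_of_cyclic (M : Type u) [AddCommGroup M] [Module A M] (p : A →ₗ[A] M)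
    (hp : Function.Surjective p) : Function.Surjective (cmap I N M) := by
  have h : (cmap I N M) ∘ (LinearMap.rTensor (AdicCompletion I N) p) =
      (map I (LinearMap.rTensor N p)) ∘ (cmap I N A) :=
    funext (fun z => (cmap_naturality_apply I N p z).symm)
  have hs : Function.Surjective ((map I (LinearMap.rTensor N p)) ∘ (cmap I N A)) :=
    (T_surjective I N p hp).comp (cmap_self_bijective I N).2
  rw [← h] at hs
  exact Function.Surjective.of_comp hs

theorem cmap_surjective (M : Type u) [AddCommGroup M] [Module A M] [Module.Finite A M] :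
    Function.Surjective (cmap I N M) := by
  have hcyc : ∀ (M : Type u) [AddCommGroup M] [Module A M] (p : A →ₗ[A] M),
      Function.Surjective p → Function.Surjective (cmap I N M) :=
    fun M _ _ p hp => cmap_surjective_of_cyclic I N M p hp
  have hext : ∀ (M : Type u) [AddCommGroup M] [Module A M] [Module.Finite A M]
      (M₁ : Submodule A M), Function.Surjective (cmap I N M₁) →
        Function.Surjective (cmap I N (M ⧸ M₁)) → Function.Surjective (cmap I N M) := by
    intro M _ _ _ M₁ h1 h2 y
    obtain ⟨w, hw⟩ := h2 (map I (LinearMap.rTensor N M₁.mkQ) y)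
    obtain ⟨w', rfl⟩ := LinearMap.rTensor_surjective (AdicCompletion I N) M₁.mkQ_surjective w
    have hker : map I (LinearMap.rTensor N M₁.mkQ) (y - cmap I N M w') = 0 := by
      rw [_root_.map_sub, cmap_naturality_apply, hw, sub_self]
    have hex := T_exact I N M₁.subtype M₁.mkQ (Submodule.injective_subtype _)
      (LinearMap.exact_subtype_mkQ M₁) M₁.mkQ_surjective
    obtain ⟨t, ht⟩ := (hex _).1 hker
    obtain ⟨v, rfl⟩ := h1 t
    refine ⟨w' + LinearMap.rTensor (AdicCompletion I N) M₁.subtype v, ?_⟩
    rw [_root_.map_add, ← cmap_naturality_apply, ht]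
    abel
  exact finite_induction (fun M [AddCommGroup M] [Module A M] =>
    Function.Surjective (cmap I N M)) hcyc hext M

theorem cmap_injective_of_cyclic (M : Type u) [AddCommGroup M] [Module A M] (p : A →ₗ[A] M)
    (hp : Function.Surjective p) : Function.Injective (cmap I N M) := by
  rw [injective_iff_map_eq_zero]
  intro x hx
  obtain ⟨x', rfl⟩ := LinearMap.rTensor_surjective (AdicCompletion I N) hp x
  have h1 : map I (LinearMap.rTensor N p) (cmap I N A x') = 0 := by
    rw [cmap_naturality_apply]
    exact hx
  have hex := T_exact I N (LinearMap.ker p).subtype p (Submodule.injective_subtype _)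
    (LinearMap.exact_subtype_ker_map p) hp
  obtain ⟨t, ht⟩ := (hex _).1 h1
  obtain ⟨v, rfl⟩ := cmap_surjective I N (LinearMap.ker p) t
  rw [cmap_naturality_apply] at ht
  have h2 : LinearMap.rTensor (AdicCompletion I N) (LinearMap.ker p).subtype v = x' :=
    (cmap_self_bijective I N).1 ht
  rw [← h2, ← LinearMap.comp_apply, ← LinearMap.rTensor_comp]
  have : p ∘ₗ (LinearMap.ker p).subtype = 0 := LinearMap.comp_ker_subtype p
  rw [this, LinearMap.rTensor_zero, LinearMap.zero_apply]

theorem cmap_injective (M : Type u) [AddCommGroup M] [Module A M] [Module.Finite A M] :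
    Function.Injective (cmap I N M) := by
  have hcyc : ∀ (M : Type u) [AddCommGroup M] [Module A M] (p : A →ₗ[A] M),
      Function.Surjective p → Function.Injective (cmap I N M) :=
    fun M _ _ p hp => cmap_injective_of_cyclic I N M p hp
  have hext : ∀ (M : Type u) [AddCommGroup M] [Module A M] [Module.Finite A M]
      (M₁ : Submodule A M), Function.Injective (cmap I N M₁) →
        Function.Injective (cmap I N (M ⧸ M₁)) → Function.Injective (cmap I N M) := by
    intro M _ _ _ M₁ h1 h2
    rw [injective_iff_map_eq_zero]
    intro x hx
    have h3 : LinearMap.rTensor (AdicCompletion I N) M₁.mkQ x = 0 := by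
      apply h2
      rw [← cmap_naturality_apply, hx, _root_.map_zero, _root_.map_zero]
    have hexU : Function.Exact (LinearMap.rTensor (AdicCompletion I N) M₁.subtype)
        (LinearMap.rTensor (AdicCompletion I N) M₁.mkQ) :=
      rTensor_exact (AdicCompletion I N) (LinearMap.exact_subtype_mkQ M₁) M₁.mkQ_surjective
    obtain ⟨v, rfl⟩ := (hexU x).1 h3
    rw [← cmap_naturality_apply] at hx
    have h4 : cmap I N M₁ v = 0 := by
      apply T_injective I N M₁.subtype (Submodule.injective_subtype _)
      rw [hx, _root_.map_zero]
    have h5 : v = 0 := by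
      apply h1
      rw [h4, _root_.map_zero]
    rw [h5, _root_.map_zero]
  exact finite_induction (fun M [AddCommGroup M] [Module A M] =>
    Function.Injective (cmap I N M)) hcyc hext M

theorem cmap_bijective (M : Type u) [AddCommGroup M] [Module A M] [Module.Finite A M] :
    Function.Bijective (cmap I N M) :=
  ⟨cmap_injective I N M, cmap_surjective I N M⟩

/-- the completion of a flat module over a Noetherian ring is flat -/
theorem flat_adicCompletion : Module.Flat A (AdicCompletion I N) := by
  rw [Module.Flat.iff_rTensor_injective']
  intro J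
  have h : (cmap I N A) ∘ (LinearMap.rTensor (AdicCompletion I N) J.subtype) =
      (map I (LinearMap.rTensor N J.subtype)) ∘ (cmap I N J) :=
    funext fun z => (cmap_naturality_apply I N _ z).symm
  have hinj : Function.Injective ((map I (LinearMap.rTensor N J.subtype)) ∘ (cmap I N J)) :=
    (T_injective I N J.subtype (Submodule.injective_subtype _)).comp (cmap_bijective I N J).1
  rw [← h] at hinj
  exact Function.Injective.of_comp hinj

end Main

end Groth.Agent.Lib.Helper88.ComplFlat4
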