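import Mathlib

/-!
# Algebra for S7060: `A → Â` and tensoring with modules killed by `I`
-/

set_option autoImplicit false
universe u

namespace Groth.Agent.Lib.Helper88.DCompAlg1

open TensorProduct

variable {A : Type u} [CommRing A] (I : Ideal A)

/-- a module killed by `I` is `I`-adically complete -/
theorem isAdicComplete_of_killed (N : Type u) [AddCommGroup N] [Module A N]
    (h : ∀ a ∈ I, ∀ x : N, a • x = 0) : IsAdicComplete I N := by
  have h1 : ∀ n : ℕ, 1 ≤ n → (I ^ n • ⊤ : Submodule A N) = ⊥ := by
    intro n hn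
    rw [eq_bot_iff]
    have h2 : (I ^ n • ⊤ : Submodule A N) ≤ I ^ 1 • ⊤ :=
      Submodule.smul_mono (Ideal.pow_le_pow_right hn) le_rfl
    refine h2.trans ?_
    rw [pow_one, Submodule.smul_le]
    intro r hr x _
    rw [h r hr x]
    exact Submodule.zero_mem _
  haveI : IsHausdorff I N := by
    constructor
    intro x hx
    have := hx 1
    rw [SModEq.sub_mem, h1 1 le_rfl, Submodule.mem_bot, sub_zero] at this
    exact this
  haveI : IsPrecomplete I N := by
    constructor
    intro f hf
    refine ⟨f 1, fun n => ?_⟩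
    rcases Nat.eq_zero_or_pos n with rfl | hn
    · rw [SModEq.sub_mem, pow_zero, Ideal.one_eq_top, Submodule.top_smul]
      exact Submodule.mem_top
    · have := hf (m := 1) (n := n) hn
      rw [SModEq.sub_mem, h1 1 le_rfl, Submodule.mem_bot, sub_eq_zero] at this
      rw [this]
  exact {}

variable [IsNoetherianRing A]

/-- `N ⊗ Â ≃ N` for a finite module `N` killed by `I` -/
noncomputable def chainEquiv (N : Type u) [AddCommGroup N] [Module A N] [Module.Finite A N]
    (h : ∀ a ∈ I, ∀ x : N, a • x = 0) : N ⊗[A] AdicCompletion I A ≃ₗ[A] N :=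
  haveI := isAdicComplete_of_killed I N h
  (TensorProduct.comm A N (AdicCompletion I A)).trans
    (((AdicCompletion.ofTensorProductEquivOfFiniteNoetherian I N).restrictScalars A).trans
      (AdicCompletion.ofLinearEquiv I N).symm)

theorem chainEquiv_tmul_one (N : Type u) [AddCommGroup N] [Module A N] [Module.Finite A N]
    (h : ∀ a ∈ I, ∀ x : N, a • x = 0) (q : N) :
    chainEquiv I N h (q ⊗ₜ[A] (1 : AdicCompletion I A)) = q := by
  haveI := isAdicComplete_of_killed I N h
  unfold chainEquiv
  simp only [LinearEquiv.trans_apply, TensorProduct.comm_tmul, LinearEquiv.restrictScalars_apply,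
    AdicCompletion.ofTensorProductEquivOfFiniteNoetherian_apply,
    AdicCompletion.ofTensorProduct_tmul, one_smul]
  exact AdicCompletion.ofLinearEquiv_symm_of I q

/-- the map `N ⊗ X → N ⊗ (Â ⊗ X)`, `q ⊗ x ↦ q ⊗ (1 ⊗ x)` is bijective for `N` finite and killed
by `I` -/
theorem bijective_lTensor_mk (N : Type u) [AddCommGroup N] [Module A N] [Module.Finite A N]
    (h : ∀ a ∈ I, ∀ x : N, a • x = 0) (X : Type u) [AddCommGroup X] [Module A X] :
    Function.Bijective
      (LinearMap.lTensor N (TensorProduct.mk A (AdicCompletion I A) X 1)) := by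
  let θ : N ⊗[A] (AdicCompletion I A ⊗[A] X) ≃ₗ[A] N ⊗[A] X :=
    (TensorProduct.assoc A N (AdicCompletion I A) X).symm.trans
      (LinearEquiv.rTensor X (chainEquiv I N h))
  have hcomp : θ.toLinearMap ∘ₗ
      (LinearMap.lTensor N (TensorProduct.mk A (AdicCompletion I A) X 1)) = LinearMap.id := by
    apply TensorProduct.ext'
    intro q x
    simp only [LinearMap.coe_comp, LinearEquiv.coe_coe, Function.comp_apply,
      LinearMap.lTensor_tmul, TensorProduct.mk_apply, LinearMap.id_coe, id_eq, θ,
      LinearEquiv.trans_apply, TensorProduct.assoc_symm_tmul, LinearEquiv.rTensor_tmul,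
      chainEquiv_tmul_one]
  have hb : Function.Bijective (θ ∘ (LinearMap.lTensor N
      (TensorProduct.mk A (AdicCompletion I A) X 1))) := by
    have : (θ ∘ (LinearMap.lTensor N (TensorProduct.mk A (AdicCompletion I A) X 1))) = id := by
      funext t
      exact LinearMap.congr_fun hcomp t
    rw [this]
    exact Function.bijective_id
  exact (Function.Bijective.of_comp_iff' θ.bijective _).1 hb

end Groth.Agent.Lib.Helper88.DCompAlg1
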