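import Mathlib

/-!
# Homology and a natural transformation `𝟭 ⟶ G` with `G` homology-preserving
-/

set_option autoImplicit false
universe u

namespace Groth.Agent.Lib.Helper88.DCompAlg2

open CategoryTheory Limits

section General

variable {C : Type*} [Category C] [Abelian C] (G : C ⥤ C) [G.Additive] [G.PreservesHomology]
  (ν : 𝟭 C ⟶ G)

/-- the morphism of short complexes `S ⟶ S.map G` -/
@[simps]
def scMap (S : ShortComplex C) : S ⟶ S.map G where
  τ₁ := ν.app S.X₁
  τ₂ := ν.app S.X₂
  τ₃ := ν.app S.X₃
  comm₁₂ := (ν.naturality S.f).symm
  comm₂₃ := (ν.naturality S.g).symm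

/-- `(S.map G).homology ≅ G.obj S.homology` -/
noncomputable def alpha (S : ShortComplex C) : (S.map G).homology ≅ G.obj S.homology :=
  (S.homologyData.left.map G).homologyIso ≪≫ G.mapIso S.homologyData.left.homologyIso.symm

/-- left homology map data for `scMap` -/
noncomputable def mapData (S : ShortComplex C) (h : S.LeftHomologyData) :
    ShortComplex.LeftHomologyMapData (scMap G ν S) h (h.map G) where
  φK := ν.app h.K
  φH := ν.app h.H
  commi := (ν.naturality h.i).symm
  commf' := by
    rw [ShortComplex.LeftHomologyData.map_f']
    exact ν.naturality h.f'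
  commπ := ν.naturality h.π

theorem homologyMap_scMap (S : ShortComplex C) :
    ShortComplex.homologyMap (scMap G ν S) ≫ (alpha G S).hom = ν.app S.homology := by
  have h1 := (mapData G ν S S.homologyData.left).homologyMap_comm
  have h2 : S.homologyData.left.homologyIso.inv ≫ ν.app S.homology =
      ν.app S.homologyData.left.H ≫ G.map S.homologyData.left.homologyIso.inv :=
    ν.naturality S.homologyData.left.homologyIso.inv
  calc ShortComplex.homologyMap (scMap G ν S) ≫ (alpha G S).hom
      = (ShortComplex.homologyMap (scMap G ν S) ≫
          (S.homologyData.left.map G).homologyIso.hom) ≫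
            G.map S.homologyData.left.homologyIso.inv := (Category.assoc _ _ _).symm
    _ = (S.homologyData.left.homologyIso.hom ≫ ν.app S.homologyData.left.H) ≫
            G.map S.homologyData.left.homologyIso.inv :=
        congrArg (fun t => t ≫ G.map S.homologyData.left.homologyIso.inv) h1
    _ = S.homologyData.left.homologyIso.hom ≫ (ν.app S.homologyData.left.H ≫
            G.map S.homologyData.left.homologyIso.inv) := Category.assoc _ _ _
    _ = S.homologyData.left.homologyIso.hom ≫
          (S.homologyData.left.homologyIso.inv ≫ ν.app S.homology) :=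
        congrArg (fun t => S.homologyData.left.homologyIso.hom ≫ t) h2.symm
    _ = ν.app S.homology := Iso.hom_inv_id_assoc _ _

end General

end Groth.Agent.Lib.Helper88.DCompAlg2
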