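import Groth.Agent.Lib.Helper88.DCompRefl2

/-!
# The map `P ⟶ B ⊗ P` for a flat module `B` with a distinguished element (towards S7060)
-/

set_option autoImplicit false
universe u

open CategoryTheory CategoryTheory.Limits DerivedCategory
open MonoidalCategory

attribute [local instance] HasDerivedCategory.standard

namespace Groth.Agent.Lib.Helper88.DCompEta

open Groth.Agent.Lib.Helper25.TensorCx
open Groth.Agent.Lib.Helper84.TensCx Groth.Agent.Lib.Helper84
open Groth.Agent.Lib.Helper88.DCompAlg2

variable {A : Type u} [CommRing A] (B : ModuleCat.{u} A) (b : B)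

/-- `ν : 𝟭 ⟶ B ⊗ -`, `x ↦ b ⊗ x` -/
noncomputable def nu : 𝟭 (ModuleCat.{u} A) ⟶ tensorLeft B where
  app X := ModuleCat.ofHom (TensorProduct.mk A B X b)
  naturality X Y f := by
    ext x
    rfl

theorem nu_app_apply (X : ModuleCat.{u} A) (x : X) :
    ((nu B b).app X).hom x = b ⊗ₜ[A] x := rfl

/-- `η_P : P ⟶ B ⊗ P` -/
noncomputable def eta (P : Cx A) : P ⟶ (tens B).obj P where
  f n := (nu B b).app (P.X n)
  comm' i j _ := ((nu B b).naturality (P.d i j)).symm

theorem eta_naturality {P P' : Cx A} (g : P ⟶ P') :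
    g ≫ eta B b P' = eta B b P ≫ (tens B).map g := by
  apply HomologicalComplex.hom_ext
  intro n
  exact (nu B b).naturality (g.f n)

variable [Module.Flat A B]

/-- `H^i(B ⊗ P) ≅ B ⊗ H^i(P)` for flat `B` -/
noncomputable def alphaCx (P : Cx A) (i : ℤ) :
    ((tens B).obj P).homology i ≅ (tensorLeft B).obj (P.homology i) :=
  alpha (tensorLeft B) (P.sc i)

theorem homologyMap_eta (P : Cx A) (i : ℤ) :
    HomologicalComplex.homologyMap (eta B b P) i ≫ (alphaCx B P i).hom =
      (nu B b).app (P.homology i) :=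
  homologyMap_scMap (tensorLeft B) (nu B b) (P.sc i)

omit [Module.Flat A B] in
theorem isIso_of_bijective {X Y : ModuleCat.{u} A} (f : X ⟶ Y)
    (h : Function.Bijective f.hom) : IsIso f := by
  have : f = (LinearEquiv.ofBijective f.hom h).toModuleIso.hom := by
    ext x
    rfl
  rw [this]
  infer_instance

end Groth.Agent.Lib.Helper88.DCompEta
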