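import Mathlib
import Groth.Agent.Lib.Helper88.ComplFlat4
import Groth.Agent.Lib.Helper88.DCompAlg1

/-!
# Module-level facts for S7061
-/

set_option autoImplicit false
universe u

namespace Groth.Agent.Lib.Helper88.DCompFlat1

open TensorProduct AdicCompletion
open Groth.Agent.Lib.Helper88.ComplFlat3 Groth.Agent.Lib.Helper88.ComplFlat4
open Groth.Agent.Lib.Helper88.DCompAlg1

variable {A : Type u} [CommRing A] [IsNoetherianRing A] (I : Ideal A)
  (N : Type u) [AddCommGroup N] [Module A N] [Module.Flat A N]

/-- `Q ⊗ N → Q ⊗ N^` is bijective for a finite module `Q` killed by `I` -/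
theorem bijective_lTensor_of (Q : Type u) [AddCommGroup Q] [Module A Q] [Module.Finite A Q]
    (hQ : ∀ a ∈ I, ∀ x : Q, a • x = 0) :
    Function.Bijective (LinearMap.lTensor Q (AdicCompletion.of I N)) := by
  have hk : ∀ a ∈ I, ∀ t : Q ⊗[A] N, a • t = 0 := by
    intro a ha t
    induction t using TensorProduct.induction_on with
    | zero => exact smul_zero a
    | tmul q n => rw [TensorProduct.smul_tmul', hQ a ha q, TensorProduct.zero_tmul]
    | add t t' ht ht' => rw [smul_add, ht, ht', add_zero]
  haveI := isAdicComplete_of_killed I (Q ⊗[A] N) hk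
  have hcomp : (cmap I N Q) ∘ (LinearMap.lTensor Q (AdicCompletion.of I N)) =
      AdicCompletion.of I (Q ⊗[A] N) := by
    funext t
    induction t using TensorProduct.induction_on with
    | zero => simp
    | tmul q n =>
      simp only [Function.comp_apply, LinearMap.lTensor_tmul]
      exact cmap_tmul_of I N Q q n
    | add t t' ht ht' =>
      simp only [Function.comp_apply] at ht ht' ⊢
      rw [_root_.map_add, _root_.map_add, ht, ht', _root_.map_add]
  have hb : Function.Bijective ((cmap I N Q) ∘ (LinearMap.lTensor Q (AdicCompletion.of I N))) := by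
    rw [hcomp]
    exact AdicCompletion.of_bijective I (Q ⊗[A] N)
  exact (Function.Bijective.of_comp_iff' (cmap_bijective I N Q) _).1 hb

/-- `Q ⊗ (N ⊗ X) → Q ⊗ (N^ ⊗ X)` is bijective for a finite module `Q` killed by `I` -/
theorem bijective_lTensor_rTensor_of (Q : Type u) [AddCommGroup Q] [Module A Q]
    [Module.Finite A Q] (hQ : ∀ a ∈ I, ∀ x : Q, a • x = 0)
    (X : Type u) [AddCommGroup X] [Module A X] :
    Function.Bijective
      (LinearMap.lTensor Q (LinearMap.rTensor X (AdicCompletion.of I N))) := by
  let h0 : Q ⊗[A] N ≃ₗ[A] Q ⊗[A] AdicCompletion I N :=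
    LinearEquiv.ofBijective _ (bijective_lTensor_of I N Q hQ)
  let θ₀ := TensorProduct.assoc A Q N X
  let θ := TensorProduct.assoc A Q (AdicCompletion I N) X
  have hcomp : (LinearMap.lTensor Q (LinearMap.rTensor X (AdicCompletion.of I N))) ∘ₗ
      θ₀.toLinearMap = θ.toLinearMap ∘ₗ (LinearMap.rTensor X h0.toLinearMap) := by
    apply TensorProduct.ext_threefold
    intro q n x
    rfl
  have hb : Function.Bijective
      ((LinearMap.lTensor Q (LinearMap.rTensor X (AdicCompletion.of I N))) ∘ θ₀) := by
    have : ((LinearMap.lTensor Q (LinearMap.rTensor X (AdicCompletion.of I N))) ∘ θ₀) =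
        θ ∘ (LinearEquiv.rTensor X h0) := by
      funext t
      exact LinearMap.congr_fun hcomp t
    rw [this]
    exact θ.bijective.comp (LinearEquiv.rTensor X h0).bijective
  exact (Function.Bijective.of_comp_iff _ θ₀.bijective).1 hb

variable (M : Type u) [AddCommGroup M] [Module A M] [Module.Finite A M]

/-- `N^ ⊗ M ≃ (M ⊗ N)^` -/
noncomputable def beta2 : AdicCompletion I N ⊗[A] M ≃ₗ[A] AdicCompletion I (M ⊗[A] N) :=
  (TensorProduct.comm A (AdicCompletion I N) M).trans
    (LinearEquiv.ofBijective (cmap I N M) (cmap_bijective I N M))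

theorem beta2_of_tmul (n : N) (m : M) :
    beta2 I N M (AdicCompletion.of I N n ⊗ₜ[A] m) = AdicCompletion.of I (M ⊗[A] N) (m ⊗ₜ[A] n) := by
  unfold beta2
  simp only [LinearEquiv.trans_apply, TensorProduct.comm_tmul, LinearEquiv.ofBijective_apply]
  exact cmap_tmul_of I N M m n

end Groth.Agent.Lib.Helper88.DCompFlat1
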