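import Groth.Agent.Lib.Helper88.DCompRefl3
import Groth.Agent.Lib.Helper88.DCompFlat1

/-!
# Complex-level constructions for S7061
-/

set_option autoImplicit false
universe u

open CategoryTheory CategoryTheory.Limits CategoryTheory.Pretriangulated DerivedCategory
open MonoidalCategory

attribute [local instance] HasDerivedCategory.standard

namespace Groth.Agent.Lib.Helper88.DCompFlat2

open Groth.Agent.Lib.Helper25.TensorCx Groth.Agent.Lib.Helper25.KFlat
open Groth.Agent.Lib.Helper25.SingleTensor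
open Groth.Agent.Lib.Helper84.TensCx Groth.Agent.Lib.Helper84
open Groth.Agent.Lib.Helper88.DCompEta

variable {A : Type u} [CommRing A]

section Tau

variable {X Y : ModuleCat.{u} A} (ν : X ⟶ Y)

/-- the natural transformation `X ⊗ - ⟶ Y ⊗ -` induced by `ν : X ⟶ Y` -/
noncomputable def tau : tensorLeft X ⟶ tensorLeft Y where
  app Z := ν ▷ Z
  naturality Z Z' f := whisker_exchange ν f

/-- `κ_K : X ⊗ K ⟶ Y ⊗ K` on complexes -/
noncomputable def kappa (K : Cx A) : (tens X).obj K ⟶ (tens Y).obj K :=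
  (NatTrans.mapHomologicalComplex (tau ν) (ComplexShape.up ℤ)).app K

theorem kappa_f (K : Cx A) (j : ℤ) : (kappa ν K).f j = ν ▷ K.X j := rfl

theorem kappa_naturality {K L : Cx A} (f : K ⟶ L) :
    (tens X).map f ≫ kappa ν L = kappa ν K ≫ (tens Y).map f :=
  (NatTrans.mapHomologicalComplex (tau ν) (ComplexShape.up ℤ)).naturality f

end Tau

theorem sq_aux {C : Type*} [Category C] {Z0 Z1 Z2 Z3 Z4 Z5 : C} (p : Z0 ⟶ Z1) (q : Z1 ⟶ Z2)
    (t : Z2 ⟶ Z3) (p' : Z0 ⟶ Z4) (e : Z4 ≅ Z5) (q' : Z4 ⟶ Z2) (h : p ≫ q = p' ≫ q') :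
    p ≫ q ≫ t = (p' ≫ e.hom) ≫ e.inv ≫ q' ≫ t := by
  rw [Category.assoc, Iso.hom_inv_id_assoc, ← Category.assoc, h, Category.assoc]

section Sigma

variable (X : ModuleCat.{u} A) (M : ModuleCat.{u} A)

/-- `X ⊗ M[0] ≅ (X ⊗ M)[0]` -/
noncomputable def sigma : (tens X).obj (sgl M) ≅ sgl ((tensorLeft X).obj M) :=
  (HomologicalComplex.singleMapHomologicalComplex (tensorLeft X) (ComplexShape.up ℤ) 0).app M

theorem sigma_compat {X Y : ModuleCat.{u} A} (ν : X ⟶ Y) (M : ModuleCat.{u} A) :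
    kappa ν (sgl M) ≫ (sigma Y M).hom =
      (sigma X M).hom ≫
        (HomologicalComplex.single (ModuleCat.{u} A) (ComplexShape.up ℤ) 0).map (ν ▷ M) := by
  apply HomologicalComplex.to_single_hom_ext
  rw [HomologicalComplex.comp_f, HomologicalComplex.comp_f, kappa_f]
  unfold sigma
  rw [Iso.app_hom, Iso.app_hom, HomologicalComplex.singleMapHomologicalComplex_hom_app_self,
    HomologicalComplex.singleMapHomologicalComplex_hom_app_self,
    HomologicalComplex.single_map_f_self]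
  exact sq_aux (ν ▷ (sgl M).X 0)
    (Y ◁ (HomologicalComplex.singleObjXSelf (ComplexShape.up ℤ) 0 M).hom)
    (HomologicalComplex.singleObjXSelf (ComplexShape.up ℤ) 0 ((tensorLeft Y).obj M)).inv
    (X ◁ (HomologicalComplex.singleObjXSelf (ComplexShape.up ℤ) 0 M).hom)
    (HomologicalComplex.singleObjXSelf (ComplexShape.up ℤ) 0 ((tensorLeft X).obj M)).symm
    (ν ▷ M) (whisker_exchange ν _).symm

end Sigma

end Groth.Agent.Lib.Helper88.DCompFlat2
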