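import Groth.Agent.Lib.Helper88.DCompFlat2

/-!
# `(M ⊗ N)[0] → (M ⊗ N)^[0]` is the derived completion (S7061)
-/

set_option autoImplicit false
universe u

open CategoryTheory CategoryTheory.Limits CategoryTheory.Pretriangulated DerivedCategory
open MonoidalCategory TensorProduct

attribute [local instance] HasDerivedCategory.standard

namespace Groth.Agent.Lib.Helper88.DCompFlat3

open Groth.Agent.Lib.Helper25.TensorCx Groth.Agent.Lib.Helper25.KFlat
open Groth.Agent.Lib.Helper25.DCompRefl Groth.Agent.Lib.Helper25.DCompAmp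
open Groth.Agent.Lib.Helper25.DerAdj Groth.Agent.Lib.Helper25.SingleTensor
open Groth.Agent.Lib.Helper25.DCompTensor
open Groth.Agent.Lib.Helper84.DComp Groth.Agent.Lib.Helper84.DCompAlg
open Groth.Agent.Lib.Helper84.TensCx Groth.Agent.Lib.Helper84
open Groth.Agent.Lib.Helper88.DCompEta Groth.Agent.Lib.Helper88.DCompRefl3
open Groth.Agent.Lib.Helper88.DCompFlat1 Groth.Agent.Lib.Helper88.DCompFlat2
open Groth.Agent.Lib.Helper88.ComplFlat4 Groth.Agent.Lib.Helper88.DCompMain

variable {A : Type u} [CommRing A] [IsNoetherianRing A] (I : Ideal A)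
  [DRing.HasDerivedCompletion I]
  (M N : Type u) [AddCommGroup M] [Module A M] [Module.Finite A M]
  [AddCommGroup N] [Module A N] [Module.Flat A N]

omit [IsNoetherianRing A] in
theorem sq3 {C : Type*} [Category C] {Z0 Z1 Z2 Z3 Z4 Z5 Z6 Z7 : C}
    (a : Z0 ⟶ Z1) (b : Z1 ⟶ Z2) (β₂ : Z2 ⟶ Z3) (i₂ : Z3 ⟶ Z4)
    (a' : Z0 ⟶ Z5) (β₁ : Z5 ⟶ Z6) (i₁ : Z6 ⟶ Z7) (c : Z7 ⟶ Z4)
    (τ : Z5 ⟶ Z2) (o : Z6 ⟶ Z3)
    (t1 : a ≫ b = a' ≫ τ) (t2 : τ ≫ β₂ = β₁ ≫ o) (t3 : o ≫ i₂ = i₁ ≫ c) :
    a ≫ b ≫ β₂ ≫ i₂ = (a' ≫ β₁ ≫ i₁) ≫ c := by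
  rw [← Category.assoc, t1, Category.assoc, ← Category.assoc τ, t2, Category.assoc, t3]
  simp only [Category.assoc]

theorem isRefl_single_of :
    IsRefl (DRing.IsDerivedComplete I)
      ((DerivedCategory.singleFunctor (ModuleCat.{u} A) 0).map
        (ModuleCat.ofHom (AdicCompletion.of I (M ⊗[A] N)))) := by
  classical
  have hIfg : I.FG := (isNoetherianRing_iff_ideal_fg A).1 inferInstance I
  let Nm : ModuleCat.{u} A := ModuleCat.of A N
  let B : ModuleCat.{u} A := ModuleCat.of A (AdicCompletion I N)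
  let M' : ModuleCat.{u} A := ModuleCat.of A M
  let ν₁ : Nm ⟶ B := ModuleCat.ofHom (AdicCompletion.of I N)
  haveI hNflat : Module.Flat A Nm := inferInstanceAs (Module.Flat A N)
  haveI hBflat : Module.Flat A B := flat_adicCompletion I N
  -- a finite free resolution of `M`
  obtain ⟨F, c, hFc, hFf, ⟨eF⟩⟩ :=
    Groth.Agent.Lib.Helper43.FlatFPPC.isPseudoCoherentModule'_of_finite A M
  haveI : F.IsKProjective :=
    Groth.Agent.Lib.Helper54.LDerived.isKProjective_of_vanishesAbove F c hFc (fun i => by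
      haveI := (hFf i).2
      infer_instance)
  let eF' : Q.obj F ≅ Q.obj (sgl M') :=
    eF ≪≫ (DerivedCategory.singleFunctorIsoCompQ (ModuleCat.{u} A) 0).app M'
  obtain ⟨f, hf⟩ := exists_map_eq F (sgl M') eF'.hom
  have hfq : QuasiIso f := by
    rw [← isIso_Q_map_iff_quasiIso, hf]
    infer_instance
  -- flatness
  have hGf : DRing.TermwiseFlat ((tens Nm).obj F) := fun j => by
    haveI := (hFf j).2
    change Module.Flat A (N ⊗[A] F.X j)
    infer_instance
  have hYf : DRing.TermwiseFlat ((tens B).obj F) := fun j => by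
    haveI := (hFf j).2
    change Module.Flat A (AdicCompletion I N ⊗[A] F.X j)
    infer_instance
  have hGk : IsKFlat ((tens Nm).obj F) :=
    isKFlat_of_boundedAbove_of_flat _ c (fun q hq => (tensorLeft Nm).map_isZero (hFc q hq)) hGf
  have hYk : IsKFlat ((tens B).obj F) :=
    isKFlat_of_boundedAbove_of_flat _ c (fun q hq => (tensorLeft B).map_isZero (hFc q hq)) hYf
  -- derived completeness of `Y`
  have hYc : DRing.IsDerivedComplete I (Q.obj ((tens B).obj F)) := by
    apply isDerivedComplete_toD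
    intro g hg j
    haveI := (hFf j).1
    haveI := AdicCompletion.isAdicComplete (I := I) (M := F.X j ⊗[A] N) hIfg
    have h0 : SeqBij g (AdicCompletion I (F.X j ⊗[A] N)) := seqBij_of_isAdicComplete I _ hg
    exact seqBij_of_linearEquiv (beta2 I N (F.X j)).symm g h0
  -- `κ` is an isomorphism modulo `I`
  have hκq : QuasiIso ((tens (ModuleCat.of A (A ⧸ I))).map (kappa ν₁ F)) := by
    haveI : ∀ j, IsIso (((tens (ModuleCat.of A (A ⧸ I))).map (kappa ν₁ F)).f j) := by
      intro j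
      apply isIso_of_bijective
      exact bijective_lTensor_rTensor_of I N (A ⧸ I) (quot_killed I) (F.X j)
    haveI := HomologicalComplex.Hom.isIso_of_components
      ((tens (ModuleCat.of A (A ⧸ I))).map (kappa ν₁ F))
    infer_instance
  have hrefl := isRefl_of_kflat I _ hGk _ hYf hYk hYc (kappa ν₁ F) hκq
  -- augmentations
  have hqN : QuasiIso ((tens Nm).map f) := inferInstance
  have hqB : QuasiIso ((tens B).map f) := inferInstance
  have haN : IsIso (Q.map ((tens Nm).map f ≫ (sigma Nm M').hom)) := by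
    rw [isIso_Q_map_iff_quasiIso]
    infer_instance
  have haB : IsIso (Q.map ((tens B).map f ≫ (sigma B M').hom)) := by
    rw [isIso_Q_map_iff_quasiIso]
    infer_instance
  have S1 : kappa ν₁ F ≫ ((tens B).map f ≫ (sigma B M').hom) =
      ((tens Nm).map f ≫ (sigma Nm M').hom) ≫
        (HomologicalComplex.single (ModuleCat.{u} A) (ComplexShape.up ℤ) 0).map (ν₁ ▷ M') := by
    rw [← Category.assoc, ← kappa_naturality, Category.assoc, sigma_compat, Category.assoc]
  let β₁ : (tensorLeft Nm).obj M' ≅ ModuleCat.of A (M ⊗[A] N) :=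
    (TensorProduct.comm A N M).toModuleIso
  let β₂ : (tensorLeft B).obj M' ≅ ModuleCat.of A (AdicCompletion I (M ⊗[A] N)) :=
    (beta2 I N M).toModuleIso
  have S2 : (ν₁ ▷ M') ≫ β₂.hom = β₁.hom ≫ ModuleCat.ofHom (AdicCompletion.of I (M ⊗[A] N)) := by
    apply ModuleCat.hom_ext
    apply TensorProduct.ext'
    intro n m
    exact beta2_of_tmul I N M n m
  let sg := HomologicalComplex.single (ModuleCat.{u} A) (ComplexShape.up ℤ) 0
  let eG : Q.obj ((tens Nm).obj F) ≅
      (DerivedCategory.singleFunctor (ModuleCat.{u} A) 0).obj (ModuleCat.of A (M ⊗[A] N)) :=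
    @asIso _ _ _ _ (Q.map ((tens Nm).map f ≫ (sigma Nm M').hom)) haN ≪≫
      Q.mapIso (sg.mapIso β₁) ≪≫
      ((DerivedCategory.singleFunctorIsoCompQ (ModuleCat.{u} A) 0).app _).symm
  let eY : Q.obj ((tens B).obj F) ≅
      (DerivedCategory.singleFunctor (ModuleCat.{u} A) 0).obj
        (ModuleCat.of A (AdicCompletion I (M ⊗[A] N))) :=
    @asIso _ _ _ _ (Q.map ((tens B).map f ≫ (sigma B M').hom)) haB ≪≫
      Q.mapIso (sg.mapIso β₂) ≪≫
      ((DerivedCategory.singleFunctorIsoCompQ (ModuleCat.{u} A) 0).app _).symm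
  refine isRefl_of_sq (Q.map (kappa ν₁ F)) _ eY eG ?_ hrefl
  have n1 := (DerivedCategory.singleFunctorIsoCompQ (ModuleCat.{u} A) 0).inv.naturality
    (ModuleCat.ofHom (AdicCompletion.of I (M ⊗[A] N)))
  change Q.map (kappa ν₁ F) ≫ Q.map ((tens B).map f ≫ (sigma B M').hom) ≫
      Q.map (sg.map β₂.hom) ≫
      (DerivedCategory.singleFunctorIsoCompQ (ModuleCat.{u} A) 0).inv.app _ =
    (Q.map ((tens Nm).map f ≫ (sigma Nm M').hom) ≫ Q.map (sg.map β₁.hom) ≫
      (DerivedCategory.singleFunctorIsoCompQ (ModuleCat.{u} A) 0).inv.app _) ≫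
      (DerivedCategory.singleFunctor (ModuleCat.{u} A) 0).map
        (ModuleCat.ofHom (AdicCompletion.of I (M ⊗[A] N)))
  have t1 : Q.map (kappa ν₁ F) ≫ Q.map ((tens B).map f ≫ (sigma B M').hom) =
      Q.map ((tens Nm).map f ≫ (sigma Nm M').hom) ≫ Q.map (sg.map (ν₁ ▷ M')) := by
    rw [← Functor.map_comp, S1, Functor.map_comp]
  have t2 : Q.map (sg.map (ν₁ ▷ M')) ≫ Q.map (sg.map β₂.hom) =
      Q.map (sg.map β₁.hom) ≫
        Q.map (sg.map (ModuleCat.ofHom (AdicCompletion.of I (M ⊗[A] N)))) := by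
    rw [← Functor.map_comp, ← Functor.map_comp, S2, Functor.map_comp, Functor.map_comp]
  exact sq3 _ _ _ _ _ _ _ _ _ _ t1 t2 n1

end Groth.Agent.Lib.Helper88.DCompFlat3
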