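import Groth.Agent.Lib.Helper88.DCompEta
import Groth.Agent.Lib.Helper25.LTenCompute
import Groth.Agent.Lib.Helper25.DCompSingle2

/-!
# Derived completion of complexes with finite cohomology over a Noetherian ring (S7060)
-/

set_option autoImplicit false
universe u

open CategoryTheory CategoryTheory.Limits CategoryTheory.Pretriangulated DerivedCategory
open MonoidalCategory

attribute [local instance] HasDerivedCategory.standard

namespace Groth.Agent.Lib.Helper88.DCompMain

open Groth.Agent.Lib.Helper25.TensorCx Groth.Agent.Lib.Helper25.KFlat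
open Groth.Agent.Lib.Helper25.DCompRefl Groth.Agent.Lib.Helper25.DCompAmp
open Groth.Agent.Lib.Helper25.DerAdj Groth.Agent.Lib.Helper25.SingleTensor
open Groth.Agent.Lib.Helper25.DCompTensor Groth.Agent.Lib.Helper25.DNak
open Groth.Agent.Lib.Helper25.LTenCompute Groth.Agent.Lib.Helper25.DCompSingle
open Groth.Agent.Lib.Helper84.DComp Groth.Agent.Lib.Helper84.DCompAlg
open Groth.Agent.Lib.Helper84.TensCx Groth.Agent.Lib.Helper84
open Groth.Agent.Lib.Helper88.DCompNak Groth.Agent.Lib.Helper88.DCompRefl2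
open Groth.Agent.Lib.Helper88.DCompEta Groth.Agent.Lib.Helper88.DCompAlg1
open Groth.Agent.Lib.Helper15

variable {A : Type u} [CommRing A] [IsNoetherianRing A] (I : Ideal A)

/-- the `I`-adic completion of `A` as an object of `ModuleCat A` -/
noncomputable abbrev Ahat : ModuleCat.{u} A := ModuleCat.of A (AdicCompletion I A)

instance : Module.Flat A (Ahat I) := AdicCompletion.flat_of_isNoetherian I

theorem quot_killed : ∀ a ∈ I, ∀ x : A ⧸ I, a • x = 0 := by
  intro a ha x
  obtain ⟨y, rfl⟩ := Ideal.Quotient.mk_surjective x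
  rw [← Ideal.Quotient.mk_eq_mk, ← Submodule.Quotient.mk_smul]
  exact (Submodule.Quotient.mk_eq_zero _).2 (I.mul_mem_right y ha)

/-- `A/I ⊗ P → A/I ⊗ (Â ⊗ P)` is an isomorphism of complexes -/
theorem isIso_tens_eta (P : Cx A) :
    IsIso ((tens (ModuleCat.of A (A ⧸ I))).map (eta (Ahat I) (1 : AdicCompletion I A) P)) := by
  haveI : ∀ n, IsIso (((tens (ModuleCat.of A (A ⧸ I))).map
      (eta (Ahat I) (1 : AdicCompletion I A) P)).f n) := by
    intro n
    apply isIso_of_bijective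
    exact bijective_lTensor_mk I (A ⧸ I) (quot_killed I) (P.X n)
  exact HomologicalComplex.Hom.isIso_of_components _

/-- `Â ⊗ P` is derived complete when the cohomology of `P` is finite -/
theorem isDerivedComplete_tens_Ahat (P : Cx A) (hfin : ∀ i, Module.Finite A (P.homology i)) :
    DRing.IsDerivedComplete I (Q.obj ((tens (Ahat I)).obj P)) := by
  have hIfg : I.FG := (isNoetherianRing_iff_ideal_fg A).1 inferInstance I
  rw [isDerivedComplete_iff]
  intro f hf i
  haveI := hfin i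
  have e1 : Dual.HD A (Q.obj ((tens (Ahat I)).obj P)) i ≃ₗ[A]
      (((tens (Ahat I)).obj P).homology i : ModuleCat.{u} A) :=
    ((homologyFunctorFactors (ModuleCat.{u} A) i).app ((tens (Ahat I)).obj P)).toLinearEquiv
  have e2 : (((tens (Ahat I)).obj P).homology i : ModuleCat.{u} A) ≃ₗ[A]
      TensorProduct A (AdicCompletion I A) (P.homology i) :=
    (alphaCx (Ahat I) P i).toLinearEquiv
  have e3 : TensorProduct A (AdicCompletion I A) (P.homology i) ≃ₗ[A]
      AdicCompletion I (P.homology i) :=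
    (AdicCompletion.ofTensorProductEquivOfFiniteNoetherian I (P.homology i)).restrictScalars A
  haveI := AdicCompletion.isAdicComplete (I := I) (M := (P.homology i : ModuleCat.{u} A)) hIfg
  have h0 : SeqBij f (AdicCompletion I (P.homology i)) := seqBij_of_isAdicComplete I _ hf
  exact seqBij_of_linearEquiv (e1.trans (e2.trans e3)).symm f h0


omit [IsNoetherianRing A] in
theorem comp_aux {C : Type*} [Category C] {X0 X1 X2 X3 X4 X5 X6 Y1 Y2 : C}
    (a1 : X0 ⟶ X1) (a2 : X1 ⟶ X2) (a3 : X2 ⟶ X3) (a4 : X3 ⟶ X4) (a5 : X4 ⟶ X5) (a6 : X5 ⟶ X6)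
    (b1 : X0 ⟶ Y1) (b2 : Y1 ⟶ X3) (c1 : Y1 ⟶ Y2) (c2 : Y2 ⟶ X4) (d : Y2 ⟶ X5) (θ : Y2 ⟶ X0)
    (ν : X0 ⟶ X6)
    (t1 : a1 ≫ a2 ≫ a3 = b1 ≫ b2) (t2 : b2 ≫ a4 = c1 ≫ c2) (t3 : c2 ≫ a5 = d)
    (t4 : d ≫ a6 = θ ≫ ν) (t5 : b1 ≫ c1 ≫ θ = 𝟙 X0) :
    a1 ≫ a2 ≫ a3 ≫ a4 ≫ a5 ≫ a6 = ν := by
  calc a1 ≫ a2 ≫ a3 ≫ a4 ≫ a5 ≫ a6 = (a1 ≫ a2 ≫ a3) ≫ a4 ≫ a5 ≫ a6 := by
        simp only [Category.assoc]
    _ = (b1 ≫ b2) ≫ a4 ≫ a5 ≫ a6 := by rw [t1]
    _ = b1 ≫ (b2 ≫ a4) ≫ a5 ≫ a6 := by simp only [Category.assoc]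
    _ = b1 ≫ (c1 ≫ c2) ≫ a5 ≫ a6 := by rw [t2]
    _ = b1 ≫ c1 ≫ (c2 ≫ a5) ≫ a6 := by simp only [Category.assoc]
    _ = b1 ≫ c1 ≫ d ≫ a6 := by rw [t3]
    _ = b1 ≫ c1 ≫ θ ≫ ν := by rw [t4]
    _ = (b1 ≫ c1 ≫ θ) ≫ ν := by simp only [Category.assoc]
    _ = ν := by rw [t5, Category.id_comp]

theorem main7060 [DRing.HasDerivedCompletion I] (K : Dual.D A)
    (hK : ∀ n : ℤ, Module.Finite A (Dual.HD A K n)) (n : ℤ) :
    ∃ E : (homologyFunctor (ModuleCat.{u} A) n).obj ((DRing.derivedCompletion I).obj K).obj ≅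
        (tensorLeft (Ahat I)).obj ((homologyFunctor (ModuleCat.{u} A) n).obj K),
      (homologyFunctor (ModuleCat.{u} A) n).map (DRing.toDerivedCompletion I K) ≫ E.hom =
        (nu (Ahat I) (1 : AdicCompletion I A)).app
          ((homologyFunctor (ModuleCat.{u} A) n).obj K) := by
  classical
  obtain ⟨s, hs⟩ := (isNoetherianRing_iff_ideal_fg A).1 inferInstance I
  set Kc : Dual.D A := ((DRing.derivedCompletion I).obj K).obj with hKc
  set uK : K ⟶ Kc := DRing.toDerivedCompletion I K with huK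
  obtain ⟨P, π, hP, hπ, hPk, hPf, -⟩ :=
    KProjRes.exists_kprojective_resolution (Q.objPreimage K)
  obtain ⟨P', π', hP', hπ', hP'k, hP'f, -⟩ :=
    KProjRes.exists_kprojective_resolution (Q.objPreimage Kc)
  haveI := hP
  haveI := hP'
  have : IsIso (Q.map π) := by rw [isIso_Q_map_iff_quasiIso]; exact hπ
  have : IsIso (Q.map π') := by rw [isIso_Q_map_iff_quasiIso]; exact hπ'
  let eK : Q.obj P ≅ K := asIso (Q.map π) ≪≫ Q.objObjPreimageIso K
  let e' : Q.obj P' ≅ Kc := asIso (Q.map π') ≪≫ Q.objObjPreimageIso Kc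
  obtain ⟨u, hu⟩ := exists_map_eq P P' (eK.hom ≫ uK ≫ e'.inv)
  have hsq : uK ≫ e'.inv = eK.inv ≫ Q.map u := by
    rw [hu, Iso.inv_hom_id_assoc]
  have hrefl : IsRefl (DRing.IsDerivedComplete I) (Q.map u) :=
    isRefl_of_sq uK (Q.map u) e'.symm eK.symm hsq
      (isRefl_unit _ (DRing.derivedCompletionAdj I) K)
  -- the candidate
  have hfin : ∀ i, Module.Finite A (P.homology i) := by
    intro i
    haveI := hK i
    exact Module.Finite.equiv
      (((homologyFunctorFactors (ModuleCat.{u} A) i).app P).symm ≪≫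
        (homologyFunctor (ModuleCat.{u} A) i).mapIso eK).toLinearEquiv.symm
  have hYc : DRing.IsDerivedComplete I (Q.obj ((tens (Ahat I)).obj P)) :=
    isDerivedComplete_tens_Ahat I P hfin
  obtain ⟨ψ, hψ⟩ := (hrefl _ hYc).surjective (Q.map (eta (Ahat I) (1 : AdicCompletion I A) P))
  have hψ' : Q.map u ≫ ψ = Q.map (eta (Ahat I) (1 : AdicCompletion I A) P) := hψ
  obtain ⟨g, hg⟩ := exists_map_eq P' ((tens (Ahat I)).obj P) ψ
  -- `(tens N).map g` is a quasi-isomorphism
  have hq1 : QuasiIso ((tens (ModuleCat.of A (A ⧸ I))).map u) :=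
    quasiIso_tens_quot_of_isRefl I P P' hPk hP'k u hrefl
  have hq2 : QuasiIso ((tens (ModuleCat.of A (A ⧸ I))).map
      (eta (Ahat I) (1 : AdicCompletion I A) P)) := by
    haveI := isIso_tens_eta I P
    infer_instance
  have hhom : Nonempty (Homotopy (u ≫ g - eta (Ahat I) (1 : AdicCompletion I A) P) 0) := by
    rw [← Qmap_eq_zero_iff, Functor.map_sub, Functor.map_comp, hg, hψ', sub_self]
  obtain ⟨h⟩ := hhom
  have hq3 : QuasiIso ((tens (ModuleCat.of A (A ⧸ I))).map (u ≫ g)) := by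
    have heq : Q.map ((tens (ModuleCat.of A (A ⧸ I))).map (u ≫ g)) =
        Q.map ((tens (ModuleCat.of A (A ⧸ I))).map
          (eta (Ahat I) (1 : AdicCompletion I A) P)) := by
      have h' := (tensorLeft (ModuleCat.of A (A ⧸ I))).mapHomotopy h
      have h'' := DerivedCategory.Q_map_eq_of_homotopy _ h'
      rw [Functor.map_sub, Functor.map_zero, Functor.map_sub, Functor.map_zero] at h''
      exact sub_eq_zero.1 h''
    rw [← isIso_Q_map_iff_quasiIso, heq, isIso_Q_map_iff_quasiIso]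
    exact hq2
  have hq4 : QuasiIso ((tens (ModuleCat.of A (A ⧸ I))).map g) := by
    rw [Functor.map_comp] at hq3
    exact quasiIso_of_comp_left ((tens (ModuleCat.of A (A ⧸ I))).map u) _
  -- flatness of the candidate
  have hYf : DRing.TermwiseFlat ((tens (Ahat I)).obj P) := fun i => by
    haveI := hPf i
    change Module.Flat A (TensorProduct A (AdicCompletion I A) (P.X i))
    infer_instance
  have hYk : IsKFlat ((tens (Ahat I)).obj P) :=
    isKFlat_of_homotopyEquiv (HomotopyEquiv.ofIso (singleTensorIso (Ahat I) P).symm)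
      (isKFlat_tensor (isKFlat_sgl (Ahat I)) hPk)
  have hP'c : DRing.IsDerivedComplete I (Q.obj P') :=
    isDerivedComplete_of_iso I e'.symm ((DRing.derivedCompletion I).obj K).property
  have hgq : QuasiIso g := quasiIso_of_tens I s hs g hP'f hYf hP'k hYk hP'c hYc hq4
  have hgi : IsIso (Q.map g) := by rw [isIso_Q_map_iff_quasiIso]; exact hgq
  -- assembly
  let θ : P.homology n ≅ (homologyFunctor (ModuleCat.{u} A) n).obj K :=
    ((homologyFunctorFactors (ModuleCat.{u} A) n).app P).symm ≪≫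
      (homologyFunctor (ModuleCat.{u} A) n).mapIso eK
  let E : (homologyFunctor (ModuleCat.{u} A) n).obj Kc ≅
      (tensorLeft (Ahat I)).obj ((homologyFunctor (ModuleCat.{u} A) n).obj K) :=
    (homologyFunctor (ModuleCat.{u} A) n).mapIso e'.symm ≪≫
      (homologyFunctor (ModuleCat.{u} A) n).mapIso (asIso (Q.map g)) ≪≫
      (homologyFunctorFactors (ModuleCat.{u} A) n).app ((tens (Ahat I)).obj P) ≪≫
      alphaCx (Ahat I) P n ≪≫ (tensorLeft (Ahat I)).mapIso θ
  refine ⟨E, ?_⟩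
  have s1 : (homologyFunctor (ModuleCat.{u} A) n).map uK ≫
      (homologyFunctor (ModuleCat.{u} A) n).map e'.inv ≫
      (homologyFunctor (ModuleCat.{u} A) n).map (Q.map g) =
      (homologyFunctor (ModuleCat.{u} A) n).map eK.inv ≫
        (homologyFunctor (ModuleCat.{u} A) n).map
          (Q.map (eta (Ahat I) (1 : AdicCompletion I A) P)) := by
    rw [← Functor.map_comp, ← Functor.map_comp, ← Functor.map_comp, ← Category.assoc, hsq,
      Category.assoc, hg, hψ']
  have s2 : (homologyFunctor (ModuleCat.{u} A) n).map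
      (Q.map (eta (Ahat I) (1 : AdicCompletion I A) P)) ≫
      ((homologyFunctorFactors (ModuleCat.{u} A) n).app ((tens (Ahat I)).obj P)).hom =
      ((homologyFunctorFactors (ModuleCat.{u} A) n).app P).hom ≫
        HomologicalComplex.homologyMap (eta (Ahat I) (1 : AdicCompletion I A) P) n :=
    (homologyFunctorFactors (ModuleCat.{u} A) n).hom.naturality
      (eta (Ahat I) (1 : AdicCompletion I A) P)
  have s3 := homologyMap_eta (Ahat I) (1 : AdicCompletion I A) P n
  have s4 : (nu (Ahat I) (1 : AdicCompletion I A)).app (P.homology n) ≫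
      (tensorLeft (Ahat I)).map θ.hom =
      θ.hom ≫ (nu (Ahat I) (1 : AdicCompletion I A)).app
        ((homologyFunctor (ModuleCat.{u} A) n).obj K) :=
    ((nu (Ahat I) (1 : AdicCompletion I A)).naturality θ.hom).symm
  have s5 : (homologyFunctor (ModuleCat.{u} A) n).map eK.inv ≫
      ((homologyFunctorFactors (ModuleCat.{u} A) n).app P).hom ≫ θ.hom = 𝟙 _ := by
    change (homologyFunctor (ModuleCat.{u} A) n).map eK.inv ≫
      ((homologyFunctorFactors (ModuleCat.{u} A) n).app P).hom ≫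
      ((homologyFunctorFactors (ModuleCat.{u} A) n).app P).inv ≫
        (homologyFunctor (ModuleCat.{u} A) n).map eK.hom = 𝟙 _
    rw [Iso.hom_inv_id_assoc, ← Functor.map_comp, Iso.inv_hom_id, CategoryTheory.Functor.map_id]
  exact comp_aux _ _ _ _ _ _ _ _ _ _ _ _ _ s1 s2 s3 s4 s5

end Groth.Agent.Lib.Helper88.DCompMain
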