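import Groth.Agent.Lib.Helper25.DCompTensor3
import Groth.Agent.Lib.Helper25.DNak
import Groth.Agent.Lib.Helper25.KFlatFactor
import Groth.Agent.Lib.Helper88.DCompAlg1
import Groth.Agent.Lib.Helper88.DCompAlg2

/-!
# Derived Nakayama for morphisms, and reflection arrows modulo `I` (towards S7060)
-/

set_option autoImplicit false
universe u

open CategoryTheory CategoryTheory.Limits CategoryTheory.Pretriangulated DerivedCategory
open MonoidalCategory

attribute [local instance] HasDerivedCategory.standard

namespace Groth.Agent.Lib.Helper88.DCompNak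

open Groth.Agent.Lib.Helper25.TensorCx Groth.Agent.Lib.Helper25.KFlat
open Groth.Agent.Lib.Helper25.DCompRefl Groth.Agent.Lib.Helper25.DCompAmp
open Groth.Agent.Lib.Helper25.DerAdj Groth.Agent.Lib.Helper25.SingleTensor
open Groth.Agent.Lib.Helper25.DCompTensor Groth.Agent.Lib.Helper25.DNak
open Groth.Agent.Lib.Helper84.DComp Groth.Agent.Lib.Helper84.DCompAlg
open Groth.Agent.Lib.Helper84.TensCx Groth.Agent.Lib.Helper84

variable {A : Type u} [CommRing A]

/-- derived Nakayama for morphisms -/
theorem quasiIso_of_tens (I : Ideal A) (s : Finset A) (hs : Ideal.span (s : Set A) = I)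
    {X Y : Cx A} (g : X ⟶ Y) (hXf : DRing.TermwiseFlat X) (hYf : DRing.TermwiseFlat Y)
    (hXk : IsKFlat X) (hYk : IsKFlat Y)
    (hXc : DRing.IsDerivedComplete I (Q.obj X)) (hYc : DRing.IsDerivedComplete I (Q.obj Y))
    (hq : QuasiIso ((tens (ModuleCat.of A (A ⧸ I))).map g)) : QuasiIso g := by
  classical
  have hZf : DRing.TermwiseFlat (CochainComplex.mappingCone g) := termwiseFlat_mappingCone g hXf hYf
  have hZk : IsKFlat (CochainComplex.mappingCone g) :=
    Groth.Agent.Lib.Helper25.KFlat.isKFlat_mappingCone g hXk hYk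
  have hZc : DRing.IsDerivedComplete I (Q.obj (CochainComplex.mappingCone g)) :=
    isDerivedComplete_obj₃ I _ (mappingCone_triangle_distinguished g) hXc hYc
  have hT : ∀ i : ℤ, ((tens (ModuleCat.of A (A ⧸ I))).obj (CochainComplex.mappingCone g)).ExactAt i := by
    intro i
    let e := CochainComplex.mappingCone.mapHomologicalComplexIso g
      (tensorLeft (ModuleCat.of A (A ⧸ I)))
    have hac := (Groth.Agent.Lib.Helper25.KFlat.quasiIso_iff_acyclic_mappingCone
      ((tens (ModuleCat.of A (A ⧸ I))).map g)).1 hq i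
    have hex : (CochainComplex.mappingCone ((tens (ModuleCat.of A (A ⧸ I))).map g)).ExactAt i :=
      (HomologicalComplex.exactAt_iff_isZero_homology _ i).2 hac
    exact (_root_.exactAt_iff_of_quasiIsoAt e.hom i).2 hex
  have hZc' : DRing.IsDerivedComplete (Ideal.span (s : Set A))
      (Q.obj (CochainComplex.mappingCone g)) := by
    rw [hs]
    exact hZc
  have hex : ∀ i : ℤ, (CochainComplex.mappingCone g).ExactAt i := fun i =>
    main s (CochainComplex.mappingCone g) (i - 1) hZf hZc'
      (torVanS_of_quotient I s hs _ hZk (i - 1) (fun j _ => hT j)) i (by omega)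
  exact quasiIso_of_exactAt_mappingCone g hex

/-- a reflection arrow between objects having the property is an isomorphism -/
theorem isIso_of_isRefl {C : Type*} [Category C] {P : ObjectProperty C} {X X' : C} (u : X ⟶ X')
    (hu : IsRefl P u) (hX : P X) (hX' : P X') : IsIso u := by
  obtain ⟨r, hr⟩ := (hu X hX).surjective (𝟙 X)
  have hr' : u ≫ r = 𝟙 X := hr
  have h2 : r ≫ u = 𝟙 X' := by
    apply (hu X' hX').injective
    change u ≫ r ≫ u = u ≫ 𝟙 X'
    rw [← Category.assoc, hr', Category.id_comp, Category.comp_id]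
  exact ⟨r, hr', h2⟩

/-- `N ⊗ X` is derived complete when `N` is killed by `I` -/
theorem isDerivedComplete_tens_of_killed (I : Ideal A) (N : ModuleCat.{u} A)
    (hN : ∀ a ∈ I, ∀ x : N, a • x = 0) (X : Cx A) :
    DRing.IsDerivedComplete I (Q.obj ((tens N).obj X)) := by
  apply isDerivedComplete_toD
  intro f hf j
  have hk : ∀ a ∈ I, ∀ t : (((tens N).obj X).X j : Type u), a • t = 0 := by
    intro a ha
    change ∀ t : TensorProduct A N (X.X j), a • t = 0
    intro t
    induction t using TensorProduct.induction_on with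
    | zero => exact smul_zero a
    | tmul n x => rw [TensorProduct.smul_tmul', hN a ha n, TensorProduct.zero_tmul]
    | add t t' ht ht' => rw [smul_add, ht, ht', add_zero]
  haveI := Groth.Agent.Lib.Helper88.DCompAlg1.isAdicComplete_of_killed I _ hk
  exact seqBij_of_isAdicComplete I _ hf

end Groth.Agent.Lib.Helper88.DCompNak
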