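import Groth.Agent.Lib.Helper88.DCompNak

/-!
# A reflection arrow becomes a quasi-isomorphism after `A/I ⊗ -` (towards S7060)
-/

set_option autoImplicit false
universe u

open CategoryTheory CategoryTheory.Limits CategoryTheory.Pretriangulated DerivedCategory
open MonoidalCategory

attribute [local instance] HasDerivedCategory.standard

namespace Groth.Agent.Lib.Helper88.DCompRefl2

open Groth.Agent.Lib.Helper25.TensorCx Groth.Agent.Lib.Helper25.KFlat
open Groth.Agent.Lib.Helper25.DCompRefl Groth.Agent.Lib.Helper25.DCompAmp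
open Groth.Agent.Lib.Helper25.DerAdj Groth.Agent.Lib.Helper25.SingleTensor
open Groth.Agent.Lib.Helper25.DCompTensor Groth.Agent.Lib.Helper25.DNak
open Groth.Agent.Lib.Helper84.DComp Groth.Agent.Lib.Helper84.DCompAlg
open Groth.Agent.Lib.Helper84.TensCx Groth.Agent.Lib.Helper84
open Groth.Agent.Lib.Helper88.DCompNak

variable {A : Type u} [CommRing A]

theorem quasiIso_tens_quot_of_isRefl [IsNoetherianRing A] (I : Ideal A) (P P' : Cx A)
    [P.IsKProjective] [P'.IsKProjective] (hPk : IsKFlat P) (hP'k : IsKFlat P') (u : P ⟶ P')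
    (hu : IsRefl (DRing.IsDerivedComplete I) (Q.map u)) :
    QuasiIso ((tens (ModuleCat.of A (A ⧸ I))).map u) := by
  classical
  set M : ModuleCat.{u} A := ModuleCat.of A (A ⧸ I) with hM
  have hMk : ∀ a ∈ I, ∀ x : M, a • x = 0 := by
    intro a ha
    change ∀ x : A ⧸ I, a • x = 0
    intro x
    obtain ⟨y, rfl⟩ := Ideal.Quotient.mk_surjective x
    rw [← Ideal.Quotient.mk_eq_mk, ← Submodule.Quotient.mk_smul]
    exact (Submodule.Quotient.mk_eq_zero _).2 (I.mul_mem_right y ha)
  -- a finite free resolution of `A/I`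
  obtain ⟨F, c, hFc, hFf, ⟨eF⟩⟩ :=
    Groth.Agent.Lib.Helper43.FlatFPPC.isPseudoCoherentModule'_of_finite A (A ⧸ I)
  haveI : F.IsKProjective :=
    Groth.Agent.Lib.Helper54.LDerived.isKProjective_of_vanishesAbove F c hFc (fun i => by
      haveI := (hFf i).2
      infer_instance)
  have hKF : IsKFlat F := isKFlat_of_boundedAbove_of_flat F c hFc (fun i => by
    haveI := (hFf i).2
    infer_instance)
  let eF' : Q.obj F ≅ Q.obj (sgl M) :=
    eF ≪≫ (DerivedCategory.singleFunctorIsoCompQ (ModuleCat.{u} A) 0).app M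
  obtain ⟨f, hf⟩ := exists_map_eq F (sgl M) eF'.hom
  have hfq : QuasiIso f := by
    rw [← isIso_Q_map_iff_quasiIso, hf]
    infer_instance
  have hA : QuasiIso (bridgeA M f P) := quasiIso_bridgeA _ f hfq P hPk
  have hA' : QuasiIso (bridgeA M f P') := quasiIso_bridgeA _ f hfq P' hP'k
  -- the reflection arrow `u ▷ F`
  have h2 : IsRefl (DRing.IsDerivedComplete I) (Q.map (u ▷ F)) :=
    fun E hE => bijective_precomp_whiskerRight I P P' F hKF u hu E hE
  have hdc : ∀ (X : Cx A), QuasiIso (bridgeA M f X) →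
      DRing.IsDerivedComplete I (Q.obj (X ⊗ F : Cx A)) := by
    intro X hX
    have h1 := isDerivedComplete_tens_of_killed I M hMk X
    have : IsIso (Q.map (bridgeA M f X)) := by
      rw [isIso_Q_map_iff_quasiIso]
      exact hX
    exact isDerivedComplete_of_iso I
      (Q.mapIso (singleTensorIso M X) ≪≫ (asIso (Q.map (bridgeA M f X))).symm) h1
  have hiso : IsIso (Q.map (u ▷ F)) := isIso_of_isRefl _ h2 (hdc P hA) (hdc P' hA')
  have hq1 : QuasiIso (u ▷ F) := by
    rw [← isIso_Q_map_iff_quasiIso]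
    exact hiso
  have hq2 : QuasiIso (sgl M ◁ u) := by
    have hnat := bridgeA_naturality M f u
    have : QuasiIso (bridgeA M f P ≫ (sgl M ◁ u)) := by
      rw [← hnat]
      infer_instance
    exact quasiIso_of_comp_left (bridgeA M f P) (sgl M ◁ u)
  have hnat2 := singleTensorIso_naturality M u
  have h3 : (tens M).map u = (singleTensorIso M P).hom ≫ (sgl M ◁ u) ≫
      (singleTensorIso M P').inv := by
    rw [← Category.assoc, ← hnat2, Category.assoc, Iso.hom_inv_id, Category.comp_id]
  rw [h3]
  infer_instance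

end Groth.Agent.Lib.Helper88.DCompRefl2
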