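import Groth.Agent.Lib.Helper88.DCompMain

/-!
# A criterion for reflection arrows onto derived complete objects (towards S7061)
-/

set_option autoImplicit false
universe u

open CategoryTheory CategoryTheory.Limits CategoryTheory.Pretriangulated DerivedCategory
open MonoidalCategory

attribute [local instance] HasDerivedCategory.standard

namespace Groth.Agent.Lib.Helper88.DCompRefl3

open Groth.Agent.Lib.Helper25.TensorCx Groth.Agent.Lib.Helper25.KFlat
open Groth.Agent.Lib.Helper25.DCompRefl Groth.Agent.Lib.Helper25.DCompAmp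
open Groth.Agent.Lib.Helper25.DerAdj Groth.Agent.Lib.Helper25.SingleTensor
open Groth.Agent.Lib.Helper25.DCompTensor Groth.Agent.Lib.Helper25.DNak
open Groth.Agent.Lib.Helper84.DComp Groth.Agent.Lib.Helper84.DCompAlg
open Groth.Agent.Lib.Helper84.TensCx Groth.Agent.Lib.Helper84
open Groth.Agent.Lib.Helper88.DCompNak Groth.Agent.Lib.Helper88.DCompRefl2
open Groth.Agent.Lib.Helper15

variable {A : Type u} [CommRing A]

/-- two reflection arrows with targets in `P` have isomorphic targets, compatibly -/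
theorem IsRefl.exists_iso {C : Type*} [Category C] {P : ObjectProperty C} {X X₁ X₂ : C}
    {u : X ⟶ X₁} {v : X ⟶ X₂}
    (hu : IsRefl P u) (hv : IsRefl P v) (h₁ : P X₁) (h₂ : P X₂) :
    ∃ φ : X₁ ≅ X₂, u ≫ φ.hom = v := by
  obtain ⟨a, ha⟩ := (hu X₂ h₂).surjective v
  obtain ⟨b, hb⟩ := (hv X₁ h₁).surjective u
  have ha' : u ≫ a = v := ha
  have hb' : v ≫ b = u := hb
  refine ⟨⟨a, b, ?_, ?_⟩, ha'⟩
  · apply (hu X₁ h₁).injective
    change u ≫ (a ≫ b) = u ≫ 𝟙 X₁
    rw [← Category.assoc, ha', hb', Category.comp_id]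
  · apply (hv X₂ h₂).injective
    change v ≫ (b ≫ a) = v ≫ 𝟙 X₂
    rw [← Category.assoc, hb', ha', Category.comp_id]

/-- a quasi-isomorphism between K-flat complexes stays one after `N ⊗ -` -/
theorem quasiIso_tens_of_isKFlat (N : ModuleCat.{u} A) {P P' : Cx A} (g : P ⟶ P')
    (hP : IsKFlat P) (hP' : IsKFlat P') (hg : QuasiIso g) : QuasiIso ((tens N).map g) := by
  have h1 : QuasiIso (sgl N ◁ g) := quasiIso_whiskerLeft_of_quasiIso_of_isKFlat g hP hP' hg _
  have hnat := singleTensorIso_naturality N g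
  have h3 : (tens N).map g = (singleTensorIso N P).hom ≫ (sgl N ◁ g) ≫
      (singleTensorIso N P').inv := by
    rw [← Category.assoc, ← hnat, Category.assoc, Iso.hom_inv_id, Category.comp_id]
  rw [h3]
  infer_instance

/-- criterion: a map `η : P ⟶ Y` from a K-projective K-flat complex to a K-flat, termwise flat,
derived complete complex which is a quasi-isomorphism modulo `I` is a reflection arrow. -/
theorem isRefl_of_kproj [IsNoetherianRing A] (I : Ideal A) [DRing.HasDerivedCompletion I]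
    (P : Cx A) [P.IsKProjective] (hPk : IsKFlat P)
    (Y : Cx A) (hYf : DRing.TermwiseFlat Y) (hYk : IsKFlat Y)
    (hYc : DRing.IsDerivedComplete I (Q.obj Y)) (η : P ⟶ Y)
    (hη : QuasiIso ((tens (ModuleCat.of A (A ⧸ I))).map η)) :
    IsRefl (DRing.IsDerivedComplete I) (Q.map η) := by
  classical
  obtain ⟨s, hs⟩ := (isNoetherianRing_iff_ideal_fg A).1 inferInstance I
  set K : Dual.D A := Q.obj P with hK
  set Kc : Dual.D A := ((DRing.derivedCompletion I).obj K).obj with hKc
  set uK : K ⟶ Kc := DRing.toDerivedCompletion I K with huK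
  obtain ⟨P', π', hP', hπ', hP'k, hP'f, -⟩ :=
    KProjRes.exists_kprojective_resolution (Q.objPreimage Kc)
  haveI := hP'
  have : IsIso (Q.map π') := by rw [isIso_Q_map_iff_quasiIso]; exact hπ'
  let e' : Q.obj P' ≅ Kc := asIso (Q.map π') ≪≫ Q.objObjPreimageIso Kc
  obtain ⟨u, hu⟩ := exists_map_eq P P' (uK ≫ e'.inv)
  have hrefl : IsRefl (DRing.IsDerivedComplete I) (Q.map u) :=
    isRefl_of_sq uK (Q.map u) e'.symm (Iso.refl _) (by
      change uK ≫ e'.inv = 𝟙 _ ≫ Q.map u
      rw [hu, Category.id_comp])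
      (isRefl_unit _ (DRing.derivedCompletionAdj I) K)
  obtain ⟨ψ, hψ⟩ := (hrefl _ hYc).surjective (Q.map η)
  have hψ' : Q.map u ≫ ψ = Q.map η := hψ
  obtain ⟨g, hg⟩ := exists_map_eq P' Y ψ
  have hq1 : QuasiIso ((tens (ModuleCat.of A (A ⧸ I))).map u) :=
    quasiIso_tens_quot_of_isRefl I P P' hPk hP'k u hrefl
  have hhom : Nonempty (Homotopy (u ≫ g - η) 0) := by
    rw [← Qmap_eq_zero_iff, Functor.map_sub, Functor.map_comp, hg, hψ', sub_self]
  obtain ⟨h⟩ := hhom
  have hq3 : QuasiIso ((tens (ModuleCat.of A (A ⧸ I))).map (u ≫ g)) := by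
    have heq : Q.map ((tens (ModuleCat.of A (A ⧸ I))).map (u ≫ g)) =
        Q.map ((tens (ModuleCat.of A (A ⧸ I))).map η) := by
      have h' := (tensorLeft (ModuleCat.of A (A ⧸ I))).mapHomotopy h
      have h'' := DerivedCategory.Q_map_eq_of_homotopy _ h'
      rw [Functor.map_sub, Functor.map_zero, Functor.map_sub, Functor.map_zero] at h''
      exact sub_eq_zero.1 h''
    rw [← isIso_Q_map_iff_quasiIso, heq, isIso_Q_map_iff_quasiIso]
    exact hη
  have hq4 : QuasiIso ((tens (ModuleCat.of A (A ⧸ I))).map g) := by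
    rw [Functor.map_comp] at hq3
    exact quasiIso_of_comp_left ((tens (ModuleCat.of A (A ⧸ I))).map u) _
  have hP'c : DRing.IsDerivedComplete I (Q.obj P') :=
    isDerivedComplete_of_iso I e'.symm ((DRing.derivedCompletion I).obj K).property
  have hgq : QuasiIso g := quasiIso_of_tens I s hs g hP'f hYf hP'k hYk hP'c hYc hq4
  have hgi : IsIso (Q.map g) := by rw [isIso_Q_map_iff_quasiIso]; exact hgq
  -- `Q η = Q u ≫ Q g` with `Q u` a reflection arrow and `Q g` an isomorphism
  refine isRefl_of_sq (Q.map u) (Q.map η) (asIso (Q.map g)) (Iso.refl _) ?_ hrefl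
  change Q.map u ≫ Q.map g = 𝟙 _ ≫ Q.map η
  rw [hg, hψ', Category.id_comp]

/-- the same for a K-flat (not necessarily K-projective) source -/
theorem isRefl_of_kflat [IsNoetherianRing A] (I : Ideal A) [DRing.HasDerivedCompletion I]
    (G : Cx A) (hGk : IsKFlat G)
    (Y : Cx A) (hYf : DRing.TermwiseFlat Y) (hYk : IsKFlat Y)
    (hYc : DRing.IsDerivedComplete I (Q.obj Y)) (κ : G ⟶ Y)
    (hκ : QuasiIso ((tens (ModuleCat.of A (A ⧸ I))).map κ)) :
    IsRefl (DRing.IsDerivedComplete I) (Q.map κ) := by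
  obtain ⟨P, π, hP, hπ, hPk, -, -⟩ := KProjRes.exists_kprojective_resolution G
  haveI := hP
  have hπi : IsIso (Q.map π) := by rw [isIso_Q_map_iff_quasiIso]; exact hπ
  have h1 : QuasiIso ((tens (ModuleCat.of A (A ⧸ I))).map π) :=
    quasiIso_tens_of_isKFlat _ π hPk hGk hπ
  have h2 : QuasiIso ((tens (ModuleCat.of A (A ⧸ I))).map (π ≫ κ)) := by
    rw [Functor.map_comp]
    infer_instance
  have h3 := isRefl_of_kproj I P hPk Y hYf hYk hYc (π ≫ κ) h2
  refine isRefl_of_sq (Q.map (π ≫ κ)) (Q.map κ) (Iso.refl _) (asIso (Q.map π)) ?_ h3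
  change Q.map (π ≫ κ) ≫ 𝟙 _ = Q.map π ≫ Q.map κ
  rw [Category.comp_id, Functor.map_comp]

end Groth.Agent.Lib.Helper88.DCompRefl3
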