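/-
The different exponent as the value of `f'(s)` for `s` a local parameter whose minimal polynomial
has an "Eisenstein-like" shape (integral coefficients, constant term a local parameter below).
Author: helper88
-/
import Groth.Agent.Lib.Helper88.ResSepGen

set_option autoImplicit false
set_option linter.unusedSectionVars false
set_option linter.style.haveILetI false

namespace Groth.Agent.Lib.Helper88.TG

open FunFld WithZero
open Groth.Agent.Lib.Helper88.FRT Groth.Agent.Lib.Helper88.TL Groth.Agent.Lib.Helper88.FF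
open LaurentSeries
open scoped KaehlerDifferential

universe u v v' w

section Main

variable {k : Type u} {K : Type v} {K' : Type v'} [Field k] [Field K] [Field K'] [Algebra k K] [Algebra K K']
  [Algebra k K'] [IsScalarTower k K K']
variable {F F' : Type w} [Field F] [Algebra k F] [Field F'] [Algebra k F']

/-- Differentiation preserves power series. -/
lemma val_D_le_one' {A : Type w} [Field A] {f : A⸨X⸩} (hf : Valued.v f ≤ (1 : ℤᵐ⁰)) :
    Valued.v (LocRes.D A f) ≤ (1 : ℤᵐ⁰) := by
  have h1 : (1 : ℤᵐ⁰) = exp (-(0 : ℤ)) := by simp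
  rw [h1] at hf ⊢
  rw [LaurentSeries.valuation_le_iff_coeff_lt_eq_zero]
  intro n hn
  rw [LocRes.D_coeff]
  rcases lt_or_eq_of_le (Int.lt_add_one_iff.1 (by omega : n + 1 < 0 + 1)) with h | h
  · rw [LaurentSeries.coeff_zero_of_lt_valuation A hf h, smul_zero]
  · rw [h, zero_smul]

/-- Let `s` be a local parameter at `Q | P` which is a root of a monic polynomial `f` over `K` with
coefficients integral at `P` and constant coefficient a local parameter at `P`.  Then the value of
`f'(s)` at `Q` is that of the differential of a local parameter of `P`. -/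
theorem val_aeval_derivative_of_coeffs (hd : DiffGen k K)
    {P : Place k K} {Q : Place k K'} {e : ℕ} (he : IsOverWith Q P e)
    {φ : K →ₐ[k] F⸨X⸩} (hφ : LocRes.IsExpansionAt P.1 φ)
    {ψ : K' →ₐ[k] F'⸨X⸩} (hψ : LocRes.IsExpansionAt Q.1 ψ)
    {s : K'} (hs : Q.1 s = exp (-1 : ℤ)) {t : K} (ht : P.1 t = exp (-1 : ℤ))
    {f : Polynomial K} {m : ℕ} (hm : 0 < m) (hmonic : f.Monic) (hdeg : f.natDegree = m)
    (hroot : Polynomial.aeval s f = 0)
    (hc0 : P.1 (f.coeff 0) = exp (-1 : ℤ)) (hci : ∀ i < m, P.1 (f.coeff i) ≤ 1) :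
    Q.1 (Polynomial.aeval s (Polynomial.derivative f)) =
      LocRes.vDiff ψ 1 (algebraMap K K' t) := by
  classical
  have hce : f.coeff m = 1 := by rw [← hdeg]; exact hmonic.coeff_natDegree
  -- differentiate the relation
  have hder := deriv_aeval (ψ : K' →+* F'⸨X⸩) (LocRes.D F' : F'⸨X⸩ →+ F'⸨X⸩)
    (fun a b => (LocRes.D F').leibniz a b) f (N := m + 1) (by omega) s
  rw [hroot, map_zero, map_zero, Finset.sum_range_succ, hce, map_one, map_one] at hder
  have hD1 : (LocRes.D F' : F'⸨X⸩ →+ F'⸨X⸩) 1 = 0 := (LocRes.D F').map_one_eq_zero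
  rw [hD1, zero_mul, add_zero] at hder
  replace hder : (0 : F'⸨X⸩) = ∑ i ∈ Finset.range m,
      LocRes.D F' (ψ (algebraMap K K' (f.coeff i))) * ψ s ^ i +
        ψ (Polynomial.aeval s (Polynomial.derivative f)) * LocRes.D F' (ψ s) := hder
  -- the differentials of the coefficients
  have hDt := D_exp_uniformizer_ne_zero hφ ht
  have hvt : LocRes.vDiff φ 1 t ≠ 0 := by
    unfold LocRes.vDiff
    rw [map_one, one_mul, ne_eq, map_eq_zero]
    exact hDt
  have hdt := kaehler_D_ne_zero_of_vDiff_ne_zero φ hvt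
  have hex : ∀ i : ℕ, ∃ g : K, KaehlerDifferential.D k K (f.coeff i) =
      g • KaehlerDifferential.D k K t := fun i => hd.exists_D_eq_smul hdt (f.coeff i)
  choose g hg' using hex
  let ψ' : K →ₐ[k] F'⸨X⸩ := ψ.comp (IsScalarTower.toAlgHom k K K')
  have h1 : ∀ i, LocRes.D F' (ψ (algebraMap K K' (f.coeff i))) =
      ψ (algebraMap K K' (g i)) * LocRes.D F' (ψ (algebraMap K K' t)) :=
    fun i => D_exp_eq_mul ψ' (hg' i)
  have h2 : ∀ i, LocRes.D F (φ (f.coeff i)) = φ (g i) * LocRes.D F (φ t) :=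
    fun i => D_exp_eq_mul φ (hg' i)
  have hvDt : Valued.v (LocRes.D F (φ t)) = 1 := val_D_eq_one (by rw [hφ.1, ht])
  have hPg : ∀ i, P.1 (g i) = Valued.v (LocRes.D F (φ (f.coeff i))) := by
    intro i
    rw [h2 i, map_mul, hvDt, mul_one, hφ.1]
  have hg0 : P.1 (g 0) = 1 := by
    rw [hPg]
    exact val_D_eq_one (by rw [hφ.1, hc0])
  have hgi : ∀ i < m, P.1 (g i) ≤ 1 := by
    intro i hi
    rw [hPg]
    exact val_D_le_one' (by rw [hφ.1]; exact hci i hi)
  set G : K' := ∑ i ∈ Finset.range m, algebraMap K K' (g i) * s ^ i with hGdef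
  have hG : Q.1 G = 1 := by
    have h00 : Q.1 (algebraMap K K' (g 0) * s ^ 0) = 1 := by
      rw [pow_zero, mul_one, he (g 0), hg0, one_pow]
    rw [hGdef, val_sum_eq_of_lt Q.1 (Finset.range m) _ (i₀ := 0) (Finset.mem_range.2 hm), h00]
    intro i hi hne
    rw [h00, val_term he hs]
    calc P.1 (g i) ^ e * exp (-(i : ℤ)) ≤ 1 * exp (-(i : ℤ)) :=
          mul_le_mul' (pow_le_one' (hgi i (Finset.mem_range.1 hi)) e) le_rfl
      _ < 1 := by
          rw [one_mul, ← exp_zero, exp_lt_exp]
          omega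
  have hsum : ∑ i ∈ Finset.range m,
      LocRes.D F' (ψ (algebraMap K K' (f.coeff i))) * ψ s ^ i =
      LocRes.D F' (ψ (algebraMap K K' t)) * ψ G := by
    rw [hGdef, map_sum, Finset.mul_sum]
    apply Finset.sum_congr rfl
    intro i _
    rw [h1 i, map_mul, map_pow]
    ring
  rw [hsum] at hder
  have hfin : ψ (Polynomial.aeval s (Polynomial.derivative f)) *
      LocRes.D F' (ψ s) = -(LocRes.D F' (ψ (algebraMap K K' t)) * ψ G) := by
    rw [eq_neg_iff_add_eq_zero, add_comm]
    exact hder.symm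
  have hv := congrArg (Valued.v : F'⸨X⸩ → ℤᵐ⁰) hfin
  rw [map_mul, Valuation.map_neg, map_mul,
    val_D_eq_one (by rw [hψ.1, hs]), mul_one, hψ.1, hψ.1 G, hG, mul_one] at hv
  rw [hv]
  unfold LocRes.vDiff
  rw [map_one, one_mul]

end Main

end Groth.Agent.Lib.Helper88.TG
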