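/-
The different exponent at a place of residue degree one, computed on a local parameter which is a
unit at the other places above (S12572).
Author: helper88
-/
import Groth.Agent.Lib.Helper88.DiffMinpoly
import Groth.Agent.Lib.Helper34.FunFldNormOrd
import Groth.Agent.Lib.Helper44.FunFldInertia4
import Mathlib.RingTheory.Norm.Transitivity
import Mathlib.RingTheory.Valuation.Extension

set_option autoImplicit false
set_option linter.unusedSectionVars false
set_option linter.style.haveILetI false

namespace Groth.Agent.Lib.Helper88.TG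

open FunFld WithZero
open Groth.Agent.Lib.Helper88.FF Groth.Agent.Lib.Helper44.FFExt
open Groth.Agent.Lib.Helper34.FunFldIntFin Groth.Agent.Lib.Helper34.FunFldNormOrd
open LaurentSeries
open scoped KaehlerDifferential

universe u v w

section Main

variable {k : Type u} {K K' : Type v} [Field k] [Field K] [Field K'] [Algebra k K] [Algebra K K']
  [Algebra k K'] [IsScalarTower k K K'] [FiniteDimensional K K']
variable {F F' : Type w} [Field F] [Algebra k F] [Field F'] [Algebra k F']

/-- Residue degree one, from surjectivity of the residue field map. -/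
lemma deg_eq_of_residue_surjective {P : Place k K} {Q : Place k K'} (hQP : IsOver Q P)
    [P.1.HasExtension Q.1]
    (hf : Function.Surjective
      (algebraMap (IsLocalRing.ResidueField P.O) (IsLocalRing.ResidueField Q.O))) :
    P.deg = Q.deg := by
  apply deg_eq_of_forall_exists hQP
  intro z hz
  obtain ⟨ā, hā⟩ := hf (IsLocalRing.residue Q.O ⟨z, hz⟩)
  obtain ⟨a, rfl⟩ := IsLocalRing.residue_surjective ā
  refine ⟨a.1, ?_⟩
  rw [Valuation.HasExtension.algebraMap_residue_eq_residue_algebraMap] at hā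
  have h0 : IsLocalRing.residue Q.O (⟨z, hz⟩ - algebraMap P.O Q.O a) = 0 := by
    rw [map_sub, hā, sub_self]
  rw [IsLocalRing.residue_eq_zero_iff] at h0
  exact (Valuation.mem_maximalIdeal_iff _ _).1 h0

/-- **S12572.** -/
theorem adjoin_eq_top_and_ord_derivative (hK : IsFunctionField k K) (hd : DiffGen k K)
    {P : Place k K} {Q : Place k K'} {e : ℕ} (he : IsOverWith Q P e)
    {φ : K →ₐ[k] F⸨X⸩} (hφ : LocRes.IsExpansionAt P.1 φ)
    {ψ : K' →ₐ[k] F'⸨X⸩} (hψ : LocRes.IsExpansionAt Q.1 ψ)
    {x : K} (hx : LocRes.vDiff φ 1 x ≠ 0) (hx' : LocRes.vDiff ψ 1 (algebraMap K K' x) ≠ 0)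
    (hdeg : P.deg = Q.deg)
    {s : K'} (hs : Q.1 s = exp (-1 : ℤ))
    (hs' : ∀ Q' : Place k K', IsOver Q' P → Q' ≠ Q → Q'.1 s = 1) :
    IntermediateField.adjoin K ({s} : Set K') = ⊤ ∧
    Q.ord (Polynomial.aeval s (Polynomial.derivative (minpoly K s))) = LocRes.diffExp φ ψ e x := by
  classical
  have hQP : IsOver Q P := ⟨e, he⟩
  have hs0 : s ≠ 0 := by
    rintro rfl
    rw [map_zero] at hs
    exact exp_ne_zero hs.symm
  have hsB : s ∈ Bp (K' := K') hK P := by
    rw [mem_Bp]
    intro Q' hQ'
    by_cases h : Q' = Q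
    · subst h
      rw [hs, ← exp_zero, exp_le_exp]
      norm_num
    · rw [hs' Q' hQ' h]
  -- integrality
  letI : Algebra P.O K' := ((algebraMap K K').comp P.O.subtype).toAlgebra
  haveI : IsScalarTower P.O K K' := IsScalarTower.of_algebraMap_eq (fun _ => rfl)
  obtain ⟨b, -, hint, -, -⟩ := integral_structure (K' := K') hK P
  have hsint : IsIntegral P.O s := (hint s).2 hsB
  have hsintK : IsIntegral K s := Algebra.IsIntegral.isIntegral s
  have hmin : minpoly K s = (minpoly P.O s).map (algebraMap P.O K) :=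
    minpoly.isIntegrallyClosed_eq_field_fractions' K hsint
  have hci : ∀ i, P.1 ((minpoly K s).coeff i) ≤ 1 := by
    intro i
    rw [hmin, Polynomial.coeff_map]
    exact ((minpoly P.O s).coeff i).2
  -- the norm
  have hnorm := deg_mul_ord_norm hK P s (Qs (K' := K') hK P) (mem_Qs hK P)
  have hsum : ∑ Q' ∈ Qs (K' := K') hK P, (Q'.deg : ℤ) * Q'.ord s = Q.deg := by
    rw [Finset.sum_eq_single Q]
    · rw [ord_uniformizer hs, mul_one]
    · intro Q' hQ' hne
      rw [ord_eq_zero_of_val_eq_one (hs' Q' ((mem_Qs hK P Q').1 hQ') hne), mul_zero]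
    · intro hQ
      exact absurd ((mem_Qs hK P Q).2 hQP) hQ
  rw [hsum, ← hdeg] at hnorm
  have hPdeg : (0 : ℤ) < P.deg := by exact_mod_cast deg_pos hK P
  have hordN : P.ord (Algebra.norm K s) = 1 := by
    have : (P.deg : ℤ) * P.ord (Algebra.norm K s) = (P.deg : ℤ) * 1 := by rw [hnorm, mul_one]
    exact mul_left_cancel₀ hPdeg.ne' this
  set a0 : K := (minpoly K s).coeff 0 with ha0
  have ha0ne : a0 ≠ 0 := minpoly.coeff_zero_ne_zero hsintK hs0
  set r := Module.finrank (IntermediateField.adjoin K ({s} : Set K')) K' with hr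
  have hN : Algebra.norm K s =
      ((-1) ^ (IntermediateField.adjoin.powerBasis hsintK).dim * a0) ^ r := by
    rw [Algebra.norm_eq_norm_adjoin K s, ← IntermediateField.adjoin.powerBasis_gen hsintK,
      Algebra.PowerBasis.norm_gen_eq_coeff_zero_minpoly, IntermediateField.adjoin.powerBasis_gen,
      IntermediateField.minpoly_gen]
  have hneg1 : P.ord ((-1 : K) ^ (IntermediateField.adjoin.powerBasis hsintK).dim) = 0 := by
    rw [ord_pow]
    have : P.ord (-1 : K) = 0 := by
      unfold Place.ord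
      rw [Valuation.map_neg, map_one]
      simp
    rw [this, mul_zero]
  have hord2 : (r : ℤ) * P.ord a0 = 1 := by
    rw [hN, ord_pow, ord_mul P (pow_ne_zero _ (neg_ne_zero.2 one_ne_zero)) ha0ne, hneg1,
      zero_add] at hordN
    exact hordN
  have hr1 : r = 1 ∧ P.ord a0 = 1 := by
    have hr0 : (0 : ℤ) ≤ r := Int.natCast_nonneg r
    rcases Int.eq_one_or_neg_one_of_mul_eq_one hord2 with h | h
    · refine ⟨by exact_mod_cast h, ?_⟩
      rw [h, one_mul] at hord2
      exact hord2
    · omega
  refine ⟨IntermediateField.finrank_eq_one_iff_eq_top.1 hr1.1, ?_⟩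
  have hc0 : P.1 a0 = exp (-1 : ℤ) := by
    rw [val_eq_exp_neg_ord P ha0ne, hr1.2]
  obtain ⟨t, ht⟩ := hφ.2.2
  have hval := val_aeval_derivative_of_coeffs hd he hφ hψ hs ht (minpoly.natDegree_pos hsintK)
    (minpoly.monic hsintK) rfl (minpoly.aeval K s) hc0 (fun i _ => hci i)
  have he' : ∀ z : K, Valued.v (ψ (algebraMap K K' z)) = Valued.v (φ z) ^ e := by
    intro z
    rw [hψ.1, hφ.1, he z]
  obtain ⟨-, hdE⟩ := diffExp_eq_ordDiff_uniformizer' hd hφ ψ e he' hx hx' ht
  rw [hdE]
  unfold Place.ord LocRes.ordDiff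
  rw [hval]

end Main

end Groth.Agent.Lib.Helper88.TG
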