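/-
The Riemann–Hurwitz genus formula through Laurent expansions.
Author: helper88
-/
import Groth.Agent.Lib.Helper88.ResSepGen
import Groth.Agent.Lib.Helper88.HyperDiff
import Groth.Agent.Lib.Helper44.FunFldExt4

set_option autoImplicit false
set_option linter.unusedSectionVars false
set_option linter.style.haveILetI false

namespace Groth.Agent.Lib.Helper88.RH

open FunFld WithZero
open Groth.Agent.Lib.Helper88.FF Groth.Agent.Lib.Helper88.TG Groth.Agent.Lib.Helper44.FFExt
open Groth.Agent.Lib.Helper88.Hyp
open LaurentSeries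

universe u v w

section FinDim

variable {k : Type u} {K : Type v} [Field k] [Field K] [Algebra k K]
variable {F : Type w} [Field F] [Algebra k F]

/-- The coefficient field of an expansion at a place of a function field is finite over `k`. -/
theorem finiteDimensional_of_expansion' {P : Place k K}
    [FiniteDimensional k (IsLocalRing.ResidueField P.O)]
    {ψ : K →ₐ[k] F⸨X⸩} (hψ : LocRes.IsExpansionAt P.1 ψ) : FiniteDimensional k F := by
  classical
  let b := Module.finBasis k (IsLocalRing.ResidueField P.O)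
  have hsurj : Function.Surjective (IsLocalRing.residue P.O) := IsLocalRing.residue_surjective
  choose β hβ using fun i => hsurj (b i)
  -- the residue map through the expansion
  let ρ : K → F := fun z => (ψ z).coeff 0
  have hρadd : ∀ a c : K, ρ (a + c) = ρ a + ρ c := fun a c => by
    show (ψ (a + c)).coeff 0 = _
    rw [map_add, HahnSeries.coeff_add]
  have hρsmul : ∀ (c : k) (a : K), ρ (c • a) = c • ρ a := fun c a => by
    show (ψ (c • a)).coeff 0 = _
    rw [Algebra.smul_def, map_mul, LocRes.map_algebraMap, HahnSeries.C_mul_eq_smul,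
      algebraMap_smul, HahnSeries.coeff_smul]
  have hρzero : ∀ a : K, P.1 a < 1 → ρ a = 0 := fun a ha => by
    have h1 : Valued.v (ψ a) ≤ exp (-(1 : ℤ)) := by
      rw [hψ.1]; exact lt_one_iff_le_exp_neg_one.1 ha
    exact LaurentSeries.coeff_zero_of_lt_valuation F h1 (by norm_num)
  let Φ : (Fin (Module.finrank k (IsLocalRing.ResidueField P.O)) → k) →ₗ[k] F :=
    { toFun := fun c => ∑ i, c i • ρ (β i).1
      map_add' := fun c c' => by
        simp only [Pi.add_apply, add_smul, Finset.sum_add_distrib]
      map_smul' := fun a c => by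
        simp only [Pi.smul_apply, smul_eq_mul, RingHom.id_apply, Finset.smul_sum, mul_smul] }
  refine Module.Finite.of_surjective Φ ?_
  intro a
  obtain ⟨z, hz1, hza⟩ := hψ.2.1 a
  set zO : P.O := ⟨z, hz1⟩ with hzO
  set c := b.repr (IsLocalRing.residue P.O zO) with hc
  refine ⟨fun i => c i, ?_⟩
  show ∑ i, c i • ρ (β i).1 = a
  have hres : IsLocalRing.residue P.O (zO - ∑ i, c i • β i) = 0 := by
    rw [map_sub, map_sum]
    have : ∀ i, IsLocalRing.residue P.O (c i • β i) = c i • b i := by
      intro i
      rw [Algebra.smul_def, map_mul, hβ, Algebra.smul_def]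
      rfl
    rw [Finset.sum_congr rfl (fun i _ => this i), sub_eq_zero]
    exact (b.sum_repr _).symm
  rw [IsLocalRing.residue_eq_zero_iff] at hres
  have hlt : P.1 ((zO - ∑ i, c i • β i : P.O) : K) < 1 :=
    (Valuation.mem_maximalIdeal_iff _ _).1 hres
  have h0 := hρzero _ hlt
  have hsmulcoe : ∀ (a : k) (w : P.O), ((a • w : P.O) : K) = a • (w : K) := by
    intro a w
    rw [Algebra.smul_def, Algebra.smul_def]
    rfl
  have hcoe : ((zO - ∑ i, c i • β i : P.O) : K) = z - ∑ i, c i • (β i).1 := by
    have h5 : ((zO - ∑ i, c i • β i : P.O) : K) = P.O.subtype (zO - ∑ i, c i • β i) := rfl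
    rw [h5, map_sub, map_sum]
    congr 1
    exact Finset.sum_congr rfl (fun i _ => hsmulcoe _ _)
  rw [hcoe] at h0
  have hρsub : ρ (z - ∑ i, c i • (β i).1) = ρ z - ∑ i, c i • ρ (β i).1 := by
    have hneg : ∀ a : K, ρ (-a) = -ρ a := fun a => by
      show (ψ (-a)).coeff 0 = _
      rw [map_neg, HahnSeries.coeff_neg]
    have hsum : ∀ s : Finset (Fin (Module.finrank k (IsLocalRing.ResidueField P.O))),
        ρ (∑ i ∈ s, c i • (β i).1) = ∑ i ∈ s, c i • ρ (β i).1 := by
      intro s
      induction s using Finset.induction_on with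
      | empty =>
        simp only [Finset.sum_empty]
        show (ψ 0).coeff 0 = 0
        rw [map_zero, HahnSeries.coeff_zero]
      | insert i s hi ih => rw [Finset.sum_insert hi, Finset.sum_insert hi, hρadd, hρsmul, ih]
    rw [sub_eq_add_neg, hρadd, hneg, hsum, ← sub_eq_add_neg]
  rw [hρsub, sub_eq_zero] at h0
  rw [← h0]
  exact hza

/-- The coefficient field of an expansion at a place of a function field is finite over `k`. -/
theorem finiteDimensional_of_expansion (hK : IsFunctionField k K) {P : Place k K}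
    {ψ : K →ₐ[k] F⸨X⸩} (hψ : LocRes.IsExpansionAt P.1 ψ) : FiniteDimensional k F := by
  haveI := finiteDimensional_residueField hK P
  exact finiteDimensional_of_expansion' hψ

end FinDim

section Tower

variable {k k' : Type u} {K K' : Type v} [Field k] [Field k'] [Field K] [Field K']
  [Algebra k k'] [Algebra k K] [Algebra K K'] [Algebra k' K'] [Algebra k K']
  [IsScalarTower k k' K'] [IsScalarTower k K K']

/-- A `k'`-derivation of `K'` killing (the image of) a separating element of `K/k` kills `K`. -/
lemma derivation_vanishes_on_base (s : K)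
    [Algebra.IsSeparable (IntermediateField.adjoin k ({s} : Set K)) K]
    {M : Type*} [AddCommGroup M] [Module K' M] [Module k' M] [IsScalarTower k' K' M]
    (E : Derivation k' K' M) (hE : E (algebraMap K K' s) = 0) :
    ∀ c : K, E (algebraMap K K' c) = 0 := by
  letI : Module K M := Module.compHom M (algebraMap K K')
  letI : Module k M := Module.compHom M (algebraMap k K')
  haveI : IsScalarTower k K M := ⟨fun a b m => by
    show algebraMap K K' (a • b) • m = algebraMap k K' a • (algebraMap K K' b • m)
    rw [Algebra.smul_def, map_mul, ← IsScalarTower.algebraMap_apply, mul_smul]⟩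
  have hconst : ∀ a : k, E (algebraMap k K' a) = 0 := by
    intro a
    rw [IsScalarTower.algebraMap_apply k k' K']
    exact E.map_algebraMap _
  let E₀ : Derivation k K M :=
    { toFun := fun c => E (algebraMap K K' c)
      map_add' := fun a b => by rw [map_add, map_add]
      map_smul' := fun a c => by
        show E (algebraMap K K' (a • c)) = algebraMap k K' a • E (algebraMap K K' c)
        rw [Algebra.smul_def, map_mul, ← IsScalarTower.algebraMap_apply k K K', E.leibniz, hconst,
          smul_zero, add_zero]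
      map_one_eq_zero' := by
        show E (algebraMap K K' 1) = 0
        rw [map_one, E.map_one_eq_zero]
      leibniz' := fun a b => by
        show E (algebraMap K K' (a * b)) =
          algebraMap K K' a • E (algebraMap K K' b) + algebraMap K K' b • E (algebraMap K K' a)
        rw [map_mul, E.leibniz] }
  have h0 : E₀ = 0 := derivation_eq_zero_of_separable s E₀ hE
  intro c
  have := DFunLike.congr_fun h0 c
  exact this

/-- The differentials of `K'/k'` are generated by `ds` for `s` separating in `K/k` and `K'/K`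
separable. -/
theorem diffGen_of_tower (s : K)
    [Algebra.IsSeparable (IntermediateField.adjoin k ({s} : Set K)) K]
    [Algebra.IsSeparable K K'] : DiffGen k' K' := by
  refine ⟨algebraMap K K' s, fun ω => ?_⟩
  set N : Submodule K' (Ω[K'⁄k']) :=
    Submodule.span K' {KaehlerDifferential.D k' K' (algebraMap K K' s)} with hN
  let E : Derivation k' K' (Ω[K'⁄k'] ⧸ N) := (N.mkQ).compDer (KaehlerDifferential.D k' K')
  have hEs : E (algebraMap K K' s) = 0 := by
    show N.mkQ (KaehlerDifferential.D k' K' (algebraMap K K' s)) = 0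
    rw [Submodule.mkQ_apply, Submodule.Quotient.mk_eq_zero]
    exact Submodule.subset_span rfl
  have hvan := derivation_vanishes_on_base (k := k) s E hEs
  haveI : Algebra.FormallyUnramified K K' := Algebra.FormallyUnramified.of_isSeparable K K'
  have hE : E = 0 := derivation_eq_zero_of_formallyUnramified (F := K) E hvan
  have hall : ∀ u : K', KaehlerDifferential.D k' K' u ∈ N := by
    intro u
    have : E u = 0 := by rw [hE]; rfl
    have h2 : N.mkQ (KaehlerDifferential.D k' K' u) = 0 := this
    rwa [Submodule.mkQ_apply, Submodule.Quotient.mk_eq_zero] at h2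
  have htop : (⊤ : Submodule K' (Ω[K'⁄k'])) ≤ N := by
    rw [← KaehlerDifferential.span_range_derivation k' K', Submodule.span_le]
    rintro _ ⟨u, rfl⟩
    exact hall u
  have hω : ω ∈ N := htop trivial
  rw [hN, Submodule.mem_span_singleton] at hω
  obtain ⟨c, hc⟩ := hω
  exact ⟨c, hc.symm⟩

/-- A place of `K'/k'` as a place of `K'/k`. -/
def down (Q : Place k' K') : Place k K' :=
  ⟨Q.1, fun c => by rw [IsScalarTower.algebraMap_apply k k' K']; exact Q.2.1 _, Q.2.2⟩

@[simp] lemma down_val (Q : Place k' K') (z : K') : (down (k := k) Q).1 z = Q.1 z := rfl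

/-- A place of `K'/k` as a place of `K'/k'`, for `k'` algebraic over `k`. -/
def up [Algebra.IsAlgebraic k k'] (Q : Place k K') : Place k' K' :=
  ⟨Q.1, fun c => by
    have hint : IsIntegral k (algebraMap k' K' c) :=
      (Algebra.IsIntegral.isIntegral (R := k) c).map (IsScalarTower.toAlgHom k k' K')
    exact val_le_one_of_isIntegral Q.1 Q.2.1 hint, Q.2.2⟩

lemma down_up [Algebra.IsAlgebraic k k'] (Q : Place k K') : down (up (k' := k') Q) = Q :=
  Subtype.ext rfl

lemma up_down [Algebra.IsAlgebraic k k'] (Q : Place k' K') : up (down (k := k) Q) = Q :=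
  Subtype.ext rfl

lemma down_injective : Function.Injective (down : Place k' K' → Place k K') := by
  intro Q₁ Q₂ h
  apply Subtype.ext
  exact congrArg (fun Q : Place k K' => Q.1) h

/-- `deg_k Q = [k' : k] deg_{k'} Q`. -/
lemma deg_down (Q : Place k' K') :
    (down (k := k) Q).deg = Module.finrank k k' * Q.deg := by
  let i1 : Algebra k (IsLocalRing.ResidueField Q.O) := Place.algRes (down (k := k) Q)
  have i2 : IsScalarTower k k' (IsLocalRing.ResidueField Q.O) :=
    IsScalarTower.of_algebraMap_eq (fun c => by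
      show IsLocalRing.residue Q.O _ = IsLocalRing.residue Q.O _
      congr 1
      apply Subtype.ext
      exact IsScalarTower.algebraMap_apply k k' K' c)
  have h := @Module.finrank_mul_finrank k k'
    (IsLocalRing.ResidueField Q.O) _ _ _ Algebra.toModule Algebra.toModule
    Algebra.toModule i2 _ _ _ _
  exact h.symm

section Fiber

variable [FiniteDimensional K K'] [FiniteDimensional k k']
variable {below : Place k' K' → Place k K} {e : Place k' K' → ℕ}
  (he : ∀ (Q : Place k' K') (z : K), Q.1 (algebraMap K K' z) = (below Q).1 z ^ e Q)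

include he in
lemma isOverWith_down (Q : Place k' K') : IsOverWith (down (k := k) Q) (below Q) (e Q) :=
  fun z => he Q z

include he in
lemma finite_fiber (hK : IsFunctionField k K) (P : Place k K) :
    {Q : Place k' K' | below Q = P}.Finite := by
  refine ((finite_isOver (K' := K') hK P).preimage (down_injective (k := k)).injOn).subset ?_
  intro Q hQ
  rw [Set.mem_setOf_eq] at hQ
  show IsOver (down (k := k) Q) P
  rw [← hQ]
  exact ⟨e Q, isOverWith_down he Q⟩

include he in
/-- The fundamental equality for places of `K'/k'`: `[k':k] ∑_{Q | P} e(Q) deg_{k'} Q = [K':K] deg P`. -/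
theorem sum_fiber (hK : IsFunctionField k K) (P : Place k K) (fs : Finset (Place k' K'))
    (hfs : ∀ Q, Q ∈ fs ↔ below Q = P) :
    Module.finrank k k' * ∑ Q ∈ fs, e Q * Q.deg = Module.finrank K K' * P.deg := by
  classical
  haveI : Algebra.IsAlgebraic k k' := Algebra.IsAlgebraic.of_finite k k'
  set Qs : Finset (Place k K') := fs.map ⟨down, down_injective (k := k)⟩ with hQsdef
  have hQs : ∀ Q₀, Q₀ ∈ Qs ↔ IsOver Q₀ P := by
    intro Q₀
    rw [hQsdef, Finset.mem_map]
    constructor
    · rintro ⟨Q, hQ, rfl⟩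
      rw [hfs] at hQ
      show IsOver (down (k := k) Q) P
      rw [← hQ]
      exact ⟨e Q, isOverWith_down he Q⟩
    · intro h
      refine ⟨up Q₀, ?_, down_up Q₀⟩
      rw [hfs]
      have h1 : IsOver (down (k := k) (up (k' := k') Q₀)) (below (up Q₀)) :=
        ⟨_, isOverWith_down he _⟩
      rw [down_up] at h1
      exact isOver_unique_below h1 h
  have h := sum_ramIdx_mul_deg hK P Qs hQs
  rw [hQsdef, Finset.sum_map] at h
  rw [← h, Finset.mul_sum]
  apply Finset.sum_congr rfl
  intro Q hQ
  rw [hfs] at hQ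
  simp only [Function.Embedding.coeFn_mk]
  have h1 : ramIdx (down (k := k) Q) P = e Q := by
    rw [← hQ]
    exact ramIdx_eq (isOverWith_down he Q)
  rw [h1, deg_down]
  ring

include he in
/-- Summing a divisor of `K` pulled back to `K'` place by place. -/
theorem sum_pullback (hK : IsFunctionField k K) (C : Divisor k K) (S : Finset (Place k' K'))
    (hS : ∀ Q, Q ∈ S ↔ below Q ∈ C.support) :
    (Module.finrank k k' : ℤ) * ∑ Q ∈ S, (e Q : ℤ) * C (below Q) * (Q.deg : ℤ) =
      (Module.finrank K K' : ℤ) * C.deg := by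
  classical
  have hmaps : ∀ Q ∈ S, below Q ∈ C.support := fun Q hQ => (hS Q).1 hQ
  rw [← Finset.sum_fiberwise_of_maps_to hmaps, Finset.mul_sum,
    deg_eq_sum_of_support_subset C (Finset.Subset.refl _), Finset.mul_sum]
  apply Finset.sum_congr rfl
  intro P hP
  have hfs : ∀ Q, Q ∈ S.filter (fun Q => below Q = P) ↔ below Q = P := by
    intro Q
    rw [Finset.mem_filter, hS]
    constructor
    · exact fun h => h.2
    · intro h
      exact ⟨by rw [h]; exact hP, h⟩
  have h1 := sum_fiber he hK P _ hfs
  have h2 : ∑ Q ∈ S.filter (fun Q => below Q = P), (e Q : ℤ) * C (below Q) * (Q.deg : ℤ) =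
      C P * ∑ Q ∈ S.filter (fun Q => below Q = P), ((e Q * Q.deg : ℕ) : ℤ) := by
    rw [Finset.mul_sum]
    apply Finset.sum_congr rfl
    intro Q hQ
    rw [(hfs Q).1 hQ]
    push_cast
    ring
  rw [h2, ← Nat.cast_sum]
  have h3 : ((Module.finrank k k' * ∑ Q ∈ S.filter (fun Q => below Q = P), e Q * Q.deg : ℕ) : ℤ) =
      ((Module.finrank K K' * P.deg : ℕ) : ℤ) := by rw [h1]
  push_cast at h3 ⊢
  linear_combination C P * h3

end Fiber

end Tower

section Main

variable {k k' : Type u} {K K' : Type v} [Field k] [Field k'] [Field K] [Field K']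
  [Algebra k k'] [Algebra k K] [Algebra K K'] [Algebra k' K'] [Algebra k K']
  [IsScalarTower k k' K'] [IsScalarTower k K K'] [FiniteDimensional k k'] [FiniteDimensional K K']
  [Algebra.IsSeparable K K']

/-- **Riemann–Hurwitz**, through Laurent expansions. -/
theorem riemann_hurwitz
    (hK : IsFunctionField k K) (hg : IsGeometric k K) (hK' : IsFunctionField k' K')
    (F : Place k K → Type w) [∀ P, Field (F P)] [∀ P, Algebra k (F P)]
    (φ : ∀ P, K →ₐ[k] (F P)⸨X⸩) (hφ : ∀ P, LocRes.IsExpansionAt P.1 (φ P))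
    (F' : Place k' K' → Type w) [∀ Q, Field (F' Q)] [∀ Q, Algebra k' (F' Q)]
    (ψ : ∀ Q, K' →ₐ[k'] (F' Q)⸨X⸩) (hψ : ∀ Q, LocRes.IsExpansionAt Q.1 (ψ Q))
    (below : Place k' K' → Place k K) (e : Place k' K' → ℕ)
    (he : ∀ Q (z : K), Q.1 (algebraMap K K' z) = (below Q).1 z ^ e Q)
    (x : K) (hx : ∀ P, LocRes.vDiff (φ P) 1 x ≠ 0)
    (hx' : ∀ Q, LocRes.vDiff (ψ Q) 1 (algebraMap K K' x) ≠ 0) :
    (Function.support fun Q => LocRes.diffExp (φ (below Q)) (ψ Q) (e Q) x).Finite ∧
    (Module.finrank k k' : ℤ) * (2 * (genus k' K' : ℤ) - 2) =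
      (Module.finrank K K' : ℤ) * (2 * (genus k K : ℤ) - 2) +
      (Module.finrank k k' : ℤ) *
        ∑ᶠ Q, LocRes.diffExp (φ (below Q)) (ψ Q) (e Q) x * (Q.deg : ℤ) := by
  classical
  haveI : ∀ P, FiniteDimensional k (F P) := fun P => finiteDimensional_of_expansion hK (hφ P)
  haveI : ∀ Q, FiniteDimensional k' (F' Q) := fun Q => finiteDimensional_of_expansion hK' (hψ Q)
  obtain ⟨s, -, hsep⟩ := exists_separating hK hg
  haveI := hsep
  have hdg : DiffGen k K := diffGen_of_separable s
  have hdg' : DiffGen k' K' := diffGen_of_tower (k := k) s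
  obtain ⟨P₀⟩ := exists_place hK
  obtain ⟨Q₀⟩ := exists_place hK'
  have hv : KaehlerDifferential.D k K x ≠ 0 := kaehler_D_ne_zero_of_vDiff_ne_zero (φ P₀) (hx P₀)
  have hv' : KaehlerDifferential.D k' K' (algebraMap K K' x) ≠ 0 :=
    kaehler_D_ne_zero_of_vDiff_ne_zero (ψ Q₀) (hx' Q₀)
  obtain ⟨C, hC, hCcan, -⟩ := exists_canonical_ordDiff' hK hφ hdg hv
  obtain ⟨C', hC', hC'can, -⟩ := exists_canonical_ordDiff' hK' hψ hdg' hv'
  have hdegC : C.deg = 2 * (genus k K : ℤ) - 2 := ((isCanonical_iff hK C).1 hCcan).2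
  have hdegC' : C'.deg = 2 * (genus k' K' : ℤ) - 2 := ((isCanonical_iff hK' C').1 hC'can).2
  have hd : ∀ Q, LocRes.diffExp (φ (below Q)) (ψ Q) (e Q) x = C' Q - (e Q : ℤ) * C (below Q) := by
    intro Q
    unfold LocRes.diffExp
    rw [hC', hC]
  -- the finite set of places above the support of `C`
  let S : Finset (Place k' K') :=
    C.support.biUnion fun P => (finite_fiber he hK P).toFinset
  have hS : ∀ Q, Q ∈ S ↔ below Q ∈ C.support := by
    intro Q
    simp only [S, Finset.mem_biUnion, Set.Finite.mem_toFinset, Set.mem_setOf_eq]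
    constructor
    · rintro ⟨P, hP, hQP⟩
      rw [hQP]; exact hP
    · intro h
      exact ⟨below Q, h, rfl⟩
  set U : Finset (Place k' K') := C'.support ∪ S with hU
  have hsupp : (Function.support fun Q => LocRes.diffExp (φ (below Q)) (ψ Q) (e Q) x) ⊆ ↑U := by
    intro Q hQ
    rw [Function.mem_support, hd] at hQ
    rw [hU, Finset.coe_union, Set.mem_union, Finset.mem_coe, Finset.mem_coe, hS,
      Finsupp.mem_support_iff, Finsupp.mem_support_iff]
    by_contra hcon
    push Not at hcon
    rw [hcon.1, hcon.2] at hQ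
    simp at hQ
  refine ⟨U.finite_toSet.subset hsupp, ?_⟩
  have hsupp2 : (Function.support fun Q =>
      LocRes.diffExp (φ (below Q)) (ψ Q) (e Q) x * (Q.deg : ℤ)) ⊆ ↑U := by
    intro Q hQ
    apply hsupp
    rw [Function.mem_support] at hQ ⊢
    exact left_ne_zero_of_mul hQ
  rw [finsum_eq_sum_of_support_subset _ hsupp2]
  have h1 : ∑ Q ∈ U, LocRes.diffExp (φ (below Q)) (ψ Q) (e Q) x * (Q.deg : ℤ) =
      ∑ Q ∈ U, C' Q * (Q.deg : ℤ) - ∑ Q ∈ U, (e Q : ℤ) * C (below Q) * (Q.deg : ℤ) := by
    rw [← Finset.sum_sub_distrib]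
    apply Finset.sum_congr rfl
    intro Q _
    rw [hd]
    ring
  have h2 : ∑ Q ∈ U, C' Q * (Q.deg : ℤ) = C'.deg :=
    (deg_eq_sum_of_support_subset C' Finset.subset_union_left).symm
  have h3 : ∑ Q ∈ U, (e Q : ℤ) * C (below Q) * (Q.deg : ℤ) =
      ∑ Q ∈ S, (e Q : ℤ) * C (below Q) * (Q.deg : ℤ) := by
    symm
    apply Finset.sum_subset Finset.subset_union_right
    intro Q _ hQS
    rw [hS, Finsupp.mem_support_iff, not_not] at hQS
    rw [hQS]
    ring
  have h4 := sum_pullback he hK C S hS
  rw [h1, h2, h3]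
  linear_combination (-(Module.finrank k k' : ℤ)) * hdegC' + h4 + (Module.finrank K K' : ℤ) * hdegC

end Main

end Groth.Agent.Lib.Helper88.RH
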