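/-
Abstract residues (after Tate), part 3: restriction to a dense subspace, additivity and block
operators.  These are the abstract ingredients of the trace formula for residues.
Author: helper88
-/
import Groth.Agent.Lib.Helper88.TateRes
import Groth.Agent.Lib.Helper88.TateProd

set_option autoImplicit false
set_option linter.unusedSectionVars false

namespace Groth.Agent.Lib.Helper88.FRT

open LinearMap

variable {k : Type*} [Field k]
variable {V : Type*} [AddCommGroup V] [Module k V]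
variable {A : Type*} [AddCommGroup A] [Module k A]
variable {V₀ : Type*} [AddCommGroup V₀] [Module k V₀]
variable {A₀ : Type*} [AddCommGroup A₀] [Module k A₀]

lemma almostPres_of_isFR' (i : A →ₗ[k] V) (π : V →ₗ[k] A) (f : V →ₗ[k] V)
    (h : IsFR ((LinearMap.id - i ∘ₗ π) ∘ₗ f ∘ₗ i)) : AlmostPres i f := by
  refine ⟨LinearMap.range ((LinearMap.id - i ∘ₗ π) ∘ₗ f ∘ₗ i), h, ?_⟩
  intro a
  have e : f (i a) = i (π (f (i a))) + ((LinearMap.id - i ∘ₗ π) ∘ₗ f ∘ₗ i) a := by
    simp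
  rw [e]
  exact Submodule.add_mem_sup ⟨_, rfl⟩ ⟨a, rfl⟩

lemma isFR_of_almostPres (i : A →ₗ[k] V) (π : V →ₗ[k] A) (hπ : ∀ a, π (i a) = a)
    {f : V →ₗ[k] V} (hf : AlmostPres i f) :
    IsFR ((LinearMap.id - i ∘ₗ π) ∘ₗ f ∘ₗ i) := by
  obtain ⟨W, hW, hfW⟩ := hf
  have hle : LinearMap.range ((LinearMap.id - i ∘ₗ π) ∘ₗ f ∘ₗ i) ≤
      Submodule.map (LinearMap.id - i ∘ₗ π) W := by
    rintro _ ⟨a, rfl⟩
    obtain ⟨x, hx, w, hw, hxw⟩ := Submodule.mem_sup.1 (hfW a)
    obtain ⟨a', rfl⟩ := hx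
    refine ⟨w, hw, ?_⟩
    simp only [LinearMap.comp_apply]
    rw [← hxw, map_add]
    have : ((LinearMap.id : V →ₗ[k] V) - i ∘ₗ π) (i a') = 0 := by simp [hπ]
    rw [this, zero_add]
  exact Submodule.finiteDimensional_of_le hle

/-! ### Restriction to a dense subspace -/

section restrict

variable (ι : V₀ →ₗ[k] V) (i : A →ₗ[k] V) (i₀ : A₀ →ₗ[k] V₀)

/-- Almost-preservation descends to a subspace `V₀` with `V = V₀ + A` and `A₀ = V₀ ∩ A`. -/
theorem almostPres_restrict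
    (hcap : ∀ v₀, ι v₀ ∈ LinearMap.range i ↔ v₀ ∈ LinearMap.range i₀)
    (hsum : ∀ v, ∃ v₀ a, v = ι v₀ + i a)
    {f : V →ₗ[k] V} {f₀ : V₀ →ₗ[k] V₀} (hf₀ : ∀ v₀, ι (f₀ v₀) = f (ι v₀))
    (hf : AlmostPres i f) : AlmostPres i₀ f₀ := by
  classical
  have hsurj : LinearMap.range (ι.coprod i) = ⊤ := by
    rw [eq_top_iff]
    rintro v -
    obtain ⟨v₀, a, rfl⟩ := hsum v
    exact ⟨(v₀, a), by simp⟩
  obtain ⟨Φ, hΦ⟩ := LinearMap.exists_rightInverse_of_surjective _ hsurj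
  set s : V →ₗ[k] V₀ := LinearMap.fst k V₀ A ∘ₗ Φ with hs
  set r : V →ₗ[k] A := LinearMap.snd k V₀ A ∘ₗ Φ with hr
  have hsr : ∀ v, v = ι (s v) + i (r v) := by
    intro v
    have := LinearMap.congr_fun hΦ v
    simp only [LinearMap.comp_apply, LinearMap.coprod_apply, LinearMap.id_apply] at this
    exact this.symm
  obtain ⟨W, hW, hfW⟩ := hf
  refine ⟨W.map s, inferInstance, ?_⟩
  intro a₀
  obtain ⟨a, ha⟩ := (hcap (i₀ a₀)).2 ⟨a₀, rfl⟩
  have h1 : ι (f₀ (i₀ a₀)) = f (i a) := by rw [hf₀, ha]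
  obtain ⟨x, hx, w, hw, hxw⟩ := Submodule.mem_sup.1 (hfW a)
  obtain ⟨a', rfl⟩ := hx
  have h2 : ι (f₀ (i₀ a₀) - s w) ∈ LinearMap.range i := by
    refine ⟨a' + r w, ?_⟩
    rw [map_sub, h1, ← hxw, map_add]
    have h := hsr w
    calc i a' + i (r w) = i a' + (ι (s w) + i (r w)) - ι (s w) := by abel
      _ = i a' + w - ι (s w) := by rw [← h]
  have h3 := (hcap _).1 h2
  have e : f₀ (i₀ a₀) = (f₀ (i₀ a₀) - s w) + s w := by abel
  rw [e]
  exact Submodule.add_mem_sup h3 ⟨w, hw, rfl⟩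

/-- **Restriction.** Let `V₀ ⊆ V` with `V = V₀ + A` and `A₀ = V₀ ∩ A`.  Then the residue of a pair
of commuting operators preserving `V₀` may be computed on `(V₀, A₀)`. -/
theorem tres_restrict (hι : Function.Injective ι)
    (π : V →ₗ[k] A) (hπ : ∀ a, π (i a) = a)
    (π₀ : V₀ →ₗ[k] A₀) (hπ₀ : ∀ a, π₀ (i₀ a) = a)
    (hcap : ∀ v₀, ι v₀ ∈ LinearMap.range i ↔ v₀ ∈ LinearMap.range i₀)
    (hsum : ∀ v, ∃ v₀ a, v = ι v₀ + i a)
    {f g : V →ₗ[k] V} {f₀ g₀ : V₀ →ₗ[k] V₀} (hfg : f ∘ₗ g = g ∘ₗ f)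
    (hf₀ : ∀ v₀, ι (f₀ v₀) = f (ι v₀)) (hg₀ : ∀ v₀, ι (g₀ v₀) = g (ι v₀))
    (hf : AlmostPres i f) (hg : AlmostPres i g) :
    tres i π f g = tres i₀ π₀ f₀ g₀ := by
  classical
  have hsurj : LinearMap.range (ι.coprod i) = ⊤ := by
    rw [eq_top_iff]
    rintro v -
    obtain ⟨v₀, a, rfl⟩ := hsum v
    exact ⟨(v₀, a), by simp⟩
  obtain ⟨Φ, hΦ⟩ := LinearMap.exists_rightInverse_of_surjective _ hsurj
  set s : V →ₗ[k] V₀ := LinearMap.fst k V₀ A ∘ₗ Φ with hs
  set r : V →ₗ[k] A := LinearMap.snd k V₀ A ∘ₗ Φ with hr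
  have hsr : ∀ v, v = ι (s v) + i (r v) := by
    intro v
    have := LinearMap.congr_fun hΦ v
    simp only [LinearMap.comp_apply, LinearMap.coprod_apply, LinearMap.id_apply] at this
    exact this.symm
  have hi_inj : Function.Injective i := fun a b h => by rw [← hπ a, ← hπ b, h]
  have hi₀_inj : Function.Injective i₀ := fun a b h => by rw [← hπ₀ a, ← hπ₀ b, h]
  -- the comparison map `A₀ → A`
  set κ : A₀ →ₗ[k] A := π ∘ₗ ι ∘ₗ i₀ with hκ
  have hiκ : ∀ a₀, i (κ a₀) = ι (i₀ a₀) := by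
    intro a₀
    obtain ⟨a, ha⟩ := (hcap (i₀ a₀)).2 ⟨a₀, rfl⟩
    simp only [hκ, LinearMap.comp_apply]
    rw [← ha, hπ]
  have hκ_inj : Function.Injective κ := by
    intro a b h
    have := congrArg i h
    rw [hiκ, hiκ] at this
    exact hi₀_inj (hι this)
  -- the complementary component
  set cc : V →ₗ[k] V₀ := s - i₀ ∘ₗ π₀ ∘ₗ s with hcc
  have hcc0 : ∀ v, π₀ (cc v) = 0 := by
    intro v
    simp only [hcc, LinearMap.sub_apply, LinearMap.comp_apply, map_sub, hπ₀, sub_self]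
  -- the adapted projection
  set π' : V →ₗ[k] A := r + κ ∘ₗ π₀ ∘ₗ s with hπ'
  have hdec : ∀ v, v = i (π' v) + ι (cc v) := by
    intro v
    refine (hsr v).trans ?_
    simp only [hπ', hcc, LinearMap.add_apply, LinearMap.sub_apply, LinearMap.comp_apply, map_add,
      map_sub, hiκ]
    abel
  have hc0 : ∀ c : V₀, π₀ c = 0 → ι c ∈ LinearMap.range i → c = 0 := by
    intro c hc hci
    obtain ⟨b, rfl⟩ := (hcap c).1 hci
    rw [hπ₀] at hc
    rw [hc, map_zero]
  have hπ'i : ∀ a, π' (i a) = a := by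
    intro a
    have h1 := hdec (i a)
    have hc : cc (i a) = 0 := by
      apply hc0 _ (hcc0 _)
      refine ⟨a - π' (i a), ?_⟩
      rw [map_sub, eq_comm, eq_sub_iff_add_eq']
      exact h1.symm
    rw [hc, map_zero, add_zero] at h1
    exact (hi_inj h1).symm
  have hπ'ι : ∀ v₀, π' (ι v₀) = κ (π₀ v₀) := by
    intro v₀
    have h1 := hdec (ι v₀)
    have h2 : ι (v₀ - cc (ι v₀)) = i (π' (ι v₀)) := by
      rw [map_sub, sub_eq_iff_eq_add]
      exact h1
    obtain ⟨b, hb⟩ := (hcap (v₀ - cc (ι v₀))).1 ⟨_, h2.symm⟩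
    have hb' : π₀ v₀ = b := by
      have := congrArg π₀ hb
      rw [hπ₀, map_sub, hcc0, sub_zero] at this
      exact this.symm
    apply hi_inj
    rw [hiκ, hb', hb, h2]
  -- change of projection
  have e1 : tres i π f g = tres i π' f g :=
    tres_eq_of_le i π hπ i π' hπ'i le_rfl ⊥ (by simp) hfg hf hg
  rw [e1]
  -- intertwining
  have hT : ∀ {f : V →ₗ[k] V} {f₀ : V₀ →ₗ[k] V₀}, (∀ v₀, ι (f₀ v₀) = f (ι v₀)) →
      ∀ a₀, toep i π' f (κ a₀) = κ (toep i₀ π₀ f₀ a₀) := by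
    intro f f₀ h a₀
    simp only [toep_apply]
    rw [hiκ, ← h, hπ'ι]
  set θ' := toep i π' f ∘ₗ toep i π' g - toep i π' g ∘ₗ toep i π' f with hθ'
  set θ₀ := toep i₀ π₀ f₀ ∘ₗ toep i₀ π₀ g₀ - toep i₀ π₀ g₀ ∘ₗ toep i₀ π₀ f₀ with hθ₀
  have hθκ : ∀ a₀, θ' (κ a₀) = κ (θ₀ a₀) := by
    intro a₀
    simp only [hθ', hθ₀, LinearMap.sub_apply, LinearMap.comp_apply, map_sub]
    rw [hT hg₀, hT hf₀, hT hf₀, hT hg₀]
  -- the commutator factors through `κ`
  set ξ : A →ₗ[k] A₀ := π₀ ∘ₗ g₀ ∘ₗ cc ∘ₗ f ∘ₗ i - π₀ ∘ₗ f₀ ∘ₗ cc ∘ₗ g ∘ₗ i with hξ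
  have hTT : ∀ {f g : V →ₗ[k] V} {f₀ : V₀ →ₗ[k] V₀}, (∀ v₀, ι (f₀ v₀) = f (ι v₀)) →
      ∀ a, toep i π' f (toep i π' g a) = π' (f (g (i a))) - κ (π₀ (f₀ (cc (g (i a))))) := by
    intro f g f₀ h a
    simp only [toep_apply]
    have h1 : i (π' (g (i a))) = g (i a) - ι (cc (g (i a))) := by
      rw [eq_sub_iff_add_eq]
      exact (hdec _).symm
    rw [h1, map_sub, map_sub, ← h, hπ'ι]
  have hfact : θ' = κ ∘ₗ ξ := by
    apply LinearMap.ext
    intro a
    simp only [hθ', hξ, LinearMap.sub_apply, LinearMap.comp_apply, map_sub]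
    rw [hTT hf₀, hTT hg₀]
    have : f (g (i a)) = g (f (i a)) := LinearMap.congr_fun hfg (i a)
    rw [this]
    abel
  have hθ'FR : IsFR θ' := isFR_toep_comm i π' hπ'i hfg hf hg
  have hξFR : IsFR ξ := by
    rw [hfact] at hθ'FR
    unfold IsFR at *
    rw [LinearMap.range_comp] at hθ'FR
    exact LinearEquiv.finiteDimensional
      (Submodule.equivMapOfInjective κ hκ_inj (LinearMap.range ξ)).symm
  have hξκ : ξ ∘ₗ κ = θ₀ := by
    apply LinearMap.ext
    intro a₀
    apply hκ_inj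
    have := hθκ a₀
    rw [hfact] at this
    exact this
  unfold tres
  rw [← hθ', ← hθ₀, hfact, ← frTrace_comp_comm hξFR κ, hξκ]

end restrict

/-! ### Additivity -/

section additivity

variable (i : A →ₗ[k] V) (π : V →ₗ[k] A)

lemma toep_sum {J : Type*} (s : Finset J) (f : J → (V →ₗ[k] V)) :
    toep i π (∑ j ∈ s, f j) = ∑ j ∈ s, toep i π (f j) := by
  classical
  induction s using Finset.induction_on with
  | empty =>
    apply LinearMap.ext; intro a; simp [toep]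
  | insert j s hj ih =>
    rw [Finset.sum_insert hj, Finset.sum_insert hj, ← ih]
    apply LinearMap.ext; intro a; simp [toep]

lemma almostPres_sum {J : Type*} (s : Finset J) (f : J → (V →ₗ[k] V))
    (hπ : ∀ a, π (i a) = a) (hf : ∀ j ∈ s, AlmostPres i (f j)) :
    AlmostPres i (∑ j ∈ s, f j) := by
  apply almostPres_of_isFR' i π
  have : (LinearMap.id - i ∘ₗ π) ∘ₗ (∑ j ∈ s, f j) ∘ₗ i =
      ∑ j ∈ s, (LinearMap.id - i ∘ₗ π) ∘ₗ f j ∘ₗ i := by
    apply LinearMap.ext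
    intro a
    simp only [LinearMap.comp_apply, LinearMap.sum_apply, map_sum]
  rw [this]
  exact isFR_finset_sum _ _ fun j hj => isFR_of_almostPres i π hπ (hf j hj)

theorem tres_sum_left {J : Type*} (s : Finset J) (f : J → (V →ₗ[k] V)) (g : V →ₗ[k] V)
    (hπ : ∀ a, π (i a) = a) (hfg : ∀ j ∈ s, f j ∘ₗ g = g ∘ₗ f j)
    (hf : ∀ j ∈ s, AlmostPres i (f j)) (hg : AlmostPres i g) :
    tres i π (∑ j ∈ s, f j) g = ∑ j ∈ s, tres i π (f j) g := by
  unfold tres
  have : (∑ j ∈ s, toep i π (f j)) ∘ₗ toep i π g - toep i π g ∘ₗ ∑ j ∈ s, toep i π (f j) =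
      ∑ j ∈ s, (toep i π (f j) ∘ₗ toep i π g - toep i π g ∘ₗ toep i π (f j)) := by
    apply LinearMap.ext
    intro a
    simp only [LinearMap.sub_apply, LinearMap.comp_apply, LinearMap.sum_apply, map_sum,
      Finset.sum_sub_distrib]
  rw [toep_sum, this, frTrace_finset_sum]
  intro j hj
  exact isFR_toep_comm i π hπ (hfg j hj) (hf j hj) hg

end additivity

/-! ### Block operators -/

section block

variable {B : Type*} [AddCommGroup B] [Module k B]
variable {C : Type*} [AddCommGroup C] [Module k C]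
variable {J : Type*} [Fintype J] [DecidableEq J]

/-- The operator on `J → A` with blocks `θ r s`. -/
def blockOp (θ : J → J → (A →ₗ[k] B)) : (J → A) →ₗ[k] (J → B) :=
  LinearMap.pi fun r => ∑ s, θ r s ∘ₗ LinearMap.proj s

@[simp] lemma blockOp_apply (θ : J → J → (A →ₗ[k] B)) (a : J → A) (r : J) :
    blockOp θ a r = ∑ s, θ r s (a s) := by
  simp [blockOp]

lemma blockOp_eq_sum (θ : J → J → (A →ₗ[k] B)) :
    blockOp θ = ∑ r, ∑ s, (LinearMap.single k (fun _ : J => B) r ∘ₗ θ r s) ∘ₗ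
      LinearMap.proj s := by
  apply LinearMap.ext
  intro a
  funext r
  have h1 : ∀ s, ∑ c, (Pi.single c (θ c s (a s)) : J → B) r = θ r s (a s) := by
    intro s
    rw [Finset.sum_pi_single]
    simp
  simp only [blockOp_apply, LinearMap.sum_apply, Finset.sum_apply, LinearMap.comp_apply,
    LinearMap.proj_apply, LinearMap.coe_single]
  rw [Finset.sum_comm]
  apply Finset.sum_congr rfl
  intro s _
  exact (h1 s).symm

lemma isFR_blockOp (θ : J → J → (A →ₗ[k] B)) (h : ∀ r s, IsFR (θ r s)) : IsFR (blockOp θ) := by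
  rw [blockOp_eq_sum]
  apply isFR_finset_sum
  intro r _
  apply isFR_finset_sum
  intro s _
  exact isFR_comp_right (isFR_comp_left (h r s) _) _

theorem frTrace_blockOp (θ : J → J → (A →ₗ[k] A)) (h : ∀ r s, IsFR (θ r s)) :
    frTrace (blockOp θ) = ∑ r, frTrace (θ r r) := by
  rw [blockOp_eq_sum, frTrace_finset_sum]
  · apply Finset.sum_congr rfl
    intro r _
    rw [frTrace_finset_sum]
    · rw [Finset.sum_eq_single r]
      · rw [frTrace_comp_comm (isFR_comp_left (h r r) _)]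
        congr 1
        apply LinearMap.ext
        intro a
        simp
      · intro s _ hs
        rw [frTrace_comp_comm (isFR_comp_left (h r s) _)]
        have : LinearMap.proj s ∘ₗ LinearMap.single k (fun _ : J => A) r ∘ₗ θ r s = 0 := by
          apply LinearMap.ext
          intro a
          simp [Pi.single_apply, hs]
        rw [this, frTrace_zero]
      · intro h'; exact absurd (Finset.mem_univ r) h'
    · intro s _
      exact isFR_comp_right (isFR_comp_left (h r s) _) _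
  · intro r _
    apply isFR_finset_sum
    intro s _
    exact isFR_comp_right (isFR_comp_left (h r s) _) _

variable (i : A →ₗ[k] V) (π : V →ₗ[k] A)

/-- the constant diagonal operator -/
abbrev cdiag (θ : A →ₗ[k] B) : (J → A) →ₗ[k] (J → B) :=
  diagOp (ι := J) (A := fun _ => A) (B := fun _ => B) (fun _ => θ)

lemma cdiag_apply (θ : A →ₗ[k] B) (a : J → A) (r : J) : cdiag (J := J) θ a r = θ (a r) := rfl

lemma toep_blockOp (M : J → J → (V →ₗ[k] V)) :
    toep (cdiag (J := J) i) (cdiag π) (blockOp M) = blockOp fun r s => toep i π (M r s) := by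
  apply LinearMap.ext
  intro a
  funext r
  simp only [toep_apply, cdiag_apply, blockOp_apply, map_sum]

lemma toep_cdiag (g : V →ₗ[k] V) :
    toep (cdiag (J := J) i) (cdiag π) (cdiag g) = cdiag (toep i π g) := rfl

lemma almostPres_blockOp (hπ : ∀ a, π (i a) = a) (M : J → J → (V →ₗ[k] V))
    (hM : ∀ r s, AlmostPres i (M r s)) : AlmostPres (cdiag (J := J) i) (blockOp M) := by
  apply almostPres_of_isFR' _ (cdiag π)
  have : (LinearMap.id - cdiag (J := J) i ∘ₗ cdiag π) ∘ₗ blockOp M ∘ₗ cdiag i =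
      blockOp fun r s => (LinearMap.id - i ∘ₗ π) ∘ₗ M r s ∘ₗ i := by
    apply LinearMap.ext
    intro a
    funext r
    simp only [LinearMap.comp_apply, LinearMap.sub_apply, LinearMap.id_apply, Pi.sub_apply,
      cdiag_apply, blockOp_apply, map_sum, Finset.sum_sub_distrib]
  rw [this]
  exact isFR_blockOp _ fun r s => isFR_of_almostPres i π hπ (hM r s)

lemma almostPres_cdiag (hπ : ∀ a, π (i a) = a) {g : V →ₗ[k] V} (hg : AlmostPres i g) :
    AlmostPres (cdiag (J := J) i) (cdiag g) := by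
  apply almostPres_of_isFR' _ (cdiag π)
  have : (LinearMap.id - cdiag (J := J) i ∘ₗ cdiag π) ∘ₗ cdiag g ∘ₗ cdiag i =
      cdiag ((LinearMap.id - i ∘ₗ π) ∘ₗ g ∘ₗ i) := by
    apply LinearMap.ext
    intro a
    funext r
    simp only [LinearMap.comp_apply, LinearMap.sub_apply, LinearMap.id_apply, Pi.sub_apply,
      cdiag_apply]
  rw [this]
  exact isFR_diagOp _ Finset.univ (fun r hr => absurd (Finset.mem_univ r) hr)
    fun r _ => isFR_of_almostPres i π hπ hg

/-- **Block trace.** The residue of a block operator against a constant diagonal operator is the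
sum of the residues of the diagonal blocks. -/
theorem tres_block (hπ : ∀ a, π (i a) = a) (M : J → J → (V →ₗ[k] V)) (g : V →ₗ[k] V)
    (hMg : ∀ r s, M r s ∘ₗ g = g ∘ₗ M r s) (hM : ∀ r s, AlmostPres i (M r s))
    (hg : AlmostPres i g) :
    tres (cdiag (J := J) i) (cdiag π) (blockOp M) (cdiag g) = ∑ r, tres i π (M r r) g := by
  unfold tres
  rw [toep_blockOp, toep_cdiag]
  have : (blockOp fun r s => toep i π (M r s)) ∘ₗ cdiag (J := J) (toep i π g) -
      cdiag (toep i π g) ∘ₗ (blockOp fun r s => toep i π (M r s)) =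
      blockOp fun r s => toep i π (M r s) ∘ₗ toep i π g - toep i π g ∘ₗ toep i π (M r s) := by
    apply LinearMap.ext
    intro a
    funext r
    simp only [LinearMap.comp_apply, LinearMap.sub_apply, Pi.sub_apply, cdiag_apply,
      blockOp_apply, map_sum, Finset.sum_sub_distrib]
  rw [this, frTrace_blockOp]
  intro r s
  exact isFR_toep_comm i π hπ (hMg r s) (hM r s) hg

end block

end Groth.Agent.Lib.Helper88.FRT
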