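/-
The trace formula for residues: `Res_P (Tr(y) dx) = ∑_{Q | P} Res_Q (y dx)`, after Tate.
Author: helper88
-/
import Groth.Agent.Lib.Helper88.TateTrace
import Groth.Agent.Lib.Helper88.TateGlobal
import Groth.Agent.Lib.Helper88.FunFldApprox
import Groth.Agent.Lib.Helper34.FunFldIntFin

set_option autoImplicit false
set_option linter.unusedSectionVars false

namespace Groth.Agent.Lib.Helper88.TR

open FunFld WithZero LaurentSeries PowerSeries
open Groth.Agent.Lib.Helper88.FRT Groth.Agent.Lib.Helper88.TL Groth.Agent.Lib.Helper88.FF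
  Groth.Agent.Lib.Helper88.TG

universe u v w

/-! ### Generalities -/

section general

variable {k : Type*} [Field k] {M : Type*} [AddCommGroup M] [Module k M]

lemma exists_proj (S : Submodule k M) : ∃ π : M →ₗ[k] S, ∀ a : S, π a = a := by
  obtain ⟨π, hπ⟩ := LinearMap.exists_leftInverse_of_injective S.subtype (Submodule.ker_subtype S)
  exact ⟨π, fun a => LinearMap.congr_fun hπ a⟩

/-- A `k`-linear projection onto a subspace. -/
noncomputable def projS (S : Submodule k M) : M →ₗ[k] S := Classical.choose (exists_proj S)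

lemma projS_apply (S : Submodule k M) (a : S) : projS S a = a :=
  Classical.choose_spec (exists_proj S) a

end general

variable {k : Type u} {K : Type v} [Field k] [Field K] [Algebra k K]

/-- Multiplication by `u` as a `k`-linear operator. -/
noncomputable def mulK (k : Type u) {K : Type v} [Field k] [Field K] [Algebra k K] (u : K) :
    K →ₗ[k] K := LinearMap.mulLeft k u

@[simp] lemma mulK_apply (u z : K) : mulK k u z = u * z := rfl

lemma mulK_comm (u v : K) : mulK k u ∘ₗ mulK k v = mulK k v ∘ₗ mulK k u := by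
  apply LinearMap.ext
  intro z
  simp only [LinearMap.comp_apply, mulK_apply]
  exact mul_left_comm u v z

lemma mulK_sum {J : Type*} (s : Finset J) (m : J → K) :
    mulK k (∑ j ∈ s, m j) = ∑ j ∈ s, mulK k (m j) := by
  apply LinearMap.ext
  intro z
  simp only [mulK_apply, LinearMap.sum_apply, Finset.sum_mul]

/-! ### One place -/

section one

variable {F : Type w} [Field F] [Algebra k F] [FiniteDimensional k F]

/-- An expansion as a `k`-linear map (for the coefficientwise action on Laurent series). -/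
noncomputable def expLin (ψ : K →ₐ[k] F⸨X⸩) : K →ₗ[k] F⸨X⸩ where
  toFun := ψ
  map_add' := map_add ψ
  map_smul' := fun c a => exp_smul ψ c a

@[simp] lemma expLin_apply (ψ : K →ₐ[k] F⸨X⸩) (z : K) : expLin ψ z = ψ z := rfl

lemma expLin_injective (ψ : K →ₐ[k] F⸨X⸩) : Function.Injective (expLin ψ) :=
  ψ.toRingHom.injective

lemma almostPres_mulLk (f : F⸨X⸩) : AlmostPres (iLk k (F := F)) (mulLk k f) := by
  refine ⟨LinearMap.range (polark k f), isFR_polark k f, fun a => ?_⟩
  have e : mulLk k f (iLk k a) = iLk k (πLk k (f * (a : F⸨X⸩))) + polark k f a := by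
    rw [polark_apply, mulLk_apply, iLk_apply, iLk_apply]
    abel
  rw [e]
  exact Submodule.add_mem_sup ⟨_, rfl⟩ ⟨a, rfl⟩

variable (P : Place k K) {φ : K →ₐ[k] F⸨X⸩} (hφ : LocRes.IsExpansionAt P.1 φ)

include hφ in
lemma hcap_one (v₀ : K) : expLin φ v₀ ∈ LinearMap.range (iLk k (F := F)) ↔
    v₀ ∈ LinearMap.range (ball P 0).subtype := by
  rw [expLin_apply, exp_mem_range_iff hφ, Submodule.range_subtype, mem_ball, exp_zero]

include hφ in
lemma hsum_one (h : F⸨X⸩) : ∃ (v₀ : K) (a : F⟦X⟧), h = expLin φ v₀ + iLk k a := by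
  obtain ⟨a, ha⟩ := exists_polar_lift hφ h
  obtain ⟨G, hG⟩ := (mem_range_iLk_iff (k := k) _).2 ha
  refine ⟨a, -G, ?_⟩
  rw [map_neg, hG, expLin_apply]
  abel

include hφ in
/-- The residue at a place with an expansion is the Tate residue of `(K, O_P)`. -/
theorem locRes_eq_tres (π₀ : K →ₗ[k] ball P 0) (hπ₀ : ∀ a : ball P 0, π₀ a = a) (u v : K) :
    LocRes.locRes φ u v = tres (ball P 0).subtype π₀ (mulK k u) (mulK k v) := by
  have h1 : LocRes.locRes φ u v = tres (iLk k) (πLk k) (mulLk k (φ u)) (mulLk k (φ v)) :=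
    (tres_local_tr k (φ u) (φ v)).symm
  rw [h1]
  apply tres_restrict (expLin φ) (iLk k) (ball P 0).subtype (expLin_injective φ) (πLk k)
    (πLk_iLk k) π₀ hπ₀ (hcap_one P hφ) (hsum_one P hφ) (mulLk_comm k _ _)
  · intro v₀
    simp
  · intro v₀
    simp
  · exact almostPres_mulLk _
  · exact almostPres_mulLk _

include hφ in
theorem almostPres_mulK (u : K) : AlmostPres (ball P 0).subtype (mulK k u) := by
  apply almostPres_restrict (expLin φ) (iLk k) (ball P 0).subtype (hcap_one P hφ)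
    (hsum_one P hφ) (f := mulLk k (φ u)) _ (almostPres_mulLk _)
  intro v₀
  simp

end one

/-! ### Several places -/

section several

variable {L : Type v} [Field L] [Algebra k L]

/-- The intersection of the valuation rings of the places in `S`. -/
def interO (S : Finset (Place k L)) : Submodule k L := ⨅ Q ∈ S, ball Q 0

lemma mem_interO {S : Finset (Place k L)} {z : L} : z ∈ interO S ↔ ∀ Q ∈ S, Q.1 z ≤ 1 := by
  simp only [interO, Submodule.mem_iInf, mem_ball, exp_zero]

variable (S : Finset (Place k L)) (F' : Place k L → Type w) [∀ Q, Field (F' Q)]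
  [∀ Q, Algebra k (F' Q)] [∀ Q, FiniteDimensional k (F' Q)]
  (ψ : ∀ Q, L →ₐ[k] (F' Q)⸨X⸩) (hψ : ∀ Q ∈ S, LocRes.IsExpansionAt Q.1 (ψ Q))

/-- the product of the Laurent series fields -/
abbrev VS : Type _ := ∀ Q : S, (F' Q)⸨X⸩
/-- the product of the power series rings -/
abbrev AS : Type _ := ∀ Q : S, (F' Q)⟦X⟧

/-- the inclusion -/
noncomputable def iS : AS S F' →ₗ[k] VS S F' := diagOp fun Q : S => iLk k (F := F' Q)
/-- the projection -/
noncomputable def πS : VS S F' →ₗ[k] AS S F' := diagOp fun Q : S => πLk k (F := F' Q)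
/-- the diagonal embedding -/
noncomputable def ιS : L →ₗ[k] VS S F' := LinearMap.pi fun Q : S => expLin (ψ Q)
/-- componentwise multiplication -/
noncomputable def mS (y : L) : VS S F' →ₗ[k] VS S F' := diagOp fun Q : S => mulLk k (ψ Q y)

lemma πS_iS (a : AS S F') : πS (k := k) S F' (iS S F' a) = a := by
  funext Q
  exact πLk_iLk k (a Q)

lemma mem_range_iS (v : VS S F') :
    v ∈ LinearMap.range (iS (k := k) S F') ↔ ∀ Q : S, v Q ∈ LinearMap.range (iLk k (F := F' Q)) := by
  constructor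
  · rintro ⟨a, rfl⟩ Q
    exact ⟨a Q, rfl⟩
  · intro h
    choose a ha using h
    exact ⟨a, funext fun Q => ha Q⟩

lemma mS_comm (y x : L) : mS S F' ψ y ∘ₗ mS S F' ψ x = mS S F' ψ x ∘ₗ mS S F' ψ y := by
  apply LinearMap.ext
  intro a
  funext Q
  simp only [LinearMap.comp_apply, mS, diagOp_apply, mulLk_apply]
  exact mul_left_comm _ _ _

lemma almostPres_mS (y : L) : AlmostPres (iS (k := k) S F') (mS S F' ψ y) := by
  refine ⟨LinearMap.range (diagOp fun Q : S => polark k (ψ Q y)),
    isFR_diagOp _ Finset.univ (fun Q hQ => absurd (Finset.mem_univ Q) hQ)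
      fun Q _ => isFR_polark k _, fun a => ?_⟩
  have e : mS S F' ψ y (iS S F' a) = iS S F' (πS S F' (mS S F' ψ y (iS S F' a))) +
      (diagOp fun Q : S => polark k (ψ Q y)) a := by
    funext Q
    show ψ Q y * ((a Q : (F' Q)⟦X⟧) : (F' Q)⸨X⸩) =
      ((πLk k (ψ Q y * ((a Q : (F' Q)⟦X⟧) : (F' Q)⸨X⸩)) : (F' Q)⟦X⟧) : (F' Q)⸨X⸩) +
        polark k (ψ Q y) (a Q)
    rw [polark_apply]
    abel
  rw [e]
  exact Submodule.add_mem_sup ⟨_, rfl⟩ ⟨a, rfl⟩

lemma tres_mS (y x : L) :
    tres (iS (k := k) S F') (πS S F') (mS S F' ψ y) (mS S F' ψ x) =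
      ∑ Q ∈ S, LocRes.locRes (ψ Q) y x := by
  unfold tres
  have e : ∀ z, toep (iS (k := k) S F') (πS S F') (mS S F' ψ z) =
      diagOp fun Q : S => toep (iLk k) (πLk k) (mulLk k (ψ Q z)) := fun z => rfl
  rw [e, e, diagOp_comp, diagOp_comp, diagOp_sub, frTrace_diagOp _ Finset.univ]
  · rw [← Finset.sum_coe_sort S (fun Q => LocRes.locRes (ψ Q) y x)]
    apply Finset.sum_congr rfl
    intro Q _
    exact tres_local_tr k (ψ Q y) (ψ Q x)
  · intro Q hQ
    exact absurd (Finset.mem_univ Q) hQ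
  · intro Q _
    exact isFR_comm_local_tr k _ _

include hψ in
lemma hcap_S (z : L) : ιS S F' ψ z ∈ LinearMap.range (iS (k := k) S F') ↔
    z ∈ LinearMap.range (interO S).subtype := by
  rw [mem_range_iS, Submodule.range_subtype, mem_interO]
  constructor
  · intro h Q hQ
    have := h ⟨Q, hQ⟩
    exact (exp_mem_range_iff (hψ Q hQ) z).1 this
  · intro h Q
    exact (exp_mem_range_iff (hψ Q Q.2) z).2 (h Q Q.2)

include hψ in
lemma hsum_S (v : VS S F') : ∃ (z : L) (a : AS S F'), v = ιS S F' ψ z + iS (k := k) S F' a := by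
  classical
  have h1 : ∀ Q : S, ∃ a : L, Valued.v (ψ Q a - v Q) ≤ (1 : ℤᵐ⁰) :=
    fun Q => exists_polar_lift (hψ Q Q.2) (v Q)
  choose a ha using h1
  obtain ⟨z, hz⟩ := weak_approx S (fun Q => if h : Q ∈ S then a ⟨Q, h⟩ else 0) 0
  have h2 : ∀ Q : S, Valued.v (ψ Q z - v Q) ≤ (1 : ℤᵐ⁰) := by
    intro Q
    have hzQ := hz Q Q.2
    rw [dif_pos Q.2, neg_zero, exp_zero] at hzQ
    have e : ψ Q z - v Q = ψ Q (z - a Q) + (ψ Q (a Q) - v Q) := by
      rw [map_sub]; abel
    rw [e]
    refine (Valuation.map_add _ _ _).trans (max_le ?_ (ha Q))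
    rw [(hψ Q Q.2).1]
    exact hzQ
  have h3 : ∀ Q : S, ∃ G : (F' Q)⟦X⟧, iLk k G = ψ Q z - v Q :=
    fun Q => (mem_range_iLk_iff (k := k) _).2 (h2 Q)
  choose G hG using h3
  refine ⟨z, fun Q => -G Q, ?_⟩
  funext Q
  show v Q = ψ Q z + iLk k (-G Q)
  rw [map_neg, hG]
  abel

include hψ in
/-- The sum of the residues at the places of `S` is the Tate residue of `(L, ⋂ O_Q)`. -/
theorem sum_locRes_eq_tres (hS : S.Nonempty) (π₀ : L →ₗ[k] interO S)
    (hπ₀ : ∀ a : interO S, π₀ a = a) (y x : L) :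
    ∑ Q ∈ S, LocRes.locRes (ψ Q) y x = tres (interO S).subtype π₀ (mulK k y) (mulK k x) := by
  rw [← tres_mS]
  have hinj : Function.Injective (ιS (k := k) S F' ψ) := by
    obtain ⟨Q₀, hQ₀⟩ := hS
    intro a b hab
    have := congrFun hab ⟨Q₀, hQ₀⟩
    exact expLin_injective (ψ Q₀) this
  apply tres_restrict (ιS S F' ψ) (iS S F') (interO S).subtype hinj (πS S F') (πS_iS S F') π₀ hπ₀
    (hcap_S S F' ψ hψ) (hsum_S S F' ψ hψ) (mS_comm S F' ψ y x)
  · intro z
    funext Q
    simp [ιS, mS]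
  · intro z
    funext Q
    simp [ιS, mS]
  · exact almostPres_mS S F' ψ y
  · exact almostPres_mS S F' ψ x

include hψ in
theorem almostPres_mulK_S (y : L) : AlmostPres (interO S).subtype (mulK k y) := by
  apply almostPres_restrict (ιS S F' ψ) (iS S F') (interO S).subtype (hcap_S S F' ψ hψ)
    (hsum_S S F' ψ hψ) (f := mS S F' ψ y) _ (almostPres_mS S F' ψ y)
  intro z
  funext Q
  simp [ιS, mS]

end several

end Groth.Agent.Lib.Helper88.TR
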