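/-
The trace formula for residues, part 2: integral bases and the final formula.
Author: helper88
-/
import Groth.Agent.Lib.Helper88.TraceRes

set_option autoImplicit false
set_option linter.unusedSectionVars false

namespace Groth.Agent.Lib.Helper88.TR

open FunFld WithZero LaurentSeries PowerSeries
open Groth.Agent.Lib.Helper88.FRT Groth.Agent.Lib.Helper88.TL Groth.Agent.Lib.Helper88.FF
  Groth.Agent.Lib.Helper88.TG Groth.Agent.Lib.Helper34.FunFldIntFin

universe u v w

section general

variable {k : Type*} [Field k] {M : Type*} [AddCommGroup M] [Module k M]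
variable {J : Type*} [Fintype J] [DecidableEq J]

lemma mem_range_cdiag_subtype (S : Submodule k M) (v : J → M) :
    v ∈ LinearMap.range (cdiag (J := J) S.subtype) ↔ ∀ r, v r ∈ S := by
  constructor
  · rintro ⟨a, rfl⟩ r
    exact (a r).2
  · intro h
    exact ⟨fun r => ⟨v r, h r⟩, rfl⟩

end general

variable {k : Type u} {K K' : Type v} [Field k] [Field K] [Field K'] [Algebra k K]
  [Algebra K K'] [Algebra k K'] [IsScalarTower k K K'] [FiniteDimensional K K']

/-- **The trace formula for Tate residues**: the residue of `(Tr y, x)` along `O_P` is the residue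
of `(y, x)` along the intersection of the valuation rings of the places over `P`. -/
theorem tres_trace (hK : IsFunctionField k K) (P : Place k K) (Qs : Finset (Place k K'))
    (hQs : ∀ Q, Q ∈ Qs ↔ IsOver Q P)
    (hAP : ∀ u : K, AlmostPres (ball P 0).subtype (mulK k u))
    (π₀ : K →ₗ[k] ball P 0) (hπ₀ : ∀ a : ball P 0, π₀ a = a)
    (π₁ : K' →ₗ[k] interO Qs) (hπ₁ : ∀ a : interO Qs, π₁ a = a) (y : K') (x : K) :
    tres (ball P 0).subtype π₀ (mulK k (Algebra.trace K K' y)) (mulK k x) =
      tres (interO Qs).subtype π₁ (mulK k y) (mulK k (algebraMap K K' x)) := by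
  classical
  obtain ⟨b, hli, hbB, hcoord⟩ := exists_basis (K' := K') hK P
  haveI : Nonempty (Fin (Module.finrank K K')) := ⟨⟨0, Module.finrank_pos⟩⟩
  obtain ⟨B, hB'⟩ : ∃ B : Module.Basis (Fin (Module.finrank K K')) K K', ⇑B = b :=
    ⟨basisOfLinearIndependentOfCardEqFinrank hli (by rw [Fintype.card_fin]),
      coe_basisOfLinearIndependentOfCardEqFinrank hli _⟩
  have hB : ∀ i, B i = b i := fun i => by rw [hB']
  set m := Algebra.leftMulMatrix B y with hm
  have htr : Algebra.trace K K' y = ∑ r, m r r := by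
    rw [Algebra.trace_eq_matrix_trace B]
    rfl
  rw [htr, mulK_sum, tres_sum_left _ _ _ _ _ hπ₀ (fun j _ => mulK_comm _ _) (fun j _ => hAP _)
    (hAP x)]
  rw [← tres_block (ball P 0).subtype π₀ hπ₀ (fun r s => mulK k (m r s)) (mulK k x)
    (fun r s => mulK_comm _ _) (fun r s => hAP _) (hAP x)]
  let ι : K' →ₗ[k] (Fin (Module.finrank K K') → K) := (B.equivFun.toLinearMap).restrictScalars k
  have hιa : ∀ z r, ι z r = B.repr z r := fun z r => rfl
  have hιinj : Function.Injective ι := B.equivFun.injective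
  apply tres_restrict ι (cdiag (ball P 0).subtype) (interO Qs).subtype hιinj (cdiag π₀)
    (fun a => funext fun r => hπ₀ (a r)) π₁ hπ₁
  · -- hcap
    intro z
    rw [mem_range_cdiag_subtype, Submodule.range_subtype]
    constructor
    · intro h
      rw [← B.sum_repr z]
      apply Submodule.sum_mem
      intro r _
      rw [mem_interO]
      intro Q hQ
      rw [Algebra.smul_def, hB]
      exact smul_mem_Bp P (h r) ((mem_Bp hK P).1 (hbB r)) Q ((hQs Q).1 hQ)
    · intro h r
      have hz : z ∈ Bp (K' := K') hK P := by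
        rw [mem_Bp]
        intro Q hQ
        exact mem_interO.1 h Q ((hQs Q).2 hQ)
      obtain ⟨g, hg1, hg2⟩ := hcoord z hz
      have : B.equivFun z = g := by
        have e : z = B.equivFun.symm g := by
          rw [Module.Basis.equivFun_symm_apply, hg2]
          apply Finset.sum_congr rfl
          intro i _
          rw [Algebra.smul_def, hB]
        rw [e, LinearEquiv.apply_symm_apply]
      rw [mem_ball, exp_zero]
      show P.1 (B.equivFun z r) ≤ 1
      rw [this]
      exact hg1 r
  · -- hsum
    intro v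
    refine ⟨B.equivFun.symm v, 0, ?_⟩
    rw [map_zero, add_zero]
    exact (B.equivFun.apply_symm_apply v).symm
  · -- commutation
    apply LinearMap.ext
    intro a
    funext r
    simp only [LinearMap.comp_apply, blockOp_apply, cdiag_apply, mulK_apply, Finset.mul_sum]
    apply Finset.sum_congr rfl
    intro s _
    exact mul_left_comm _ _ _
  · -- hf₀
    intro z
    funext r
    rw [blockOp_apply, hιa, mulK_apply]
    have := congrFun (Algebra.leftMulMatrix_mulVec_repr B y z) r
    rw [← this]
    rfl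
  · -- hg₀
    intro z
    funext r
    rw [cdiag_apply, hιa, hιa, mulK_apply, mulK_apply, ← Algebra.smul_def, map_smul]
    rfl
  · exact almostPres_blockOp _ π₀ hπ₀ _ fun r s => hAP _
  · exact almostPres_cdiag _ π₀ hπ₀ (hAP x)

/-- **The trace formula for residues.** -/
theorem locRes_trace (hK : IsFunctionField k K) (P : Place k K)
    (F : Type w) [Field F] [Algebra k F] [FiniteDimensional k F]
    (φ : K →ₐ[k] F⸨X⸩) (hφ : LocRes.IsExpansionAt P.1 φ)
    (Qs : Finset (Place k K')) (hQs : ∀ Q, Q ∈ Qs ↔ IsOver Q P)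
    (F' : Place k K' → Type w) [∀ Q, Field (F' Q)] [∀ Q, Algebra k (F' Q)]
    [∀ Q, FiniteDimensional k (F' Q)]
    (ψ : ∀ Q, K' →ₐ[k] (F' Q)⸨X⸩) (hψ : ∀ Q ∈ Qs, LocRes.IsExpansionAt Q.1 (ψ Q))
    (y : K') (x : K) :
    LocRes.locRes φ (Algebra.trace K K' y) x =
      ∑ Q ∈ Qs, LocRes.locRes (ψ Q) y (algebraMap K K' x) := by
  have hne : Qs.Nonempty := by
    obtain ⟨Q, hQ⟩ := Groth.Agent.Lib.Helper44.FFExt.exists_isOver_above (K' := K') hK P
    exact ⟨Q, (hQs Q).2 hQ⟩
  rw [locRes_eq_tres P hφ (projS _) (projS_apply _),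
    sum_locRes_eq_tres Qs F' ψ hψ hne (projS _) (projS_apply _)]
  exact tres_trace hK P Qs hQs (almostPres_mulK P hφ) _ (projS_apply _) _ (projS_apply _) y x

end Groth.Agent.Lib.Helper88.TR
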