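/-
The trace formula for residues, part 3: Tate's vanishing criterion, intrinsic residues at places
without expansions, and the mixed trace formula.
Author: helper88
-/
import Groth.Agent.Lib.Helper88.TraceRes2
import Groth.Agent.Lib.Helper34.FunFldBox
import Groth.Agent.Lib.Helper44.FunFldTower

set_option autoImplicit false
set_option linter.unusedSectionVars false

namespace Groth.Agent.Lib.Helper88.FRT

open LinearMap

variable {k : Type*} [Field k]
variable {V : Type*} [AddCommGroup V] [Module k V]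
variable {A : Type*} [AddCommGroup A] [Module k A]

/-- **Tate's vanishing criterion (R1).** If `f A`, `f g A` and `f g² A` are contained in `A`, the
residue of `(f, g)` along `A` vanishes. -/
theorem tres_eq_zero_of_stable (i : A →ₗ[k] V) (π : V →ₗ[k] A) (hπ : ∀ a, π (i a) = a)
    {f g : V →ₗ[k] V} (hfg : f ∘ₗ g = g ∘ₗ f) (hg : AlmostPres i g)
    (h1 : ∀ a, f (i a) ∈ LinearMap.range i) (h2 : ∀ a, f (g (i a)) ∈ LinearMap.range i)
    (h3 : ∀ a, f (g (g (i a))) ∈ LinearMap.range i) : tres i π f g = 0 := by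
  classical
  have hfg' : ∀ v, f (g v) = g (f v) := fun v => LinearMap.congr_fun hfg v
  have hiπ : ∀ v, v ∈ LinearMap.range i → i (π v) = v := by
    rintro _ ⟨a, rfl⟩
    rw [hπ]
  set E : V →ₗ[k] V := LinearMap.id - i ∘ₗ π with hE
  have hE0 : ∀ v, v ∈ LinearMap.range i → E v = 0 := by
    intro v hv
    simp only [hE, LinearMap.sub_apply, LinearMap.id_apply, LinearMap.comp_apply, hiπ v hv,
      sub_self]
  set S : A →ₗ[k] V := E ∘ₗ g ∘ₗ i with hS
  have hSFR : IsFR S := isFR_of_almostPres i π hπ hg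
  set R : V →ₗ[k] A := π ∘ₗ f with hR
  have hθ : toep i π f ∘ₗ toep i π g - toep i π g ∘ₗ toep i π f = -(R ∘ₗ S) := by
    apply LinearMap.ext
    intro a
    simp only [LinearMap.sub_apply, LinearMap.comp_apply, toep_apply, LinearMap.neg_apply, hS, hR,
      hE, LinearMap.id_apply, map_sub]
    rw [hiπ _ (h1 a), ← hfg' (i a)]
    abel
  -- the range of `S`
  set W : Submodule k V := LinearMap.range S with hW
  haveI : FiniteDimensional k W := hSFR
  obtain ⟨ρ, hρ⟩ := LinearMap.exists_leftInverse_of_injective W.subtype (Submodule.ker_subtype W)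
  have hρ' : ∀ w : W, ρ (w : V) = w := fun w => LinearMap.congr_fun hρ w
  set S' : A →ₗ[k] W := ρ ∘ₗ S with hS'
  set R' : W →ₗ[k] A := R ∘ₗ W.subtype with hR'
  have hfac : R ∘ₗ S = R' ∘ₗ S' := by
    apply LinearMap.ext
    intro a
    simp only [LinearMap.comp_apply, hS', hR', Submodule.subtype_apply]
    have : S a ∈ W := ⟨a, rfl⟩
    have h := hρ' ⟨S a, this⟩
    simp only at h
    rw [h]
  have hzero : S' ∘ₗ R' = 0 := by
    apply LinearMap.ext
    rintro ⟨w, a, rfl⟩
    simp only [LinearMap.comp_apply, hS', hR', Submodule.subtype_apply, LinearMap.zero_apply]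
    have hSa : S a = g (i a) - i (π (g (i a))) := by
      simp only [hS, hE, LinearMap.comp_apply, LinearMap.sub_apply, LinearMap.id_apply]
    have hfw : f (S a) ∈ LinearMap.range i := by
      rw [hSa, map_sub]
      exact Submodule.sub_mem _ (h2 a) (h1 _)
    have hgfw : g (f (S a)) ∈ LinearMap.range i := by
      rw [hSa, map_sub, map_sub, ← hfg', ← hfg']
      exact Submodule.sub_mem _ (h3 a) (h2 _)
    have : S (R (S a)) = 0 := by
      simp only [hR, LinearMap.comp_apply]
      show E (g (i (π (f (S a))))) = 0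
      rw [hiπ _ hfw]
      exact hE0 _ hgfw
    rw [this, map_zero]
  unfold tres
  rw [hθ, frTrace_neg (isFR_comp_left hSFR R), hfac,
    frTrace_comp_comm (isFR_of_finiteDimensional_dom R') S', hzero, frTrace_zero, neg_zero]

end Groth.Agent.Lib.Helper88.FRT

namespace Groth.Agent.Lib.Helper88.TR

open FunFld WithZero LaurentSeries PowerSeries
open Groth.Agent.Lib.Helper88.FRT Groth.Agent.Lib.Helper88.TL Groth.Agent.Lib.Helper88.FF
  Groth.Agent.Lib.Helper88.TG Groth.Agent.Lib.Helper34.FunFldIntFin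
  Groth.Agent.Lib.Helper34.FunFldBox Groth.Agent.Lib.Helper88

universe u v w

section general

variable {k : Type*} [Field k] {M : Type*} [AddCommGroup M] [Module k M]

lemma exists_fd_sup_of_relQuot_finite (A B : Submodule k M) [FiniteDimensional k (RelQuot A B)] :
    ∃ W : Submodule k M, FiniteDimensional k W ∧ B ≤ A ⊔ W := by
  set q : B →ₗ[k] RelQuot A B := (Submodule.comap B.subtype A).mkQ with hq
  obtain ⟨σ, hσ⟩ := LinearMap.exists_rightInverse_of_surjective q
    (LinearMap.range_eq_top.2 (Submodule.mkQ_surjective _))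
  refine ⟨LinearMap.range (B.subtype ∘ₗ σ), inferInstance, ?_⟩
  intro b hb
  have h1 : q (⟨b, hb⟩ - σ (q ⟨b, hb⟩)) = 0 := by
    rw [map_sub]
    have := LinearMap.congr_fun hσ (q ⟨b, hb⟩)
    simp only [LinearMap.comp_apply, LinearMap.id_apply] at this
    rw [this, sub_self]
  have h2 : (⟨b, hb⟩ - σ (q ⟨b, hb⟩) : B) ∈ Submodule.comap B.subtype A := by
    rw [← Submodule.Quotient.mk_eq_zero]
    exact h1
  have h3 : b - (σ (q ⟨b, hb⟩) : M) ∈ A := h2
  have e : b = (b - (σ (q ⟨b, hb⟩) : M)) + (σ (q ⟨b, hb⟩) : M) := by abel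
  rw [e]
  exact Submodule.add_mem_sup h3 ⟨q ⟨b, hb⟩, rfl⟩

end general

variable {k : Type u} [Field k]

/-! ### Intrinsic almost-preservation -/

section intrinsicAP

variable {L : Type v} [Field L] [Algebra k L]

theorem almostPres_mulK_of_finite (Q : Place k L)
    [Module.Finite k (IsLocalRing.ResidueField Q.O)] (u : L) :
    AlmostPres (ball Q 0).subtype (mulK k u) := by
  classical
  obtain ⟨c, hc⟩ : ∃ c : ℕ, Q.1 u ≤ exp (c : ℤ) := by
    rcases eq_or_ne (Q.1 u) 0 with h0 | h0
    · exact ⟨0, by rw [h0]; exact zero_le'⟩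
    · refine ⟨(log (Q.1 u)).toNat, ?_⟩
      conv_lhs => rw [← exp_log h0]
      rw [exp_le_exp]
      exact Int.self_le_toNat _
  have hfin := (finrank_box_quot ({Q} : Finset (Place k L))
    (fun Q' hQ' => by rw [Finset.mem_singleton] at hQ'; rw [hQ']; infer_instance)
    (fun _ => (c : ℤ)) c (fun _ => c) (by simp)).1
  haveI := hfin
  obtain ⟨W, hW, hle⟩ := exists_fd_sup_of_relQuot_finite
    (box ({Q} : Finset (Place k L)) (fun _ => (c : ℤ) - (c : ℕ)))
    (box ({Q} : Finset (Place k L)) (fun _ => (c : ℤ)))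
  refine ⟨W, hW, ?_⟩
  intro a
  have h1 : mulK k u ((ball Q 0).subtype a) ∈ box ({Q} : Finset (Place k L)) (fun _ => (c : ℤ)) := by
    rw [mem_box]
    intro Q' hQ'
    rw [Finset.mem_singleton] at hQ'
    subst hQ'
    rw [mulK_apply, map_mul]
    have ha : Q'.1 (a : L) ≤ 1 := by
      have := a.2
      rwa [mem_ball, exp_zero] at this
    calc Q'.1 u * Q'.1 (a : L) ≤ exp (c : ℤ) * 1 := mul_le_mul' hc ha
      _ = exp (c : ℤ) := mul_one _
  have h2 := hle h1
  have h3 : box ({Q} : Finset (Place k L)) (fun _ => (c : ℤ) - (c : ℕ)) ≤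
      LinearMap.range (ball Q 0).subtype := by
    intro z hz
    rw [mem_box] at hz
    have := hz Q (Finset.mem_singleton_self Q)
    rw [sub_self] at this
    rw [Submodule.range_subtype]
    exact this
  exact (sup_le_sup_right h3 W) h2

end intrinsicAP

/-! ### The product of copies of `L` -/

section intrinsic

variable {L : Type v} [Field L] [Algebra k L] (S : Finset (Place k L))

/-- the inclusion of the product of the valuation rings -/
noncomputable def iI : (∀ Q : S, ball Q.1 0) →ₗ[k] (S → L) :=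
  diagOp (ι := S) (A := fun Q => ball Q.1 0) (B := fun _ => L) fun Q => (ball Q.1 0).subtype
/-- the projection -/
noncomputable def πI : (S → L) →ₗ[k] (∀ Q : S, ball Q.1 0) :=
  diagOp (ι := S) (A := fun _ => L) (B := fun Q => ball Q.1 0) fun Q => projS (ball Q.1 0)
/-- the diagonal embedding -/
noncomputable def ιI : L →ₗ[k] (S → L) := LinearMap.pi fun _ => LinearMap.id
/-- componentwise multiplication -/
noncomputable def mI (y : L) : (S → L) →ₗ[k] (S → L) :=
  diagOp (ι := S) (A := fun _ => L) (B := fun _ => L) fun _ => mulK k y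

lemma πI_iI (a : ∀ Q : S, ball Q.1 0) : πI (k := k) S (iI S a) = a := by
  funext Q
  exact projS_apply _ (a Q)

lemma mem_range_iI (v : S → L) :
    v ∈ LinearMap.range (iI (k := k) S) ↔ ∀ Q : S, v Q ∈ ball Q.1 0 := by
  constructor
  · rintro ⟨a, rfl⟩ Q
    exact (a Q).2
  · intro h
    exact ⟨fun Q => ⟨v Q, h Q⟩, rfl⟩

lemma mI_comm (y x : L) : mI (k := k) S y ∘ₗ mI S x = mI S x ∘ₗ mI S y := by
  apply LinearMap.ext
  intro a
  funext Q
  simp only [LinearMap.comp_apply, mI, diagOp_apply, mulK_apply]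
  exact mul_left_comm _ _ _

variable (hAP : ∀ Q ∈ S, ∀ u : L, AlmostPres (ball Q 0).subtype (mulK k u))

include hAP in
lemma almostPres_mI (y : L) : AlmostPres (iI (k := k) S) (mI S y) := by
  apply almostPres_of_isFR' (iI S) (πI S)
  have : (LinearMap.id - iI (k := k) S ∘ₗ πI S) ∘ₗ mI S y ∘ₗ iI S =
      diagOp (ι := S) (A := fun Q => ball Q.1 0) (B := fun _ => L) fun Q =>
        (LinearMap.id - (ball Q.1 0).subtype ∘ₗ projS (ball Q.1 0)) ∘ₗ mulK k y ∘ₗ
          (ball Q.1 0).subtype := by
    apply LinearMap.ext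
    intro a
    funext Q
    rfl
  rw [this]
  exact isFR_diagOp _ Finset.univ (fun Q hQ => absurd (Finset.mem_univ Q) hQ)
    fun Q _ => isFR_of_almostPres _ _ (projS_apply _) (hAP Q.1 Q.2 y)

include hAP in
lemma tres_mI (y x : L) :
    tres (iI (k := k) S) (πI S) (mI S y) (mI S x) =
      ∑ Q ∈ S, tres (ball Q 0).subtype (projS (ball Q 0)) (mulK k y) (mulK k x) := by
  unfold tres
  have e : ∀ z, toep (iI (k := k) S) (πI S) (mI S z) =
      diagOp (ι := S) (A := fun Q => ball Q.1 0) (B := fun Q => ball Q.1 0) fun Q =>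
        toep (ball Q.1 0).subtype (projS (ball Q.1 0)) (mulK k z) := fun z => rfl
  rw [e, e, diagOp_comp, diagOp_comp, diagOp_sub, frTrace_diagOp _ Finset.univ]
  · exact Finset.sum_coe_sort S (fun Q => tres (ball Q 0).subtype (projS (ball Q 0)) (mulK k y)
      (mulK k x))
  · intro Q hQ
    exact absurd (Finset.mem_univ Q) hQ
  · intro Q _
    exact isFR_toep_comm _ _ (projS_apply _) (mulK_comm _ _) (hAP Q.1 Q.2 y) (hAP Q.1 Q.2 x)

lemma hcap_I (z : L) : ιI S z ∈ LinearMap.range (iI (k := k) S) ↔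
    z ∈ LinearMap.range (interO S).subtype := by
  rw [mem_range_iI, Submodule.range_subtype, mem_interO]
  constructor
  · intro h Q hQ
    have := h ⟨Q, hQ⟩
    rwa [mem_ball, exp_zero] at this
  · intro h Q
    rw [mem_ball, exp_zero]
    exact h Q Q.2

lemma hsum_I (v : S → L) : ∃ (z : L) (a : ∀ Q : S, ball Q.1 0), v = ιI S z + iI (k := k) S a := by
  classical
  obtain ⟨z, hz⟩ := weak_approx S (fun Q => if h : Q ∈ S then v ⟨Q, h⟩ else 0) 0
  refine ⟨z, fun Q => ⟨v Q - z, ?_⟩, ?_⟩
  · have hzQ := hz Q Q.2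
    rw [dif_pos Q.2, neg_zero] at hzQ
    rw [mem_ball, ← Valuation.map_neg, neg_sub]
    exact hzQ
  · funext Q
    show v Q = z + (v Q - z)
    abel

include hAP in
/-- The residue along the intersection of the valuation rings is the sum of the residues along
the valuation rings. -/
theorem tres_interO_eq_sum (hS : S.Nonempty) (π₀ : L →ₗ[k] interO S)
    (hπ₀ : ∀ a : interO S, π₀ a = a) (y x : L) :
    tres (interO S).subtype π₀ (mulK k y) (mulK k x) =
      ∑ Q ∈ S, tres (ball Q 0).subtype (projS (ball Q 0)) (mulK k y) (mulK k x) := by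
  rw [← tres_mI S hAP]
  have hinj : Function.Injective (ιI (k := k) S) := by
    obtain ⟨Q₀, hQ₀⟩ := hS
    intro a b hab
    exact congrFun hab ⟨Q₀, hQ₀⟩
  symm
  apply tres_restrict (ιI S) (iI S) (interO S).subtype hinj (πI S) (πI_iI S) π₀ hπ₀
    (hcap_I S) (hsum_I S) (mI_comm S y x)
  · intro z
    rfl
  · intro z
    rfl
  · exact almostPres_mI S hAP y
  · exact almostPres_mI S hAP x

end intrinsic

/-! ### The mixed trace formula -/

section mixed

variable {K K' : Type v} [Field K] [Field K'] [Algebra k K]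
  [Algebra K K'] [Algebra k K'] [IsScalarTower k K K'] [FiniteDimensional K K']

/-- **Mixed trace formula**: with expansions only at `P` and at one place `Q` over `P`; the
contributions of the other places over `P` are intrinsic residues. -/
theorem locRes_trace_mixed [DecidableEq (Place k K')] (hK : IsFunctionField k K) (P : Place k K)
    {F : Type w} [Field F] [Algebra k F] [FiniteDimensional k F]
    {φ : K →ₐ[k] F⸨X⸩} (hφ : LocRes.IsExpansionAt P.1 φ)
    (Qs : Finset (Place k K')) (hQs : ∀ Q, Q ∈ Qs ↔ IsOver Q P)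
    (Q : Place k K') (hQ : Q ∈ Qs)
    {F' : Type w} [Field F'] [Algebra k F'] [FiniteDimensional k F']
    {ψ : K' →ₐ[k] F'⸨X⸩} (hψ : LocRes.IsExpansionAt Q.1 ψ) (y : K') (x : K) :
    LocRes.locRes φ (Algebra.trace K K' y) x =
      LocRes.locRes ψ y (algebraMap K K' x) +
        ∑ Q' ∈ Qs.erase Q, tres (ball Q' 0).subtype (projS (ball Q' 0)) (mulK k y)
          (mulK k (algebraMap K K' x)) := by
  have hAP : ∀ Q' ∈ Qs, ∀ u : K', AlmostPres (ball Q' 0).subtype (mulK k u) := by
    intro Q' _ u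
    have : Module.Finite k (IsLocalRing.ResidueField Q'.O) :=
      Groth.Agent.Lib.Helper44.FFExt.finiteDimensional_residue' hK Q'
    exact almostPres_mulK_of_finite Q' u
  rw [locRes_eq_tres P hφ (projS _) (projS_apply _),
    tres_trace hK P Qs hQs (almostPres_mulK P hφ) _ (projS_apply _) (projS _) (projS_apply _) y x,
    tres_interO_eq_sum Qs hAP ⟨Q, hQ⟩ _ (projS_apply _), ← Finset.add_sum_erase Qs _ hQ,
    ← locRes_eq_tres Q hψ (projS _) (projS_apply _)]

end mixed

end Groth.Agent.Lib.Helper88.TR
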