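/-
The local different exponent as the minimal order of the elements of the dual of the integral
closure (via the trace formula for residues and local duality).
Author: helper88
-/
import Groth.Agent.Lib.Helper88.TraceRes3
import Groth.Agent.Lib.Helper88.RiemannHurwitz

set_option autoImplicit false
set_option linter.unusedSectionVars false
set_option linter.style.haveILetI false

namespace Groth.Agent.Lib.Helper88.TR

open FunFld WithZero LaurentSeries PowerSeries
open Groth.Agent.Lib.Helper88.FRT Groth.Agent.Lib.Helper88.TL Groth.Agent.Lib.Helper88.FF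
  Groth.Agent.Lib.Helper88.TG Groth.Agent.Lib.Helper34.FunFldIntFin
  Groth.Agent.Lib.Helper34.FunFldBox Groth.Agent.Lib.Helper88

universe u v w

variable {k : Type u} [Field k]

section local_

variable {K : Type v} [Field K] [Algebra k K]
variable {F₀ : Type w} [Field F₀] [Algebra k F₀] [FiniteDimensional k F₀]

/-- A differential of finite order gets a nonzero residue after multiplication by a suitable
function of prescribed order (making the pole simple). -/
theorem exists_locRes_ne_zero' {w : Valuation K ℤᵐ⁰} {ψ : K →ₐ[k] F₀⸨X⸩}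
    (hψ : LocRes.IsExpansionAt w ψ)
    (hsep : ∀ c : F₀, c ≠ 0 → ∃ c' : F₀, Algebra.trace k F₀ (c * c') ≠ 0) {u v : K}
    (hne : LocRes.vDiff ψ u v ≠ 0) :
    ∃ z : K, w z = exp (LocRes.ordDiff ψ u v + 1) ∧ LocRes.locRes ψ (z * u) v ≠ 0 := by
  set η : F₀⸨X⸩ := ψ u * LocRes.D F₀ (ψ v) with hη
  have hv0 : Valued.v η ≠ 0 := hne
  set m : ℤ := -log (Valued.v η) with hm
  have hmord : LocRes.ordDiff ψ u v = m := rfl
  have hvm : Valued.v η = exp (-m) := by rw [hm, neg_neg, exp_log hv0]
  have hcoeff := coeff_ne_zero_of_val_eq hvm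
  obtain ⟨c', hc'⟩ := hsep _ hcoeff
  have hc'0 : c' ≠ 0 := by
    rintro rfl
    rw [mul_zero, map_zero] at hc'
    exact hc' rfl
  obtain ⟨z, hz⟩ := exists_approx hψ (HahnSeries.single (-m - 1) c') m
  refine ⟨z, ?_, ?_⟩
  · rw [hmord, ← hψ.1]
    set r : F₀⸨X⸩ := ψ z - HahnSeries.single (-m - 1) c' with hr
    have hzr : ψ z = HahnSeries.single (-m - 1) c' + r := by rw [hr]; ring
    have hr0 : ∀ n : ℤ, n < -m → r.coeff n = 0 := by
      intro n hn
      have h1 : Valued.v r ≤ exp (-(-m)) := by rw [neg_neg]; exact hz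
      exact LaurentSeries.coeff_zero_of_lt_valuation F₀ h1 hn
    have h2 : Valued.v (ψ z) = exp (-(-m - 1)) := by
      apply val_eq_exp_neg_of_coeff
      · intro n hn
        rw [hzr, HahnSeries.coeff_add, hr0 n (by omega), add_zero,
          HahnSeries.coeff_single_of_ne (by omega)]
      · rw [hzr, HahnSeries.coeff_add, hr0 _ (by omega), add_zero, HahnSeries.coeff_single_same]
        exact hc'0
    rw [h2]
    congr 1
    ring
  · unfold LocRes.locRes LocRes.resExp
    rw [LocRes.res_apply, map_mul, mul_assoc, ← hη]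
    have e : ψ z * η = HahnSeries.single (-m - 1) c' * η +
        (ψ z - HahnSeries.single (-m - 1) c') * η := by ring
    rw [e, HahnSeries.coeff_add, HahnSeries.coeff_single_mul,
      show (-1 : ℤ) - (-m - 1) = m by ring]
    have h2 : ((ψ z - HahnSeries.single (-m - 1) c') * η).coeff (-1) = 0 := by
      apply coeff_neg_one_eq_zero_of_val_le_one
      rw [map_mul, hvm]
      calc Valued.v (ψ z - HahnSeries.single (-m - 1) c') * exp (-m) ≤ exp m * exp (-m) :=
            mul_le_mul' hz le_rfl
        _ = 1 := by rw [← exp_add, add_neg_cancel, exp_zero]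
    rw [h2, add_zero, mul_comm]
    exact hc'

lemma vDiff_mul_left {w : Valuation K ℤᵐ⁰} {ψ : K →ₐ[k] F₀⸨X⸩}
    (hψ : LocRes.IsExpansionAt w ψ) (a u v : K) :
    LocRes.vDiff ψ (a * u) v = w a * LocRes.vDiff ψ u v := by
  unfold LocRes.vDiff
  rw [map_mul ψ, mul_assoc, Valuation.map_mul, hψ.1]

end local_

section bounds

variable {L : Type v} [Field L] [Algebra k L]

lemma exists_bound (S : Finset (Place k L)) (T : Finset L) :
    ∃ N : ℤ, 0 ≤ N ∧ ∀ Q ∈ S, ∀ w ∈ T, Q.1 w ≤ exp N := by
  classical
  obtain ⟨B, hB⟩ := Finset.exists_le ((S ×ˢ T).image fun p => p.1.1 p.2)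
  refine ⟨max 0 (log B), le_max_left _ _, fun Q hQ w hw => ?_⟩
  have h1 : Q.1 w ≤ B :=
    hB _ (Finset.mem_image.2 ⟨(Q, w), Finset.mem_product.2 ⟨hQ, hw⟩, rfl⟩)
  exact h1.trans (le_exp_log.trans (exp_le_exp.2 (le_max_right _ _)))

/-- Vanishing of the intrinsic residue at a place where `w dx` is "very regular". -/
theorem tres_vanish (Q : Place k L) [Module.Finite k (IsLocalRing.ResidueField Q.O)] {w x : L}
    (h1 : Q.1 w ≤ 1) (h2 : Q.1 (w * x) ≤ 1) (h3 : Q.1 (w * x * x) ≤ 1) :
    tres (ball Q 0).subtype (projS (ball Q 0)) (mulK k w) (mulK k x) = 0 := by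
  have hmem : ∀ (c : L) (a : ball Q 0), Q.1 c ≤ 1 → c * (a : L) ∈
      LinearMap.range (ball Q 0).subtype := by
    intro c a hc
    rw [Submodule.range_subtype, mem_ball, exp_zero, map_mul]
    have ha : Q.1 (a : L) ≤ 1 := by
      have := a.2
      rwa [mem_ball, exp_zero] at this
    exact mul_le_one' hc ha
  apply tres_eq_zero_of_stable _ _ (projS_apply _) (mulK_comm w x)
    (almostPres_mulK_of_finite Q x)
  · intro a
    exact hmem w a h1
  · intro a
    show w * (x * (a : L)) ∈ _
    rw [← mul_assoc]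
    exact hmem (w * x) a h2
  · intro a
    show w * (x * (x * (a : L))) ∈ _
    rw [← mul_assoc, ← mul_assoc]
    exact hmem (w * x * x) a h3

end bounds

end Groth.Agent.Lib.Helper88.TR
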