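/-
The local different exponent as the minimal order of the elements of the dual of the integral
closure: the main theorem.
Author: helper88
-/
import Groth.Agent.Lib.Helper88.DualDiff

set_option autoImplicit false
set_option linter.unusedSectionVars false
set_option linter.style.haveILetI false

namespace Groth.Agent.Lib.Helper88.TR

open FunFld WithZero LaurentSeries PowerSeries
open Groth.Agent.Lib.Helper88.FRT Groth.Agent.Lib.Helper88.TL Groth.Agent.Lib.Helper88.FF
  Groth.Agent.Lib.Helper88.TG Groth.Agent.Lib.Helper34.FunFldIntFin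
  Groth.Agent.Lib.Helper34.FunFldBox Groth.Agent.Lib.Helper88

universe u v w

variable {k : Type u} {K K' : Type v} [Field k] [Field K] [Field K'] [Algebra k K]
  [Algebra K K'] [Algebra k K'] [IsScalarTower k K K'] [FiniteDimensional K K']
  [Algebra.IsSeparable K K']

/-- The data and consequences shared by the two halves. -/
theorem dual_setup (hK : IsFunctionField k K) (hg : IsGeometric k K)
    {F F' : Type w} [Field F] [Algebra k F] [Field F'] [Algebra k F']
    [FiniteDimensional k F] [FiniteDimensional k F']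
    (P : Place k K) (Q : Place k K') (e : ℕ) (he : IsOverWith Q P e)
    {φ : K →ₐ[k] F⸨X⸩} (hφ : LocRes.IsExpansionAt P.1 φ)
    {ψ : K' →ₐ[k] F'⸨X⸩} (hψ : LocRes.IsExpansionAt Q.1 ψ)
    (x : K) (w : K')
    (hw : ∀ Q' : Place k K', IsOver Q' P → Q' ≠ Q →
      Q'.1 w ≤ 1 ∧ Q'.1 (w * algebraMap K K' x) ≤ 1 ∧
        Q'.1 (w * algebraMap K K' x * algebraMap K K' x) ≤ 1) :
    LocRes.locRes φ (Algebra.trace K K' w) x = LocRes.locRes ψ w (algebraMap K K' x) := by
  classical
  have hQ : Q ∈ Qs (K' := K') hK P := (mem_Qs hK P Q).2 ⟨e, he⟩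
  rw [locRes_trace_mixed hK P hφ (Qs (K' := K') hK P) (mem_Qs hK P) Q hQ hψ w x,
    Finset.sum_eq_zero, add_zero]
  intro Q' hQ'
  rw [Finset.mem_erase] at hQ'
  have : Module.Finite k (IsLocalRing.ResidueField Q'.O) :=
    Groth.Agent.Lib.Helper44.FFExt.finiteDimensional_residue' hK Q'
  obtain ⟨h1, h2, h3⟩ := hw Q' ((mem_Qs hK P Q').1 hQ'.2) hQ'.1
  exact tres_vanish Q' h1 h2 h3

end Groth.Agent.Lib.Helper88.TR

namespace Groth.Agent.Lib.Helper88.TR

open FunFld WithZero LaurentSeries PowerSeries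
open Groth.Agent.Lib.Helper88.FRT Groth.Agent.Lib.Helper88.TL Groth.Agent.Lib.Helper88.FF
  Groth.Agent.Lib.Helper88.TG Groth.Agent.Lib.Helper34.FunFldIntFin
  Groth.Agent.Lib.Helper34.FunFldBox Groth.Agent.Lib.Helper88

universe u v w

variable {k : Type u} {K K' : Type v} [Field k] [Field K] [Field K'] [Algebra k K]
  [Algebra K K'] [Algebra k K'] [IsScalarTower k K K'] [FiniteDimensional K K']
  [Algebra.IsSeparable K K']

/-- **The different exponent as a minimum over the dual of the integral closure.** -/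
theorem dual_min (hK : IsFunctionField k K) (hg : IsGeometric k K)
    {F F' : Type w} [Field F] [Algebra k F] [Field F'] [Algebra k F']
    (P : Place k K) (Q : Place k K') (e : ℕ) (he : IsOverWith Q P e)
    {φ : K →ₐ[k] F⸨X⸩} (hφ : LocRes.IsExpansionAt P.1 φ)
    {ψ : K' →ₐ[k] F'⸨X⸩} (hψ : LocRes.IsExpansionAt Q.1 ψ)
    (x : K) (hx : LocRes.vDiff φ 1 x ≠ 0) (hx' : LocRes.vDiff ψ 1 (algebraMap K K' x) ≠ 0)
    [Algebra P.O K'] [IsScalarTower P.O K K'] :
    (∀ y : K', (∀ z : K', IsIntegral P.O z → P.1 (Algebra.trace K K' (y * z)) ≤ 1) →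
      Q.1 y ≤ exp (LocRes.diffExp φ ψ e x)) ∧
    ∃ y : K', (∀ z : K', IsIntegral P.O z → P.1 (Algebra.trace K K' (y * z)) ≤ 1) ∧
      Q.1 y = exp (LocRes.diffExp φ ψ e x) := by
  classical
  haveI : FiniteDimensional k F := RH.finiteDimensional_of_expansion hK hφ
  haveI : FiniteDimensional k (IsLocalRing.ResidueField Q.O) :=
    Groth.Agent.Lib.Helper44.FFExt.finiteDimensional_residue' hK Q
  haveI : FiniteDimensional k F' := RH.finiteDimensional_of_expansion' hψ
  obtain ⟨s, -, hsepK⟩ := exists_separating hK hg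
  haveI := hsepK
  have hd' : DiffGen k K' := RH.diffGen_of_tower (k := k) (k' := k) s
  have hsepF : ∀ c : F, c ≠ 0 → ∃ c' : F, Algebra.trace k F (c * c') ≠ 0 :=
    fun c hc => exists_trace_mul_ne_zero_of_expansion hK hg hφ c hc
  have hsepF' : ∀ c : F', c ≠ 0 → ∃ c' : F', Algebra.trace k F' (c * c') ≠ 0 :=
    fun c hc => exists_trace_mul_ne_zero_of_expansion' hd' hψ c hc
  obtain ⟨b, -, hint, -, -⟩ := integral_structure (K' := K') hK P
  have hintegral : ∀ z : K', IsIntegral P.O z ↔ ∀ Q' : Place k K', IsOver Q' P → Q'.1 z ≤ 1 :=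
    fun z => (hint z).trans (mem_Bp hK P)
  set x' : K' := algebraMap K K' x with hx'def
  set m : ℤ := LocRes.ordDiff φ 1 x with hm
  set m' : ℤ := LocRes.ordDiff ψ 1 x' with hm'
  have hvm : LocRes.vDiff φ 1 x = exp (-m) := vDiff_eq_exp_neg_ordDiff φ hx
  have hvm' : LocRes.vDiff ψ 1 x' = exp (-m') := vDiff_eq_exp_neg_ordDiff ψ hx'
  have hd : LocRes.diffExp φ ψ e x = m' - e * m := rfl
  have hvφ : ∀ u : K, LocRes.vDiff φ u x = P.1 u * exp (-m) := fun u => by
    rw [vDiff_eq_mul hφ, hvm]
  have hvψ : ∀ u : K', LocRes.vDiff ψ u x' = Q.1 u * exp (-m') := fun u => by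
    rw [vDiff_eq_mul hψ, hvm']
  obtain ⟨t, ht⟩ := hφ.2.2
  set a₀ : K := t ^ (-m) with ha₀
  have hPa₀ : P.1 a₀ = exp m := by
    rw [ha₀, map_zpow₀, ht, ← exp_zsmul]
    congr 1
    simp
  have hQa₀ : Q.1 (algebraMap K K' a₀) = exp ((e : ℤ) * m) := by
    rw [he, hPa₀, ← exp_nsmul]
    congr 1
  have hover : IsOver Q P := ⟨e, he⟩
  have hQmem : Q ∈ Qs (K' := K') hK P := (mem_Qs hK P Q).2 hover
  have htrace : ∀ (a : K) (w : K'),
      Algebra.trace K K' (algebraMap K K' a * w) = a * Algebra.trace K K' w := by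
    intro a w
    rw [← Algebra.smul_def, map_smul, smul_eq_mul]
  constructor
  · intro y hy
    by_contra hcon
    rw [not_le] at hcon
    have hy0 : Q.1 y ≠ 0 := ne_of_gt (lt_of_le_of_lt zero_le hcon)
    set j : ℤ := log (Q.1 y) with hj
    have hQy : Q.1 y = exp j := (exp_log hy0).symm
    have hdj : m' - e * m < j := by
      rw [hQy, exp_lt_exp, hd] at hcon
      exact hcon
    set u : K' := y * algebraMap K K' a₀ with hu
    have hvu : LocRes.vDiff ψ u x' = exp (j + e * m - m') := by
      rw [hvψ, hu, map_mul, hQy, hQa₀, ← exp_add, ← exp_add]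
      congr 1
    have hune : LocRes.vDiff ψ u x' ≠ 0 := by rw [hvu]; exact exp_ne_zero
    have hordu : LocRes.ordDiff ψ u x' = -(j + e * m - m') := by
      unfold LocRes.ordDiff
      rw [hvu, log_exp]
    obtain ⟨z₀, hz₀v, hz₀r⟩ := exists_locRes_ne_zero' hψ hsepF' hune
    have hz₀ : Q.1 z₀ ≤ 1 := by
      rw [hz₀v, hordu, ← exp_zero, exp_le_exp]
      linarith
    obtain ⟨N, hN0, hN⟩ := exists_bound (Qs (K' := K') hK P) {u, u * x', u * x' * x'}
    set NN : ℤ := max N (j + e * m - m') with hNN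
    have hNN1 : N ≤ NN := le_max_left _ _
    have hNN2 : j + e * m - m' ≤ NN := le_max_right _ _
    obtain ⟨z, hz⟩ := weak_approx (Qs (K' := K') hK P) (fun Q' => if Q' = Q then z₀ else 0) NN
    have hzQ : Q.1 (z - z₀) ≤ exp (-NN) := by
      have := hz Q hQmem
      rwa [if_pos rfl] at this
    have hzQ' : ∀ Q' : Place k K', IsOver Q' P → Q' ≠ Q → Q'.1 z ≤ exp (-NN) := by
      intro Q' h1 h2
      have := hz Q' ((mem_Qs hK P Q').2 h1)
      rwa [if_neg h2, sub_zero] at this
    have hNN0 : exp (-NN) ≤ (1 : ℤᵐ⁰) := by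
      rw [← exp_zero, exp_le_exp]
      linarith
    have hzint : IsIntegral P.O z := by
      rw [hintegral]
      intro Q' hQ'
      by_cases h : Q' = Q
      · rw [h]
        have e1 : z = (z - z₀) + z₀ := by ring
        rw [e1]
        exact (Valuation.map_add _ _ _).trans (max_le (hzQ.trans hNN0) hz₀)
      · exact (hzQ' Q' hQ' h).trans hNN0
    have h1 := hy z hzint
    have htr : Algebra.trace K K' (z * u) = a₀ * Algebra.trace K K' (y * z) := by
      rw [← htrace]
      congr 1
      rw [hu]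
      ring
    have hL : LocRes.locRes φ (Algebra.trace K K' (z * u)) x = 0 := by
      apply locRes_eq_zero_of_val_le_one
      show LocRes.vDiff φ _ x ≤ 1
      rw [hvφ, htr, map_mul, hPa₀]
      calc exp m * P.1 (Algebra.trace K K' (y * z)) * exp (-m) ≤ exp m * 1 * exp (-m) :=
            mul_le_mul' (mul_le_mul' le_rfl h1) le_rfl
        _ = 1 := by rw [mul_one, ← exp_add, add_neg_cancel, exp_zero]
    have hR : LocRes.locRes φ (Algebra.trace K K' (z * u)) x = LocRes.locRes ψ (z * u) x' := by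
      apply dual_setup hK hg P Q e he hφ hψ x (z * u)
      intro Q' hQ' hne
      have hb := hN Q' ((mem_Qs hK P Q').2 hQ')
      have hzz := hzQ' Q' hQ' hne
      have hNle : exp (-NN) * exp N ≤ (1 : ℤᵐ⁰) := by
        rw [← exp_add, ← exp_zero, exp_le_exp]
        linarith
      refine ⟨?_, ?_, ?_⟩
      · rw [map_mul]
        exact (mul_le_mul' hzz (hb u (by simp))).trans hNle
      · rw [mul_assoc, map_mul]
        exact (mul_le_mul' hzz (hb (u * x') (by simp))).trans hNle
      · rw [mul_assoc, mul_assoc, map_mul, ← mul_assoc]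
        exact (mul_le_mul' hzz (hb (u * x' * x') (by simp))).trans hNle
    have hR2 : LocRes.locRes ψ (z * u) x' = LocRes.locRes ψ (z₀ * u) x' := by
      have e1 : z * u = z₀ * u + (z - z₀) * u := by ring
      rw [e1, locRes_add_left]
      have : LocRes.locRes ψ ((z - z₀) * u) x' = 0 := by
        apply locRes_eq_zero_of_val_le_one
        show LocRes.vDiff ψ _ x' ≤ 1
        rw [vDiff_mul_left hψ, hvu]
        calc Q.1 (z - z₀) * exp (j + e * m - m') ≤ exp (-NN) * exp (j + e * m - m') :=
              mul_le_mul' hzQ le_rfl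
          _ ≤ 1 := by
              rw [← exp_add, ← exp_zero, exp_le_exp]
              linarith
      rw [this, add_zero]
    exact hz₀r (by rw [← hR2, ← hR, hL])
  · obtain ⟨tQ, htQ⟩ := hψ.2.2
    set d : ℤ := LocRes.diffExp φ ψ e x with hddef
    set y₀ : K' := tQ ^ (-d) with hy₀
    have hQy₀ : Q.1 y₀ = exp d := by
      rw [hy₀, map_zpow₀, htQ, ← exp_zsmul]
      congr 1
      simp
    obtain ⟨N, hN0, hN⟩ := exists_bound (Qs (K' := K') hK P)
      {algebraMap K K' a₀, algebraMap K K' a₀ * x', algebraMap K K' a₀ * x' * x'}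
    set NN : ℤ := max N (1 - d) with hNN
    have hNN1 : N ≤ NN := le_max_left _ _
    have hNN2 : 1 - d ≤ NN := le_max_right _ _
    obtain ⟨y, hy⟩ := weak_approx (Qs (K' := K') hK P) (fun Q' => if Q' = Q then y₀ else 0) NN
    have hyQ0 : Q.1 (y - y₀) ≤ exp (-NN) := by
      have := hy Q hQmem
      rwa [if_pos rfl] at this
    have hyQ' : ∀ Q' : Place k K', IsOver Q' P → Q' ≠ Q → Q'.1 y ≤ exp (-NN) := by
      intro Q' h1 h2
      have := hy Q' ((mem_Qs hK P Q').2 h1)
      rwa [if_neg h2, sub_zero] at this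
    have hyQ : Q.1 y = exp d := by
      have e1 : y = y₀ + (y - y₀) := by ring
      have hlt : Q.1 (y - y₀) < Q.1 y₀ := by
        rw [hQy₀]
        refine lt_of_le_of_lt hyQ0 (exp_lt_exp.2 ?_)
        linarith
      rw [e1, Valuation.map_add_eq_of_lt_left _ hlt, hQy₀]
    refine ⟨y, ?_, hyQ⟩
    intro z hz
    rw [hintegral] at hz
    by_contra hcon
    rw [not_le] at hcon
    set u₀ : K := Algebra.trace K K' (y * z) with hu₀
    have hu₀0 : P.1 u₀ ≠ 0 := ne_of_gt (lt_trans zero_lt_one hcon)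
    set j : ℤ := log (P.1 u₀) with hj
    have hPu₀ : P.1 u₀ = exp j := (exp_log hu₀0).symm
    have hj0 : 0 < j := by
      rw [hPu₀, ← exp_zero, exp_lt_exp] at hcon
      exact hcon
    have hvu : LocRes.vDiff φ u₀ x = exp (j - m) := by
      rw [hvφ, hPu₀, ← exp_add]
      congr 1
    have hune : LocRes.vDiff φ u₀ x ≠ 0 := by rw [hvu]; exact exp_ne_zero
    have hordu : LocRes.ordDiff φ u₀ x = -(j - m) := by
      unfold LocRes.ordDiff
      rw [hvu, log_exp]
    obtain ⟨a, hav, har⟩ := exists_locRes_ne_zero' hφ hsepF hune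
    have hPa : P.1 a ≤ exp m := by
      rw [hav, hordu, exp_le_exp]
      linarith
    have ha₀0 : a₀ ≠ 0 := by
      intro h
      rw [h, map_zero] at hPa₀
      exact exp_ne_zero hPa₀.symm
    set c : K := a * a₀⁻¹ with hc
    have hac : a = a₀ * c := by
      rw [hc]
      field_simp
    have hPc : P.1 c ≤ 1 := by
      rw [hc, map_mul, map_inv₀, hPa₀]
      calc P.1 a * (exp m)⁻¹ ≤ exp m * (exp m)⁻¹ := mul_le_mul' hPa le_rfl
        _ = 1 := by rw [← exp_neg, ← exp_add, add_neg_cancel, exp_zero]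
    set w : K' := algebraMap K K' a * (y * z) with hw
    have htr : Algebra.trace K K' w = a * u₀ := htrace a (y * z)
    have hR : LocRes.locRes φ (Algebra.trace K K' w) x = LocRes.locRes ψ w x' := by
      apply dual_setup hK hg P Q e he hφ hψ x w
      intro Q' hQ' hne
      have hb := hN Q' ((mem_Qs hK P Q').2 hQ')
      have hyy := hyQ' Q' hQ' hne
      have hzz := hz Q' hQ'
      have hcc : Q'.1 (algebraMap K K' c) ≤ 1 := val_algebraMap_le_one hQ' hPc
      have hNle : exp N * exp (-NN) ≤ (1 : ℤᵐ⁰) := by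
        rw [← exp_add, ← exp_zero, exp_le_exp]
        linarith
      have key : ∀ r : K', Q'.1 r ≤ exp N → Q'.1 (algebraMap K K' c * r * y * z) ≤ 1 := by
        intro r hr
        rw [map_mul, map_mul, map_mul]
        calc Q'.1 (algebraMap K K' c) * Q'.1 r * Q'.1 y * Q'.1 z
            ≤ 1 * exp N * exp (-NN) * 1 :=
              mul_le_mul' (mul_le_mul' (mul_le_mul' hcc hr) hyy) hzz
          _ ≤ 1 := by rw [one_mul, mul_one]; exact hNle
      refine ⟨?_, ?_, ?_⟩
      · have e1 : w = algebraMap K K' c * algebraMap K K' a₀ * y * z := by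
          rw [hw, hac, map_mul]; ring
        rw [e1]
        exact key _ (hb _ (by simp))
      · have e1 : w * x' = algebraMap K K' c * (algebraMap K K' a₀ * x') * y * z := by
          rw [hw, hac, map_mul]; ring
        rw [e1]
        exact key _ (hb _ (by simp))
      · have e1 : w * x' * x' = algebraMap K K' c * (algebraMap K K' a₀ * x' * x') * y * z := by
          rw [hw, hac, map_mul]; ring
        rw [e1]
        exact key _ (hb _ (by simp))
    have hQ0 : LocRes.locRes ψ w x' = 0 := by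
      apply locRes_eq_zero_of_val_le_one
      show LocRes.vDiff ψ _ x' ≤ 1
      rw [hvψ, hw, map_mul, map_mul, he, hyQ]
      have h1 : P.1 a ^ e ≤ exp ((e : ℤ) * m) := by
        calc P.1 a ^ e ≤ exp m ^ e := pow_le_pow_left₀ zero_le hPa e
          _ = exp ((e : ℤ) * m) := by
              rw [← exp_nsmul]
              congr 1
      calc P.1 a ^ e * (exp d * Q.1 z) * exp (-m')
          ≤ exp ((e : ℤ) * m) * (exp d * 1) * exp (-m') :=
            mul_le_mul' (mul_le_mul' h1 (mul_le_mul' le_rfl (hz Q hover))) le_rfl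
        _ = 1 := by
            rw [mul_one, ← exp_add, ← exp_add, ← exp_zero]
            congr 1
            rw [hd]
            ring
    exact har (by rw [← htr, hR, hQ0])

end Groth.Agent.Lib.Helper88.TR
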