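/-
Dedekind's different theorem, local form: `v_Q(g'(y)) ≥ d(Q|P)` with equality only if `O_Q` is a
localisation of `O_P[y]`.
Author: helper88
-/
import Groth.Agent.Lib.Helper88.DualDiff2
import Mathlib.RingTheory.DedekindDomain.Different

set_option autoImplicit false
set_option linter.unusedSectionVars false
set_option linter.style.haveILetI false

namespace Groth.Agent.Lib.Helper88.TR

open FunFld WithZero LaurentSeries PowerSeries
open Groth.Agent.Lib.Helper88.FRT Groth.Agent.Lib.Helper88.TL Groth.Agent.Lib.Helper88.FF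
  Groth.Agent.Lib.Helper88.TG Groth.Agent.Lib.Helper34.FunFldIntFin
  Groth.Agent.Lib.Helper34.FunFldBox Groth.Agent.Lib.Helper88

universe u v w

variable {k : Type u} {K K' : Type v} [Field k] [Field K] [Field K'] [Algebra k K]
  [Algebra K K'] [Algebra k K'] [IsScalarTower k K K'] [FiniteDimensional K K']
  [Algebra.IsSeparable K K']

open Polynomial Pointwise in
theorem dedekind_different (hK : IsFunctionField k K) (hg : IsGeometric k K)
    {F F' : Type w} [Field F] [Algebra k F] [Field F'] [Algebra k F']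
    (P : Place k K) (Q : Place k K') (e : ℕ) (he : IsOverWith Q P e)
    {φ : K →ₐ[k] F⸨X⸩} (hφ : LocRes.IsExpansionAt P.1 φ)
    {ψ : K' →ₐ[k] F'⸨X⸩} (hψ : LocRes.IsExpansionAt Q.1 ψ)
    (x : K) (hx : LocRes.vDiff φ 1 x ≠ 0) (hx' : LocRes.vDiff ψ 1 (algebraMap K K' x) ≠ 0)
    [Algebra P.O K'] [IsScalarTower P.O K K']
    (y : K') (hy : IntermediateField.adjoin K ({y} : Set K') = ⊤) (hyi : IsIntegral P.O y) :
    LocRes.diffExp φ ψ e x ≤ Q.ord (aeval y (derivative (minpoly K y))) ∧
    (Q.ord (aeval y (derivative (minpoly K y))) = LocRes.diffExp φ ψ e x →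
      ∀ z : K', Q.1 z ≤ 1 → ∃ a ∈ Algebra.adjoin P.O ({y} : Set K'),
        ∃ b ∈ Algebra.adjoin P.O ({y} : Set K'), Q.1 b = 1 ∧ z * b = a) := by
  classical
  obtain ⟨-, ystar, hystar, hQystar⟩ := dual_min hK hg P Q e he hφ hψ x hx hx'
  obtain ⟨b, -, hint, -, -⟩ := integral_structure (K' := K') hK P
  have hintegral : ∀ z : K', IsIntegral P.O z ↔ ∀ Q' : Place k K', IsOver Q' P → Q'.1 z ≤ 1 :=
    fun z => (hint z).trans (mem_Bp hK P)
  have hover : IsOver Q P := ⟨e, he⟩
  have hQmem : Q ∈ Qs (K' := K') hK P := (mem_Qs hK P Q).2 hover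
  set d : ℤ := LocRes.diffExp φ ψ e x with hd
  set γ : K' := aeval y (derivative (minpoly K y)) with hγ
  have hKy : IsIntegral K y := Algebra.IsIntegral.isIntegral y
  have hγ0 : γ ≠ 0 :=
    (Algebra.IsSeparable.isSeparable K y).aeval_derivative_ne_zero (minpoly.aeval K y)
  have hadj : Algebra.adjoin K ({y} : Set K') = ⊤ := by
    rw [← IntermediateField.adjoin_simple_toSubalgebra_of_isAlgebraic hKy.isAlgebraic, hy,
      IntermediateField.top_toSubalgebra]
  have hdual := traceForm_dualSubmodule_adjoin P.O K hadj hyi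
  have hSint : ∀ s ∈ Algebra.adjoin P.O ({y} : Set K'), IsIntegral P.O s := by
    intro s hs
    have hle : Algebra.adjoin P.O ({y} : Set K') ≤ integralClosure P.O K' :=
      Algebra.adjoin_le (by
        rw [Set.singleton_subset_iff]
        exact hyi)
    exact hle hs
  have key : ∀ r : K', IsIntegral P.O r →
      γ * (ystar * r) ∈ Algebra.adjoin P.O ({y} : Set K') := by
    intro r hr
    have h1 : ystar * r ∈ (Algebra.traceForm K K').dualSubmodule
        (Subalgebra.toSubmodule (Algebra.adjoin P.O ({y} : Set K'))) := by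
      rw [LinearMap.BilinForm.mem_dualSubmodule]
      intro s hs
      rw [Algebra.traceForm_apply, Submodule.mem_one]
      have hrs : IsIntegral P.O (r * s) := hr.mul (hSint s hs)
      have := hystar (r * s) hrs
      rw [← mul_assoc] at this
      exact ⟨⟨_, this⟩, rfl⟩
    rw [hdual, Submodule.mem_smul_iff_inv_mul_mem (inv_ne_zero hγ0), inv_inv] at h1
    exact h1
  have hc : γ * ystar ∈ Algebra.adjoin P.O ({y} : Set K') := by
    have := key 1 isIntegral_one
    rwa [mul_one] at this
  have hQc : Q.1 (γ * ystar) ≤ 1 := (hintegral _).1 (hSint _ hc) Q hover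
  have hQγ : Q.1 γ ≤ exp (-d) := by
    rw [map_mul, hQystar] at hQc
    calc Q.1 γ = Q.1 γ * exp d * exp (-d) := by
          rw [mul_assoc, ← exp_add, add_neg_cancel, exp_zero, mul_one]
      _ ≤ 1 * exp (-d) := mul_le_mul' hQc le_rfl
      _ = exp (-d) := one_mul _
  have hQγ0 : Q.1 γ ≠ 0 := (_root_.map_ne_zero _).2 hγ0
  constructor
  · unfold Place.ord
    rw [← exp_log hQγ0, exp_le_exp] at hQγ
    linarith
  · intro heq z hz
    have hQγeq : Q.1 γ = exp (-d) := by
      unfold Place.ord at heq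
      rw [← heq, neg_neg, exp_log hQγ0]
    have hQc1 : Q.1 (γ * ystar) = 1 := by
      rw [map_mul, hQγeq, hQystar, ← exp_add, neg_add_cancel, exp_zero]
    obtain ⟨N, hN0, hN⟩ := exists_bound (Qs (K' := K') hK P) {z}
    have hM1 : (1 : ℤ) ≤ max N 1 := le_max_right _ _
    have hM2 : N ≤ max N 1 := le_max_left _ _
    obtain ⟨r, hr⟩ := weak_approx (Qs (K' := K') hK P) (fun Q' => if Q' = Q then 1 else 0)
      (max N 1)
    have hrQ : Q.1 (r - 1) ≤ exp (-(max N 1)) := by
      have := hr Q hQmem
      rwa [if_pos rfl] at this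
    have hrQ' : ∀ Q' : Place k K', IsOver Q' P → Q' ≠ Q → Q'.1 r ≤ exp (-(max N 1)) := by
      intro Q' h1 h2
      have := hr Q' ((mem_Qs hK P Q').2 h1)
      rwa [if_neg h2, sub_zero] at this
    have hQr : Q.1 r = 1 := by
      have e1 : r = 1 + (r - 1) := by ring
      have hlt : Q.1 (r - 1) < Q.1 (1 : K') := by
        rw [map_one]
        refine lt_of_le_of_lt hrQ ?_
        rw [← exp_zero, exp_lt_exp]
        linarith
      rw [e1, Valuation.map_add_eq_of_lt_left _ hlt, map_one]
    have hrint : IsIntegral P.O r := by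
      rw [hintegral]
      intro Q' hQ'
      by_cases h : Q' = Q
      · rw [h, hQr]
      · refine (hrQ' Q' hQ' h).trans ?_
        rw [← exp_zero, exp_le_exp]
        linarith
    have hzrint : IsIntegral P.O (z * r) := by
      rw [hintegral]
      intro Q' hQ'
      by_cases h : Q' = Q
      · rw [h, map_mul, hQr, mul_one]
        exact hz
      · rw [map_mul]
        calc Q'.1 z * Q'.1 r ≤ exp N * exp (-(max N 1)) :=
              mul_le_mul' (hN Q' ((mem_Qs hK P Q').2 hQ') z (by simp)) (hrQ' Q' hQ' h)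
          _ ≤ 1 := by
              rw [← exp_add, ← exp_zero, exp_le_exp]
              linarith
    refine ⟨γ * (ystar * (z * r)), key _ hzrint, γ * (ystar * r), key _ hrint, ?_, by ring⟩
    rw [← mul_assoc, map_mul, hQc1, hQr, mul_one]

end Groth.Agent.Lib.Helper88.TR
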