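/-
Converse of the local Dedekind different theorem: if `O_Q` is a localisation of `O_P[y]`, then
`v_Q(g'(y)) = d(Q|P)`.
Author: helper88
-/
import Groth.Agent.Lib.Helper88.DualDiff3

set_option autoImplicit false
set_option linter.unusedSectionVars false
set_option linter.style.haveILetI false

namespace Groth.Agent.Lib.Helper88.TR

open FunFld WithZero LaurentSeries PowerSeries
open Groth.Agent.Lib.Helper88.FRT Groth.Agent.Lib.Helper88.TL Groth.Agent.Lib.Helper88.FF
  Groth.Agent.Lib.Helper88.TG Groth.Agent.Lib.Helper34.FunFldIntFin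
  Groth.Agent.Lib.Helper34.FunFldBox Groth.Agent.Lib.Helper88

universe u v w

variable {k : Type u} {K K' : Type v} [Field k] [Field K] [Field K'] [Algebra k K]
  [Algebra K K'] [Algebra k K'] [IsScalarTower k K K'] [FiniteDimensional K K']
  [Algebra.IsSeparable K K']

open Polynomial Pointwise in
theorem dedekind_different_conv (hK : IsFunctionField k K) (hg : IsGeometric k K)
    {F F' : Type w} [Field F] [Algebra k F] [Field F'] [Algebra k F']
    (P : Place k K) (Q : Place k K') (e : ℕ) (he : IsOverWith Q P e)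
    {φ : K →ₐ[k] F⸨X⸩} (hφ : LocRes.IsExpansionAt P.1 φ)
    {ψ : K' →ₐ[k] F'⸨X⸩} (hψ : LocRes.IsExpansionAt Q.1 ψ)
    (x : K) (hx : LocRes.vDiff φ 1 x ≠ 0) (hx' : LocRes.vDiff ψ 1 (algebraMap K K' x) ≠ 0)
    [Algebra P.O K'] [IsScalarTower P.O K K']
    (y : K') (hy : IntermediateField.adjoin K ({y} : Set K') = ⊤) (hyi : IsIntegral P.O y)
    (hloc : ∀ z : K', Q.1 z ≤ 1 → ∃ a ∈ Algebra.adjoin P.O ({y} : Set K'),
        ∃ b ∈ Algebra.adjoin P.O ({y} : Set K'), Q.1 b = 1 ∧ z * b = a) :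
    Q.ord (aeval y (derivative (minpoly K y))) = LocRes.diffExp φ ψ e x := by
  classical
  obtain ⟨hle, -⟩ := dedekind_different hK hg P Q e he hφ hψ x hx hx' y hy hyi
  obtain ⟨hA, -⟩ := dual_min hK hg P Q e he hφ hψ x hx hx'
  obtain ⟨b, -, hint, hspan, hrep⟩ := integral_structure (K' := K') hK P
  have hintegral : ∀ z : K', IsIntegral P.O z ↔ ∀ Q' : Place k K', IsOver Q' P → Q'.1 z ≤ 1 :=
    fun z => (hint z).trans (mem_Bp hK P)
  have hover : IsOver Q P := ⟨e, he⟩
  set d : ℤ := LocRes.diffExp φ ψ e x with hd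
  set γ : K' := aeval y (derivative (minpoly K y)) with hγ
  have hKy : IsIntegral K y := Algebra.IsIntegral.isIntegral y
  have hγ0 : γ ≠ 0 :=
    (Algebra.IsSeparable.isSeparable K y).aeval_derivative_ne_zero (minpoly.aeval K y)
  have hadj : Algebra.adjoin K ({y} : Set K') = ⊤ := by
    rw [← IntermediateField.adjoin_simple_toSubalgebra_of_isAlgebraic hKy.isAlgebraic, hy,
      IntermediateField.top_toSubalgebra]
  have hdual := traceForm_dualSubmodule_adjoin P.O K hadj hyi
  set S := Algebra.adjoin P.O ({y} : Set K') with hS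
  -- the integral basis lies in `O_Q`
  have hbint : ∀ i, IsIntegral P.O (b i) := fun i =>
    (hspan (b i)).2 (Submodule.subset_span ⟨i, rfl⟩)
  have hbQ : ∀ i, Q.1 (b i) ≤ 1 := fun i => (hintegral _).1 (hbint i) Q hover
  choose α hα β hβ hQβ hαβ using fun i => hloc (b i) (hbQ i)
  set c : K' := ∏ i, β i with hc
  have hcS : c ∈ S := Subalgebra.prod_mem _ (fun i _ => hβ i)
  have hQc : Q.1 c = 1 := by
    rw [hc, map_prod]
    exact Finset.prod_eq_one (fun i _ => hQβ i)
  have hcr : ∀ r : K', IsIntegral P.O r → c * r ∈ S := by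
    intro r hr
    obtain ⟨g, hg1, rfl⟩ := (hrep r).1 hr
    rw [Finset.mul_sum]
    apply Subalgebra.sum_mem
    intro i _
    have h1 : c = β i * ∏ j ∈ Finset.univ.erase i, β j :=
      (Finset.mul_prod_erase Finset.univ β (Finset.mem_univ i)).symm
    have h2 : c * (algebraMap K K' (g i) * b i) =
        algebraMap K K' (g i) * ((∏ j ∈ Finset.univ.erase i, β j) * α i) := by
      rw [← hαβ i, h1]
      ring
    rw [h2]
    apply Subalgebra.mul_mem
    · have : algebraMap K K' (g i) = algebraMap P.O K' ⟨g i, hg1 i⟩ := by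
        rw [IsScalarTower.algebraMap_apply P.O K K']
        rfl
      rw [this]
      exact Subalgebra.algebraMap_mem _ _
    · exact Subalgebra.mul_mem _ (Subalgebra.prod_mem _ (fun j _ => hβ j)) (hα i)
  -- the element `c / γ` lies in the dual of the integral closure
  have hstar : ∀ z : K', IsIntegral P.O z →
      P.1 (Algebra.trace K K' (c * γ⁻¹ * z)) ≤ 1 := by
    intro z hz
    have h1 : c * γ⁻¹ * z ∈ (Algebra.traceForm K K').dualSubmodule
        (Subalgebra.toSubmodule S) := by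
      rw [hdual, Submodule.mem_smul_iff_inv_mul_mem (inv_ne_zero hγ0), inv_inv]
      have : γ * (c * γ⁻¹ * z) = c * z := by
        field_simp
      rw [this]
      exact hcr z hz
    rw [LinearMap.BilinForm.mem_dualSubmodule] at h1
    have h2 := h1 1 (Subalgebra.one_mem S)
    rw [Algebra.traceForm_apply, mul_one, Submodule.mem_one] at h2
    obtain ⟨r, hr⟩ := h2
    rw [← hr]
    exact r.2
  have h3 := hA (c * γ⁻¹) hstar
  rw [map_mul, hQc, one_mul, map_inv₀] at h3
  have hQγ0 : Q.1 γ ≠ 0 := (_root_.map_ne_zero _).2 hγ0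
  -- `(Q γ)⁻¹ ≤ exp d`
  have h4 : exp (-d) ≤ Q.1 γ := by
    calc exp (-d) = exp (-d) * ((Q.1 γ)⁻¹ * Q.1 γ) := by
          rw [inv_mul_cancel₀ hQγ0, mul_one]
      _ = (Q.1 γ)⁻¹ * (exp (-d) * Q.1 γ) := mul_left_comm _ _ _
      _ ≤ exp d * (exp (-d) * Q.1 γ) := mul_le_mul' h3 le_rfl
      _ = Q.1 γ := by
          rw [← mul_assoc, ← exp_add, add_neg_cancel, exp_zero, one_mul]
  apply le_antisymm _ hle
  unfold Place.ord
  rw [← exp_log hQγ0, exp_le_exp] at h4
  linarith

end Groth.Agent.Lib.Helper88.TR
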