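/-
Length of a quotient of modules mapping to a filtered ambient module with one-dimensional
graded pieces: the number of filtration jumps gained.
Author: helper88
-/
import Groth.Agent.Lib.Helper88.ExtLen

set_option autoImplicit false
set_option linter.style.haveILetI false

namespace Groth.Agent.Lib.Helper88.FiltLen

open IsLocalRing

variable {R : Type*} [CommRing R] {E : Type*} [AddCommGroup E] [Module R E]
  {P : Type*} [AddCommGroup P] [Module R P]

/-- An exhaustive decreasing filtration whose graded pieces are killed by the maximal ideal and are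
at most one-dimensional. -/
structure OrdFilt (hloc : IsLocalRing R) (Fil : ℕ → Submodule R E) : Prop where
  zero : Fil 0 = ⊤
  anti : ∀ n, Fil (n + 1) ≤ Fil n
  max_smul : ∀ (n : ℕ) (a : R), a ∈ maximalIdeal R → ∀ x ∈ Fil n, a • x ∈ Fil (n + 1)
  kill : ∀ (n : ℕ) (x y : E), x ∈ Fil n → y ∈ Fil n → y ∉ Fil (n + 1) →
    ∃ a : R, x - a • y ∈ Fil (n + 1)

/-- The induced filtration on `P` relative to `S`. -/
def G (Fil : ℕ → Submodule R E) (ι : P →ₗ[R] E) (S : Submodule R P) (n : ℕ) : Submodule R P :=
  S ⊔ Submodule.comap ι (Fil n)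

lemma mem_G {Fil : ℕ → Submodule R E} {ι : P →ₗ[R] E} {S : Submodule R P} {n : ℕ} {p : P} :
    p ∈ G Fil ι S n ↔ ∃ s ∈ S, ι (p - s) ∈ Fil n := by
  rw [G, Submodule.mem_sup]
  constructor
  · rintro ⟨s, hs, z, hz, rfl⟩
    refine ⟨s, hs, ?_⟩
    have : s + z - s = z := by abel
    rw [this]
    exact hz
  · rintro ⟨s, hs, hle⟩
    exact ⟨s, hs, p - s, hle, by abel⟩

/-- The jumps gained by `P` over `S`. -/
def gained (Fil : ℕ → Submodule R E) (ι : P →ₗ[R] E) (S : Submodule R P) : Set ℕ :=
  {n | (∃ p : P, ι p ∈ Fil n ∧ ι p ∉ Fil (n + 1)) ∧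
    ¬ ∃ s ∈ S, ι s ∈ Fil n ∧ ι s ∉ Fil (n + 1)}

theorem length_quot_eq_ncard (hloc : IsLocalRing R) {Fil : ℕ → Submodule R E}
    (hF : OrdFilt hloc Fil) (ι : P →ₗ[R] E) (S : Submodule R P) (N' : ℕ)
    (hN' : ∀ p : P, ι p ∈ Fil N' → p ∈ S) :
    Module.length R (P ⧸ S) = ((gained Fil ι S).ncard : ℕ∞) := by
  classical
  have hantitone : Antitone Fil := antitone_nat_of_succ_le hF.anti
  have key := ExtLen.length_quot_of_filtration hloc (G Fil ι S)
    (by
      rw [eq_top_iff]
      intro p _
      rw [mem_G]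
      exact ⟨0, S.zero_mem, by rw [hF.zero]; trivial⟩)
    (by
      intro n p hp
      rw [mem_G] at hp ⊢
      obtain ⟨s, hs, h⟩ := hp
      exact ⟨s, hs, hF.anti n h⟩)
    (gained Fil ι S)
    (by
      intro n hn p hp
      rw [mem_G] at hp ⊢
      obtain ⟨s, hs, h⟩ := hp
      by_cases h1 : ι (p - s) ∈ Fil (n + 1)
      · exact ⟨s, hs, h1⟩
      · have hex : ∃ s₀ ∈ S, ι s₀ ∈ Fil n ∧ ι s₀ ∉ Fil (n + 1) := by
          by_contra hno
          exact hn ⟨⟨p - s, h, h1⟩, hno⟩
        obtain ⟨s₀, hs₀, hs₀n, hs₀n1⟩ := hex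
        obtain ⟨a, ha⟩ := hF.kill n _ _ h hs₀n hs₀n1
        refine ⟨s + a • s₀, S.add_mem hs (S.smul_mem a hs₀), ?_⟩
        have : ι (p - (s + a • s₀)) = ι (p - s) - a • ι s₀ := by
          rw [← map_smul, ← map_sub]
          congr 1
          abel
        rw [this]
        exact ha)
    (by
      intro n hn
      obtain ⟨⟨p₀, hp₀n, hp₀n1⟩, hno⟩ := hn
      refine ⟨p₀, ?_, ?_, ?_⟩
      · rw [mem_G]
        exact ⟨0, S.zero_mem, by rw [sub_zero]; exact hp₀n⟩
      · intro a
        constructor
        · intro hmem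
          by_contra ha
          have hunit : IsUnit a := by
            by_contra hnu
            exact ha ((IsLocalRing.mem_maximalIdeal a).2 hnu)
          rw [mem_G] at hmem
          obtain ⟨s, hs, h⟩ := hmem
          apply hno
          have h2 : ι s = a • ι p₀ - ι (a • p₀ - s) := by
            rw [map_sub, map_smul]
            abel
          refine ⟨s, hs, ?_, ?_⟩
          · rw [h2]
            exact (Fil n).sub_mem ((Fil n).smul_mem a hp₀n) (hF.anti n h)
          · intro hs1
            apply hp₀n1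
            have h3 : a • ι p₀ ∈ Fil (n + 1) := by
              have : a • ι p₀ = ι s + ι (a • p₀ - s) := by rw [h2]; abel
              rw [this]
              exact (Fil (n + 1)).add_mem hs1 h
            obtain ⟨u, rfl⟩ := hunit
            have h4 := (Fil (n + 1)).smul_mem (↑u⁻¹ : R) h3
            rwa [smul_smul, Units.inv_mul, one_smul] at h4
        · intro ha
          rw [mem_G]
          refine ⟨0, S.zero_mem, ?_⟩
          rw [sub_zero, map_smul]
          exact hF.max_smul n a ha _ hp₀n
      · intro y hy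
        rw [mem_G] at hy
        obtain ⟨s, hs, h⟩ := hy
        obtain ⟨a, ha⟩ := hF.kill n _ _ h hp₀n hp₀n1
        refine ⟨a, ?_⟩
        rw [mem_G]
        refine ⟨s, hs, ?_⟩
        have : ι (y - a • p₀ - s) = ι (y - s) - a • ι p₀ := by
          rw [← map_smul, ← map_sub]
          congr 1
          abel
        rw [this]
        exact ha) N'
  have hG : G Fil ι S N' = S := by
    apply le_antisymm
    · intro p hp
      rw [mem_G] at hp
      obtain ⟨s, hs, h⟩ := hp
      have := S.add_mem (hN' _ h) hs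
      rwa [sub_add_cancel] at this
    · exact le_sup_left
  have hlt : ∀ n ∈ gained Fil ι S, n < N' := by
    intro n hn
    by_contra hge
    rw [not_lt] at hge
    obtain ⟨⟨p, hpn, hpn1⟩, hno⟩ := hn
    exact hno ⟨p, hN' p (hantitone hge hpn), hpn, hpn1⟩
  have hset : gained Fil ι S = ↑((Finset.range N').filter (· ∈ gained Fil ι S)) := by
    ext n
    simp only [Finset.coe_filter, Finset.mem_range, Set.mem_ofPred_eq]
    constructor
    · intro hn
      exact ⟨hlt n hn, hn⟩
    · rintro ⟨-, hn⟩
      exact hn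
  rw [hG] at key
  rw [key]
  conv_rhs => rw [hset]
  rw [Set.ncard_coe_finset]

end Groth.Agent.Lib.Helper88.FiltLen
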