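/-
`Ext^1(A + A t^e, N)` over a monomial curve ring `A ⊆ k[[t]]` and a monomial module `N`:
the length is the number of exponents gained.
Author: helper88
-/
import Groth.Agent.Lib.Helper88.MonSet

set_option autoImplicit false
set_option linter.style.haveILetI false

namespace Groth.Agent.Lib.Helper88.MonTwo

open PowerSeries CategoryTheory Groth.Agent.Lib.Helper88.CanonPS Groth.Agent.Lib.Helper88.TwoGen
  Groth.Agent.Lib.Helper88.MonSet

universe u

variable {k : Type u} [Field k]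

/-- The standing hypothesis: `A` is the monomial ring of the semigroup `S`, which contains all
integers `≥ c`. -/
structure MHyp (A : Subalgebra k k⟦X⟧) (S : Set ℕ) (c : ℕ) : Prop where
  mono : ∀ f : k⟦X⟧, f ∈ A ↔ f ∈ Mon S
  zero : 0 ∈ S
  add : ∀ a ∈ S, ∀ b ∈ S, a + b ∈ S
  cond : ∀ n, c ≤ n → n ∈ S
  cpos : 1 ≤ c

variable {A : Subalgebra k k⟦X⟧} {S : Set ℕ} {c : ℕ}

lemma MHyp.cond_mem (H : MHyp A S c) (f : k⟦X⟧) (hf : (c : ℕ∞) ≤ order f) : f ∈ A := by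
  rw [H.mono]
  intro n hn
  apply H.cond
  by_contra hlt
  rw [not_le] at hlt
  exact hn (coeff_of_lt_order n (lt_of_lt_of_le (by exact_mod_cast hlt) hf))

lemma MHyp.X_pow_mem (H : MHyp A S c) {s : ℕ} (hs : s ∈ S) : (X : k⟦X⟧) ^ s ∈ A :=
  (H.mono _).2 (X_pow_mem_Mon hs)

theorem MHyp.finite (H : MHyp A S c) : Module.Finite ↥A k⟦X⟧ := by
  classical
  refine ⟨⟨(Finset.range (c + 1)).image (fun i => (X : k⟦X⟧) ^ i), ?_⟩⟩
  rw [eq_top_iff]
  have key : ∀ m : ℕ, ∀ f : k⟦X⟧, ((c - m : ℕ) : ℕ∞) ≤ order f →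
      f ∈ Submodule.span ↥A
        (((Finset.range (c + 1)).image (fun i => (X : k⟦X⟧) ^ i) : Finset k⟦X⟧) :
          Set k⟦X⟧) := by
    intro m
    induction m with
    | zero =>
      intro f hf
      have hfA : f ∈ A := H.cond_mem f hf
      have h1 : f = (⟨f, hfA⟩ : ↥A) • (X : k⟦X⟧) ^ 0 := by
        show f = f * X ^ 0
        rw [pow_zero, mul_one]
      rw [h1]
      refine Submodule.smul_mem _ _ (Submodule.subset_span ?_)
      rw [Finset.coe_image]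
      exact ⟨0, by simp, rfl⟩
    | succ m ih =>
      intro f hf
      by_cases hm : c ≤ m
      · apply ih
        have : c - m = c - (m + 1) := by omega
        rw [this]
        exact hf
      · set n := c - (m + 1) with hn
        have h2 : f = (⟨C (coeff n f), Setup.C_mem A _⟩ : ↥A) • (X : k⟦X⟧) ^ n +
            (f - C (coeff n f) * X ^ n) := by
          show f = C (coeff n f) * X ^ n + (f - C (coeff n f) * X ^ n)
          ring
        rw [h2]
        refine Submodule.add_mem _ (Submodule.smul_mem _ _ (Submodule.subset_span ?_)) ?_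
        · rw [Finset.coe_image]
          exact ⟨n, by simp; omega, rfl⟩
        · apply ih
          apply nat_le_order
          intro i hi
          rw [map_sub, coeff_C_mul, coeff_X_pow]
          by_cases hin : i = n
          · rw [if_pos hin, mul_one, hin, sub_self]
          · rw [if_neg hin, mul_zero, sub_zero]
            apply coeff_of_lt_order
            refine lt_of_lt_of_le ?_ hf
            exact_mod_cast (by omega : i < c - (m + 1))
  intro f _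
  exact key c f (by rw [Nat.sub_self, Nat.cast_zero]; exact zero_le)

theorem MHyp.setup (H : MHyp A S c) : Setup A c := ⟨H.finite, H.cond_mem, H.cpos⟩

/-- `Mon Γ` as an `A`-submodule when `S + Γ ⊆ Γ`. -/
def MHyp.monSub (H : MHyp A S c) (Γ : Set ℕ) (hΓ : ∀ a ∈ S, ∀ b ∈ Γ, a + b ∈ Γ) :
    Submodule ↥A k⟦X⟧ where
  carrier := Mon Γ
  zero_mem' := Mon_zero Γ
  add_mem' := Mon_add
  smul_mem' := by
    intro a f hf
    exact Mon_mul hΓ ((H.mono _).1 a.2) hf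

/-- The exponent set of `A + A t^e`. -/
def Ge (S : Set ℕ) (e : ℕ) : Set ℕ := {n | n ∈ S ∨ (e ≤ n ∧ n - e ∈ S)}

lemma mem_Ge {S : Set ℕ} {e n : ℕ} : n ∈ Ge S e ↔ (n ∈ S ∨ (e ≤ n ∧ n - e ∈ S)) := Iff.rfl

lemma MHyp.Ge_add (H : MHyp A S c) (e : ℕ) : ∀ a ∈ S, ∀ b ∈ Ge S e, a + b ∈ Ge S e := by
  intro a ha b hb
  rw [mem_Ge] at hb ⊢
  rcases hb with hb | ⟨h1, h2⟩
  · left
    exact H.add a ha b hb
  · right
    refine ⟨by omega, ?_⟩
    have : a + b - e = a + (b - e) := by omega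
    rw [this]
    exact H.add a ha _ h2

/-- `A + A t^e` is the monomial module of `Ge S e`. -/
theorem MHyp.mem_Mg (H : MHyp A S c) (e : ℕ) (f : k⟦X⟧) :
    f ∈ Mg A ((X : k⟦X⟧) ^ e) ↔ f ∈ Mon (Ge S e) := by
  constructor
  · intro hf
    have hle : Mg A ((X : k⟦X⟧) ^ e) ≤ H.monSub (Ge S e) (H.Ge_add e) := by
      rw [Submodule.span_le]
      rintro x (rfl | rfl)
      · exact one_mem_Mon (by rw [mem_Ge]; left; exact H.zero)
      · refine X_pow_mem_Mon ?_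
        rw [mem_Ge]
        right
        refine ⟨le_rfl, ?_⟩
        rw [Nat.sub_self]
        exact H.zero
    exact hle hf
  · intro hf
    classical
    set f₁ : k⟦X⟧ := PowerSeries.mk (fun n => if n ∈ S then coeff n f else 0) with hf₁
    set f₂ : k⟦X⟧ := PowerSeries.mk
      (fun m => if m ∈ S ∧ m + e ∉ S then coeff (m + e) f else 0) with hf₂
    have hf₁A : f₁ ∈ A := by
      rw [H.mono]
      intro n hn
      rw [hf₁, coeff_mk] at hn
      by_contra hcon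
      rw [if_neg hcon] at hn
      exact hn rfl
    have hf₂A : f₂ ∈ A := by
      rw [H.mono]
      intro m hm
      rw [hf₂, coeff_mk] at hm
      by_cases hc : m ∈ S ∧ m + e ∉ S
      · exact hc.1
      · rw [if_neg hc] at hm
        exact absurd rfl hm
    have hdec : f = f₁ + X ^ e * f₂ := by
      ext n
      rw [map_add, coeff_X_pow_mul', hf₁, hf₂, coeff_mk]
      by_cases hn : n ∈ S
      · rw [if_pos hn]
        split_ifs with h1
        · rw [coeff_mk]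
          have hnot : ¬ (n - e ∈ S ∧ n - e + e ∉ S) := by
            rw [Nat.sub_add_cancel h1]
            exact fun h => h.2 hn
          rw [if_neg hnot, add_zero]
        · rw [add_zero]
      · rw [if_neg hn, zero_add]
        split_ifs with h1
        · rw [coeff_mk]
          by_cases h2 : n - e ∈ S
          · have hyes : n - e ∈ S ∧ n - e + e ∉ S := by
              rw [Nat.sub_add_cancel h1]
              exact ⟨h2, hn⟩
            rw [if_pos hyes, Nat.sub_add_cancel h1]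
          · have hnot : ¬ (n - e ∈ S ∧ n - e + e ∉ S) := fun h => h2 h.1
            rw [if_neg hnot]
            by_contra hne
            have := hf n hne
            rw [mem_Ge] at this
            rcases this with h | ⟨-, h⟩
            · exact hn h
            · exact h2 h
        · by_contra hne
          have := hf n hne
          rw [mem_Ge] at this
          rcases this with h | ⟨h, -⟩
          · exact hn h
          · exact h1 h
    rw [hdec]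
    refine Submodule.add_mem _ ?_ ?_
    · have : f₁ = (⟨f₁, hf₁A⟩ : ↥A) • (1 : k⟦X⟧) := (mul_one _).symm
      rw [this]
      exact Submodule.smul_mem _ _ (one_mem_Mg A _)
    · have : X ^ e * f₂ = (⟨f₂, hf₂A⟩ : ↥A) • ((X : k⟦X⟧) ^ e) := mul_comm _ _
      rw [this]
      exact Submodule.smul_mem _ _ (g_mem_Mg A _)

/-! ### The generic `Ext^1` computation -/

/-- Orders of evaluations of homomorphisms `K → N`. -/
def Dset (S Γ : Set ℕ) (e s₀ : ℕ) : Set ℕ :=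
  {n | ∀ s, s ∈ S → s + e ∈ S → s₀ ≤ s + n ∧ s + n - s₀ ∈ Γ}

/-- Orders of evaluations on the image of restriction. -/
def Rset (Γ : Set ℕ) (e s₀ : ℕ) : Set ℕ :=
  {n | s₀ ≤ n ∧ (n - s₀ ∈ Γ ∨ (e ≤ n - s₀ ∧ n - s₀ - e ∈ Γ))}

lemma mem_Dset {S Γ : Set ℕ} {e s₀ n : ℕ} :
    n ∈ Dset S Γ e s₀ ↔ ∀ s, s ∈ S → s + e ∈ S → s₀ ≤ s + n ∧ s + n - s₀ ∈ Γ := Iff.rfl

lemma mem_Rset {Γ : Set ℕ} {e s₀ n : ℕ} :
    n ∈ Rset Γ e s₀ ↔ (s₀ ≤ n ∧ (n - s₀ ∈ Γ ∨ (e ≤ n - s₀ ∧ n - s₀ - e ∈ Γ))) := Iff.rfl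

section Main

variable (H : MHyp A S c) {Γ : Set ℕ} {e s₀ : ℕ} (N : Submodule ↥A k⟦X⟧)
  (hN : ∀ f : k⟦X⟧, f ∈ N ↔ f ∈ Mon Γ) (hΓ0 : 0 ∈ Γ) (hΓ : ∀ a ∈ S, ∀ b ∈ Γ, a + b ∈ Γ)
  (hs₀ : s₀ ∈ S) (hs₀e : s₀ + e ∈ S)

include H in
lemma sg_mem {s : ℕ} (hse : s + e ∈ S) : (X : k⟦X⟧) ^ s * X ^ e ∈ A := by
  rw [← pow_add]
  exact H.X_pow_mem hse

include H hN hs₀ hs₀e in
/-- (G1) orders of evaluations of homomorphisms. -/
lemma ev_order_mem (φ : HomK A ((X : k⟦X⟧) ^ e) N) (n : ℕ)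
    (hn : order (ev A _ _ (kerElt A _ _ (H.X_pow_mem hs₀) (sg_mem H hs₀e)) φ) = (n : ℕ∞)) :
    n ∈ Dset S Γ e s₀ := by
  intro s hs hse
  have hkey := key_identity (H.X_pow_mem hs₀) (sg_mem H hs₀e) φ
    (kerElt A _ _ (H.X_pow_mem hs) (sg_mem H hse))
  set y : k⟦X⟧ := (φ (kerElt A _ _ (H.X_pow_mem hs) (sg_mem H hse)) : k⟦X⟧) with hy
  have hyN : y ∈ Mon Γ := (hN _).1 (φ _).2
  have h1 : (X : k⟦X⟧) ^ s₀ * y = X ^ s *
      ev A _ _ (kerElt A _ _ (H.X_pow_mem hs₀) (sg_mem H hs₀e)) φ := hkey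
  have h2 := congrArg order h1
  rw [order_X_pow_mul, order_X_pow_mul, hn] at h2
  have hne : order y ≠ ⊤ := by
    intro htop
    rw [htop, add_top] at h2
    exact ENat.top_ne_natCast _ (by rw [h2]; rfl)
  obtain ⟨d, hd⟩ := ENat.ne_top_iff_exists.1 hne
  rw [← hd] at h2
  have h3 : s₀ + d = s + n := by exact_mod_cast h2
  refine ⟨by omega, ?_⟩
  have h4 : s + n - s₀ = d := by omega
  rw [h4]
  exact order_mem_of_Mon hyN hd.symm

include H hN hs₀ hs₀e in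
/-- (G2) existence of homomorphisms with prescribed order. -/
lemma exists_ev_order (n : ℕ) (hn : n ∈ Dset S Γ e s₀) :
    ∃ φ : HomK A ((X : k⟦X⟧) ^ e) N,
      order (ev A _ _ (kerElt A _ _ (H.X_pow_mem hs₀) (sg_mem H hs₀e)) φ) = (n : ℕ∞) := by
  obtain ⟨φ, hφ⟩ := exists_hom_of_ev (N := N)
    (H.X_pow_mem hs₀) (sg_mem H hs₀e) (pow_ne_zero _ X_ne_zero) ((X : k⟦X⟧) ^ n) (by
      intro b hb hbg
      have hb' := mem_Mon_inter_shift e ((H.mono _).1 hb) ((H.mono _).1 hbg)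
      have hbn : b * X ^ n ∈ Mon {t | s₀ ≤ t ∧ t - s₀ ∈ Γ} := by
        refine Mon_mul (S₂ := {n}) ?_ hb' (X_pow_mem_Mon rfl)
        rintro s ⟨hs1, hs2⟩ b' rfl
        exact hn s hs1 hs2
      obtain ⟨y, hy, hyM⟩ := exists_eq_X_pow_mul_Mon hbn s₀ (fun t ht => ht.1)
      refine ⟨y, (hN _).2 (Mon_mono ?_ hyM), hy.symm⟩
      intro m hm
      have := hm.2
      rwa [Nat.add_sub_cancel] at this)
  exact ⟨φ, by rw [hφ, order_X_pow]⟩

include H hN hs₀ hs₀e in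
/-- (G3) orders on the image of restriction. -/
lemma res_order_mem (φ : HomK A ((X : k⟦X⟧) ^ e) N) (hφ : φ ∈ resRange A _ _) (n : ℕ)
    (hn : order (ev A _ _ (kerElt A _ _ (H.X_pow_mem hs₀) (sg_mem H hs₀e)) φ) = (n : ℕ∞)) :
    n ∈ Rset Γ e s₀ := by
  obtain ⟨n₁, hn₁, n₂, hn₂, hev⟩ := ev_resRange (H.X_pow_mem hs₀) (sg_mem H hs₀e) φ hφ
  have hn₁' := (hN _).1 hn₁
  have hn₂' := (hN _).1 hn₂
  set z : k⟦X⟧ := n₂ - X ^ e * n₁ with hz
  have hzM : z ∈ Mon {d | d ∈ Γ ∨ (e ≤ d ∧ d - e ∈ Γ)} := by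
    refine Mon_sub (Mon_mono (fun d hd => Or.inl hd) hn₂') ?_
    refine Mon_mul (S₁ := {e}) ?_ (X_pow_mem_Mon rfl) hn₁'
    rintro a rfl b hb
    right
    refine ⟨by omega, ?_⟩
    rw [Nat.add_sub_cancel_left]
    exact hb
  rw [hev, order_X_pow_mul] at hn
  have hne : order z ≠ ⊤ := by
    intro htop
    rw [htop, add_top] at hn
    exact ENat.top_ne_natCast _ hn
  obtain ⟨d, hd⟩ := ENat.ne_top_iff_exists.1 hne
  rw [← hd] at hn
  have h3 : s₀ + d = n := by exact_mod_cast hn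
  rw [mem_Rset]
  refine ⟨by omega, ?_⟩
  have h4 : n - s₀ = d := by omega
  rw [h4]
  exact order_mem_of_Mon hzM hd.symm

include H hN hs₀ hs₀e in
/-- (G4) existence on the image of restriction. -/
lemma exists_res_order (n : ℕ) (hn : n ∈ Rset Γ e s₀) :
    ∃ φ ∈ resRange A ((X : k⟦X⟧) ^ e) N,
      order (ev A _ _ (kerElt A _ _ (H.X_pow_mem hs₀) (sg_mem H hs₀e)) φ) = (n : ℕ∞) := by
  rw [mem_Rset] at hn
  obtain ⟨h1, h2⟩ := hn
  rcases h2 with h2 | ⟨h2, h3⟩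
  · obtain ⟨φ, hφ, hev⟩ := exists_resRange_ev (N := N)
      (H.X_pow_mem hs₀) (sg_mem H hs₀e) 0 (X ^ (n - s₀)) (Submodule.zero_mem _)
      ((hN _).2 (X_pow_mem_Mon h2))
    refine ⟨φ, hφ, ?_⟩
    rw [hev, mul_zero, sub_zero, ← pow_add, order_X_pow]
    congr 1
    omega
  · obtain ⟨φ, hφ, hev⟩ := exists_resRange_ev (N := N)
      (H.X_pow_mem hs₀) (sg_mem H hs₀e) (X ^ (n - s₀ - e)) 0
      ((hN _).2 (X_pow_mem_Mon h3)) (Submodule.zero_mem _)
    refine ⟨φ, hφ, ?_⟩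
    rw [hev, zero_sub, mul_neg, order_neg, ← pow_add, ← pow_add, order_X_pow]
    congr 1
    omega

include H hN hΓ0 hΓ hs₀ hs₀e in
/-- (G6) homomorphisms of large order extend. -/
lemma mem_resRange_of_large (φ : HomK A ((X : k⟦X⟧) ^ e) N)
    (hφ : ((c + s₀ : ℕ) : ℕ∞) ≤
      order (ev A _ _ (kerElt A _ _ (H.X_pow_mem hs₀) (sg_mem H hs₀e)) φ)) :
    φ ∈ resRange A _ _ := by
  obtain ⟨w', hw'⟩ := exists_eq_X_pow_mul hφ
  have hn₂A : (X : k⟦X⟧) ^ c * w' ∈ A := H.setup.X_pow_mul_mem w'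
  have hn₂ : (X : k⟦X⟧) ^ c * w' ∈ N := by
    rw [hN]
    refine Mon_mono ?_ ((H.mono _).1 hn₂A)
    intro s hs
    have := hΓ s hs 0 hΓ0
    rwa [add_zero] at this
  refine mem_resRange_of_ev (H.X_pow_mem hs₀) (sg_mem H hs₀e) (pow_ne_zero _ X_ne_zero) φ _ hn₂ ?_
  rw [hw', ← mul_assoc, ← pow_add]
  congr 2
  omega

include H hN hs₀ hs₀e in
theorem gained_eq :
    gained (P := HomK A ((X : k⟦X⟧) ^ e) N)
      (ev A _ _ (kerElt A _ _ (H.X_pow_mem hs₀) (sg_mem H hs₀e))) (resRange A _ _) =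
    {n | n ∈ Dset S Γ e s₀ ∧ n ∉ Rset Γ e s₀} := by
  ext n
  constructor
  · rintro ⟨⟨p, hp⟩, hno⟩
    refine ⟨ev_order_mem H N hN hs₀ hs₀e p n hp, ?_⟩
    intro hR
    obtain ⟨φ, hφ, ho⟩ := exists_res_order H N hN hs₀ hs₀e n hR
    exact hno ⟨φ, hφ, ho⟩
  · rintro ⟨hD, hR⟩
    refine ⟨exists_ev_order H N hN hs₀ hs₀e n hD, ?_⟩
    rintro ⟨s, hs, ho⟩
    exact hR (res_order_mem H N hN hs₀ hs₀e s hs n ho)

include H hN hΓ0 hΓ hs₀ hs₀e in
/-- **Generic monomial computation of `Ext^1(A + A t^e, N)`.** -/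
theorem length_ext_mono :
    Module.length ↥A (Abelian.Ext (ModuleCat.of ↥A ↥(Mg A ((X : k⟦X⟧) ^ e)))
      (ModuleCat.of ↥A ↥N) 1) =
      (({n | n ∈ Dset S Γ e s₀ ∧ n ∉ Rset Γ e s₀} : Set ℕ).ncard : ℕ∞) := by
  rw [TwoGen.length_ext_one A _ _ H.setup (kerElt A _ _ (H.X_pow_mem hs₀) (sg_mem H hs₀e))
    (c + s₀) (mem_resRange_of_large H N hN hΓ0 hΓ hs₀ hs₀e), gained_eq H N hN hs₀ hs₀e]

end Main

end Groth.Agent.Lib.Helper88.MonTwo
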