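/-
The `E₆` curve singularity `k[[t³, t⁴]]`: `Ext^1(k[[t]], k[[t]])` has length 6
(three-generated module, interleaved filtration on `k[[t]]²`).
Author: helper88
-/
import Groth.Agent.Lib.Helper88.MonTwo
import Groth.Agent.Lib.Helper88.FiltLen

set_option autoImplicit false
set_option linter.style.haveILetI false

namespace Groth.Agent.Lib.Helper88.E6

open PowerSeries CategoryTheory Groth.Agent.Lib.Helper88.CanonPS Groth.Agent.Lib.Helper88.TwoGen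
  Groth.Agent.Lib.Helper88.MonSet Groth.Agent.Lib.Helper88.MonTwo

universe u

variable {k : Type u} [Field k] {A : Subalgebra k k⟦X⟧} {c : ℕ}

/-! ### The interleaved filtration on `k[[t]]²` over `A` -/

lemma smul_fst' (a : ↥A) (w : k⟦X⟧ × k⟦X⟧) : (a • w).1 = (a : k⟦X⟧) * w.1 := rfl

lemma smul_snd' (a : ↥A) (w : k⟦X⟧ × k⟦X⟧) : (a • w).2 = (a : k⟦X⟧) * w.2 := rfl

/-- `Fil2 m = {(f, g) : 2 ord f ≥ m, 2 ord g + 1 ≥ m}`. -/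
noncomputable def Fil2 (A : Subalgebra k k⟦X⟧) (m : ℕ) : Submodule ↥A (k⟦X⟧ × k⟦X⟧) where
  carrier := {w | (((m + 1) / 2 : ℕ) : ℕ∞) ≤ order w.1 ∧ ((m / 2 : ℕ) : ℕ∞) ≤ order w.2}
  zero_mem' := by
    show _ ≤ order (0 : k⟦X⟧) ∧ _ ≤ order (0 : k⟦X⟧)
    rw [order_zero]
    exact ⟨le_top, le_top⟩
  add_mem' := by
    intro x y hx hy
    exact ⟨le_trans (le_min hx.1 hy.1) (min_order_le_order_add _ _),
      le_trans (le_min hx.2 hy.2) (min_order_le_order_add _ _)⟩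
  smul_mem' := by
    intro a w hw
    refine ⟨?_, ?_⟩
    · show _ ≤ order ((a : k⟦X⟧) * w.1)
      exact le_trans (le_trans hw.1 le_add_self) (le_order_mul _ _)
    · show _ ≤ order ((a : k⟦X⟧) * w.2)
      exact le_trans (le_trans hw.2 le_add_self) (le_order_mul _ _)

lemma mem_Fil2 {m : ℕ} {w : k⟦X⟧ × k⟦X⟧} :
    w ∈ Fil2 A m ↔ (((m + 1) / 2 : ℕ) : ℕ∞) ≤ order w.1 ∧ ((m / 2 : ℕ) : ℕ∞) ≤ order w.2 :=
  Iff.rfl

lemma le_order_sub_mul' {x y c : k⟦X⟧} {q : ℕ∞} (hx : q ≤ order x) (hy : q ≤ order y) :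
    q ≤ order (x - c * y) := by
  rw [sub_eq_add_neg]
  refine le_trans (le_min hx ?_) (min_order_le_order_add _ _)
  rw [order_neg]
  exact le_trans (le_trans hy le_add_self) (le_order_mul _ _)

lemma le_order_sub_C_mul' {u v : k⟦X⟧} {q : ℕ} (hu : (q : ℕ∞) ≤ order u) (hv : (q : ℕ∞) ≤ order v)
    (hvq : coeff q v ≠ 0) :
    ((q + 1 : ℕ) : ℕ∞) ≤ order (u - C (coeff q u / coeff q v) * v) := by
  apply nat_le_order
  intro i hi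
  rw [map_sub, coeff_C_mul]
  rcases Nat.lt_succ_iff_lt_or_eq.1 hi with h | h
  · rw [coeff_of_lt_order i (lt_of_lt_of_le (by exact_mod_cast h) hu),
      coeff_of_lt_order i (lt_of_lt_of_le (by exact_mod_cast h) hv), mul_zero, sub_zero]
  · rw [h, div_mul_cancel₀ _ hvq, sub_self]

lemma coeff_ne_zero_of_not_le' {v : k⟦X⟧} {q : ℕ} (hv : (q : ℕ∞) ≤ order v)
    (hv' : ¬ ((q + 1 : ℕ) : ℕ∞) ≤ order v) : coeff q v ≠ 0 := by
  intro h0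
  apply hv'
  apply nat_le_order
  intro i hi
  rcases Nat.lt_succ_iff_lt_or_eq.1 hi with h | h
  · exact coeff_of_lt_order i (lt_of_lt_of_le (by exact_mod_cast h) hv)
  · rw [h]; exact h0

theorem ordFilt2 (h : Setup A c) : FiltLen.OrdFilt h.isLocalRing (Fil2 A) where
  zero := by
    rw [eq_top_iff]
    intro w _
    rw [mem_Fil2]
    simp
  anti := by
    intro n w hw
    rw [mem_Fil2] at hw ⊢
    refine ⟨le_trans ?_ hw.1, le_trans ?_ hw.2⟩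
    · exact_mod_cast (by omega : (n + 1) / 2 ≤ (n + 1 + 1) / 2)
    · exact_mod_cast (by omega : n / 2 ≤ (n + 1) / 2)
  max_smul := by
    intro n a ha w hw
    rw [h.mem_maximalIdeal_iff] at ha
    have h1 : (1 : ℕ∞) ≤ order (a : k⟦X⟧) := by
      rw [Order.one_le_iff_ne_zero]
      exact order_ne_zero_iff_constCoeff_eq_zero.2 ha
    rw [mem_Fil2] at hw ⊢
    refine ⟨?_, ?_⟩
    · rw [smul_fst']
      refine le_trans ?_ (le_order_mul _ _)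
      refine le_trans ?_ (add_le_add h1 hw.1)
      exact_mod_cast (by omega : (n + 1 + 1) / 2 ≤ 1 + (n + 1) / 2)
    · rw [smul_snd']
      refine le_trans ?_ (le_order_mul _ _)
      refine le_trans ?_ (add_le_add h1 hw.2)
      exact_mod_cast (by omega : (n + 1) / 2 ≤ 1 + n / 2)
  kill := by
    intro n x y hx hy hy'
    rw [mem_Fil2] at hx hy hy'
    rcases Nat.even_or_odd' n with ⟨q, hq | hq⟩
    · have e1 : (n + 1) / 2 = q := by omega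
      have e2 : n / 2 = q := by omega
      have e3 : (n + 1 + 1) / 2 = q + 1 := by omega
      rw [e1, e2] at hx hy
      rw [e3, e1] at hy'
      have hyq : coeff q y.1 ≠ 0 := by
        apply coeff_ne_zero_of_not_le' hy.1
        intro h
        exact hy' ⟨h, hy.2⟩
      refine ⟨⟨C (coeff q x.1 / coeff q y.1), Setup.C_mem A _⟩, ?_⟩
      rw [mem_Fil2, e3, e1]
      refine ⟨le_order_sub_C_mul' hx.1 hy.1 hyq, ?_⟩
      show _ ≤ order (x.2 - C (coeff q x.1 / coeff q y.1) * y.2)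
      exact le_order_sub_mul' hx.2 hy.2
    · have e1 : (n + 1) / 2 = q + 1 := by omega
      have e2 : n / 2 = q := by omega
      have e3 : (n + 1 + 1) / 2 = q + 1 := by omega
      rw [e1, e2] at hx hy
      rw [e3, e1] at hy'
      have hyq : coeff q y.2 ≠ 0 := by
        apply coeff_ne_zero_of_not_le' hy.2
        intro h
        exact hy' ⟨hy.1, h⟩
      refine ⟨⟨C (coeff q x.2 / coeff q y.2), Setup.C_mem A _⟩, ?_⟩
      rw [mem_Fil2, e3, e1]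
      refine ⟨?_, le_order_sub_C_mul' hx.2 hy.2 hyq⟩
      show _ ≤ order (x.1 - C (coeff q x.2 / coeff q y.2) * y.1)
      exact le_order_sub_mul' hx.1 hy.1


/-! ### The three-generated module `A + A t + A t² = k[[t]]` -/

/-- The semigroup `⟨3, 4⟩ = {0, 3, 4, 6, 7, …}`. -/
def S34 : Set ℕ := {n | n = 0 ∨ n = 3 ∨ n = 4 ∨ 6 ≤ n}

lemma mem_S34 {n : ℕ} : n ∈ S34 ↔ (n = 0 ∨ n = 3 ∨ n = 4 ∨ 6 ≤ n) := Iff.rfl

variable (A) in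
/-- The module `A + A t + A t²`. -/
noncomputable abbrev M3 : Submodule ↥A k⟦X⟧ :=
  Submodule.span ↥A ({1, (X : k⟦X⟧), (X : k⟦X⟧) ^ 2} : Set k⟦X⟧)

lemma one_mem_M3 : (1 : k⟦X⟧) ∈ M3 A := Submodule.subset_span (by simp)

lemma X_mem_M3 : (X : k⟦X⟧) ∈ M3 A := Submodule.subset_span (by simp)

lemma X2_mem_M3 : (X : k⟦X⟧) ^ 2 ∈ M3 A := Submodule.subset_span (by simp)

/-- Every power series decomposes as `a + b t + c t²` with `a, b, c ∈ A`. -/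
lemma exists_decomp (H : MHyp A S34 6) (f : k⟦X⟧) :
    ∃ a ∈ A, ∃ b ∈ A, ∃ c ∈ A, f = a + b * X + c * X ^ 2 := by
  set b : k⟦X⟧ := C (coeff 1 f) + C (coeff 5 f) * X ^ 4 with hb
  set c' : k⟦X⟧ := C (coeff 2 f) with hc
  have hbA : b ∈ A := by
    refine A.add_mem (Setup.C_mem A _) (A.mul_mem (Setup.C_mem A _) (H.X_pow_mem ?_))
    rw [mem_S34]; omega
  have hcA : c' ∈ A := Setup.C_mem A _
  refine ⟨f - (b * X + c' * X ^ 2), ?_, b, hbA, c', hcA, by ring⟩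
  rw [H.mono]
  intro n hn
  by_contra hnS
  rw [mem_S34] at hnS
  have hn' : n = 1 ∨ n = 2 ∨ n = 5 := by omega
  apply hn
  have e1 : b * X + c' * X ^ 2 =
      C (coeff 1 f) * X ^ 1 + C (coeff 5 f) * X ^ 5 + C (coeff 2 f) * X ^ 2 := by
    rw [hb, hc]
    ring
  rw [e1]
  simp only [map_sub, map_add, coeff_C_mul, coeff_X_pow]
  rcases hn' with rfl | rfl | rfl
  · norm_num
  · norm_num
  · norm_num

lemma mem_M3 (H : MHyp A S34 6) (f : k⟦X⟧) : f ∈ M3 A := by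
  obtain ⟨a, ha, b, hb, c', hc, rfl⟩ := exists_decomp H f
  refine Submodule.add_mem _ (Submodule.add_mem _ ?_ ?_) ?_
  · have : a = (⟨a, ha⟩ : ↥A) • (1 : k⟦X⟧) := (mul_one _).symm
    rw [this]
    exact Submodule.smul_mem _ _ one_mem_M3
  · exact Submodule.smul_mem _ (⟨b, hb⟩ : ↥A) X_mem_M3
  · exact Submodule.smul_mem _ (⟨c', hc⟩ : ↥A) X2_mem_M3

variable (A) in
/-- The presentation `A³ → A + A t + A t²`. -/
noncomputable def pi3 : (↥A × ↥A × ↥A) →ₗ[↥A] ↥(M3 A) :=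
  (LinearMap.toSpanSingleton ↥A ↥(M3 A) ⟨1, one_mem_M3⟩).coprod
    ((LinearMap.toSpanSingleton ↥A ↥(M3 A) ⟨X, X_mem_M3⟩).coprod
      (LinearMap.toSpanSingleton ↥A ↥(M3 A) ⟨X ^ 2, X2_mem_M3⟩))

lemma pi3_coe (x : ↥A × ↥A × ↥A) :
    ((pi3 A x : ↥(M3 A)) : k⟦X⟧) =
      (x.1 : k⟦X⟧) + (x.2.1 : k⟦X⟧) * X + (x.2.2 : k⟦X⟧) * X ^ 2 := by
  show (x.1 : k⟦X⟧) * 1 + ((x.2.1 : k⟦X⟧) * X + (x.2.2 : k⟦X⟧) * X ^ 2) = _
  ring

lemma pi3_surjective (H : MHyp A S34 6) : Function.Surjective (pi3 A) := by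
  rintro ⟨x, hx⟩
  obtain ⟨a, ha, b, hb, c', hc, rfl⟩ := exists_decomp H x
  refine ⟨(⟨a, ha⟩, ⟨b, hb⟩, ⟨c', hc⟩), Subtype.ext ?_⟩
  rw [pi3_coe]

variable (A) in
/-- The kernel of the presentation. -/
noncomputable abbrev Ker3 : Submodule ↥A (↥A × ↥A × ↥A) := LinearMap.ker (pi3 A)

lemma mem_Ker3 (x : ↥A × ↥A × ↥A) :
    x ∈ Ker3 A ↔ (x.1 : k⟦X⟧) + (x.2.1 : k⟦X⟧) * X + (x.2.2 : k⟦X⟧) * X ^ 2 = 0 := by
  rw [LinearMap.mem_ker, ← pi3_coe]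
  constructor
  · intro hx
    rw [hx]
    rfl
  · intro hx
    exact Subtype.ext hx

/-- An element of the kernel. -/
noncomputable def kerElt3 (a b c' : k⟦X⟧) (ha : a ∈ A) (hb : b ∈ A) (hc : c' ∈ A)
    (h : a + b * X + c' * X ^ 2 = 0) : ↥(Ker3 A) :=
  ⟨(⟨a, ha⟩, ⟨b, hb⟩, ⟨c', hc⟩), (mem_Ker3 _).2 h⟩

section Main3

variable (H : MHyp A S34 6)

include H in
lemma X3_mem : (X : k⟦X⟧) ^ 3 ∈ A := H.X_pow_mem (by rw [mem_S34]; omega)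

include H in
lemma X4_mem : (X : k⟦X⟧) ^ 4 ∈ A := H.X_pow_mem (by rw [mem_S34]; omega)

include H in
lemma X6_mem : (X : k⟦X⟧) ^ 6 ∈ A := H.X_pow_mem (by rw [mem_S34]; omega)

/-- `κ₁ = (-t⁴, t³, 0)`. -/
noncomputable def kap1 : ↥(Ker3 A) :=
  kerElt3 (-(X : k⟦X⟧) ^ 4) (X ^ 3) 0 (A.neg_mem (X4_mem H)) (X3_mem H) A.zero_mem (by ring)

/-- `κ₂ = (0, t⁴, -t³)`. -/
noncomputable def kap2 : ↥(Ker3 A) :=
  kerElt3 0 ((X : k⟦X⟧) ^ 4) (-(X : k⟦X⟧) ^ 3) A.zero_mem (X4_mem H) (A.neg_mem (X3_mem H))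
    (by ring)

/-- `Hom(K, M₃)`. -/
abbrev Hom3 (A : Subalgebra k k⟦X⟧) : Type u := ↥(Ker3 A) →ₗ[↥A] ↥(M3 A)

/-- The image of restriction. -/
noncomputable def res3 (A : Subalgebra k k⟦X⟧) : Submodule ↥A (Hom3 A) :=
  LinearMap.range (LinearMap.lcomp ↥A ↥(M3 A) (Ker3 A).subtype)

/-- Evaluation at `(κ₁, κ₂)`. -/
noncomputable def ev3 : Hom3 A →ₗ[↥A] (k⟦X⟧ × k⟦X⟧) where
  toFun φ := ((φ (kap1 H) : k⟦X⟧), (φ (kap2 H) : k⟦X⟧))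
  map_add' _ _ := rfl
  map_smul' _ _ := rfl

lemma ev3_apply (φ : Hom3 A) :
    ev3 H φ = ((φ (kap1 H) : k⟦X⟧), (φ (kap2 H) : k⟦X⟧)) := rfl

/-- Key identity. -/
lemma key3 (φ : Hom3 A) (κ : ↥(Ker3 A)) :
    (X : k⟦X⟧) ^ 3 * (φ κ : k⟦X⟧) =
      (((κ : ↥A × ↥A × ↥A).2.1 : k⟦X⟧) + ((κ : ↥A × ↥A × ↥A).2.2 : k⟦X⟧) * X) * (ev3 H φ).1 -
        ((κ : ↥A × ↥A × ↥A).2.2 : k⟦X⟧) * (ev3 H φ).2 := by
  have hκ := (mem_Ker3 κ.1).1 κ.2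
  set a : k⟦X⟧ := ((κ : ↥A × ↥A × ↥A).1 : k⟦X⟧) with ha
  set b : k⟦X⟧ := ((κ : ↥A × ↥A × ↥A).2.1 : k⟦X⟧) with hb
  set c' : k⟦X⟧ := ((κ : ↥A × ↥A × ↥A).2.2 : k⟦X⟧) with hc
  have hbA : b ∈ A := (κ : ↥A × ↥A × ↥A).2.1.2
  have hcA : c' ∈ A := (κ : ↥A × ↥A × ↥A).2.2.2
  have hu : X ^ 3 * b + X ^ 4 * c' ∈ A :=
    A.add_mem (A.mul_mem (X3_mem H) hbA) (A.mul_mem (X4_mem H) hcA)
  have hv : X ^ 3 * c' ∈ A := A.mul_mem (X3_mem H) hcA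
  have h1 : (⟨X ^ 6, X6_mem H⟩ : ↥A) • κ =
      (⟨X ^ 3 * b + X ^ 4 * c', hu⟩ : ↥A) • kap1 H - (⟨X ^ 3 * c', hv⟩ : ↥A) • kap2 H := by
    apply Subtype.ext
    refine Prod.ext (Subtype.ext ?_) (Prod.ext (Subtype.ext ?_) (Subtype.ext ?_))
    · show (X : k⟦X⟧) ^ 6 * a = (X ^ 3 * b + X ^ 4 * c') * (-(X : k⟦X⟧) ^ 4) - X ^ 3 * c' * 0
      linear_combination (X : k⟦X⟧) ^ 6 * hκ
    · show (X : k⟦X⟧) ^ 6 * b = (X ^ 3 * b + X ^ 4 * c') * X ^ 3 - X ^ 3 * c' * X ^ 4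
      ring
    · show (X : k⟦X⟧) ^ 6 * c' = (X ^ 3 * b + X ^ 4 * c') * 0 - X ^ 3 * c' * (-(X : k⟦X⟧) ^ 3)
      ring
  have h2 := congrArg (fun y => ((φ y : ↥(M3 A)) : k⟦X⟧)) h1
  simp only [map_smul, map_sub] at h2
  have h3 : (X : k⟦X⟧) ^ 6 * (φ κ : k⟦X⟧) =
      (X ^ 3 * b + X ^ 4 * c') * (φ (kap1 H) : k⟦X⟧) - X ^ 3 * c' * (φ (kap2 H) : k⟦X⟧) := h2
  have hX : (X : k⟦X⟧) ^ 3 ≠ 0 := pow_ne_zero _ X_ne_zero
  apply mul_left_cancel₀ hX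
  rw [ev3_apply]
  linear_combination h3

lemma ev3_injective (φ φ' : Hom3 A) (h : ev3 H φ = ev3 H φ') : φ = φ' := by
  refine LinearMap.ext (fun κ => Subtype.ext ?_)
  have hX : (X : k⟦X⟧) ^ 3 ≠ 0 := pow_ne_zero _ X_ne_zero
  apply mul_left_cancel₀ hX
  rw [key3 H φ κ, key3 H φ' κ, h]

include H in
/-- Orders of the components of kernel elements. -/
lemma ker3_order (κ : ↥(Ker3 A)) :
    (3 : ℕ∞) ≤ order ((κ : ↥A × ↥A × ↥A).2.1 : k⟦X⟧) ∧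
      (3 : ℕ∞) ≤ order ((κ : ↥A × ↥A × ↥A).2.2 : k⟦X⟧) := by
  have hκ := (mem_Ker3 κ.1).1 κ.2
  set a : k⟦X⟧ := ((κ : ↥A × ↥A × ↥A).1 : k⟦X⟧) with ha
  set b : k⟦X⟧ := ((κ : ↥A × ↥A × ↥A).2.1 : k⟦X⟧) with hb
  set c' : k⟦X⟧ := ((κ : ↥A × ↥A × ↥A).2.2 : k⟦X⟧) with hc
  have haA : a ∈ Mon S34 := (H.mono _).1 (κ : ↥A × ↥A × ↥A).1.2
  have hbA : b ∈ Mon S34 := (H.mono _).1 (κ : ↥A × ↥A × ↥A).2.1.2
  have hcA : c' ∈ Mon S34 := (H.mono _).1 (κ : ↥A × ↥A × ↥A).2.2.2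
  have z : ∀ {f : k⟦X⟧}, f ∈ Mon S34 → ∀ n, n ∉ S34 → coeff n f = 0 := by
    intro f hf n hn
    by_contra h
    exact hn (hf n h)
  have a1 : coeff 1 a = 0 := z haA 1 (by rw [mem_S34]; omega)
  have a2 : coeff 2 a = 0 := z haA 2 (by rw [mem_S34]; omega)
  have b1 : coeff 1 b = 0 := z hbA 1 (by rw [mem_S34]; omega)
  have b2 : coeff 2 b = 0 := z hbA 2 (by rw [mem_S34]; omega)
  have c1 : coeff 1 c' = 0 := z hcA 1 (by rw [mem_S34]; omega)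
  have c2 : coeff 2 c' = 0 := z hcA 2 (by rw [mem_S34]; omega)
  have e1 := congrArg (coeff 1) hκ
  have e2 := congrArg (coeff 2) hκ
  rw [map_add, map_add, map_zero] at e1 e2
  have b0 : coeff 0 b = 0 := by
    have h1 : coeff 1 (b * X) = coeff 0 b := coeff_succ_mul_X 0 b
    have h2 : coeff 1 (c' * X ^ 2) = 0 := by
      rw [coeff_mul_X_pow']
      simp
    rw [a1, h1, h2] at e1
    simpa using e1
  have c0 : coeff 0 c' = 0 := by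
    have h1 : coeff 2 (b * X) = coeff 1 b := coeff_succ_mul_X 1 b
    have h2 : coeff 2 (c' * X ^ 2) = coeff 0 c' := by
      rw [coeff_mul_X_pow']
      simp
    rw [a2, h1, h2, b1] at e2
    simpa using e2
  refine ⟨?_, ?_⟩
  · apply nat_le_order
    intro i hi
    interval_cases i
    · exact b0
    · exact b1
    · exact b2
  · apply nat_le_order
    intro i hi
    interval_cases i
    · exact c0
    · exact c1
    · exact c2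

/-- Surjectivity of the evaluation. -/
lemma exists_ev3 (x y : k⟦X⟧) : ∃ φ : Hom3 A, ev3 H φ = (x, y) := by
  have hX : (X : k⟦X⟧) ^ 3 ≠ 0 := pow_ne_zero _ X_ne_zero
  obtain ⟨φ, hφ⟩ := exists_linearMap_of_rel (R := ↥A) (M := ↥(Ker3 A)) (N := ↥(M3 A))
    (fun κ n => (X : k⟦X⟧) ^ 3 * (n : k⟦X⟧) =
      (((κ : ↥A × ↥A × ↥A).2.1 : k⟦X⟧) + ((κ : ↥A × ↥A × ↥A).2.2 : k⟦X⟧) * X) * x -
        ((κ : ↥A × ↥A × ↥A).2.2 : k⟦X⟧) * y)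
    (by
      intro κ
      obtain ⟨hb, hc⟩ := ker3_order H κ
      obtain ⟨b', hb'⟩ := exists_eq_X_pow_mul (n := 3) (by exact_mod_cast hb)
      obtain ⟨c', hc'⟩ := exists_eq_X_pow_mul (n := 3) (by exact_mod_cast hc)
      refine ⟨⟨(b' + c' * X) * x - c' * y, mem_M3 H _⟩, ?_⟩
      show (X : k⟦X⟧) ^ 3 * ((b' + c' * X) * x - c' * y) = _
      rw [hb', hc']
      ring)
    (by
      intro κ n n' h1 h2
      apply Subtype.ext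
      apply mul_left_cancel₀ hX
      rw [h1, h2])
    (by
      intro κ κ' n n' h1 h2
      show (X : k⟦X⟧) ^ 3 * ((n : k⟦X⟧) + (n' : k⟦X⟧)) =
        ((((κ : ↥A × ↥A × ↥A).2.1 : k⟦X⟧) + ((κ' : ↥A × ↥A × ↥A).2.1 : k⟦X⟧)) +
          (((κ : ↥A × ↥A × ↥A).2.2 : k⟦X⟧) + ((κ' : ↥A × ↥A × ↥A).2.2 : k⟦X⟧)) * X) * x -
          (((κ : ↥A × ↥A × ↥A).2.2 : k⟦X⟧) + ((κ' : ↥A × ↥A × ↥A).2.2 : k⟦X⟧)) * y
      rw [mul_add, h1, h2]
      ring)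
    (by
      intro a κ n h1
      show (X : k⟦X⟧) ^ 3 * ((a : k⟦X⟧) * (n : k⟦X⟧)) =
        (((a : k⟦X⟧) * ((κ : ↥A × ↥A × ↥A).2.1 : k⟦X⟧)) +
          ((a : k⟦X⟧) * ((κ : ↥A × ↥A × ↥A).2.2 : k⟦X⟧)) * X) * x -
          ((a : k⟦X⟧) * ((κ : ↥A × ↥A × ↥A).2.2 : k⟦X⟧)) * y
      rw [mul_left_comm, h1]
      ring)
  refine ⟨φ, ?_⟩
  rw [ev3_apply]
  refine Prod.ext ?_ ?_
  · apply mul_left_cancel₀ hX
    have := hφ (kap1 H)
    show (X : k⟦X⟧) ^ 3 * (φ (kap1 H) : k⟦X⟧) = X ^ 3 * x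
    rw [this]
    show ((X : k⟦X⟧) ^ 3 + 0 * X) * x - 0 * y = X ^ 3 * x
    ring
  · apply mul_left_cancel₀ hX
    have := hφ (kap2 H)
    show (X : k⟦X⟧) ^ 3 * (φ (kap2 H) : k⟦X⟧) = X ^ 3 * y
    rw [this]
    show ((X : k⟦X⟧) ^ 4 + (-(X : k⟦X⟧) ^ 3) * X) * x - (-(X : k⟦X⟧) ^ 3) * y = X ^ 3 * y
    ring

/-- Values on the image of restriction. -/
lemma ev3_res (φ : Hom3 A) (hφ : φ ∈ res3 A) : ev3 H φ ∈ Fil2 A 6 := by
  obtain ⟨ψ, rfl⟩ := hφ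
  have h1 : ((kap1 H : ↥(Ker3 A)) : ↥A × ↥A × ↥A) =
      (⟨-(X : k⟦X⟧) ^ 4, A.neg_mem (X4_mem H)⟩ : ↥A) • ((1 : ↥A), (0 : ↥A), (0 : ↥A)) +
        (⟨(X : k⟦X⟧) ^ 3, X3_mem H⟩ : ↥A) • ((0 : ↥A), (1 : ↥A), (0 : ↥A)) := by
    refine Prod.ext (Subtype.ext ?_) (Prod.ext (Subtype.ext ?_) (Subtype.ext ?_))
    · show -(X : k⟦X⟧) ^ 4 = -(X : k⟦X⟧) ^ 4 * 1 + X ^ 3 * 0
      ring
    · show (X : k⟦X⟧) ^ 3 = -(X : k⟦X⟧) ^ 4 * 0 + X ^ 3 * 1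
      ring
    · show (0 : k⟦X⟧) = -(X : k⟦X⟧) ^ 4 * 0 + X ^ 3 * 0
      ring
  have h2 : ((kap2 H : ↥(Ker3 A)) : ↥A × ↥A × ↥A) =
      (⟨(X : k⟦X⟧) ^ 4, X4_mem H⟩ : ↥A) • ((0 : ↥A), (1 : ↥A), (0 : ↥A)) +
        (⟨-(X : k⟦X⟧) ^ 3, A.neg_mem (X3_mem H)⟩ : ↥A) • ((0 : ↥A), (0 : ↥A), (1 : ↥A)) := by
    refine Prod.ext (Subtype.ext ?_) (Prod.ext (Subtype.ext ?_) (Subtype.ext ?_))
    · show (0 : k⟦X⟧) = X ^ 4 * 0 + -(X : k⟦X⟧) ^ 3 * 0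
      ring
    · show (X : k⟦X⟧) ^ 4 = X ^ 4 * 1 + -(X : k⟦X⟧) ^ 3 * 0
      ring
    · show -(X : k⟦X⟧) ^ 3 = X ^ 4 * 0 + -(X : k⟦X⟧) ^ 3 * 1
      ring
  rw [mem_Fil2]
  refine ⟨?_, ?_⟩
  · show ((3 : ℕ) : ℕ∞) ≤ order ((ψ ((kap1 H : ↥(Ker3 A)) : ↥A × ↥A × ↥A) : ↥(M3 A)) : k⟦X⟧)
    rw [h1, map_add, map_smul, map_smul]
    show ((3 : ℕ) : ℕ∞) ≤ order (-(X : k⟦X⟧) ^ 4 * (ψ (1, 0, 0) : k⟦X⟧) +
      (X : k⟦X⟧) ^ 3 * (ψ (0, 1, 0) : k⟦X⟧))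
    refine le_trans (le_min ?_ ?_) (min_order_le_order_add _ _)
    · rw [neg_mul, order_neg, order_X_pow_mul]
      exact le_trans (by exact_mod_cast (by omega : 3 ≤ 4)) le_self_add
    · rw [order_X_pow_mul]
      exact le_self_add
  · show ((3 : ℕ) : ℕ∞) ≤ order ((ψ ((kap2 H : ↥(Ker3 A)) : ↥A × ↥A × ↥A) : ↥(M3 A)) : k⟦X⟧)
    rw [h2, map_add, map_smul, map_smul]
    show ((3 : ℕ) : ℕ∞) ≤ order ((X : k⟦X⟧) ^ 4 * (ψ (0, 1, 0) : k⟦X⟧) +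
      -(X : k⟦X⟧) ^ 3 * (ψ (0, 0, 1) : k⟦X⟧))
    refine le_trans (le_min ?_ ?_) (min_order_le_order_add _ _)
    · rw [order_X_pow_mul]
      exact le_trans (by exact_mod_cast (by omega : 3 ≤ 4)) le_self_add
    · rw [neg_mul, order_neg, order_X_pow_mul]
      exact le_self_add

/-- Homomorphisms with values in `Fil2 6` extend. -/
lemma mem_res3_of_Fil (φ : Hom3 A) (hφ : ev3 H φ ∈ Fil2 A 6) : φ ∈ res3 A := by
  rw [mem_Fil2] at hφ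
  obtain ⟨x', hx'⟩ := exists_eq_X_pow_mul (n := 3) hφ.1
  obtain ⟨y', hy'⟩ := exists_eq_X_pow_mul (n := 3) hφ.2
  set ψ : (↥A × ↥A × ↥A) →ₗ[↥A] ↥(M3 A) :=
    (0 : ↥A →ₗ[↥A] ↥(M3 A)).coprod
      ((LinearMap.toSpanSingleton ↥A ↥(M3 A) ⟨x', mem_M3 H _⟩).coprod
        (LinearMap.toSpanSingleton ↥A ↥(M3 A) ⟨X * x' - y', mem_M3 H _⟩)) with hψ
  have : φ = LinearMap.lcomp ↥A ↥(M3 A) (Ker3 A).subtype ψ := by
    apply ev3_injective H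
    rw [ev3_apply, ev3_apply]
    refine Prod.ext ?_ ?_
    · show (φ (kap1 H) : k⟦X⟧) = (0 : k⟦X⟧) + ((X : k⟦X⟧) ^ 3 * x' + 0 * (X * x' - y'))
      have : (φ (kap1 H) : k⟦X⟧) = X ^ 3 * x' := hx'
      rw [this]
      ring
    · show (φ (kap2 H) : k⟦X⟧) = (0 : k⟦X⟧) + ((X : k⟦X⟧) ^ 4 * x' + -(X : k⟦X⟧) ^ 3 * (X * x' - y'))
      have : (φ (kap2 H) : k⟦X⟧) = X ^ 3 * y' := hy'
      rw [this]
      ring
  rw [this]
  exact ⟨ψ, rfl⟩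

theorem gained3_eq :
    FiltLen.gained (P := Hom3 A) (Fil2 A) (ev3 H) (res3 A) = {m | m < 6} := by
  have hanti : Antitone (Fil2 A) := antitone_nat_of_succ_le (ordFilt2 H.setup).anti
  ext m
  constructor
  · rintro ⟨⟨φ, h1, h2⟩, hno⟩
    by_contra hm
    simp only [Set.mem_ofPred_eq, not_lt] at hm
    exact hno ⟨φ, mem_res3_of_Fil H φ (hanti hm h1), h1, h2⟩
  · intro hm
    simp only [Set.mem_ofPred_eq] at hm
    refine ⟨?_, ?_⟩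
    · rcases Nat.even_or_odd' m with ⟨q, rfl | rfl⟩
      · obtain ⟨φ, hφ⟩ := exists_ev3 H ((X : k⟦X⟧) ^ q) 0
        refine ⟨φ, ?_, ?_⟩
        · rw [hφ, mem_Fil2, show (2 * q + 1) / 2 = q by omega, show 2 * q / 2 = q by omega]
          refine ⟨?_, ?_⟩
          · show (q : ℕ∞) ≤ order ((X : k⟦X⟧) ^ q)
            rw [order_X_pow]
          · show (q : ℕ∞) ≤ order (0 : k⟦X⟧)
            rw [order_zero]
            exact le_top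
        · rw [hφ, mem_Fil2, show (2 * q + 1 + 1) / 2 = q + 1 by omega]
          rintro ⟨h, -⟩
          have h' : ((q + 1 : ℕ) : ℕ∞) ≤ order ((X : k⟦X⟧) ^ q) := h
          rw [order_X_pow] at h'
          have : q + 1 ≤ q := by exact_mod_cast h'
          omega
      · obtain ⟨φ, hφ⟩ := exists_ev3 H 0 ((X : k⟦X⟧) ^ q)
        refine ⟨φ, ?_, ?_⟩
        · rw [hφ, mem_Fil2, show (2 * q + 1 + 1) / 2 = q + 1 by omega,
            show (2 * q + 1) / 2 = q by omega]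
          refine ⟨?_, ?_⟩
          · show ((q + 1 : ℕ) : ℕ∞) ≤ order (0 : k⟦X⟧)
            rw [order_zero]
            exact le_top
          · show (q : ℕ∞) ≤ order ((X : k⟦X⟧) ^ q)
            rw [order_X_pow]
        · rw [hφ, mem_Fil2, show (2 * q + 1 + 1) / 2 = q + 1 by omega]
          rintro ⟨-, h⟩
          have h' : ((q + 1 : ℕ) : ℕ∞) ≤ order ((X : k⟦X⟧) ^ q) := h
          rw [order_X_pow] at h'
          have : q + 1 ≤ q := by exact_mod_cast h'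
          omega
    · rintro ⟨s, hs, -, h2⟩
      exact h2 (hanti (by omega : m + 1 ≤ 6) (ev3_res H s hs))

include H in
/-- **`Ext^1(k[[t]], k[[t]])` over the `E₆` ring has length 6.** -/
theorem length_case3 :
    Module.length ↥A (Abelian.Ext (ModuleCat.of ↥A ↥(M3 A)) (ModuleCat.of ↥A ↥(M3 A)) 1) = 6 := by
  obtain ⟨e⟩ := ExtLen.nonempty_coker_equiv_ext_one (R := ↥A) (N := ↥(M3 A)) (pi3 A)
    (pi3_surjective H)
  have h1 := e.length_eq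
  have h2 := FiltLen.length_quot_eq_ncard (P := Hom3 A) H.setup.isLocalRing (ordFilt2 H.setup)
    (ev3 H) (res3 A) 6 (mem_res3_of_Fil H)
  rw [gained3_eq H] at h2
  have h4 : ({m | m < 6} : Set ℕ).ncard = 6 := by
    have : ({m | m < 6} : Set ℕ) = ↑(Finset.range 6) := by
      ext m
      simp
    rw [this, Set.ncard_coe_finset, Finset.card_range]
  rw [h4] at h2
  have h3 := h1.symm.trans h2
  refine Eq.trans ?_ h3
  rfl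

end Main3

end Groth.Agent.Lib.Helper88.E6
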