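/-
The `E₆` curve singularity `k[[t³, t⁴]]`: `Ext^1(M, M)` for the two-generated rank-one modules.
Author: helper88
-/
import Groth.Agent.Lib.Helper88.E6Three

set_option autoImplicit false
set_option linter.style.haveILetI false

namespace Groth.Agent.Lib.Helper88.E6

open PowerSeries CategoryTheory Groth.Agent.Lib.Helper88.CanonPS Groth.Agent.Lib.Helper88.TwoGen
  Groth.Agent.Lib.Helper88.MonSet Groth.Agent.Lib.Helper88.MonTwo

universe u

lemma mem_closure_iff (n : ℕ) :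
    n ∈ AddSubmonoid.closure ({3, 4} : Set ℕ) ↔ n ∈ S34 := by
  rw [AddSubmonoid.mem_closure_pair, mem_S34]
  constructor
  · rintro ⟨m, n', rfl⟩
    simp only [smul_eq_mul]
    rcases m with _ | _ | m <;> rcases n' with _ | _ | n' <;> omega
  · intro h
    refine ⟨(n - 4 * (n % 3)) / 3, n % 3, ?_⟩
    simp only [smul_eq_mul]
    omega

variable {k : Type u} [Field k] {A : Subalgebra k k⟦X⟧}

theorem mhyp (hmono : ∀ f : k⟦X⟧, f ∈ A ↔ ∀ n : ℕ, coeff n f ≠ 0 →
    n ∈ AddSubmonoid.closure ({3, 4} : Set ℕ)) : MHyp A S34 6 where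
  mono := by
    intro f
    rw [hmono, mem_Mon]
    constructor
    · intro h n hn
      exact (mem_closure_iff n).1 (h n hn)
    · intro h n hn
      exact (mem_closure_iff n).2 (h n hn)
  zero := by rw [mem_S34]; omega
  add := by
    intro a ha b hb
    rw [mem_S34] at *
    omega
  cond := by
    intro n hn
    rw [mem_S34]
    omega
  cpos := by omega

/-- Length of `Ext^1(M, M)` for `M = A + A t^e`, in terms of the gained set. -/
theorem length_ext_self (H : MHyp A S34 6) (e s₀ : ℕ) (hs₀ : s₀ ∈ S34) (hs₀e : s₀ + e ∈ S34) :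
    Module.length ↥A (Abelian.Ext (ModuleCat.of ↥A ↥(Mg A ((X : k⟦X⟧) ^ e)))
      (ModuleCat.of ↥A ↥(Mg A ((X : k⟦X⟧) ^ e))) 1) =
      (({n | n ∈ Dset S34 (Ge S34 e) e s₀ ∧ n ∉ Rset (Ge S34 e) e s₀} : Set ℕ).ncard : ℕ∞) :=
  length_ext_mono H (Mg A ((X : k⟦X⟧) ^ e)) (H.mem_Mg e)
    (by rw [mem_Ge]; left; exact H.zero) (H.Ge_add e) hs₀ hs₀e

lemma ncard_case5 :
    ({n | n ∈ Dset S34 (Ge S34 5) 5 3 ∧ n ∉ Rset (Ge S34 5) 5 3} : Set ℕ).ncard = 2 := by
  have : ({n | n ∈ Dset S34 (Ge S34 5) 5 3 ∧ n ∉ Rset (Ge S34 5) 5 3} : Set ℕ) = {4, 5} := by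
    ext n
    simp only [mem_Dset, mem_Rset, mem_Ge, mem_S34, Set.mem_ofPred_eq, Set.mem_insert_iff,
      Set.mem_singleton_iff]
    constructor
    · rintro ⟨hD, hR⟩
      have h3 := hD 3 (by omega) (by omega)
      have h4 := hD 4 (by omega) (by omega)
      omega
    · rintro (rfl | rfl)
      · refine ⟨?_, by omega⟩
        intro s hs hse
        omega
      · refine ⟨?_, by omega⟩
        intro s hs hse
        omega
  rw [this, Set.ncard_pair (by omega)]

lemma ncard_case1 :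
    ({n | n ∈ Dset S34 (Ge S34 1) 1 3 ∧ n ∉ Rset (Ge S34 1) 1 3} : Set ℕ).ncard = 2 := by
  have : ({n | n ∈ Dset S34 (Ge S34 1) 1 3 ∧ n ∉ Rset (Ge S34 1) 1 3} : Set ℕ) = {0, 1} := by
    ext n
    simp only [mem_Dset, mem_Rset, mem_Ge, mem_S34, Set.mem_ofPred_eq, Set.mem_insert_iff,
      Set.mem_singleton_iff]
    constructor
    · rintro ⟨hD, hR⟩
      have h3 := hD 3 (by omega) (by omega)
      omega
    · rintro (rfl | rfl)
      · refine ⟨?_, by omega⟩
        intro s hs hse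
        omega
      · refine ⟨?_, by omega⟩
        intro s hs hse
        omega
  rw [this, Set.ncard_pair (by omega)]

lemma ncard_case2 :
    ({n | n ∈ Dset S34 (Ge S34 2) 2 4 ∧ n ∉ Rset (Ge S34 2) 2 4} : Set ℕ).ncard = 4 := by
  have : ({n | n ∈ Dset S34 (Ge S34 2) 2 4 ∧ n ∉ Rset (Ge S34 2) 2 4} : Set ℕ) =
      ↑({0, 2, 3, 5} : Finset ℕ) := by
    ext n
    simp only [mem_Dset, mem_Rset, mem_Ge, mem_S34, Set.mem_ofPred_eq, Finset.coe_insert,
      Finset.coe_singleton, Set.mem_insert_iff, Set.mem_singleton_iff]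
    constructor
    · rintro ⟨hD, hR⟩
      have h4 := hD 4 (by omega) (by omega)
      omega
    · rintro (rfl | rfl | rfl | rfl)
      · refine ⟨?_, by omega⟩
        intro s hs hse
        omega
      · refine ⟨?_, by omega⟩
        intro s hs hse
        omega
      · refine ⟨?_, by omega⟩
        intro s hs hse
        omega
      · refine ⟨?_, by omega⟩
        intro s hs hse
        omega
  rw [this, Set.ncard_coe_finset]
  rfl

theorem length_case5 (H : MHyp A S34 6) :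
    Module.length ↥A (Abelian.Ext (ModuleCat.of ↥A ↥(Mg A ((X : k⟦X⟧) ^ 5)))
      (ModuleCat.of ↥A ↥(Mg A ((X : k⟦X⟧) ^ 5))) 1) = 2 := by
  rw [length_ext_self H 5 3 (by rw [mem_S34]; omega) (by rw [mem_S34]; omega), ncard_case5]
  rfl

theorem length_case1 (H : MHyp A S34 6) :
    Module.length ↥A (Abelian.Ext (ModuleCat.of ↥A ↥(Mg A ((X : k⟦X⟧) ^ 1)))
      (ModuleCat.of ↥A ↥(Mg A ((X : k⟦X⟧) ^ 1))) 1) = 2 := by
  rw [length_ext_self H 1 3 (by rw [mem_S34]; omega) (by rw [mem_S34]; omega), ncard_case1]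
  rfl

theorem length_case2 (H : MHyp A S34 6) :
    Module.length ↥A (Abelian.Ext (ModuleCat.of ↥A ↥(Mg A ((X : k⟦X⟧) ^ 2)))
      (ModuleCat.of ↥A ↥(Mg A ((X : k⟦X⟧) ^ 2))) 1) = 4 := by
  rw [length_ext_self H 2 4 (by rw [mem_S34]; omega) (by rw [mem_S34]; omega), ncard_case2]
  rfl

end Groth.Agent.Lib.Helper88.E6
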