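/-
Reflexivity of finitely generated torsion-free modules over a one-dimensional Noetherian local
domain with respect to a canonical ideal `ω` (injective dimension one and `ω : ω = O`).
Author: helper88
-/
import Groth.Agent.Lib.Helper88.CanDual5

set_option autoImplicit false
set_option linter.style.haveILetI false

namespace Groth.Agent.Lib.Helper88.CanDual

open CategoryTheory Abelian IsLocalRing

universe u

section Abstract

variable (R : Type u) [CommRing R] (W : Type u) [AddCommGroup W] [Module R W]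

/-- Evaluation `M → Hom(Hom(M, W), W)`. -/
def ev (M : Type u) [AddCommGroup M] [Module R M] : M →ₗ[R] ((M →ₗ[R] W) →ₗ[R] W) where
  toFun m :=
    { toFun := fun φ => φ m
      map_add' := fun _ _ => rfl
      map_smul' := fun _ _ => rfl }
  map_add' m m' := LinearMap.ext fun φ => map_add φ m m'
  map_smul' a m := LinearMap.ext fun φ => map_smul φ a m

lemma ev_apply {M : Type u} [AddCommGroup M] [Module R M] (m : M) (φ : M →ₗ[R] W) :
    ev R W M m φ = φ m := rfl

/-- The duality map `Hom(A, B) → Hom(B^*, A^*)`. -/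
def D (A B : Type u) [AddCommGroup A] [Module R A] [AddCommGroup B] [Module R B] :
    (A →ₗ[R] B) →ₗ[R] ((B →ₗ[R] W) →ₗ[R] (A →ₗ[R] W)) where
  toFun φ := LinearMap.lcomp R W φ
  map_add' φ φ' := by
    refine LinearMap.ext fun β => LinearMap.ext fun a => ?_
    show β (φ a + φ' a) = β (φ a) + β (φ' a)
    rw [map_add]
  map_smul' c φ := by
    refine LinearMap.ext fun β => LinearMap.ext fun a => ?_
    show β (c • φ a) = c • β (φ a)
    rw [map_smul]

lemma D_apply {A B : Type u} [AddCommGroup A] [Module R A] [AddCommGroup B] [Module R B]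
    (φ : A →ₗ[R] B) (β : B →ₗ[R] W) (a : A) : D R W A B φ β a = β (φ a) := rfl

lemma D_bijective {A B : Type u} [AddCommGroup A] [Module R A] [AddCommGroup B] [Module R B]
    (hB : Function.Bijective (ev R W B)) : Function.Bijective (D R W A B) := by
  constructor
  · intro φ φ' h
    refine LinearMap.ext fun a => hB.1 ?_
    refine LinearMap.ext fun β => ?_
    exact LinearMap.congr_fun (LinearMap.congr_fun h β) a
  · intro ψ
    let e := LinearEquiv.ofBijective (ev R W B) hB
    refine ⟨e.symm.toLinearMap ∘ₗ ψ.flip, ?_⟩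
    refine LinearMap.ext fun β => LinearMap.ext fun a => ?_
    show β (e.symm (ψ.flip a)) = ψ β a
    have h1 : ev R W B (e.symm (ψ.flip a)) = ψ.flip a := e.apply_symm_apply (ψ.flip a)
    exact LinearMap.congr_fun h1 β

/-- `D` as an equivalence. -/
noncomputable def DEquiv {A B : Type u} [AddCommGroup A] [Module R A] [AddCommGroup B]
    [Module R B] (hB : Function.Bijective (ev R W B)) :
    (A →ₗ[R] B) ≃ₗ[R] ((B →ₗ[R] W) →ₗ[R] (A →ₗ[R] W)) :=
  LinearEquiv.ofBijective (D R W A B) (D_bijective R W hB)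

variable {R} in
/-- Factor through a surjection. -/
lemma exists_factor {A B C : Type u} [AddCommGroup A] [Module R A] [AddCommGroup B] [Module R B]
    [AddCommGroup C] [Module R C] (π : A →ₗ[R] B) (hπ : Function.Surjective π) (φ : A →ₗ[R] C)
    (h : LinearMap.ker π ≤ LinearMap.ker φ) : ∃ ψ : B →ₗ[R] C, ψ ∘ₗ π = φ := by
  refine ⟨(LinearMap.ker π).liftQ φ h ∘ₗ (π.quotKerEquivOfSurjective hπ).symm.toLinearMap, ?_⟩
  refine LinearMap.ext fun a => ?_
  have h1 : (π.quotKerEquivOfSurjective hπ).symm (π a) = Submodule.Quotient.mk a := by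
    rw [LinearEquiv.symm_apply_eq]
    rfl
  show (LinearMap.ker π).liftQ φ h ((π.quotKerEquivOfSurjective hπ).symm (π a)) = φ a
  rw [h1]
  rfl

section Local

variable {R} [IsNoetherianRing R] [IsLocalRing R] {W}
variable {M : Type u} [AddCommGroup M] [Module R M]

omit [IsNoetherianRing R] [IsLocalRing R] in
/-- Homs into a torsion-free module are torsion-free. -/
lemma regular_hom' (A : Type u) [AddCommGroup A] [Module R A] {x : R} (hxW : IsSMulRegular W x) :
    IsSMulRegular (A →ₗ[R] W) x := by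
  intro φ φ' h
  refine LinearMap.ext fun a => ?_
  exact hxW (LinearMap.congr_fun h a)

omit [IsNoetherianRing R] [IsLocalRing R] in
/-- The cokernel of the transpose of a surjection is torsion-free. -/
lemma regular_coker_transpose {A : Type u} [AddCommGroup A] [Module R A] (π : A →ₗ[R] M)
    (hπ : Function.Surjective π) {x : R} (hxW : IsSMulRegular W x) :
    IsSMulRegular ((A →ₗ[R] W) ⧸ LinearMap.range (LinearMap.lcomp R W π)) x := by
  rw [isSMulRegular_iff_right_eq_zero_of_smul]
  intro q hq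
  obtain ⟨φ, rfl⟩ := Submodule.Quotient.mk_surjective _ q
  rw [← Submodule.Quotient.mk_smul, Submodule.Quotient.mk_eq_zero] at hq
  obtain ⟨ψ, hψ⟩ := hq
  rw [Submodule.Quotient.mk_eq_zero]
  have hker : LinearMap.ker π ≤ LinearMap.ker φ := by
    intro a ha
    rw [LinearMap.mem_ker] at ha ⊢
    have h1 : ψ (π a) = x • φ a := LinearMap.congr_fun hψ a
    rw [ha, map_zero] at h1
    exact hxW.right_eq_zero_of_smul h1.symm
  obtain ⟨ψ', hψ'⟩ := exists_factor π hπ φ hker
  exact ⟨ψ', hψ'⟩

/-- Restriction along the transpose of a presentation is surjective on duals. -/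
lemma dual_res_surjective [Module.Finite R W] (hW : HasInjectiveDimensionLT (ModuleCat.of R W) 2)
    {x : R} (hx : x ∈ maximalIdeal R) (hxW : IsSMulRegular W x) {m : ℕ}
    (π : (Fin m → R) →ₗ[R] M) (hπ : Function.Surjective π) (ξ : (M →ₗ[R] W) →ₗ[R] W) :
    ∃ ζ : ((Fin m → R) →ₗ[R] W) →ₗ[R] W, ζ ∘ₗ LinearMap.lcomp R W π = ξ := by
  haveI : Module.Finite R (ModuleCat.of R W) := ‹Module.Finite R W›
  haveI : Module.Finite R (ModuleCat.of R ((Fin m → R) →ₗ[R] W)) :=
    (inferInstance : Module.Finite R ((Fin m → R) →ₗ[R] W))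
  have hinj : Function.Injective (LinearMap.lcomp R W π) := by
    intro ψ ψ' h
    refine LinearMap.ext fun y => ?_
    obtain ⟨v, rfl⟩ := hπ y
    exact LinearMap.congr_fun h v
  have h2 : Subsingleton (Ext (ModuleCat.of R ((Fin m → R) →ₗ[R] W)) (ModuleCat.of R W) 1) :=
    CanonExt.ext_one_subsingleton_of_regular (ModuleCat.of R W) hW
      (ModuleCat.of R ((Fin m → R) →ₗ[R] W)) x hx (regular_hom' _ hxW)
  obtain ⟨e⟩ := nonempty_cokerRes_equiv_ext W (LinearMap.lcomp R W π) hinj h2
  haveI : Module.Finite R (ModuleCat.of R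
      (((Fin m → R) →ₗ[R] W) ⧸ LinearMap.range (LinearMap.lcomp R W π))) :=
    (inferInstance : Module.Finite R
      (((Fin m → R) →ₗ[R] W) ⧸ LinearMap.range (LinearMap.lcomp R W π)))
  have h3 : Subsingleton (Ext (ModuleCat.of R
      (((Fin m → R) →ₗ[R] W) ⧸ LinearMap.range (LinearMap.lcomp R W π)))
      (ModuleCat.of R W) 1) :=
    CanonExt.ext_one_subsingleton_of_regular (ModuleCat.of R W) hW _ x hx
      (regular_coker_transpose π hπ hxW)
  have h0 := e.injective (Subsingleton.elim (h := h3) (e (Submodule.Quotient.mk ξ)) (e 0))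
  obtain ⟨ζ, hζ⟩ := (Submodule.Quotient.mk_eq_zero _).1 h0
  exact ⟨ζ, hζ⟩

end Local

end Abstract


section Concrete

variable {O : Type u} [CommRing O] [IsDomain O] [IsNoetherianRing O] [IsLocalRing O]
  {K : Type u} [Field K] [Algebra O K] [IsFractionRing O K]
  (hdim : ringKrullDim O = 1) (hfin : Module.Finite O ↥(integralClosure O K))
  (ω : Submodule O K) (hω0 : ∃ y ∈ ω, y ≠ 0)
  (hωinj : HasInjectiveDimensionLT (ModuleCat.of O ↥ω) 2) (hEnd : ω / ω = 1)

/-- `w ↦ (v ↦ v i • w)`. -/
noncomputable def coordHom {m : ℕ} (i : Fin m) : ↥ω →ₗ[O] ((Fin m → O) →ₗ[O] ↥ω) where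
  toFun w := (LinearMap.proj i : (Fin m → O) →ₗ[O] O).smulRight w
  map_add' w w' := by
    refine LinearMap.ext fun v => ?_
    show v i • (w + w') = v i • w + v i • w'
    rw [smul_add]
  map_smul' a w := by
    refine LinearMap.ext fun v => ?_
    show v i • (a • w) = a • (v i • w)
    rw [smul_comm]

omit [IsDomain O] [IsNoetherianRing O] [IsLocalRing O] [IsFractionRing O K] in
lemma coordHom_apply {m : ℕ} (i : Fin m) (w : ↥ω) (v : Fin m → O) :
    coordHom ω i w v = v i • w := rfl

omit [IsDomain O] [IsNoetherianRing O] [IsLocalRing O] [IsFractionRing O K] in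
lemma hom_eq_sum {m : ℕ} (φ : (Fin m → O) →ₗ[O] ↥ω) :
    φ = ∑ i, coordHom ω i (φ (fun j => if i = j then 1 else 0)) := by
  refine LinearMap.ext fun v => ?_
  rw [LinearMap.pi_apply_eq_sum_univ φ v, LinearMap.sum_apply]
  rfl

include hω0 hEnd in
omit [IsNoetherianRing O] [IsLocalRing O] in
/-- Free modules are reflexive. -/
lemma ev_free_surjective (m : ℕ) : Function.Surjective (ev O ↥ω (Fin m → O)) := by
  obtain ⟨y, hy, hy0⟩ := hω0
  intro ξ
  have hex : ∀ i : Fin m, ∃ b : O, ∀ w : ↥ω, ξ (coordHom ω i w) = b • w := by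
    intro i
    obtain ⟨a, ha⟩ := mulHom_surjective ω ω ω.subtype (fun x => x.2)
      Subtype.val_injective (fun z hz => ⟨⟨z, hz⟩, rfl⟩) (⟨y, hy⟩ : ↥ω) hy0
      (ξ ∘ₗ coordHom ω i)
    have haO : (a : K) ∈ (1 : Submodule O K) := le_of_eq hEnd a.2
    obtain ⟨b, hb⟩ := Submodule.mem_one.1 haO
    refine ⟨b, fun w => Subtype.ext ?_⟩
    have h1 : (a : K) * (w : K) = ((ξ (coordHom ω i w) : ↥ω) : K) :=
      congrArg (fun χ : ↥ω →ₗ[O] ↥ω => ((χ w : ↥ω) : K)) ha
    rw [← h1, ← hb]
    show _ = b • (w : K)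
    rw [Algebra.smul_def]
  choose g hg using hex
  refine ⟨g, ?_⟩
  refine LinearMap.ext fun φ => ?_
  rw [ev_apply]
  conv_rhs => rw [hom_eq_sum ω φ, map_sum]
  rw [LinearMap.pi_apply_eq_sum_univ φ g]
  refine Finset.sum_congr rfl fun i _ => ?_
  rw [hg]

section Refl

variable {M : Type u} [AddCommGroup M] [Module O M]

include hdim hω0 hωinj hEnd in
/-- Finitely generated modules: evaluation is surjective. -/
lemma ev_surjective [Module.Finite O ↥ω] [Module.Finite O M] :
    Function.Surjective (ev O ↥ω M) := by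
  obtain ⟨m, π, hπ⟩ := Module.Finite.exists_fin' O M
  intro ξ
  obtain ⟨x, hx, hx0⟩ := Helper71.TFCurv.exists_mem_max_ne_zero hdim
  obtain ⟨ζ, hζ⟩ := dual_res_surjective hωinj hx (regular_of_le ω hx0) π hπ ξ
  obtain ⟨g, hg⟩ := ev_free_surjective ω hω0 hEnd m ζ
  refine ⟨π g, ?_⟩
  refine LinearMap.ext fun ψ => ?_
  rw [ev_apply, ← hζ]
  show ψ (π g) = ζ (LinearMap.lcomp O ↥ω π ψ)
  rw [← hg]
  rfl

include hfin hω0 in
omit [IsNoetherianRing O] in
/-- Finitely generated torsion-free modules are torsionless. -/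
lemma ev_injective [Module.Finite O M] [NoZeroSMulDivisors O M] :
    Function.Injective (ev O ↥ω M) := by
  rw [injective_iff_map_eq_zero]
  intro y hy
  by_contra hy0
  obtain ⟨j, hj, -⟩ := Helper71.TFCurv.exists_lattice (M := M) K hfin
    (Module.finrank K (TensorProduct O K M)) rfl
  have hjy : j y ≠ 0 := fun h => hy0 (hj (by rw [h, map_zero]))
  obtain ⟨i, hi⟩ : ∃ i, j y i ≠ 0 := by
    by_contra hcon
    push Not at hcon
    exact hjy (funext hcon)
  obtain ⟨c, hc0, hc⟩ := exists_smul_mem hω0 (normal_fg (K := K) hfin)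
  let ψ₀ : M →ₗ[O] K := c • ((integralClosure O K).val.toLinearMap ∘ₗ
    (LinearMap.proj i : (Fin _ → ↥(integralClosure O K)) →ₗ[O] ↥(integralClosure O K)) ∘ₗ j)
  have hψ₀ : ∀ y', ψ₀ y' = c • ((j y' i : ↥(integralClosure O K)) : K) := fun y' => rfl
  let ψ : M →ₗ[O] ↥ω := LinearMap.codRestrict ω ψ₀ (fun y' => by
    rw [hψ₀]
    exact hc _ (j y' i).2)
  have h1 : ψ y = 0 := LinearMap.congr_fun hy ψ
  have h2 : ψ₀ y = 0 := congrArg Subtype.val h1
  rw [hψ₀, Algebra.smul_def, mul_eq_zero] at h2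
  rcases h2 with h2 | h2
  · exact algebraMap_ne_zero' hc0 h2
  · exact hi (Subtype.ext h2)

include hdim hfin hω0 hωinj hEnd in
/-- **Reflexivity** of finitely generated torsion-free modules. -/
theorem ev_bijective [Module.Finite O ↥ω] [Module.Finite O M] [NoZeroSMulDivisors O M] :
    Function.Bijective (ev O ↥ω M) :=
  ⟨ev_injective hfin ω hω0, ev_surjective hdim ω hω0 hωinj hEnd⟩

end Refl

end Concrete

end Groth.Agent.Lib.Helper88.CanDual
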