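/-
Duality for `Ext` of reflexive modules with respect to a module `W` of injective dimension at
most one: `Ext^i(M, N) ≃ Ext^i(N^*, M^*)`.
Author: helper88
-/
import Groth.Agent.Lib.Helper88.Reflex1

set_option autoImplicit false
set_option linter.style.haveILetI false

namespace Groth.Agent.Lib.Helper88.CanDual

open CategoryTheory Abelian IsLocalRing

universe u

section Shift

variable {R : Type u} [CommRing R]
  {S : ShortComplex (ModuleCat.{u} R)} (hS : S.ShortExact)

include hS in
/-- Covariant dimension shifting. -/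
theorem nonempty_ext_shift_cov (X : ModuleCat.{u} R) (n : ℕ)
    (h1 : Subsingleton (Ext.{u} X S.X₂ n)) (h2 : Subsingleton (Ext.{u} X S.X₂ (n + 1))) :
    Nonempty (Ext.{u} X S.X₃ n ≃+ Ext.{u} X S.X₁ (n + 1)) := by
  refine ⟨AddEquiv.ofBijective (hS.extClass.postcomp X (rfl : n + 1 = n + 1)) ⟨?_, ?_⟩⟩
  · rw [injective_iff_map_eq_zero]
    intro y hy
    obtain ⟨y₂, hy₂⟩ := Ext.covariant_sequence_exact₃ X hS y rfl hy
    rw [← hy₂, Subsingleton.elim (h := h1) y₂ 0, Ext.zero_comp]
  · intro y₁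
    exact Ext.covariant_sequence_exact₁ X hS y₁ (Subsingleton.elim (h := h2) _ _) rfl

include hS in
/-- Contravariant dimension shifting. -/
theorem nonempty_ext_shift_contra (Y : ModuleCat.{u} R) (n : ℕ)
    (h1 : Subsingleton (Ext.{u} S.X₂ Y n)) (h2 : Subsingleton (Ext.{u} S.X₂ Y (n + 1))) :
    Nonempty (Ext.{u} S.X₁ Y n ≃+ Ext.{u} S.X₃ Y (n + 1)) := by
  refine ⟨AddEquiv.ofBijective (hS.extClass.precomp Y (add_comm 1 n)) ⟨?_, ?_⟩⟩
  · rw [injective_iff_map_eq_zero]
    intro y hy
    obtain ⟨y₂, hy₂⟩ := Ext.contravariant_sequence_exact₁ hS Y y (add_comm 1 n) hy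
    rw [← hy₂, Subsingleton.elim (h := h1) y₂ 0, Ext.comp_zero]
  · intro y₃
    exact Ext.contravariant_sequence_exact₃ hS Y y₃ (Subsingleton.elim (h := h2) _ _)
      (add_comm 1 n)

end Shift


section InjDimW

variable {R : Type u} [CommRing R] (W : Type u) [AddCommGroup W] [Module R W]

/-- Injective dimension of finite powers. -/
theorem injdim_piW (k : ℕ) (h : HasInjectiveDimensionLT (ModuleCat.of R W) k) (n : ℕ) :
    HasInjectiveDimensionLT (ModuleCat.of R (Fin n → W)) k := by
  induction n with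
  | zero =>
    have hz : Limits.IsZero (ModuleCat.of R (Fin 0 → W)) := ModuleCat.isZero_of_subsingleton _
    haveI := hz.hasInjectiveDimensionLT_zero
    exact hasInjectiveDimensionLT_of_ge _ 0 k (Nat.zero_le k)
  | succ n ih =>
    haveI := h
    haveI := ih
    have e1 : (ModuleCat.of R W ⊞ ModuleCat.of R (Fin n → W) : ModuleCat.{u} R) ≅
        ModuleCat.of R (W × (Fin n → W)) := ModuleCat.biprodIsoProd _ _
    have e2 : ModuleCat.of R (W × (Fin n → W)) ≅ ModuleCat.of R (Fin (n + 1) → W) :=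
      (Fin.consLinearEquiv R (fun _ : Fin (n + 1) => W)).toModuleIso
    exact hasInjectiveDimensionLT_of_iso (e1 ≪≫ e2) k

/-- The `W`-dual of a finite free module. -/
noncomputable def dualPiEquivW (n : ℕ) : ((Fin n → R) →ₗ[R] W) ≃ₗ[R] (Fin n → W) :=
  (LinearMap.lsum R (fun _ : Fin n => R) R).symm.trans
    (LinearEquiv.piCongrRight (fun _ => LinearMap.ringLmapEquivSelf R R W))

theorem injdim_dual_piW (k : ℕ) (h : HasInjectiveDimensionLT (ModuleCat.of R W) k) (n : ℕ) :
    HasInjectiveDimensionLT (ModuleCat.of R ((Fin n → R) →ₗ[R] W)) k := by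
  haveI := injdim_piW W k h n
  exact hasInjectiveDimensionLT_of_iso (dualPiEquivW (R := R) W n).symm.toModuleIso k

end InjDimW


section Dual

variable {R : Type u} [CommRing R] [IsNoetherianRing R] [IsLocalRing R]
  (W : Type u) [AddCommGroup W] [Module R W] [Module.Finite R W]
  (hW : HasInjectiveDimensionLT (ModuleCat.of R W) 2)
  {x : R} (hx : x ∈ maximalIdeal R) (hxR : IsSMulRegular R x) (hxW : IsSMulRegular W x)

omit [IsLocalRing R] in
/-- The dual of a finite module is finite. -/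
lemma finite_hom (N : Type u) [AddCommGroup N] [Module R N] [Module.Finite R N] :
    Module.Finite R (N →ₗ[R] W) := by
  obtain ⟨k, π, hπ⟩ := Module.Finite.exists_fin' R N
  have hinj : Function.Injective (LinearMap.lcomp R W π) := by
    intro ψ ψ' h
    refine LinearMap.ext fun y => ?_
    obtain ⟨v, rfl⟩ := hπ y
    exact LinearMap.congr_fun h v
  exact Module.Finite.of_injective _ hinj

include hx in
/-- Vanishing of higher `Ext` into a module of injective dimension at most one. -/
lemma ext_subsingleton_of_regular (Y : Type u) [AddCommGroup Y] [Module R Y] [Module.Finite R Y]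
    (hY : HasInjectiveDimensionLT (ModuleCat.of R Y) 2)
    (X : Type u) [AddCommGroup X] [Module R X] [Module.Finite R X] (hxX : IsSMulRegular X x)
    (j : ℕ) : Subsingleton (Ext (ModuleCat.of R X) (ModuleCat.of R Y) (j + 1)) := by
  haveI : Module.Finite R (ModuleCat.of R Y) := ‹Module.Finite R Y›
  haveI : Module.Finite R (ModuleCat.of R X) := ‹Module.Finite R X›
  rcases Nat.eq_zero_or_pos j with rfl | hj
  · exact CanonExt.ext_one_subsingleton_of_regular (ModuleCat.of R Y) hY (ModuleCat.of R X) x hx hxX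
  · exact HasInjectiveDimensionLT.subsingleton (ModuleCat.of R Y) 2 (j + 1) (by omega)
      (ModuleCat.of R X)

variable {M : Type u} [AddCommGroup M] [Module R M] {m : ℕ} (π : (Fin m → R) →ₗ[R] M)
  (hπ : Function.Surjective π)

/-- The presentation `0 → ker π → R^m → M → 0`. -/
noncomputable abbrev presComplex : ShortComplex (ModuleCat.{u} R) :=
  ModuleCat.shortComplexOfCompEqZero (R := R) (M := ↥(LinearMap.ker π)) (N := (Fin m → R))
    (L := M) (LinearMap.ker π).subtype π (by
      ext a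
      exact a.2)

include hπ in
omit [IsNoetherianRing R] [IsLocalRing R] in
lemma presComplex_shortExact : (presComplex π).ShortExact :=
  ModuleCat.shortComplex_shortExact _
    (by
      intro y
      show π y = 0 ↔ y ∈ Set.range (LinearMap.ker π).subtype
      constructor
      · intro hy
        exact ⟨⟨y, hy⟩, rfl⟩
      · rintro ⟨z, rfl⟩
        exact z.2) Subtype.val_injective hπ

/-- The dual `0 → M^* → (R^m)^* → (ker π)^* → 0`. -/
noncomputable abbrev dualPres : ShortComplex (ModuleCat.{u} R) :=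
  ModuleCat.shortComplexOfCompEqZero (R := R) (M := (M →ₗ[R] W))
    (N := ((Fin m → R) →ₗ[R] W)) (L := (↥(LinearMap.ker π) →ₗ[R] W))
    (LinearMap.lcomp R W π) (LinearMap.lcomp R W (LinearMap.ker π).subtype) (by
      refine LinearMap.ext fun ψ => LinearMap.ext fun κ => ?_
      show ψ (π (κ : Fin m → R)) = 0
      have : π (κ : Fin m → R) = 0 := κ.2
      rw [this, map_zero])

include hW hx hπ in
lemma dualPres_shortExact [Module.Finite R M] (hxM : IsSMulRegular M x) :
    (dualPres W π).ShortExact := by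
  refine ModuleCat.shortComplex_shortExact _ ?_ ?_ ?_
  · intro φ
    constructor
    · intro hφ
      have hker : LinearMap.ker π ≤ LinearMap.ker φ := by
        intro a ha
        have := LinearMap.congr_fun hφ ⟨a, ha⟩
        exact this
      obtain ⟨ψ, hψ⟩ := exists_factor π hπ φ hker
      exact ⟨ψ, hψ⟩
    · rintro ⟨ψ, rfl⟩
      refine LinearMap.ext fun κ => ?_
      show ψ (π (κ : Fin m → R)) = 0
      have : π (κ : Fin m → R) = 0 := κ.2
      rw [this, map_zero]
  · intro ψ ψ' h
    refine LinearMap.ext fun y => ?_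
    obtain ⟨v, rfl⟩ := hπ y
    exact LinearMap.congr_fun h v
  · have h2 : Subsingleton (Ext (ModuleCat.of R M) (ModuleCat.of R W) 1) :=
      ext_subsingleton_of_regular hx W hW M hxM 0
    obtain ⟨e⟩ := ExtLen.nonempty_coker_equiv_ext_one (R := R) (N := W) π hπ
    intro ψ
    have h0 := e.injective (Subsingleton.elim (h := h2) (e (Submodule.Quotient.mk ψ)) (e 0))
    exact (Submodule.Quotient.mk_eq_zero _).1 h0

section Main

variable (N : Type u) [AddCommGroup N] [Module R N] [Module.Finite R N]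
  (hN : Function.Bijective (ev R W N))

include hN in
omit [IsNoetherianRing R] [IsLocalRing R] [Module.Finite R W] [Module.Finite R N] in
/-- Degree zero. -/
theorem ext_duality_zero (M' : Type u) [AddCommGroup M'] [Module R M'] :
    Nonempty (Ext (ModuleCat.of R M') (ModuleCat.of R N) 0 ≃+
      Ext (ModuleCat.of R (N →ₗ[R] W)) (ModuleCat.of R (M' →ₗ[R] W)) 0) := by
  have e1 : Ext (ModuleCat.of R M') (ModuleCat.of R N) 0 ≃ₗ[R] (M' →ₗ[R] N) :=
    (Ext.linearEquiv₀ (R := R)).trans (ModuleCat.homLinearEquiv (S := R))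
  have e2 : Ext (ModuleCat.of R (N →ₗ[R] W)) (ModuleCat.of R (M' →ₗ[R] W)) 0 ≃ₗ[R]
      ((N →ₗ[R] W) →ₗ[R] (M' →ₗ[R] W)) :=
    (Ext.linearEquiv₀ (R := R)).trans (ModuleCat.homLinearEquiv (S := R))
  exact ⟨((e1.trans (DEquiv R W hN)).trans e2.symm).toAddEquiv⟩

include hW hx hxW hN in
/-- Degree one. -/
theorem ext_duality_one (M' : Type u) [AddCommGroup M'] [Module R M'] [Module.Finite R M']
    (hxM : IsSMulRegular M' x) :
    Nonempty (Ext (ModuleCat.of R M') (ModuleCat.of R N) 1 ≃+
      Ext (ModuleCat.of R (N →ₗ[R] W)) (ModuleCat.of R (M' →ₗ[R] W)) 1) := by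
  obtain ⟨m, π, hπ⟩ := Module.Finite.exists_fin' R M'
  obtain ⟨E1⟩ := ExtLen.nonempty_coker_equiv_ext_one (R := R) (N := N) π hπ
  have hS' := dualPres_shortExact W hW hx π hπ hxM
  haveI := finite_hom (R := R) W N
  have h2 : Subsingleton (Ext (ModuleCat.of R (N →ₗ[R] W)) (dualPres W π).X₂ 1) :=
    ext_subsingleton_of_regular hx ((Fin m → R) →ₗ[R] W) (injdim_dual_piW W 2 hW m)
      (N →ₗ[R] W) (regular_hom' _ hxW) 0
  obtain ⟨E3⟩ := nonempty_cokerPost_equiv_ext hS' (ModuleCat.of R (N →ₗ[R] W)) h2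
  obtain ⟨TK, hTK⟩ : ∃ TK : (↥(LinearMap.ker π) →ₗ[R] N) ≃ₗ[R]
      (↑(ModuleCat.of R (N →ₗ[R] W)) →ₗ[R] ↑(dualPres W π).X₃),
      ∀ φ, (TK φ : ↑(ModuleCat.of R (N →ₗ[R] W)) →ₗ[R] ↑(dualPres W π).X₃) =
        D R W ↥(LinearMap.ker π) N φ :=
    ⟨DEquiv R W hN, fun _ => rfl⟩
  have hmap : Submodule.map (TK : (↥(LinearMap.ker π) →ₗ[R] N) →ₗ[R]
      (↑(ModuleCat.of R (N →ₗ[R] W)) →ₗ[R] ↑(dualPres W π).X₃))
      (LinearMap.range (LinearMap.lcomp R N (LinearMap.ker π).subtype)) =
      LinearMap.range (LinearMap.compRight R (M := ↑(ModuleCat.of R (N →ₗ[R] W)))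
        (dualPres W π).g.hom) := by
    ext Ψ
    rw [Submodule.mem_map]
    constructor
    · rintro ⟨φ, ⟨φ', rfl⟩, rfl⟩
      refine ⟨D R W (Fin m → R) N φ', ?_⟩
      refine Eq.trans ?_ (hTK _).symm
      rfl
    · rintro ⟨Ψ', rfl⟩
      obtain ⟨φ', rfl⟩ := (D_bijective R W (A := Fin m → R) hN).2 Ψ'
      refine ⟨φ' ∘ₗ (LinearMap.ker π).subtype, ⟨φ', rfl⟩, ?_⟩
      refine Eq.trans (hTK _) ?_
      rfl
  have E2 : (_ ⧸ LinearMap.range (LinearMap.lcomp R N (LinearMap.ker π).subtype)) ≃ₗ[R]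
      (_ ⧸ LinearMap.range (LinearMap.compRight R (M := ↑(ModuleCat.of R (N →ₗ[R] W)))
        (dualPres W π).g.hom)) :=
    Submodule.Quotient.equiv _ _ TK hmap
  exact ⟨((E1.symm.trans E2).trans E3).toAddEquiv⟩

include hW hx hxR hxW hN in
/-- **Duality for `Ext`**: `Ext^i(M, N) ≃ Ext^i(N^*, M^*)`. -/
theorem ext_duality : ∀ (i : ℕ) (M' : Type u) [AddCommGroup M'] [Module R M']
    [Module.Finite R M'], IsSMulRegular M' x →
    Nonempty (Ext (ModuleCat.of R M') (ModuleCat.of R N) i ≃+
      Ext (ModuleCat.of R (N →ₗ[R] W)) (ModuleCat.of R (M' →ₗ[R] W)) i) := by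
  intro i
  induction i using Nat.twoStepInduction with
  | zero =>
    intro M' _ _ _ _
    exact ext_duality_zero W N hN M'
  | one =>
    intro M' _ _ _ hxM
    exact ext_duality_one W hW hx hxW N hN M' hxM
  | more i _ ih =>
    intro M' _ _ _ hxM
    obtain ⟨m, π, hπ⟩ := Module.Finite.exists_fin' R M'
    haveI : Module.Finite R ↥(LinearMap.ker π) :=
      Module.Finite.of_injective (LinearMap.ker π).subtype Subtype.val_injective
    have hxL : IsSMulRegular ↥(LinearMap.ker π) x := by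
      intro a b hab
      apply Subtype.ext
      funext k
      have h1 : x • (a : Fin m → R) = x • (b : Fin m → R) := congrArg Subtype.val hab
      exact hxR (congrFun h1 k)
    obtain ⟨e2⟩ := ih ↥(LinearMap.ker π) hxL
    have hS := presComplex_shortExact π hπ
    haveI : Projective (ModuleCat.of R (Fin m → R)) :=
      (IsProjective.iff_projective (Fin m → R)).1 inferInstance
    obtain ⟨e1⟩ := nonempty_ext_shift_contra hS (ModuleCat.of R N) (i + 1)
      (Ext.subsingleton_of_projective _ _ i) (Ext.subsingleton_of_projective _ _ (i + 1))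
    have hS' := dualPres_shortExact W hW hx π hπ hxM
    haveI := finite_hom (R := R) W N
    have hV : ∀ j, Subsingleton (Ext (ModuleCat.of R (N →ₗ[R] W)) (dualPres W π).X₂ (j + 1)) :=
      fun j => ext_subsingleton_of_regular hx ((Fin m → R) →ₗ[R] W) (injdim_dual_piW W 2 hW m)
        (N →ₗ[R] W) (regular_hom' _ hxW) j
    obtain ⟨e3⟩ := nonempty_ext_shift_cov hS' (ModuleCat.of R (N →ₗ[R] W)) (i + 1)
      (hV i) (hV (i + 1))
    exact ⟨(e1.symm.trans e2).trans e3⟩

end Main

end Dual

end Groth.Agent.Lib.Helper88.CanDual
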