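/-
Function fields of one variable: `K / (O_{P} + O_P)` has dimension `g`.
Author: helper88
-/
import Groth.Agent.Lib.Helper88.FunFldWeil
import Groth.Prelude.Def_AdFn

set_option autoImplicit false

namespace Groth.Agent.Lib.Helper88.FF

open FunFld WithZero

universe u

variable {k K : Type u} [Field k] [Field K] [Algebra k K]

open Classical in
/-- The adele with a single component `x` at `P`. -/
noncomputable def iotaFun (P : Place k K) : K →ₗ[k] (Place k K → K) :=
  LinearMap.single k (fun _ : Place k K => K) P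

open Classical in
lemma iotaFun_apply (P : Place k K) (x : K) (Q : Place k K) :
    iotaFun P x Q = if Q = P then x else 0 := by
  unfold iotaFun
  rw [LinearMap.single_apply, Pi.single_apply]

lemma iotaFun_mem_adele (P : Place k K) (x : K) : iotaFun P x ∈ adele k K := by
  classical
  rw [mem_adele_iff]
  refine (Set.finite_singleton P).subset ?_
  intro Q hQ
  rw [Set.mem_ofPred_eq] at hQ
  rw [Set.mem_singleton_iff]
  by_contra hne
  apply hQ
  rw [iotaFun_apply, if_neg hne]
  simp

/-- `x ↦ [x at P] : K → A/(A(0)+K)`. -/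
noncomputable def iotaQuot (P : Place k K) : K →ₗ[k] (↥(adele k K) ⧸ ADK (0 : Divisor k K)) :=
  (ADK (0 : Divisor k K)).mkQ ∘ₗ (iotaFun P).codRestrict (adele k K) (iotaFun_mem_adele P)

lemma iotaQuot_ker (P : Place k K) :
    LinearMap.ker (iotaQuot P) =
      Subalgebra.toSubmodule (AdFn.SInt ({P} : Set (Place k K))) ⊔
        Subalgebra.toSubmodule (AdFn.SInt (({P} : Set (Place k K))ᶜ)) := by
  classical
  ext x
  rw [LinearMap.mem_ker]
  unfold iotaQuot
  rw [LinearMap.comp_apply, Submodule.mkQ_apply, Submodule.Quotient.mk_eq_zero]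
  unfold ADK
  rw [Submodule.mem_comap, Submodule.mem_sup]
  simp only [Submodule.subtype_apply, LinearMap.codRestrict_apply]
  constructor
  · rintro ⟨b, hb, _, ⟨y, rfl⟩, hsum⟩
    rw [Submodule.mem_sup]
    refine ⟨y, ?_, x - y, ?_, by ring⟩
    · rw [Subalgebra.mem_toSubmodule, AdFn.mem_SInt]
      intro Q hQ
      rw [Set.mem_singleton_iff] at hQ
      have h1 := congrFun hsum Q
      rw [Pi.add_apply, iotaFun_apply, if_neg hQ] at h1
      have h2 : diag k K y Q = y := rfl
      rw [h2] at h1
      have h3 : y = -b Q := by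
        rw [eq_neg_iff_add_eq_zero, add_comm]; exact h1
      rw [h3, Valuation.map_neg]
      have := hb Q
      simpa using this
    · rw [Subalgebra.mem_toSubmodule, AdFn.mem_SInt]
      intro Q hQ
      rw [Set.mem_compl_iff, not_not, Set.mem_singleton_iff] at hQ
      subst hQ
      have h1 := congrFun hsum Q
      rw [Pi.add_apply, iotaFun_apply, if_pos rfl] at h1
      have h2 : diag k K y Q = y := rfl
      rw [h2] at h1
      have h3 : x - y = b Q := by rw [← h1]; ring
      rw [h3]
      have := hb Q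
      simpa using this
  · intro hx
    rw [Submodule.mem_sup] at hx
    obtain ⟨y, hy, z, hz, rfl⟩ := hx
    rw [Subalgebra.mem_toSubmodule, AdFn.mem_SInt] at hy hz
    refine ⟨iotaFun P (y + z) - diag k K y, ?_, diag k K y, ⟨y, rfl⟩, by abel⟩
    intro Q
    rw [Pi.sub_apply, iotaFun_apply]
    have h2 : diag k K y Q = y := rfl
    rw [h2]
    simp only [Finsupp.coe_zero, Pi.zero_apply, exp_zero]
    by_cases hQ : Q = P
    · subst hQ
      rw [if_pos rfl, add_sub_cancel_left]
      apply hz
      simp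
    · rw [if_neg hQ, zero_sub, Valuation.map_neg]
      exact hy Q hQ

lemma iotaQuot_surjective (hK : IsFunctionField k K) (P : Place k K) :
    Function.Surjective (iotaQuot P) := by
  classical
  obtain ⟨N, hN⟩ := exists_delta_eq_genus_of_le hK
  set D₁ : Divisor k K := Finsupp.single P (N.toNat : ℤ) with hD₁
  have hδ : delta D₁ = genus k K := by
    apply hN
    rw [hD₁, deg_single]
    have hP1 : (1 : ℤ) ≤ P.deg := by exact_mod_cast deg_pos hK P
    have h1 : N ≤ (N.toNat : ℤ) := Int.self_le_toNat N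
    have h2 : (0 : ℤ) ≤ (N.toNat : ℤ) := Int.natCast_nonneg _
    nlinarith
  have heq := AD_sup_diag_eq_adele hK hδ
  intro q
  obtain ⟨⟨a, ha⟩, rfl⟩ := Submodule.Quotient.mk_surjective _ q
  have ha' := ha
  rw [← heq, Submodule.mem_sup] at ha'
  obtain ⟨b, hb, _, ⟨y, rfl⟩, hsum⟩ := ha'
  refine ⟨b P, ?_⟩
  unfold iotaQuot
  rw [LinearMap.comp_apply, Submodule.mkQ_apply, Submodule.Quotient.eq]
  unfold ADK
  rw [Submodule.mem_comap, Submodule.mem_sup]
  simp only [Submodule.subtype_apply, Submodule.coe_sub, LinearMap.codRestrict_apply]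
  refine ⟨iotaFun P (b P) - b, ?_, -diag k K y, ?_, ?_⟩
  · intro Q
    rw [Pi.sub_apply, iotaFun_apply]
    simp only [Finsupp.coe_zero, Pi.zero_apply, exp_zero]
    by_cases hQ : Q = P
    · subst hQ
      rw [if_pos rfl, sub_self]
      simp
    · rw [if_neg hQ, zero_sub, Valuation.map_neg]
      have := hb Q
      rw [hD₁, Finsupp.single_eq_of_ne hQ, exp_zero] at this
      exact this
  · exact Submodule.neg_mem _ ⟨y, rfl⟩
  · rw [← hsum]
    abel

/-- **S16099**. -/
theorem finrank_quot_SInt (hK : IsFunctionField k K) (P : Place k K) :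
    FiniteDimensional k (K ⧸ (Subalgebra.toSubmodule (AdFn.SInt ({P} : Set (Place k K))) ⊔
        Subalgebra.toSubmodule (AdFn.SInt (({P} : Set (Place k K))ᶜ)))) ∧
    Module.finrank k (K ⧸ (Subalgebra.toSubmodule (AdFn.SInt ({P} : Set (Place k K))) ⊔
        Subalgebra.toSubmodule (AdFn.SInt (({P} : Set (Place k K))ᶜ)))) = genus k K := by
  obtain ⟨hfd, hrk⟩ := finrank_adele_quot hK (0 : Divisor k K)
  rw [delta_zero hK, sub_zero] at hrk
  have e1 := (iotaQuot P).quotKerEquivOfSurjective (iotaQuot_surjective hK P)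
  have e2 := Submodule.quotEquivOfEq _ _ (iotaQuot_ker P)
  have e := e2.symm.trans e1
  refine ⟨LinearEquiv.finiteDimensional e.symm, ?_⟩
  rw [LinearEquiv.finrank_eq e]
  exact_mod_cast hrk

end Groth.Agent.Lib.Helper88.FF
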