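/-
Function fields of one variable: `K_P / (O_{P} + Ô_P)` has dimension `g` (S16100).
Author: helper88
-/
import Groth.Agent.Lib.Helper88.FunFldGaps

set_option autoImplicit false

namespace Groth.Agent.Lib.Helper88.FF

open FunFld WithZero

universe u

variable {k K : Type u} [Field k] [Field K] [Algebra k K]

/-- `Ô_P` as a `k`-submodule of `K_P`. -/
noncomputable def OvSub (P : Place k K) : Submodule k (AdFn.Kv P) where
  carrier := (AdFn.Ov P : Set (AdFn.Kv P))
  add_mem' := fun {a b} ha hb => (AdFn.Ov P).add_mem a b ha hb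
  zero_mem' := (AdFn.Ov P).zero_mem
  smul_mem' c a ha := by
    rw [Algebra.smul_def]
    refine (AdFn.Ov P).mul_mem _ _ ?_ ha
    rw [IsScalarTower.algebraMap_apply k K (AdFn.Kv P)]
    exact (AdFn.toKv_mem_Ov P _).2 (P.2.1 c)

lemma span_Ov (P : Place k K) :
    Submodule.span k (AdFn.Ov P : Set (AdFn.Kv P)) = OvSub P := by
  have h : (AdFn.Ov P : Set (AdFn.Kv P)) = (OvSub P : Set (AdFn.Kv P)) := rfl
  rw [h, Submodule.span_eq]

/-- `K + Ô_P = K_P`. -/
lemma exists_sub_mem_Ov (P : Place k K) (a : AdFn.Kv P) :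
    ∃ x : K, a - AdFn.toKv P x ∈ AdFn.Ov P := by
  have hopen : IsOpen {b : AdFn.Kv P | a - b ∈ AdFn.Ov P} := by
    have : Continuous fun b : AdFn.Kv P => a - b := continuous_const.sub continuous_id
    exact (AdFn.isOpen_Ov P).preimage this
  have hne : ({b : AdFn.Kv P | a - b ∈ AdFn.Ov P}).Nonempty :=
    ⟨a, by simp only [Set.mem_ofPred_eq, sub_self]; exact (AdFn.Ov P).zero_mem⟩
  have hdense : DenseRange (fun x : WithVal P.1 => (x : AdFn.Kv P)) :=
    UniformSpace.Completion.denseRange_coe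
  obtain ⟨x, hx⟩ := hdense.exists_mem_open hopen hne
  exact ⟨(WithVal.equiv P.1) x, hx⟩

/-- The map `K → K_P / (O_{P} + Ô_P)`. -/
noncomputable def kvQuot (P : Place k K) : K →ₗ[k] (AdFn.Kv P ⧸
    (Subalgebra.toSubmodule ((AdFn.SInt ({P} : Set (Place k K))).map
        (IsScalarTower.toAlgHom k K (AdFn.Kv P))) ⊔
      Submodule.span k (AdFn.Ov P : Set (AdFn.Kv P)))) :=
  (Submodule.mkQ _) ∘ₗ (IsScalarTower.toAlgHom k K (AdFn.Kv P)).toLinearMap

lemma kvQuot_surjective (P : Place k K) : Function.Surjective (kvQuot P) := by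
  intro q
  obtain ⟨a, rfl⟩ := Submodule.Quotient.mk_surjective _ q
  obtain ⟨x, hx⟩ := exists_sub_mem_Ov P a
  refine ⟨x, ?_⟩
  unfold kvQuot
  rw [LinearMap.comp_apply, Submodule.mkQ_apply, eq_comm, Submodule.Quotient.eq]
  exact Submodule.mem_sup_right (Submodule.subset_span hx)

lemma kvQuot_ker (P : Place k K) :
    LinearMap.ker (kvQuot P) =
      Subalgebra.toSubmodule (AdFn.SInt ({P} : Set (Place k K))) ⊔
        Subalgebra.toSubmodule (AdFn.SInt (({P} : Set (Place k K))ᶜ)) := by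
  ext x
  rw [LinearMap.mem_ker]
  unfold kvQuot
  rw [LinearMap.comp_apply, Submodule.mkQ_apply, Submodule.Quotient.mk_eq_zero, span_Ov,
    Submodule.mem_sup, Submodule.mem_sup]
  constructor
  · rintro ⟨_, ⟨s, hs, rfl⟩, o, ho, hsum⟩
    refine ⟨s, hs, x - s, ?_, by ring⟩
    rw [Subalgebra.mem_toSubmodule, AdFn.mem_SInt]
    intro Q hQ
    rw [Set.mem_compl_iff, not_not, Set.mem_singleton_iff] at hQ
    subst hQ
    have h1 : AdFn.toKv Q (x - s) = o := by
      rw [map_sub, sub_eq_iff_eq_add, add_comm]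
      exact hsum.symm
    have h2 : AdFn.toKv Q (x - s) ∈ AdFn.Ov Q := by rw [h1]; exact ho
    exact (AdFn.toKv_mem_Ov Q _).1 h2
  · rintro ⟨s, hs, t, ht, rfl⟩
    refine ⟨AdFn.toKv P s, ⟨s, hs, rfl⟩, AdFn.toKv P t, ?_, ?_⟩
    · rw [Subalgebra.mem_toSubmodule, AdFn.mem_SInt] at ht
      have := ht P (by simp)
      exact (AdFn.toKv_mem_Ov P t).2 this
    · exact (map_add (AdFn.toKv P) s t).symm

/-- **S16100**. -/
theorem finrank_quot_Kv (hK : IsFunctionField k K) (P : Place k K) :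
    FiniteDimensional k (AdFn.Kv P ⧸
        (Subalgebra.toSubmodule ((AdFn.SInt ({P} : Set (Place k K))).map
            (IsScalarTower.toAlgHom k K (AdFn.Kv P))) ⊔
          Submodule.span k (AdFn.Ov P : Set (AdFn.Kv P)))) ∧
    Module.finrank k (AdFn.Kv P ⧸
        (Subalgebra.toSubmodule ((AdFn.SInt ({P} : Set (Place k K))).map
            (IsScalarTower.toAlgHom k K (AdFn.Kv P))) ⊔
          Submodule.span k (AdFn.Ov P : Set (AdFn.Kv P)))) = genus k K := by
  obtain ⟨hfd, hrk⟩ := finrank_quot_SInt hK P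
  have e1 := (kvQuot P).quotKerEquivOfSurjective (kvQuot_surjective P)
  have e2 := Submodule.quotEquivOfEq _ _ (kvQuot_ker P)
  have e := e2.symm.trans e1
  refine ⟨LinearEquiv.finiteDimensional e, ?_⟩
  rw [← LinearEquiv.finrank_eq e]
  exact hrk

end Groth.Agent.Lib.Helper88.FF
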