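/-
Strong approximation for the adele ring of completions (S16098).
Author: helper88
-/
import Groth.Agent.Lib.Helper88.FunFldGaps2
import Groth.Agent.Lib.Helper88.FunFldStrong

set_option autoImplicit false

namespace Groth.Agent.Lib.Helper88.FF

open FunFld WithZero

universe u

variable {k K : Type u} [Field k] [Field K] [Algebra k K]

/-- **S16098**. -/
theorem adele_strong_approx (hK : IsFunctionField k K) [AdFn.HasFinitePoles k K]
    (S : Set (Place k K)) (hS : S.Nonempty) :
    (∀ a : AdFn.AdeleRing k K, ∃ f : K, ∀ v : Place k K, v ∉ S →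
        AdFn.AdeleRing.proj v (a - AdFn.AdeleRing.diag f) ∈ AdFn.Ov v) ∧
    (∀ b : AdFn.AdeleRing k K, (∀ v : Place k K, v ∉ S → AdFn.AdeleRing.proj v b = 0) →
        ((∃ f : K, ∀ v : Place k K, AdFn.AdeleRing.proj v (b - AdFn.AdeleRing.diag f) ∈ AdFn.Ov v) ↔
          ∃ f ∈ AdFn.SInt S, ∀ v ∈ S, AdFn.AdeleRing.proj v b - AdFn.toKv v f ∈ AdFn.Ov v)) := by
  classical
  constructor
  · intro a
    obtain ⟨Pinf, hPinf⟩ := hS
    have hfin : {v : Place k K | ¬ (a.1 v ∈ (AdFn.Ov v : Set (AdFn.Kv v)))}.Finite :=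
      Filter.eventually_cofinite.1 a.2
    set T : Finset (Place k K) := hfin.toFinset.erase Pinf with hT
    have hinf : Pinf ∉ T := Finset.notMem_erase _ _
    choose x hx using fun v : Place k K => exists_sub_mem_Ov v (a.1 v)
    obtain ⟨z, hz1, hz2⟩ := strong_approx_le hK Pinf T hinf x (fun _ => 0)
    refine ⟨z, ?_⟩
    intro v hv
    have hvP : v ≠ Pinf := fun h => hv (h ▸ hPinf)
    rw [map_sub, AdFn.AdeleRing.proj_diag, AdFn.AdeleRing.proj_apply]
    by_cases hvT : v ∈ T
    · have h1 := hz1 v hvT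
      rw [exp_zero] at h1
      have h2 : AdFn.toKv v (z - x v) ∈ AdFn.Ov v := (AdFn.toKv_mem_Ov v _).2 h1
      have h3 : a.1 v - AdFn.toKv v z = (a.1 v - AdFn.toKv v (x v)) - AdFn.toKv v (z - x v) := by
        rw [map_sub]; ring
      rw [h3]
      exact sub_mem (hx v) h2
    · have h1 := hz2 v hvP hvT
      have h2 : AdFn.toKv v z ∈ AdFn.Ov v := (AdFn.toKv_mem_Ov v _).2 h1
      have h3 : a.1 v ∈ AdFn.Ov v := by
        by_contra hcon
        apply hvT
        rw [hT, Finset.mem_erase]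
        exact ⟨hvP, hfin.mem_toFinset.2 hcon⟩
      exact sub_mem h3 h2
  · intro b hb
    constructor
    · rintro ⟨f, hf⟩
      refine ⟨f, ?_, ?_⟩
      · rw [AdFn.mem_SInt]
        intro v hv
        have h1 := hf v
        rw [map_sub, hb v hv, zero_sub, AdFn.AdeleRing.proj_diag] at h1
        have h2 : AdFn.toKv v f ∈ AdFn.Ov v := by
          have := (AdFn.Ov v).neg_mem _ h1
          rwa [neg_neg] at this
        exact (AdFn.toKv_mem_Ov v f).1 h2
      · intro v _
        have h1 := hf v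
        rw [map_sub, AdFn.AdeleRing.proj_diag] at h1
        exact h1
    · rintro ⟨f, hfS, hf⟩
      refine ⟨f, ?_⟩
      intro v
      rw [map_sub, AdFn.AdeleRing.proj_diag]
      by_cases hv : v ∈ S
      · exact hf v hv
      · rw [hb v hv, zero_sub]
        exact (AdFn.Ov v).neg_mem _ ((AdFn.toKv_mem_Ov v f).2 ((AdFn.mem_SInt S f).1 hfS v hv))

end Groth.Agent.Lib.Helper88.FF
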