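/-
Limit linear series on backbones: bounds that need the Pluecker inequality.
Author: helper88
-/
import Groth.Agent.Lib.Helper88.FunFldPlucker

set_option autoImplicit false
set_option linter.unusedSectionVars false

namespace Groth.Agent.Lib.Helper88.FF

open FunFld WithZero Chain

/-- Pluecker inequality for an explicit list of distinct places. -/
theorem plucker_list {k K : Type*} [Field k] [Field K] [Algebra k K] [IsAlgClosed k] [CharZero k]
    (hK : IsFunctionField k K) (hg0 : genus k K = 0) {d r : ℕ} {D : Divisor k K}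
    (hD : D.deg = d) {V : Submodule k K} (hV : V ≤ L D) (hVr : Module.finrank k ↥V = r + 1)
    (l : List (Place k K)) (hl : l.Nodup) :
    (l.map (ordSum V D d)).sum + r * (r + 1) ≤ (r + 1) * d + l.length * (r * (r + 1) / 2) := by
  classical
  have h := plucker_genus_zero hK hg0 hD hV hVr l.toFinset
  rw [List.sum_toFinset _ hl, List.toFinset_card_of_nodup hl] at h
  exact h

section Backbone

variable {k : Type*} [Field k] [IsAlgClosed k] [CharZero k]
  {N : ℕ} {Z : Fin (N + 1) → Type*} [∀ i, Field (Z i)] [∀ i, Algebra k (Z i)]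
  (hZ : ∀ i, IsFunctionField k (Z i)) (hrat : ∀ i, genus k (Z i) = 0)
  {d r : ℕ} {D : ∀ i, Divisor k (Z i)} (hD : ∀ i, (D i).deg = d)
  {V : ∀ i, Submodule k (Z i)} (hV : ∀ i, V i ≤ L (D i))
  (hVr : ∀ i, Module.finrank k ↥(V i) = r + 1)
  {A B : ∀ i, Place k (Z i)}
  (hAB : ∀ i : Fin (N + 1), 0 < (i : ℕ) → (i : ℕ) < N → A i ≠ B i)
  (hcomp : ∀ (l : Fin N) (m : ℕ), m ≤ d + 1 →
    Module.finrank k ↥((V l.castSucc) ⊓ L ((D l.castSucc) - Finsupp.single (B l.castSucc) ((m : ℤ)))) +
      Module.finrank k ↥((V l.succ) ⊓ L ((D l.succ) - Finsupp.single (A l.succ) ((d : ℤ) + 1 - m))) =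
        r + 1)
  {T : Finset (Fin (N + 1))} {Q : ∀ i, Place k (Z i)}
  (hQA : ∀ i ∈ T, 0 < (i : ℕ) → Q i ≠ A i) (hQB : ∀ i ∈ T, (i : ℕ) < N → Q i ≠ B i)
  (hcusp : ∀ i ∈ T, r ≤ Module.finrank k ↥((V i) ⊓ L ((D i) - Finsupp.single (Q i) ((2 : ℤ)))))
include hZ hrat hD hV hVr hAB hcomp hQA hQB hcusp

/-- **S18181**. -/
theorem backbone_tail_point_le (i : Fin (N + 1)) (hiT : i ∈ T) (hi0 : 0 < (i : ℕ))
    (hiN : (i : ℕ) < N) :
    ordSum (V i) (D i) d (Q i) + r * (T.erase i).card + r * (r + 1) / 2 ≤ (r + 1) * d := by
  have h1 := backbone_inner_ge hZ hrat hD hV hVr hAB hcomp hQA hQB hcusp i hi0 hiN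
  have h2 := plucker_list (hZ i) (hrat i) (hD i) (hV i) (hVr i) [A i, B i, Q i] (by
    simp only [List.nodup_cons, List.mem_cons, List.not_mem_nil, or_false, not_or,
      not_false_eq_true, List.nodup_nil, and_true]
    exact ⟨⟨hAB i hi0 hiN, (hQA i hiT hi0).symm⟩, (hQB i hiT hiN).symm⟩)
  simp only [List.map_cons, List.map_nil, List.sum_cons, List.sum_nil, List.length_cons,
    List.length_nil] at h2
  have h3 := two_mul_tri r
  omega

/-- **S18183**. -/
theorem backbone_point_le (i : Fin (N + 1)) {Q' : Place k (Z i)} (hQ'A : 0 < (i : ℕ) → Q' ≠ A i)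
    (hQ'B : (i : ℕ) < N → Q' ≠ B i) (hQ'Q : i ∈ T → Q' ≠ Q i) :
    ordSum (V i) (D i) d Q' + r * T.card + r * (r + 1) ≤ (r + 1) * d + r * (r + 1) / 2 := by
  classical
  obtain ⟨hbA, hbB⟩ := backbone_bounds hZ hrat hD hV hVr hAB hcomp hQA hQB hcusp
  have hA := hbA i
  have hB := hbB i
  have hQ : i ∈ T → r + r * (r + 1) / 2 ≤ ordSum (V i) (D i) d (Q i) := fun h =>
    ordSum_cusp_ge (hZ i) (hD i) (hV i) (hVr i) (hcusp i h)
  have h3 := two_mul_tri r
  have hcL0 : ¬ 0 < (i : ℕ) →
      (T ∩ Finset.univ.filter (fun j : Fin (N + 1) => j < i)).card = 0 := by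
    intro h
    rw [Finset.card_eq_zero, Finset.eq_empty_iff_forall_notMem]
    intro j hj
    rw [Finset.mem_inter, Finset.mem_filter] at hj
    have := hj.2.2
    rw [Fin.lt_def] at this
    omega
  have hcG0 : ¬ (i : ℕ) < N →
      (T ∩ Finset.univ.filter (fun j : Fin (N + 1) => i < j)).card = 0 := by
    intro h
    rw [Finset.card_eq_zero, Finset.eq_empty_iff_forall_notMem]
    intro j hj
    rw [Finset.mem_inter, Finset.mem_filter] at hj
    have := hj.2.2
    rw [Fin.lt_def] at this
    have := j.2
    omega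
  have hcard : r * T.card = r * (T ∩ Finset.univ.filter (fun j : Fin (N + 1) => j < i)).card +
      r * (T ∩ Finset.univ.filter (fun j : Fin (N + 1) => i < j)).card +
      (if i ∈ T then r else 0) := by
    rw [← mul_add, ← card_erase_eq]
    split_ifs with h
    · have := Finset.card_erase_of_mem h
      have hpos : 0 < T.card := Finset.card_pos.2 ⟨i, h⟩
      have e : T.card = (T.erase i).card + 1 := by omega
      rw [e]
      ring
    · rw [Finset.erase_eq_of_notMem h, add_zero]
  have hP := plucker_list (hZ i) (hrat i) (hD i) (hV i) (hVr i)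
  by_cases h1 : 0 < (i : ℕ) <;> by_cases h2 : (i : ℕ) < N <;> by_cases h4 : i ∈ T
  · have := hP [Q', A i, B i, Q i] (by
      simp only [List.nodup_cons, List.mem_cons, List.not_mem_nil, or_false, not_or,
        not_false_eq_true, List.nodup_nil, and_true]
      exact ⟨⟨hQ'A h1, hQ'B h2, hQ'Q h4⟩, ⟨hAB i h1 h2, (hQA i h4 h1).symm⟩, (hQB i h4 h2).symm⟩)
    simp only [List.map_cons, List.map_nil, List.sum_cons, List.sum_nil, List.length_cons,
      List.length_nil] at this
    have := hA h1
    have := hB h2
    have := hQ h4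
    rw [if_pos h4] at hcard
    omega
  · have := hP [Q', A i, B i] (by
      simp only [List.nodup_cons, List.mem_cons, List.not_mem_nil, or_false, not_or,
        not_false_eq_true, List.nodup_nil, and_true]
      exact ⟨⟨hQ'A h1, hQ'B h2⟩, hAB i h1 h2⟩)
    simp only [List.map_cons, List.map_nil, List.sum_cons, List.sum_nil, List.length_cons,
      List.length_nil] at this
    have := hA h1
    have := hB h2
    rw [if_neg h4] at hcard
    omega
  · have := hP [Q', A i, Q i] (by
      simp only [List.nodup_cons, List.mem_cons, List.not_mem_nil, or_false, not_or,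
        not_false_eq_true, List.nodup_nil, and_true]
      exact ⟨⟨hQ'A h1, hQ'Q h4⟩, (hQA i h4 h1).symm⟩)
    simp only [List.map_cons, List.map_nil, List.sum_cons, List.sum_nil, List.length_cons,
      List.length_nil] at this
    have := hA h1
    rw [hcG0 h2, mul_zero] at hcard
    have := hQ h4
    rw [if_pos h4] at hcard
    omega
  · have := hP [Q', A i] (by
      simp only [List.nodup_cons, List.mem_cons, List.not_mem_nil, or_false,
        not_false_eq_true, List.nodup_nil, and_true]
      exact hQ'A h1)
    simp only [List.map_cons, List.map_nil, List.sum_cons, List.sum_nil, List.length_cons,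
      List.length_nil] at this
    have := hA h1
    rw [hcG0 h2, mul_zero] at hcard
    rw [if_neg h4] at hcard
    omega
  · have := hP [Q', B i, Q i] (by
      simp only [List.nodup_cons, List.mem_cons, List.not_mem_nil, or_false, not_or,
        not_false_eq_true, List.nodup_nil, and_true]
      exact ⟨⟨hQ'B h2, hQ'Q h4⟩, (hQB i h4 h2).symm⟩)
    simp only [List.map_cons, List.map_nil, List.sum_cons, List.sum_nil, List.length_cons,
      List.length_nil] at this
    rw [hcL0 h1, mul_zero] at hcard
    have := hB h2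
    have := hQ h4
    rw [if_pos h4] at hcard
    omega
  · have := hP [Q', B i] (by
      simp only [List.nodup_cons, List.mem_cons, List.not_mem_nil, or_false,
        not_false_eq_true, List.nodup_nil, and_true]
      exact hQ'B h2)
    simp only [List.map_cons, List.map_nil, List.sum_cons, List.sum_nil, List.length_cons,
      List.length_nil] at this
    rw [hcL0 h1, mul_zero] at hcard
    have := hB h2
    rw [if_neg h4] at hcard
    omega
  · have := hP [Q', Q i] (by
      simp only [List.nodup_cons, List.mem_cons, List.not_mem_nil, or_false,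
        not_false_eq_true, List.nodup_nil, and_true]
      exact hQ'Q h4)
    simp only [List.map_cons, List.map_nil, List.sum_cons, List.sum_nil, List.length_cons,
      List.length_nil] at this
    rw [hcL0 h1, mul_zero] at hcard
    rw [hcG0 h2, mul_zero] at hcard
    have := hQ h4
    rw [if_pos h4] at hcard
    omega
  · have := hP [Q'] (by simp)
    simp only [List.map_cons, List.map_nil, List.sum_cons, List.sum_nil, List.length_cons,
      List.length_nil] at this
    rw [hcL0 h1, mul_zero] at hcard
    rw [hcG0 h2, mul_zero] at hcard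
    rw [if_neg h4] at hcard
    omega

end Backbone

end Groth.Agent.Lib.Helper88.FF
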