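/-
Weights of a hyperplane of `L(gA)` on a function field of genus one.
Author: helper88
-/
import Groth.Agent.Lib.Helper88.FunFldLinSeries4

set_option autoImplicit false
set_option linter.unusedSectionVars false

namespace Groth.Agent.Lib.Helper88.FF

open FunFld WithZero

/-- Triangle upper bound. -/
lemma sum_le_triangle (m : ℕ) : ∀ f : ℕ → ℕ, (∀ n, n < m → f n + n ≤ m + 1) →
    ∑ n ∈ Finset.range m, f n + 1 ≤ (m + 1) * (m + 2) / 2 := by
  induction m with
  | zero => intro f _; simp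
  | succ m ih =>
    intro f h
    rw [Finset.sum_range_succ']
    have h0 := h 0 (by omega)
    have h1 := ih (fun n => f (n + 1)) (by
      intro n hn
      have := h (n + 1) (by omega)
      omega)
    have e : (m + 1 + 1) * (m + 1 + 2) = (m + 1) * (m + 2) + 2 * (m + 2) := by ring
    omega

variable {k K : Type*} [Field k] [Field K] [Algebra k K]

/-- A divisor of degree zero has `ℓ ≤ 1`, and if `ℓ > 0` it is principal. -/
lemma exists_div_eq_neg_of_ell_pos (hK : IsFunctionField k K) {E : Divisor k K} (hE : E.deg = 0)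
    (h : 0 < ell E) : ∃ z : K, z ≠ 0 ∧ FunFld.div k z = -E := by
  obtain ⟨z, hz0, hz⟩ := exists_ne_zero_mem_L hK h
  rw [mem_L_iff_div hK hz0] at hz
  have h0 := eq_zero_of_nonneg_of_deg_eq_zero hK hz (by rw [deg_add, deg_div hK, hE]; simp)
  exact ⟨z, hz0, eq_neg_of_add_eq_zero_left h0⟩

lemma ell_le_one_of_deg_zero (hK : IsFunctionField k K) {E : Divisor k K} (hE : E.deg = 0) :
    ell E ≤ 1 := by
  by_contra hcon
  push Not at hcon
  obtain ⟨z, hz0, hz⟩ := exists_div_eq_neg_of_ell_pos hK hE (by omega)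
  have h1 := ell_add_div hK hz0 E
  rw [hz, add_neg_cancel, ell_zero hK] at h1
  omega

lemma inf_single_sub_single {A Q : Place k K} (hQA : Q ≠ A) (a a' n₁ n₂ : ℤ) :
    (Finsupp.single A a - Finsupp.single Q n₁ : Divisor k K) ⊓
      (Finsupp.single A a' - Finsupp.single Q n₂) =
      Finsupp.single A (min a a') - Finsupp.single Q (max n₁ n₂) := by
  ext R
  rw [Finsupp.inf_apply, Finsupp.sub_apply, Finsupp.sub_apply, Finsupp.sub_apply]
  rcases eq_or_ne R A with rfl | hRA
  · rw [Finsupp.single_eq_same, Finsupp.single_eq_same, Finsupp.single_eq_same,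
      Finsupp.single_eq_of_ne (Ne.symm hQA), Finsupp.single_eq_of_ne (Ne.symm hQA),
      Finsupp.single_eq_of_ne (Ne.symm hQA), sub_zero, sub_zero, sub_zero]
  · rw [Finsupp.single_eq_of_ne hRA, Finsupp.single_eq_of_ne hRA, Finsupp.single_eq_of_ne hRA]
    rcases eq_or_ne R Q with rfl | hRQ
    · rw [Finsupp.single_eq_same, Finsupp.single_eq_same, Finsupp.single_eq_same, zero_sub,
        zero_sub, zero_sub]
      show min (-n₁) (-n₂) = -max n₁ n₂
      rcases le_total n₁ n₂ with h | h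
      · rw [max_eq_right h, min_eq_right (neg_le_neg h)]
      · rw [max_eq_left h, min_eq_left (neg_le_neg h)]
    · rw [Finsupp.single_eq_of_ne hRQ, Finsupp.single_eq_of_ne hRQ, Finsupp.single_eq_of_ne hRQ]
      simp

section GenusOne

variable [IsAlgClosed k] (hK : IsFunctionField k K) (hg1 : genus k K = 1)
include hK hg1

lemma ell_eq_deg_of_pos {E : Divisor k K} (h : 1 ≤ E.deg) : (ell E : ℤ) = E.deg := by
  have := ell_eq_of_le_deg hK (D := E) (by rw [hg1]; simpa using h)
  rw [hg1] at this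
  simpa using this

/-- Oddness: `gQ ~ gA` and `(g-2)Q ~ (g-2)A` with `g` odd force `Q = A`. -/
lemma eq_of_torsion_odd {A Q : Place k K} {g : ℕ} (hodd : Odd g) (h2 : 2 ≤ g)
    (h1 : 0 < ell (Finsupp.single A (g : ℤ) - Finsupp.single Q (g : ℤ) : Divisor k K))
    (h3 : 0 < ell (Finsupp.single A ((g : ℤ) - 2) - Finsupp.single Q ((g : ℤ) - 2) : Divisor k K)) :
    Q = A := by
  classical
  have hdA := deg_eq_one_of_isAlgClosed hK A
  have hdQ := deg_eq_one_of_isAlgClosed hK Q
  obtain ⟨z₁, hz₁0, hz₁⟩ := exists_div_eq_neg_of_ell_pos hK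
    (E := Finsupp.single A (g : ℤ) - Finsupp.single Q (g : ℤ))
    (by rw [deg_sub, deg_single, deg_single, hdA, hdQ]; ring) h1
  obtain ⟨z₂, hz₂0, hz₂⟩ := exists_div_eq_neg_of_ell_pos hK
    (E := Finsupp.single A ((g : ℤ) - 2) - Finsupp.single Q ((g : ℤ) - 2))
    (by rw [deg_sub, deg_single, deg_single, hdA, hdQ]; ring) h3
  obtain ⟨j, hj⟩ := hodd
  -- `h = z₁ / z₂` has divisor `2Q - 2A`; `z₁ / h^j` has divisor `Q - A`
  set h : K := z₁ * z₂⁻¹ with hh
  have hh0 : h ≠ 0 := mul_ne_zero hz₁0 (inv_ne_zero hz₂0)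
  have hdivh : FunFld.div k h = Finsupp.single Q (2 : ℤ) - Finsupp.single A (2 : ℤ) := by
    rw [hh, div_mul hK hz₁0 (inv_ne_zero hz₂0), div_inv hK, hz₁, hz₂]
    ext R
    simp only [Finsupp.add_apply, Finsupp.sub_apply, Finsupp.neg_apply, Finsupp.single_apply]
    split_ifs <;> ring
  set w : K := z₁ * (h ^ j)⁻¹ with hw
  have hw0 : w ≠ 0 := mul_ne_zero hz₁0 (inv_ne_zero (pow_ne_zero j hh0))
  have hdivw : (Finsupp.single Q 1 - Finsupp.single A 1 : Divisor k K) = FunFld.div k w := by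
    rw [hw, div_mul hK hz₁0 (inv_ne_zero (pow_ne_zero j hh0)), div_inv hK, div_pow hK, hz₁, hdivh]
    ext R
    simp only [Finsupp.add_apply, Finsupp.sub_apply, Finsupp.neg_apply, Finsupp.smul_apply,
      Finsupp.single_apply]
    have hgj : (g : ℤ) = 2 * j + 1 := by exact_mod_cast hj
    split_ifs <;> simp only [nsmul_eq_mul] <;> (try rw [hgj]) <;> ring
  exact place_eq_of_linearly_equiv hK (by rw [hg1]; norm_num) hdA hw0 hdivw

/-- **S17247**. -/
theorem ell_weight_le_two [CharZero k] (g : ℕ) (hodd : Odd g) (h3 : 3 ≤ g) (A : Place k K)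
    (V₁ : Submodule k K) (hlo : L (Finsupp.single A ((g : ℤ) - 2)) ≤ V₁)
    (hhi : V₁ ≤ L (Finsupp.single A (g : ℤ))) (hdim : Module.finrank k ↥V₁ + 1 = g)
    (Q : Place k K) (hQ : Q ≠ A) :
    (∑ n ∈ Finset.range (2 * g - 2), Module.finrank k
        ↥(V₁ ⊓ L (Finsupp.single A (2 * (g : ℤ) - 2) - Finsupp.single Q ((n : ℤ) + 1)))) ≤
      (g - 1).choose 2 + 2 := by
  classical
  have hdA := deg_eq_one_of_isAlgClosed hK A
  have hdQ := deg_eq_one_of_isAlgClosed hK Q
  have hfdg := finiteDimensional_L hK (Finsupp.single A (g : ℤ) : Divisor k K)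
  have hfdV : FiniteDimensional k V₁ := Submodule.finiteDimensional_of_le hhi
  -- reduce to `L(gA - nQ)`
  have hred : ∀ n : ℕ, V₁ ⊓ L (Finsupp.single A (2 * (g : ℤ) - 2) - Finsupp.single Q (n : ℤ)) =
      V₁ ⊓ L (Finsupp.single A (g : ℤ) - Finsupp.single Q (n : ℤ)) := by
    intro n
    have e : (Finsupp.single A (g : ℤ) : Divisor k K) ⊓
        (Finsupp.single A (2 * (g : ℤ) - 2) - Finsupp.single Q (n : ℤ)) =
        Finsupp.single A (g : ℤ) - Finsupp.single Q (n : ℤ) := by
      have h0 := inf_single_sub_single (k := k) hQ (g : ℤ) (2 * (g : ℤ) - 2) 0 (n : ℤ)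
      rw [Finsupp.single_zero, sub_zero] at h0
      rw [h0]
      have hg' : (3 : ℤ) ≤ g := by exact_mod_cast h3
      rw [min_eq_left (by linarith), max_eq_right (Int.natCast_nonneg n)]
    rw [← e, ← L_inf, ← inf_assoc, inf_eq_left.2 hhi]
  set v : ℕ → ℕ := fun n => Module.finrank k
    ↥(V₁ ⊓ L (Finsupp.single A (g : ℤ) - Finsupp.single Q (n : ℤ))) with hv
  have hsum : (∑ n ∈ Finset.range (2 * g - 2), Module.finrank k
        ↥(V₁ ⊓ L (Finsupp.single A (2 * (g : ℤ) - 2) - Finsupp.single Q ((n : ℤ) + 1)))) =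
      ∑ n ∈ Finset.range (2 * g - 2), v (n + 1) := by
    apply Finset.sum_congr rfl
    intro n _
    have := hred (n + 1)
    push_cast at this
    rw [this]
    simp only [hv]
    push_cast
    rfl
  rw [hsum]
  -- dimensions of `L(gA - nQ)`
  have hdegn : ∀ n : ℕ, Divisor.deg (Finsupp.single A (g : ℤ) - Finsupp.single Q (n : ℤ) :
      Divisor k K) = (g : ℤ) - n := by
    intro n
    rw [deg_sub, deg_single, deg_single, hdA, hdQ]; simp
  have hlam : ∀ n : ℕ, n < g →
      (ell (Finsupp.single A (g : ℤ) - Finsupp.single Q (n : ℤ) : Divisor k K) : ℤ) = (g : ℤ) - n := by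
    intro n hn
    have h1 := ell_eq_deg_of_pos hK hg1
      (E := (Finsupp.single A (g : ℤ) - Finsupp.single Q (n : ℤ) : Divisor k K))
      (by rw [hdegn]; omega)
    rw [hdegn] at h1
    exact h1
  have hvle : ∀ n : ℕ, v n ≤ ell (Finsupp.single A (g : ℤ) - Finsupp.single Q (n : ℤ) : Divisor k K) := by
    intro n
    have := finiteDimensional_L hK (Finsupp.single A (g : ℤ) - Finsupp.single Q (n : ℤ) : Divisor k K)
    exact Submodule.finrank_mono inf_le_right
  -- strict drop when `L(gA - nQ)` is not contained in `V₁`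
  have hdrop : ∀ n : ℕ, ¬ L (Finsupp.single A (g : ℤ) - Finsupp.single Q (n : ℤ) : Divisor k K) ≤ V₁ →
      v n + 1 ≤ ell (Finsupp.single A (g : ℤ) - Finsupp.single Q (n : ℤ) : Divisor k K) := by
    intro n hn
    have hfd := finiteDimensional_L hK (Finsupp.single A (g : ℤ) - Finsupp.single Q (n : ℤ) : Divisor k K)
    have hlt : V₁ ⊓ L (Finsupp.single A (g : ℤ) - Finsupp.single Q (n : ℤ) : Divisor k K) <
        L (Finsupp.single A (g : ℤ) - Finsupp.single Q (n : ℤ) : Divisor k K) :=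
      lt_of_le_of_ne inf_le_right (fun h => hn (h ▸ inf_le_left))
    exact Submodule.finrank_lt_finrank_of_lt hlt
  have hell2 : (ell (Finsupp.single A ((g : ℤ) - 2) : Divisor k K) : ℤ) = (g : ℤ) - 2 := by
    have h5 := ell_eq_deg_of_pos hK hg1 (E := (Finsupp.single A ((g : ℤ) - 2) : Divisor k K))
      (by rw [deg_single, hdA]; simp only [Nat.cast_one, mul_one]; omega)
    rw [deg_single, hdA] at h5
    simpa using h5
  -- `L(gA - nQ) + L((g-2)A) = L(gA)` when `ℓ((g-2)A - nQ) = g - 2 - n`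
  have hnot : ∀ n : ℕ, n + 2 ≤ g →
      (ell (Finsupp.single A ((g : ℤ) - 2) - Finsupp.single Q (n : ℤ) : Divisor k K) : ℤ) + n + 2 = g →
      ¬ L (Finsupp.single A (g : ℤ) - Finsupp.single Q (n : ℤ) : Divisor k K) ≤ V₁ := by
    intro n hn hell hle
    have hfd1 := finiteDimensional_L hK (Finsupp.single A (g : ℤ) - Finsupp.single Q (n : ℤ) : Divisor k K)
    have hfd2 := finiteDimensional_L hK (Finsupp.single A ((g : ℤ) - 2) : Divisor k K)
    have h1 := Submodule.finrank_sup_add_finrank_inf_eq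
      (L (Finsupp.single A (g : ℤ) - Finsupp.single Q (n : ℤ) : Divisor k K))
      (L (Finsupp.single A ((g : ℤ) - 2) : Divisor k K))
    have e : (Finsupp.single A (g : ℤ) - Finsupp.single Q (n : ℤ) : Divisor k K) ⊓
        Finsupp.single A ((g : ℤ) - 2) =
        Finsupp.single A ((g : ℤ) - 2) - Finsupp.single Q (n : ℤ) := by
      have h0 := inf_single_sub_single (k := k) hQ (g : ℤ) ((g : ℤ) - 2) (n : ℤ) 0
      rw [Finsupp.single_zero, sub_zero] at h0
      rw [h0, min_eq_right (by linarith), max_eq_left (Int.natCast_nonneg n)]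
    rw [L_inf, e] at h1
    have h2 : Module.finrank k ↥(L (Finsupp.single A (g : ℤ) - Finsupp.single Q (n : ℤ) : Divisor k K) ⊔
        L (Finsupp.single A ((g : ℤ) - 2) : Divisor k K)) ≤ Module.finrank k ↥V₁ :=
      Submodule.finrank_mono (sup_le hle hlo)
    have h6 := hlam n (by omega)
    unfold ell at hell2 h6 hell
    omega
  obtain ⟨m, rfl⟩ : ∃ m, g = m + 3 := ⟨g - 3, by omega⟩
  -- the generic range
  have hgen : ∀ n : ℕ, n < m → v (n + 1) + n ≤ m + 1 := by
    intro n hn
    have hell : (ell (Finsupp.single A (((m + 3 : ℕ) : ℤ) - 2) - Finsupp.single Q ((n + 1 : ℕ) : ℤ) :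
        Divisor k K) : ℤ) + (n + 1 : ℕ) + 2 = (m + 3 : ℕ) := by
      have h5 := ell_eq_deg_of_pos hK hg1
        (E := (Finsupp.single A (((m + 3 : ℕ) : ℤ) - 2) - Finsupp.single Q ((n + 1 : ℕ) : ℤ) :
          Divisor k K))
        (by rw [deg_sub, deg_single, deg_single, hdA, hdQ]
            push_cast
            have : (n : ℤ) < m := by exact_mod_cast hn
            linarith)
      rw [deg_sub, deg_single, deg_single, hdA, hdQ] at h5
      push_cast at h5 ⊢
      linarith
    have h1 := hdrop (n + 1) (hnot (n + 1) (by omega) hell)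
    have h2 := hlam (n + 1) (by omega)
    omega
  have htri := sum_le_triangle m (fun n => v (n + 1)) hgen
  have hchoose : (m + 3 - 1).choose 2 = (m + 1) * (m + 2) / 2 := by
    have e1 : m + 3 - 1 = m + 2 := by omega
    have e2 : m + 2 - 1 = m + 1 := by omega
    rw [e1, Nat.choose_two_right, e2, mul_comm]
  rw [hchoose]
  -- the tail
  have hzero : ∀ x : ℕ, v (m + 3 + x + 1) = 0 := by
    intro x
    have h1 := hvle (m + 3 + x + 1)
    rw [ell_eq_zero_of_deg_neg hK (by rw [hdegn]; push_cast; linarith)] at h1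
    omega
  have e2 : 2 * (m + 3) - 2 = (m + 3) + (m + 1) := by omega
  rw [e2, Finset.sum_range_add, Finset.sum_range_succ, Finset.sum_range_succ, Finset.sum_range_succ]
  have htail : ∑ x ∈ Finset.range (m + 1), v (m + 3 + x + 1) = 0 :=
    Finset.sum_eq_zero (fun x _ => hzero x)
  rw [htail, add_zero]
  -- the three special terms
  have hv1 : v (m + 1 + 1) ≤ 1 := by
    have h1 := hvle (m + 1 + 1)
    have h2 := hlam (m + 1 + 1) (by omega)
    omega
  have hv2 : v (m + 1) ≤ 2 := by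
    have h1 := hvle (m + 1)
    have h2 := hlam (m + 1) (by omega)
    omega
  have hdeg0 : Divisor.deg (Finsupp.single A ((m + 3 : ℕ) : ℤ) - Finsupp.single Q ((m + 2 + 1 : ℕ) : ℤ) :
      Divisor k K) = 0 := by
    rw [hdegn]; push_cast; ring
  have hv3 : v (m + 2 + 1) ≤ ell (Finsupp.single A ((m + 3 : ℕ) : ℤ) -
      Finsupp.single Q ((m + 2 + 1 : ℕ) : ℤ) : Divisor k K) := hvle (m + 2 + 1)
  have heps := ell_le_one_of_deg_zero hK hdeg0
  by_cases hε : ell (Finsupp.single A ((m + 3 : ℕ) : ℤ) -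
      Finsupp.single Q ((m + 2 + 1 : ℕ) : ℤ) : Divisor k K) = 0
  · omega
  · -- then `(g-2)Q` is not equivalent to `(g-2)A`
    have hpos : 0 < ell (Finsupp.single A ((m + 3 : ℕ) : ℤ) -
      Finsupp.single Q ((m + 3 : ℕ) : ℤ) : Divisor k K) := by
      have : (m + 2 + 1 : ℕ) = m + 3 := by omega
      rw [this] at hε
      omega
    have e3 : (((m + 3 : ℕ) : ℤ) - 2) = ((m + 1 : ℕ) : ℤ) := by push_cast; ring
    have hε' : ell (Finsupp.single A (((m + 3 : ℕ) : ℤ) - 2) -
        Finsupp.single Q ((m + 1 : ℕ) : ℤ) : Divisor k K) = 0 := by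
      by_contra hne
      have h5 : 0 < ell (Finsupp.single A (((m + 3 : ℕ) : ℤ) - 2) -
          Finsupp.single Q (((m + 3 : ℕ) : ℤ) - 2) : Divisor k K) := by
        rw [e3] at hne ⊢
        omega
      exact hQ (eq_of_torsion_odd hK hg1 hodd (by omega) hpos h5)
    have h1 := hdrop (m + 1) (hnot (m + 1) (by omega) (by rw [hε']; push_cast; ring))
    have h2 := hlam (m + 1) (by omega)
    omega

end GenusOne

end Groth.Agent.Lib.Helper88.FF
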