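/-
Genus one, characteristic zero: the invariant derivation, and finiteness of torsion places.
Author: helper88
-/
import Groth.Agent.Lib.Helper88.FunFldDeriv
import Groth.Agent.Lib.Helper88.FunFldEllBasis
import Groth.Agent.Lib.Helper88.FunFldEllWeights

set_option autoImplicit false
set_option linter.unusedSectionVars false

namespace Groth.Agent.Lib.Helper88.FF

open FunFld WithZero

variable {k K : Type*} [Field k] [Field K] [Algebra k K]

/-- Members of `k[x, y]` are regular away from `P` when `x, y` are. -/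
lemma regular_of_mem_adjoin (P : Place k K) {x y : K} {a b : ℤ}
    (hx : x ∈ L (Finsupp.single P a : Divisor k K))
    (hy : y ∈ L (Finsupp.single P b : Divisor k K)) {z : K}
    (hz : z ∈ Algebra.adjoin k ({x, y} : Set K)) (Q : Place k K) (hQ : Q ≠ P) : Q.1 z ≤ 1 := by
  induction hz using Algebra.adjoin_induction with
  | mem w hw =>
    rcases hw with rfl | hw
    · have := hx Q
      rwa [Finsupp.single_eq_of_ne hQ, exp_zero] at this
    · rw [Set.mem_singleton_iff] at hw
      subst hw
      have := hy Q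
      rwa [Finsupp.single_eq_of_ne hQ, exp_zero] at this
  | algebraMap c => exact Q.2.1 c
  | add u v _ _ hu hv => exact (Q.1.map_add u v).trans (max_le hu hv)
  | mul u v _ _ hu hv =>
    rw [map_mul]
    calc Q.1 u * Q.1 v ≤ 1 * 1 := mul_le_mul' hu hv
      _ = 1 := one_mul 1

section GenusOne

variable [IsAlgClosed k] (hK : IsFunctionField k K) (hg1 : genus k K = 1)
include hK hg1

/-- Functions regular away from `P` lie in `k[x, y]`. -/
lemma mem_adjoin_of_regular (P : Place k K) {x y : K}
    (hx : x ∈ L (Finsupp.single P 2 : Divisor k K)) (hx2 : P.ord x = -2)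
    (hy : y ∈ L (Finsupp.single P 3 : Divisor k K)) (hy3 : P.ord y = -3) {z : K}
    (hz : ∀ Q : Place k K, Q ≠ P → Q.1 z ≤ 1) : z ∈ Algebra.adjoin k ({x, y} : Set K) := by
  classical
  rcases eq_or_ne z 0 with rfl | hz0
  · exact zero_mem _
  set n : ℕ := max 2 (-P.ord z).toNat with hn
  have hzL : z ∈ L (Finsupp.single P (n : ℤ) : Divisor k K) := by
    intro Q
    rcases eq_or_ne Q P with rfl | hQ
    · rw [Finsupp.single_eq_same, val_le_exp_iff Q hz0]
      have : (-Q.ord z) ≤ ((-Q.ord z).toNat : ℤ) := Int.self_le_toNat _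
      have h2 : ((-Q.ord z).toNat : ℤ) ≤ (n : ℤ) := by
        rw [hn]; exact_mod_cast le_max_right _ _
      omega
    · rw [Finsupp.single_eq_of_ne hQ, exp_zero]
      exact hz Q hQ
  obtain ⟨-, hspan⟩ := elliptic_basis hK hg1 P (deg_eq_one_of_isAlgClosed hK P) x y hx hx2 hy hy3
    n (by rw [hn]; exact le_max_left _ _)
  rw [← hspan] at hzL
  have hle : Submodule.span k (Set.range
        (Sum.elim (fun i : Fin (n / 2 + 1) => x ^ (i : ℕ))
          (fun i : Fin ((n - 1) / 2) => x ^ (i : ℕ) * y))) ≤
      Subalgebra.toSubmodule (Algebra.adjoin k ({x, y} : Set K)) := by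
    rw [Submodule.span_le]
    have hxA : x ∈ Algebra.adjoin k ({x, y} : Set K) := Algebra.subset_adjoin (by simp)
    have hyA : y ∈ Algebra.adjoin k ({x, y} : Set K) := Algebra.subset_adjoin (by simp)
    rintro _ ⟨i | i, rfl⟩
    · exact (pow_mem hxA _ : x ^ (i : ℕ) ∈ Algebra.adjoin k ({x, y} : Set K))
    · exact (mul_mem (pow_mem hxA _) hyA : x ^ (i : ℕ) * y ∈ Algebra.adjoin k ({x, y} : Set K))
  exact hle hzL

/-- **The invariant derivation**: a nonzero derivation preserving the ring of functions regular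
away from `P`. -/
theorem exists_invariant_derivation [CharZero k] (P : Place k K) :
    ∃ (R : Subalgebra k K) (D : Derivation k K K), D ≠ 0 ∧ (∀ z ∈ R, D z ∈ R) ∧
      ∀ z : K, z ∈ R ↔ ∀ Q : Place k K, Q ≠ P → Q.1 z ≤ 1 := by
  classical
  obtain ⟨x, y, hx, hy, hx2, hy3, -, f, g, hf, hgd, hrel⟩ :=
    exists_weierstrass hK hg1 P (deg_eq_one_of_isAlgClosed hK P)
  obtain ⟨D₀, hD₀⟩ := exists_derivation_ne_zero hK
  have hx0 : x ≠ 0 := by
    rintro rfl
    rw [ord_zero] at hx2
    omega
  have hxtr : x ∉ Set.range (algebraMap k K) := by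
    rintro ⟨c, rfl⟩
    rw [ord_algebraMap] at hx2
    omega
  have hDx : D₀ x ≠ 0 := fun h => hxtr (derivation_constants hK hD₀ h)
  set R : Subalgebra k K := Algebra.adjoin k ({x, y} : Set K) with hR
  have hxR : x ∈ R := Algebra.subset_adjoin (by simp)
  have hyR : y ∈ R := Algebra.subset_adjoin (by simp)
  have haev : ∀ p : Polynomial k, Polynomial.aeval x p ∈ R := by
    intro p
    rw [Polynomial.aeval_def, Polynomial.eval₂_eq_sum_range]
    exact sum_mem fun i _ => mul_mem (Subalgebra.algebraMap_mem _ _) (pow_mem hxR _)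
  set u : K := 2 * y + Polynomial.aeval x f with hu
  have huR : u ∈ R := by
    rw [hu]
    refine add_mem (mul_mem ?_ hyR) (haev f)
    have : (2 : K) = algebraMap k K 2 := (map_ofNat (algebraMap k K) 2).symm
    rw [this]
    exact Subalgebra.algebraMap_mem _ _
  -- `u ≠ 0`
  have hfL : Polynomial.aeval x f ∈ L (Finsupp.single P 2 : Divisor k K) := by
    have hf1 : f = Polynomial.C (f.coeff 0) + Polynomial.C (f.coeff 1) * Polynomial.X := by
      have := Polynomial.eq_X_add_C_of_natDegree_le_one hf
      rw [this]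
      simp
      ring
    rw [hf1]
    simp only [map_add, map_mul, Polynomial.aeval_C, Polynomial.aeval_X]
    refine Submodule.add_mem _ ?_ ?_
    · have h1 : algebraMap k K (f.coeff 0) = (f.coeff 0) • (1 : K) := by
        rw [Algebra.smul_def, mul_one]
      rw [h1]
      refine Submodule.smul_mem _ _ ?_
      intro Q
      rw [map_one]
      rcases eq_or_ne Q P with rfl | hQ
      · rw [Finsupp.single_eq_same, ← exp_zero]; exact exp_le_exp.2 (by norm_num)
      · rw [Finsupp.single_eq_of_ne hQ, exp_zero]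
    · have h1 : algebraMap k K (f.coeff 1) * x = (f.coeff 1) • x := by
        rw [Algebra.smul_def]
      rw [h1]
      exact Submodule.smul_mem _ _ hx
  have hu0 : u ≠ 0 := by
    intro h0
    have hy2 : y = -(2 : K)⁻¹ * Polynomial.aeval x f := by
      have h2 : (2 : K) ≠ 0 := by
        have : (2 : K) = algebraMap k K 2 := (map_ofNat (algebraMap k K) 2).symm
        rw [this]
        exact (map_ne_zero (algebraMap k K)).2 two_ne_zero
      rw [hu] at h0
      field_simp
      linear_combination h0
    have hyL : y ∈ L (Finsupp.single P 2 : Divisor k K) := by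
      rw [hy2]
      have h1 : -(2 : K)⁻¹ * Polynomial.aeval x f = (-(2 : k)⁻¹) • Polynomial.aeval x f := by
        rw [Algebra.smul_def, map_neg, map_inv₀, map_ofNat]
      rw [h1]
      exact Submodule.smul_mem _ _ hfL
    have hy0 : y ≠ 0 := by
      rintro rfl
      rw [ord_zero] at hy3
      omega
    have := (val_le_exp_iff P hy0 _).1 (hyL P)
    rw [Finsupp.single_eq_same, hy3] at this
    omega
  -- the relation differentiated
  have hdiff : u * D₀ y = -(Polynomial.aeval x (Polynomial.derivative f) * y +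
      Polynomial.aeval x (Polynomial.derivative g)) * D₀ x := by
    have h := congrArg D₀ hrel
    rw [map_zero, map_add, map_add, D₀.leibniz, D₀.leibniz_pow, D₀.comp_aeval_eq,
      D₀.comp_aeval_eq] at h
    simp only [smul_eq_mul, nsmul_eq_mul] at h
    rw [hu]
    have h2 : ((2 : ℕ) : K) = 2 := by norm_num
    rw [h2] at h
    simp only [show (2 - 1 : ℕ) = 1 from rfl, pow_one] at h
    linear_combination h
  -- the invariant derivation
  set D : Derivation k K K := (u / D₀ x) • D₀ with hD
  have hDx' : D x = u := by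
    rw [hD, Derivation.smul_apply, smul_eq_mul]
    field_simp
  have hDy' : D y = -(Polynomial.aeval x (Polynomial.derivative f) * y +
      Polynomial.aeval x (Polynomial.derivative g)) := by
    rw [hD, Derivation.smul_apply, smul_eq_mul, div_mul_eq_mul_div, hdiff]
    field_simp
  refine ⟨R, D, ?_, ?_, ?_⟩
  · intro h0
    apply hu0
    rw [← hDx', h0]
    rfl
  · intro z hz
    induction hz using Algebra.adjoin_induction with
    | mem w hw =>
      rcases hw with rfl | hw
      · rw [hDx']; exact huR
      · rw [Set.mem_singleton_iff] at hw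
        subst hw
        rw [hDy']
        exact neg_mem (add_mem (mul_mem (haev _) hyR) (haev _))
    | algebraMap c =>
      rw [D.map_algebraMap]; exact zero_mem _
    | add a b _ _ ha hb =>
      rw [map_add]; exact add_mem ha hb
    | mul a b haR hbR ha hb =>
      rw [D.leibniz]
      simp only [smul_eq_mul]
      exact add_mem (mul_mem haR hb) (mul_mem hbR ha)
  · intro z
    constructor
    · intro hz Q hQ
      exact regular_of_mem_adjoin P hx hy hz Q hQ
    · intro hz
      exact mem_adjoin_of_regular hK hg1 P hx hx2 hy hy3 hz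

/-- Every place `Q ≠ P` is good for a derivation preserving the ring of functions regular away
from `P`. -/
theorem isGoodAt_of_regular (P : Place k K) (R : Subalgebra k K) (D : Derivation k K K)
    (hDR : ∀ z ∈ R, D z ∈ R) (hR : ∀ z : K, z ∈ R ↔ ∀ Q : Place k K, Q ≠ P → Q.1 z ≤ 1)
    (Q : Place k K) (hQ : Q ≠ P) : IsGoodAt D Q := by
  classical
  refine isGoodAt_of_subalgebra R hDR (fun z hz => (hR z).1 hz Q hQ) ?_
  intro z hz
  rcases eq_or_ne z 0 with rfl | hz0
  · exact ⟨1, one_mem _, map_one _, by rw [mul_zero]; exact zero_mem _⟩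
  set E : Divisor k K := (-(FunFld.div k z)) ⊔ 0 with hE
  have hE0 : 0 ≤ E := le_sup_right
  have hEQ' : ∀ Q' : Place k K, E Q' = max (-Q'.ord z) 0 := by
    intro Q'
    rw [hE, Finsupp.sup_apply, Finsupp.neg_apply, div_apply hK]
    rfl
  have hEQ : E Q = 0 := by
    rw [hEQ']
    have := (val_le_one_iff Q hz0).1 hz
    omega
  set n : ℕ := E.deg.toNat + 2 with hn
  have hEdeg : 0 ≤ E.deg := deg_nonneg hE0
  set A : Divisor k K := Finsupp.single P (n : ℤ) - E with hA
  have hdP := deg_eq_one_of_isAlgClosed hK P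
  have hdQ := deg_eq_one_of_isAlgClosed hK Q
  have hAdeg : A.deg = 2 := by
    rw [hA, deg_sub, deg_single, hdP, hn]
    push_cast
    rw [Int.toNat_of_nonneg hEdeg]
    ring
  have h1 : (ell A : ℤ) = 2 := by
    rw [ell_eq_deg_of_pos hK hg1 (by rw [hAdeg]; norm_num), hAdeg]
  have h2 : (ell (A - Finsupp.single Q 1) : ℤ) = 1 := by
    rw [ell_eq_deg_of_pos hK hg1 (by rw [deg_sub, hAdeg, deg_single, hdQ]; norm_num), deg_sub,
      hAdeg, deg_single, hdQ]
    norm_num
  have hfd := finiteDimensional_L hK A
  have hle : L (A - Finsupp.single Q 1) ≤ L A := by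
    apply L_mono
    intro Q'
    rw [Finsupp.sub_apply]
    have : (0 : ℤ) ≤ (Finsupp.single Q (1 : ℤ) : Divisor k K) Q' := by
      rw [Finsupp.single_apply]; split_ifs <;> norm_num
    linarith
  obtain ⟨b, hbA, hbnA⟩ := exists_mem_not_mem_of_finrank_lt hle (by
    change ell _ < ell _
    omega)
  have hAQ : A Q = 0 := by
    rw [hA, Finsupp.sub_apply, Finsupp.single_eq_of_ne hQ, hEQ, sub_zero]
  have hbQ : Q.1 b = 1 := by
    apply le_antisymm
    · have := hbA Q
      rwa [hAQ, exp_zero] at this
    · by_contra hlt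
      push Not at hlt
      apply hbnA
      intro Q'
      rcases eq_or_ne Q' Q with rfl | hQ'
      · rw [Finsupp.sub_apply, hAQ, Finsupp.single_eq_same, zero_sub]
        exact lt_one_iff_le_exp_neg_one.1 hlt
      · rw [Finsupp.sub_apply, Finsupp.single_eq_of_ne hQ', sub_zero]
        exact hbA Q'
  have hAle : ∀ Q' : Place k K, Q' ≠ P → A Q' = -E Q' := by
    intro Q' hQ'
    rw [hA, Finsupp.sub_apply, Finsupp.single_eq_of_ne hQ', zero_sub]
  refine ⟨b, (hR b).2 ?_, hbQ, (hR _).2 ?_⟩
  · intro Q' hQ'
    refine (hbA Q').trans ?_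
    rw [hAle Q' hQ', ← exp_zero]
    exact exp_le_exp.2 (by have := hE0 Q'; simp only [Finsupp.coe_zero, Pi.zero_apply] at this; omega)
  · intro Q' hQ'
    rw [map_mul, val_eq_exp_neg_ord Q' hz0]
    calc Q'.1 b * exp (-Q'.ord z) ≤ exp (A Q') * exp (-Q'.ord z) := mul_le_mul' (hbA Q') le_rfl
      _ = exp (A Q' + -Q'.ord z) := (exp_add _ _).symm
      _ ≤ exp 0 := exp_le_exp.2 (by
          rw [hAle Q' hQ', hEQ']
          omega)
      _ = 1 := exp_zero

/-- **Finiteness of torsion places** on a function field of genus one in characteristic zero: for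
`n ≥ 1` only finitely many places `Q ≠ P` carry a nonzero `f ∈ L(nP)` vanishing to order `≥ n` at
`Q` (i.e. with `div f = nQ - nP`). -/
theorem finite_torsion_places [CharZero k] (P : Place k K) (n : ℕ) (hn : 1 ≤ n) :
    {Q : Place k K | Q ≠ P ∧ ∃ f ∈ L (Finsupp.single P (n : ℤ) : Divisor k K),
      f ≠ 0 ∧ Q.1 f ≤ exp (-(n : ℤ))}.Finite := by
  classical
  obtain ⟨R, D, hD0, hDR, hR⟩ := exists_invariant_derivation hK hg1 P
  have hgood : ∀ Q ∈ {Q : Place k K | Q ≠ P}, IsGoodAt D Q := fun Q hQ =>
    isGoodAt_of_regular hK hg1 P R D hDR hR Q hQ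
  have hdim : Module.finrank k (L (Finsupp.single P (n : ℤ) : Divisor k K)) = n := by
    have h := ell_eq_deg_of_pos hK hg1 (E := (Finsupp.single P (n : ℤ) : Divisor k K)) (by
      rw [deg_single, deg_eq_one_of_isAlgClosed hK P]
      push_cast
      omega)
    rw [deg_single, deg_eq_one_of_isAlgClosed hK P] at h
    have h' : (ell (Finsupp.single P (n : ℤ) : Divisor k K) : ℤ) = n := by
      rw [h]; push_cast; ring
    exact_mod_cast h'
  have := finite_ramification hK hD0 {Q : Place k K | Q ≠ P} hgood n
    (L (Finsupp.single P (n : ℤ) : Divisor k K)) (finiteDimensional_L hK _) hdim (by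
      intro f hf Q hQ
      have := hf Q
      rwa [Finsupp.single_eq_of_ne hQ, exp_zero] at this)
  exact this

end GenusOne

end Groth.Agent.Lib.Helper88.FF
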