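/-
Weight at the pole of a hyperplane of `L(gA)` on a function field of genus one (S17248).
Author: helper88
-/
import Groth.Agent.Lib.Helper88.FunFldEllWeights

set_option autoImplicit false
set_option linter.unusedSectionVars false

namespace Groth.Agent.Lib.Helper88.FF

open FunFld WithZero

variable {k K : Type*} [Field k] [Field K] [Algebra k K]

section GenusOne

variable [IsAlgClosed k] (hK : IsFunctionField k K) (hg1 : genus k K = 1)
include hK hg1

/-- **S17248**. -/
theorem ell_weight_at_pole (g : ℕ) (h3 : 3 ≤ g) (A : Place k K)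
    (V₁ : Submodule k K) (hlo : L (Finsupp.single A ((g : ℤ) - 2)) ≤ V₁)
    (hhi : V₁ ≤ L (Finsupp.single A (g : ℤ))) (hdim : Module.finrank k ↥V₁ + 1 = g) :
    ∃ ε : ℕ, ε ≤ 1 ∧
      (∑ n ∈ Finset.range (2 * g - 2), Module.finrank k
        ↥(V₁ ⊓ L (Finsupp.single A (2 * (g : ℤ) - 2) - Finsupp.single A ((n : ℤ) + 1)))) =
      (g - 1).choose 2 + (g - 1) ^ 2 + ε := by
  classical
  have hdA := deg_eq_one_of_isAlgClosed hK A
  have hfdg := finiteDimensional_L hK (Finsupp.single A (g : ℤ) : Divisor k K)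
  have hfdV : FiniteDimensional k V₁ := Submodule.finiteDimensional_of_le hhi
  set u : ℕ → ℕ := fun j => Module.finrank k ↥(V₁ ⊓ L (Finsupp.single A (j : ℤ) : Divisor k K))
    with hu
  have hsum : (∑ n ∈ Finset.range (2 * g - 2), Module.finrank k
        ↥(V₁ ⊓ L (Finsupp.single A (2 * (g : ℤ) - 2) - Finsupp.single A ((n : ℤ) + 1)))) =
      ∑ n ∈ Finset.range (2 * g - 2), u (2 * g - 2 - 1 - n) := by
    apply Finset.sum_congr rfl
    intro n hn
    rw [Finset.mem_range] at hn
    have e : (Finsupp.single A (2 * (g : ℤ) - 2) - Finsupp.single A ((n : ℤ) + 1) : Divisor k K) =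
        Finsupp.single A ((2 * g - 2 - 1 - n : ℕ) : ℤ) := by
      rw [← Finsupp.single_sub]
      congr 1
      omega
    rw [e]
  rw [hsum, Finset.sum_range_reflect]
  obtain ⟨m, rfl⟩ : ∃ m, g = m + 3 := ⟨g - 3, by omega⟩
  have hmono : ∀ a b : ℤ, a ≤ b → L (Finsupp.single A a : Divisor k K) ≤ L (Finsupp.single A b) := by
    intro a b hab
    exact L_mono (Finsupp.single_le_single.2 hab)
  -- small `j`
  have hsmall : ∀ j : ℕ, j ≤ m + 1 → u j = ell (Finsupp.single A (j : ℤ) : Divisor k K) := by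
    intro j hj
    have h1 : L (Finsupp.single A (j : ℤ) : Divisor k K) ≤ V₁ :=
      le_trans (hmono _ _ (by push_cast; omega)) hlo
    simp only [hu]
    rw [inf_eq_right.2 h1]
    rfl
  have hu0 : u 0 = 1 := by
    rw [hsmall 0 (by omega)]
    have : (Finsupp.single A ((0 : ℕ) : ℤ) : Divisor k K) = 0 := by simp
    rw [this, ell_zero hK]
  have hupos : ∀ j : ℕ, 1 ≤ j → j ≤ m + 1 → u j = j := by
    intro j hj1 hj
    rw [hsmall j hj]
    have h1 := ell_eq_deg_of_pos hK hg1 (E := (Finsupp.single A (j : ℤ) : Divisor k K))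
      (by rw [deg_single, hdA]; simp only [Nat.cast_one, mul_one]; omega)
    rw [deg_single, hdA] at h1
    simp only [Nat.cast_one, mul_one] at h1
    exact_mod_cast h1
  -- large `j`
  have hlarge : ∀ j : ℕ, m + 3 ≤ j → u j = m + 2 := by
    intro j hj
    have h1 : V₁ ≤ L (Finsupp.single A (j : ℤ) : Divisor k K) :=
      le_trans hhi (hmono _ _ (by push_cast; omega))
    simp only [hu]
    rw [inf_eq_left.2 h1]
    omega
  -- middle
  have hmid1 : m + 1 ≤ u (m + 2) := by
    have h1 : L (Finsupp.single A ((m + 1 : ℕ) : ℤ) : Divisor k K) ≤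
        V₁ ⊓ L (Finsupp.single A ((m + 2 : ℕ) : ℤ) : Divisor k K) :=
      le_inf (le_trans (hmono _ _ (by push_cast; omega)) hlo) (hmono _ _ (by push_cast; omega))
    have h2 := Submodule.finrank_mono h1
    have h3 := hupos (m + 1) (by omega) le_rfl
    rw [hsmall (m + 1) le_rfl] at h3
    unfold ell at h3
    rw [h3] at h2
    exact h2
  have hmid2 : u (m + 2) ≤ m + 2 := by
    have h2 := Submodule.finrank_mono (inf_le_left :
      V₁ ⊓ L (Finsupp.single A ((m + 2 : ℕ) : ℤ) : Divisor k K) ≤ V₁)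
    simp only [hu]
    omega
  refine ⟨u (m + 2) - (m + 1), by omega, ?_⟩
  have e2 : 2 * (m + 3) - 2 = (m + 2) + 1 + (m + 1) := by omega
  rw [e2, Finset.sum_range_add, Finset.sum_range_succ]
  have hA : ∑ x ∈ Finset.range (m + 2), u x = 1 + (m + 2).choose 2 := by
    rw [Finset.sum_range_succ', hu0, Nat.choose_two_right, ← Finset.sum_range_id, Finset.sum_range_succ' (fun i => i)]
    simp only [add_zero]
    rw [add_comm]
    congr 1
    apply Finset.sum_congr rfl
    intro x hx
    rw [Finset.mem_range] at hx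
    exact hupos (x + 1) (by omega) (by omega)
  have hB : ∑ x ∈ Finset.range (m + 1), u (m + 2 + 1 + x) = (m + 1) * (m + 2) := by
    rw [Finset.sum_congr rfl (fun x _ => hlarge (m + 2 + 1 + x) (by omega))]
    simp
  rw [hA, hB]
  have e3 : m + 3 - 1 = m + 2 := by omega
  rw [e3]
  have : (m + 2) ^ 2 = 1 + (m + 1) + (m + 1) * (m + 2) := by ring
  omega

end GenusOne

end Groth.Agent.Lib.Helper88.FF
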