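/-
Function fields of genus two: small Riemann–Roch computations (S17249, S17250, S17251).
Author: helper88
-/
import Groth.Agent.Lib.Helper88.FunFldEllWeights

set_option autoImplicit false
set_option linter.unusedSectionVars false

namespace Groth.Agent.Lib.Helper88.FF

open FunFld WithZero

variable {k K : Type*} [Field k] [Field K] [Algebra k K]

/-- If `ℓ(E) > 0` and `deg E = 1` then `E` is equivalent to a place of degree one. -/
lemma exists_div_add_eq_single (hK : IsFunctionField k K) {E : Divisor k K} (hE : E.deg = 1)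
    (h : 0 < ell E) : ∃ (z : K) (R : Place k K), z ≠ 0 ∧ R.deg = 1 ∧
      FunFld.div k z + E = Finsupp.single R 1 := by
  obtain ⟨z, hz0, hz⟩ := exists_ne_zero_mem_L hK h
  rw [mem_L_iff_div hK hz0] at hz
  obtain ⟨R, hR, hRe⟩ := effective_deg_one hK hz (by rw [deg_add, deg_div hK, hE]; simp)
  exact ⟨z, R, hz0, hR, hRe⟩

/-- Rigidity: if `ℓ(D) = 1` and `D ≥ 0`, the only effective divisor equivalent to `D` is `D`. -/
lemma div_eq_zero_of_ell_eq_one (hK : IsFunctionField k K) {D : Divisor k K} (hD : 0 ≤ D)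
    (h1 : ell D = 1) {z : K} (hz : z ≠ 0) (hzD : 0 ≤ FunFld.div k z + D) : FunFld.div k z = 0 := by
  have hzmem : z ∈ L D := (mem_L_iff_div hK hz D).2 hzD
  have h1mem : (1 : K) ∈ L D := L_mono hD one_mem_L_zero
  have hne : (⟨1, h1mem⟩ : L D) ≠ 0 := fun h => one_ne_zero (congrArg Subtype.val h)
  obtain ⟨c, hc⟩ := (finrank_eq_one_iff_of_nonzero' (⟨1, h1mem⟩ : L D) hne).1 h1 ⟨z, hzmem⟩
  have hc' : z = algebraMap k K c := by
    have := congrArg Subtype.val hc
    simp only [Submodule.coe_smul] at this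
    rw [← this, Algebra.smul_def, mul_one]
  rw [hc', div_algebraMap hK]

lemma ell_pos_of_nonneg (hK : IsFunctionField k K) {D : Divisor k K} (hD : 0 ≤ D) : 0 < ell D := by
  have := finiteDimensional_L hK D
  have h1 := Submodule.finrank_mono (L_mono hD)
  have h2 := ell_zero hK (k := k) (K := K)
  unfold ell at h2 ⊢
  omega

section GenusTwo

variable [IsAlgClosed k] (hK : IsFunctionField k K) (hg : genus k K = 2)
  {C : Divisor k K} (hC : IsCanonical k K C)
include hK hg hC

lemma rr2 (E : Divisor k K) : (ell E : ℤ) = E.deg - 1 + ell (C - E) := by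
  have := riemann_roch hK hC E
  rw [hg] at this
  push_cast at this
  linarith

lemma deg_canonical2 : C.deg = 2 := by
  have := ((isCanonical_iff hK C).1 hC).2
  rw [hg] at this
  push_cast at this
  linarith

/-- The conjugate place: `C ~ B + B'`. -/
lemma exists_conj (B : Place k K) : ∃ (z : K) (B' : Place k K), z ≠ 0 ∧
    FunFld.div k z + (C - Finsupp.single B 1) = Finsupp.single B' 1 := by
  have hdB := deg_eq_one_of_isAlgClosed hK B
  have hdeg : (C - Finsupp.single B 1).deg = 1 := by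
    rw [deg_sub, deg_single, deg_canonical2 hK hg hC, hdB]; norm_num
  have h1 := rr2 hK hg hC (C - Finsupp.single B 1)
  rw [hdeg, sub_sub_cancel] at h1
  have h2 := ell_pos_of_nonneg hK (D := (Finsupp.single B 1 : Divisor k K))
    (Finsupp.single_nonneg.2 zero_le_one)
  obtain ⟨z, R, hz0, -, hR⟩ := exists_div_add_eq_single hK hdeg (by omega)
  exact ⟨z, R, hz0, hR⟩

/-- **S17249**. -/
theorem genus_two_no_weight_three (A P Q : Place k K)
    (hA : Module.finrank k ↥(L (Finsupp.single A (2 : ℤ))) = 1) (hQ : Q ≠ A) :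
    ¬ (Module.finrank k ↥(L (C + Finsupp.single A (2 : ℤ) - Finsupp.single P (1 : ℤ) -
        Finsupp.single Q (3 : ℤ))) = 1 ∧
       Module.finrank k ↥(L (C + Finsupp.single A (2 : ℤ) - Finsupp.single P (1 : ℤ) -
        Finsupp.single Q (1 : ℤ))) = 2) := by
  classical
  rintro ⟨-, h2⟩
  have hdA := deg_eq_one_of_isAlgClosed hK A
  have hdP := deg_eq_one_of_isAlgClosed hK P
  have hdQ := deg_eq_one_of_isAlgClosed hK Q
  have hdC := deg_canonical2 hK hg hC
  have h3 := rr2 hK hg hC (C + Finsupp.single A (2 : ℤ) - Finsupp.single P (1 : ℤ) -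
        Finsupp.single Q (1 : ℤ))
  have e : C - (C + Finsupp.single A (2 : ℤ) - Finsupp.single P (1 : ℤ) -
        Finsupp.single Q (1 : ℤ)) = Finsupp.single P (1 : ℤ) + Finsupp.single Q (1 : ℤ) -
        Finsupp.single A (2 : ℤ) := by abel
  rw [e] at h3
  unfold ell at h3
  rw [h2, deg_sub, deg_sub, deg_add, deg_single, deg_single, deg_single, hdC, hdA, hdP, hdQ] at h3
  have hpos : 0 < ell (Finsupp.single P (1 : ℤ) + Finsupp.single Q (1 : ℤ) -
        Finsupp.single A (2 : ℤ) : Divisor k K) := by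
    unfold ell
    push_cast at h3
    omega
  obtain ⟨z, hz0, hz⟩ := exists_div_eq_neg_of_ell_pos hK
    (by rw [deg_sub, deg_add, deg_single, deg_single, deg_single, hdA, hdP, hdQ]; norm_num) hpos
  have hzi : FunFld.div k z⁻¹ + Finsupp.single A (2 : ℤ) =
      Finsupp.single P (1 : ℤ) + Finsupp.single Q (1 : ℤ) := by
    rw [div_inv hK, hz]; abel
  have h0 := div_eq_zero_of_ell_eq_one hK (D := (Finsupp.single A (2 : ℤ) : Divisor k K))
    (Finsupp.single_nonneg.2 (by norm_num)) hA (inv_ne_zero hz0)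
    (by rw [hzi]; exact add_nonneg (Finsupp.single_nonneg.2 zero_le_one)
          (Finsupp.single_nonneg.2 zero_le_one))
  rw [h0, zero_add] at hzi
  have := DFunLike.congr_fun hzi Q
  simp only [Finsupp.add_apply, Finsupp.single_apply, ite_true, if_neg (Ne.symm hQ)] at this
  split_ifs at this <;> omega

/-- **S17250**. -/
theorem genus_two_no_two_four (A P Q : Place k K)
    (hA : Module.finrank k ↥(L (Finsupp.single A (2 : ℤ))) = 1) (hP : P ≠ A) :
    ¬ (Module.finrank k ↥(L (C + Finsupp.single A (3 : ℤ) - Finsupp.single P (1 : ℤ) -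
        Finsupp.single Q (4 : ℤ))) = 1 ∧
       Module.finrank k ↥(L (C + Finsupp.single A (3 : ℤ) - Finsupp.single P (1 : ℤ) -
        Finsupp.single Q (2 : ℤ))) = 2) := by
  classical
  rintro ⟨h1, h2⟩
  have hdA := deg_eq_one_of_isAlgClosed hK A
  have hdP := deg_eq_one_of_isAlgClosed hK P
  have hdQ := deg_eq_one_of_isAlgClosed hK Q
  have hdC := deg_canonical2 hK hg hC
  -- from `h2`
  have h3 := rr2 hK hg hC (C + Finsupp.single A (3 : ℤ) - Finsupp.single P (1 : ℤ) -
        Finsupp.single Q (2 : ℤ))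
  have e : C - (C + Finsupp.single A (3 : ℤ) - Finsupp.single P (1 : ℤ) -
        Finsupp.single Q (2 : ℤ)) = Finsupp.single P (1 : ℤ) + Finsupp.single Q (2 : ℤ) -
        Finsupp.single A (3 : ℤ) := by abel
  rw [e] at h3
  unfold ell at h3
  rw [h2, deg_sub, deg_sub, deg_add, deg_single, deg_single, deg_single, hdC, hdA, hdP, hdQ] at h3
  have hpos : 0 < ell (Finsupp.single P (1 : ℤ) + Finsupp.single Q (2 : ℤ) -
        Finsupp.single A (3 : ℤ) : Divisor k K) := by
    unfold ell
    push_cast at h3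
    omega
  obtain ⟨z₁, hz₁0, hz₁⟩ := exists_div_eq_neg_of_ell_pos hK
    (by rw [deg_sub, deg_add, deg_single, deg_single, deg_single, hdA, hdP, hdQ]; norm_num) hpos
  -- from `h1`
  obtain ⟨z₂, hz₂0, hz₂⟩ := exists_div_eq_neg_of_ell_pos hK
    (E := C + Finsupp.single A (3 : ℤ) - Finsupp.single P (1 : ℤ) - Finsupp.single Q (4 : ℤ))
    (by rw [deg_sub, deg_sub, deg_add, deg_single, deg_single, deg_single, hdC, hdA, hdP, hdQ]
        norm_num) (by unfold ell; omega)
  -- the conjugate of `A`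
  obtain ⟨z₃, A', hz₃0, hz₃⟩ := exists_conj hK hg hC A
  set w : K := (z₁ ^ 2)⁻¹ * z₂⁻¹ * z₃ with hw
  have hw0 : w ≠ 0 := mul_ne_zero (mul_ne_zero (inv_ne_zero (pow_ne_zero 2 hz₁0))
    (inv_ne_zero hz₂0)) hz₃0
  have hdivw : FunFld.div k w = -(2 • FunFld.div k z₁) - FunFld.div k z₂ + FunFld.div k z₃ := by
    rw [hw, div_mul hK (mul_ne_zero (inv_ne_zero (pow_ne_zero 2 hz₁0)) (inv_ne_zero hz₂0)) hz₃0,
      div_mul hK (inv_ne_zero (pow_ne_zero 2 hz₁0)) (inv_ne_zero hz₂0), div_inv hK, div_inv hK,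
      div_pow hK]
    abel
  have hsum : FunFld.div k w + Finsupp.single A (2 : ℤ) =
      Finsupp.single P (1 : ℤ) + Finsupp.single A' (1 : ℤ) := by
    rw [hdivw]
    ext T
    have e1 := DFunLike.congr_fun hz₁ T
    have e2 := DFunLike.congr_fun hz₂ T
    have e3 := DFunLike.congr_fun hz₃ T
    simp only [Finsupp.add_apply, Finsupp.sub_apply, Finsupp.neg_apply, Finsupp.smul_apply,
      Finsupp.single_apply, nsmul_eq_mul, Nat.cast_ofNat] at e1 e2 e3 ⊢
    split_ifs at e1 e2 e3 ⊢ <;> omega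
  have h0 := div_eq_zero_of_ell_eq_one hK (D := (Finsupp.single A (2 : ℤ) : Divisor k K))
    (Finsupp.single_nonneg.2 (by norm_num)) hA hw0
    (by rw [hsum]; exact add_nonneg (Finsupp.single_nonneg.2 zero_le_one)
          (Finsupp.single_nonneg.2 zero_le_one))
  rw [h0, zero_add] at hsum
  have := DFunLike.congr_fun hsum P
  simp only [Finsupp.add_apply, Finsupp.single_apply, ite_true, if_neg (Ne.symm hP)] at this
  split_ifs at this <;> omega

/-- **S17251**. -/
theorem genus_two_no_common_ramification (B Q : Place k K)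
    (hB : Module.finrank k ↥(L (Finsupp.single B (2 : ℤ))) = 1) (hQ : Q ≠ B) :
    ¬ (Module.finrank k ↥(L (C + Finsupp.single B (1 : ℤ) - Finsupp.single Q (2 : ℤ))) = 1 ∧
       Module.finrank k ↥(L (C + Finsupp.single B (3 : ℤ) - Finsupp.single Q (4 : ℤ))) = 1) := by
  classical
  rintro ⟨h1, h2⟩
  have hdB := deg_eq_one_of_isAlgClosed hK B
  have hdQ := deg_eq_one_of_isAlgClosed hK Q
  have hdC := deg_canonical2 hK hg hC
  -- from `h1`
  have h3 := rr2 hK hg hC (C + Finsupp.single B (1 : ℤ) - Finsupp.single Q (2 : ℤ))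
  have e : C - (C + Finsupp.single B (1 : ℤ) - Finsupp.single Q (2 : ℤ)) =
      Finsupp.single Q (2 : ℤ) - Finsupp.single B (1 : ℤ) := by abel
  rw [e] at h3
  unfold ell at h3
  rw [h1, deg_sub, deg_add, deg_single, deg_single, hdC, hdB, hdQ] at h3
  obtain ⟨z₁, R, hz₁0, -, hz₁⟩ := exists_div_add_eq_single hK
    (E := (Finsupp.single Q (2 : ℤ) - Finsupp.single B (1 : ℤ) : Divisor k K))
    (by rw [deg_sub, deg_single, deg_single, hdB, hdQ]; norm_num)
    (by unfold ell; push_cast at h3; omega)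
  -- from `h2`
  have h4 := rr2 hK hg hC (C + Finsupp.single B (3 : ℤ) - Finsupp.single Q (4 : ℤ))
  have e' : C - (C + Finsupp.single B (3 : ℤ) - Finsupp.single Q (4 : ℤ)) =
      Finsupp.single Q (4 : ℤ) - Finsupp.single B (3 : ℤ) := by abel
  rw [e'] at h4
  unfold ell at h4
  rw [h2, deg_sub, deg_add, deg_single, deg_single, hdC, hdB, hdQ] at h4
  obtain ⟨z₃, R', hz₃0, -, hz₃⟩ := exists_div_add_eq_single hK
    (E := (Finsupp.single Q (4 : ℤ) - Finsupp.single B (3 : ℤ) : Divisor k K))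
    (by rw [deg_sub, deg_single, deg_single, hdB, hdQ]; norm_num)
    (by unfold ell; push_cast at h4; omega)
  -- the conjugate of `B`
  obtain ⟨z₀, B', hz₀0, hz₀⟩ := exists_conj hK hg hC B
  have hdB' := deg_eq_one_of_isAlgClosed hK B'
  -- `B' ≠ B`
  have h2B := rr2 hK hg hC (Finsupp.single B (2 : ℤ))
  unfold ell at h2B
  rw [hB, deg_single, hdB] at h2B
  have hBB' : B' ≠ B := by
    rintro rfl
    have e2 : C - Finsupp.single B' (2 : ℤ) = 0 + FunFld.div k z₀⁻¹ := by
      rw [div_inv hK]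
      ext T
      have e3 := DFunLike.congr_fun hz₀ T
      simp only [Finsupp.add_apply, Finsupp.sub_apply, Finsupp.neg_apply,
        Finsupp.single_apply, Finsupp.coe_zero, Pi.zero_apply] at e3 ⊢
      split_ifs at e3 ⊢ <;> omega
    have h5 := ell_add_div hK (inv_ne_zero hz₀0) (0 : Divisor k K)
    rw [← e2, ell_zero hK] at h5
    unfold ell at h5
    rw [h5] at h2B
    norm_num at h2B
  -- `ℓ(2Q) = 2`, so `C ~ 2Q`
  have h2Q := rr2 hK hg hC (Finsupp.single Q (2 : ℤ))
  rw [deg_single, hdQ] at h2Q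
  have hCQ : 0 < ell (C - Finsupp.single Q (2 : ℤ)) := by
    by_contra hcon
    have hz : ell (C - Finsupp.single Q (2 : ℤ)) = 0 := by omega
    rw [hz] at h2Q
    have h2Q' : ell (Finsupp.single Q (2 : ℤ) : Divisor k K) = 1 := by
      push_cast at h2Q
      omega
    have hsum : FunFld.div k z₁ + Finsupp.single Q (2 : ℤ) =
        Finsupp.single B (1 : ℤ) + Finsupp.single R (1 : ℤ) := by
      rw [← hz₁]; abel
    have h0 := div_eq_zero_of_ell_eq_one hK (D := (Finsupp.single Q (2 : ℤ) : Divisor k K))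
      (Finsupp.single_nonneg.2 (by norm_num)) h2Q' hz₁0
      (by rw [hsum]; exact add_nonneg (Finsupp.single_nonneg.2 zero_le_one)
            (Finsupp.single_nonneg.2 zero_le_one))
    rw [h0, zero_add] at hsum
    have := DFunLike.congr_fun hsum B
    simp only [Finsupp.add_apply, Finsupp.single_apply, ite_true, if_neg hQ] at this
    split_ifs at this <;> omega
  obtain ⟨z₂, hz₂0, hz₂⟩ := exists_div_eq_neg_of_ell_pos hK
    (E := C - Finsupp.single Q (2 : ℤ))
    (by rw [deg_sub, deg_single, hdC, hdQ]; norm_num) hCQ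
  -- `ℓ(2B') = 1`
  have h2B' := rr2 hK hg hC (Finsupp.single B' (2 : ℤ))
  rw [deg_single, hdB'] at h2B'
  have hCB' : ell (C - Finsupp.single B' (2 : ℤ)) = 0 := by
    by_contra hcon
    obtain ⟨u, hu0, hu⟩ := exists_div_eq_neg_of_ell_pos hK
      (E := C - Finsupp.single B' (2 : ℤ))
      (by rw [deg_sub, deg_single, hdC, hdB']; norm_num) (by omega)
    have hv0 : u * z₀⁻¹ ≠ 0 := mul_ne_zero hu0 (inv_ne_zero hz₀0)
    have hv : (Finsupp.single B' 1 - Finsupp.single B 1 : Divisor k K) =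
        FunFld.div k (u * z₀⁻¹) := by
      rw [div_mul hK hu0 (inv_ne_zero hz₀0), div_inv hK, hu]
      ext T
      have e3 := DFunLike.congr_fun hz₀ T
      simp only [Finsupp.add_apply, Finsupp.sub_apply, Finsupp.neg_apply,
        Finsupp.single_apply] at e3 ⊢
      split_ifs at e3 ⊢ <;> omega
    exact hBB' (place_eq_of_linearly_equiv hK (by rw [hg]; norm_num) hdB hv0 hv)
  have hℓ2B' : ell (Finsupp.single B' (2 : ℤ) : Divisor k K) = 1 := by
    rw [hCB'] at h2B'
    push_cast at h2B'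
    omega
  -- combine
  set w : K := (z₀ ^ 2)⁻¹ * z₂ ^ 2 * z₃ with hw
  have hw0 : w ≠ 0 := mul_ne_zero (mul_ne_zero (inv_ne_zero (pow_ne_zero 2 hz₀0))
    (pow_ne_zero 2 hz₂0)) hz₃0
  have hdivw : FunFld.div k w = -(2 • FunFld.div k z₀) + 2 • FunFld.div k z₂ + FunFld.div k z₃ := by
    rw [hw, div_mul hK (mul_ne_zero (inv_ne_zero (pow_ne_zero 2 hz₀0)) (pow_ne_zero 2 hz₂0)) hz₃0,
      div_mul hK (inv_ne_zero (pow_ne_zero 2 hz₀0)) (pow_ne_zero 2 hz₂0), div_inv hK,
      div_pow hK, div_pow hK]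
  have hsum : FunFld.div k w + Finsupp.single B' (2 : ℤ) =
      Finsupp.single B (1 : ℤ) + Finsupp.single R' (1 : ℤ) := by
    rw [hdivw]
    ext T
    have e1 := DFunLike.congr_fun hz₀ T
    have e2 := DFunLike.congr_fun hz₂ T
    have e3 := DFunLike.congr_fun hz₃ T
    simp only [Finsupp.add_apply, Finsupp.sub_apply, Finsupp.neg_apply, Finsupp.smul_apply,
      Finsupp.single_apply, nsmul_eq_mul, Nat.cast_ofNat] at e1 e2 e3 ⊢
    split_ifs at e1 e2 e3 ⊢ <;> omega
  have h0 := div_eq_zero_of_ell_eq_one hK (D := (Finsupp.single B' (2 : ℤ) : Divisor k K))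
    (Finsupp.single_nonneg.2 (by norm_num)) hℓ2B' hw0
    (by rw [hsum]; exact add_nonneg (Finsupp.single_nonneg.2 zero_le_one)
          (Finsupp.single_nonneg.2 zero_le_one))
  rw [h0, zero_add] at hsum
  have := DFunLike.congr_fun hsum B
  simp only [Finsupp.add_apply, Finsupp.single_apply, ite_true, if_neg hBB'] at this
  split_ifs at this <;> omega

end GenusTwo

end Groth.Agent.Lib.Helper88.FF
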