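/-
Linear systems without special ramification points: two-point linear algebra (S16265, S16266).
Author: helper88
-/
import Groth.Agent.Lib.Helper88.FunFldLinSeries2

set_option autoImplicit false
set_option linter.unusedSectionVars false

namespace Groth.Agent.Lib.Helper88.FF

open FunFld WithZero

variable {k K : Type*} [Field k] [Field K] [Algebra k K]

lemma two_point_inf {P Q : Place k K} (hPQ : P ≠ Q) (D : Divisor k K) (m n m' n' : ℤ) :
    (D - Finsupp.single P m - Finsupp.single Q n) ⊓ (D - Finsupp.single P m' - Finsupp.single Q n') =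
      D - Finsupp.single P (max m m') - Finsupp.single Q (max n n') := by
  classical
  ext T
  rw [Finsupp.inf_apply]
  simp only [Finsupp.sub_apply, Finsupp.single_apply]
  split_ifs with h1 h2 <;> first | omega | exact absurd (h1.trans h2.symm) hPQ

lemma two_point_mono {P Q : Place k K} (D : Divisor k K) {m n m' n' : ℤ} (hm : m ≤ m')
    (hn : n ≤ n') :
    D - Finsupp.single P m' - Finsupp.single Q n' ≤ D - Finsupp.single P m - Finsupp.single Q n := by
  have h1 : (Finsupp.single P m : Divisor k K) ≤ Finsupp.single P m' := Finsupp.single_le_single.2 hm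
  have h2 : (Finsupp.single Q n : Divisor k K) ≤ Finsupp.single Q n' := Finsupp.single_le_single.2 hn
  exact sub_le_sub (sub_le_sub_left h1 D) h2

section AlgClosed

variable [IsAlgClosed k] (hK : IsFunctionField k K)
include hK

/-- **S16265**. -/
theorem two_point_weight_iff (D : Divisor k K) (V : Submodule k K) (P Q : Place k K) (hPQ : P ≠ Q)
    (a b : ℤ) :
    ((2 ≤ Module.finrank k ↥(V ⊓ L (D - Finsupp.single P a - Finsupp.single Q (b - 1))) ∨
        1 ≤ Module.finrank k ↥(V ⊓ L (D - Finsupp.single P a - Finsupp.single Q (b + 1)))) ∧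
      (2 ≤ Module.finrank k ↥(V ⊓ L (D - Finsupp.single P (a - 1) - Finsupp.single Q b)) ∨
        1 ≤ Module.finrank k ↥(V ⊓ L (D - Finsupp.single P (a + 1) - Finsupp.single Q b)))) ↔
    (1 ≤ Module.finrank k ↥(V ⊓ L (D - Finsupp.single P (a + 1) - Finsupp.single Q (b + 1))) ∨
      3 ≤ Module.finrank k ↥(V ⊓ L (D - Finsupp.single P (a - 1) - Finsupp.single Q (b - 1))) ∨
      (1 ≤ Module.finrank k ↥(V ⊓ L (D - Finsupp.single P a - Finsupp.single Q (b + 1))) ∧
        2 ≤ Module.finrank k ↥(V ⊓ L (D - Finsupp.single P (a - 1) - Finsupp.single Q b))) ∨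
      (1 ≤ Module.finrank k ↥(V ⊓ L (D - Finsupp.single P (a + 1) - Finsupp.single Q b)) ∧
        2 ≤ Module.finrank k ↥(V ⊓ L (D - Finsupp.single P a - Finsupp.single Q (b - 1))))) := by
  classical
  have hdP := deg_eq_one_of_isAlgClosed hK P
  have hdQ := deg_eq_one_of_isAlgClosed hK Q
  set W : ℤ → ℤ → Submodule k K := fun m n =>
    V ⊓ L (D - Finsupp.single P m - Finsupp.single Q n) with hW
  have hfd : ∀ m n, FiniteDimensional k ↥(W m n) := by
    intro m n
    have := finiteDimensional_L hK (D - Finsupp.single P m - Finsupp.single Q n)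
    exact Submodule.finiteDimensional_of_le inf_le_right
  have hmono : ∀ {m n m' n' : ℤ}, m ≤ m' → n ≤ n' → W m' n' ≤ W m n := by
    intro m n m' n' hm hn
    exact inf_le_inf_left V (L_mono (two_point_mono D hm hn))
  have hmonod : ∀ {m n m' n' : ℤ}, m ≤ m' → n ≤ n' →
      Module.finrank k ↥(W m' n') ≤ Module.finrank k ↥(W m n) := by
    intro m n m' n' hm hn
    exact Submodule.finrank_mono (hmono hm hn)
  have hinf : ∀ m n m' n' : ℤ, W m n ⊓ W m' n' = W (max m m') (max n n') := by
    intro m n m' n'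
    simp only [hW]
    rw [inf_inf_inf_comm, inf_idem, L_inf, two_point_inf hPQ]
  have hstepP : ∀ m n : ℤ, Module.finrank k ↥(W m n) ≤ Module.finrank k ↥(W (m + 1) n) + 1 := by
    intro m n
    have h1 := finrank_inf_step_le hK V (D - Finsupp.single P m - Finsupp.single Q n) P
    have e : D - Finsupp.single P m - Finsupp.single Q n - Finsupp.single P 1 =
        D - Finsupp.single P (m + 1) - Finsupp.single Q n := by
      rw [Finsupp.single_add]; abel
    rw [e, hdP] at h1
    exact h1
  have hfull : ∀ {m n m' n' : ℤ}, m ≤ m' → n ≤ n' →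
      Module.finrank k ↥(W m n) ≤ Module.finrank k ↥(W m' n') → W m' n' = W m n := by
    intro m n m' n' hm hn hle
    exact Submodule.eq_of_le_of_finrank_le (hmono hm hn) hle
  show ((2 ≤ Module.finrank k ↥(W a (b - 1)) ∨ 1 ≤ Module.finrank k ↥(W a (b + 1))) ∧
      (2 ≤ Module.finrank k ↥(W (a - 1) b) ∨ 1 ≤ Module.finrank k ↥(W (a + 1) b))) ↔
    (1 ≤ Module.finrank k ↥(W (a + 1) (b + 1)) ∨ 3 ≤ Module.finrank k ↥(W (a - 1) (b - 1)) ∨
      (1 ≤ Module.finrank k ↥(W a (b + 1)) ∧ 2 ≤ Module.finrank k ↥(W (a - 1) b)) ∨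
      (1 ≤ Module.finrank k ↥(W (a + 1) b) ∧ 2 ≤ Module.finrank k ↥(W a (b - 1))))
  constructor
  · rintro ⟨hX, hY⟩
    rcases hX with hX1 | hX2 <;> rcases hY with hY1 | hY2
    · -- X1 ∧ Y1
      by_cases h3 : 3 ≤ Module.finrank k ↥(W (a - 1) (b - 1))
      · exact Or.inr (Or.inl h3)
      · push Not at h3
        have e1 : W a (b - 1) = W (a - 1) (b - 1) :=
          hfull (by omega) le_rfl (by omega)
        have e2 : W (a - 1) b = W (a - 1) (b - 1) :=
          hfull le_rfl (by omega) (by omega)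
        have e3 : W a b = W (a - 1) (b - 1) := by
          have := hinf a (b - 1) (a - 1) b
          rw [e1, e2, inf_idem, max_eq_left (by omega), max_eq_right (by omega)] at this
          exact this.symm
        have h4 := hstepP a b
        rw [e3, ← e1] at h4
        exact Or.inr (Or.inr (Or.inr ⟨by omega, hX1⟩))
    · exact Or.inr (Or.inr (Or.inr ⟨hY2, hX1⟩))
    · exact Or.inr (Or.inr (Or.inl ⟨hX2, hY1⟩))
    · -- X2 ∧ Y2
      by_cases h2 : 2 ≤ Module.finrank k ↥(W a b)
      · have := hmonod (m := a) (n := b - 1) (m' := a) (n' := b) le_rfl (by omega)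
        exact Or.inr (Or.inr (Or.inr ⟨hY2, by omega⟩))
      · push Not at h2
        have e1 : W a (b + 1) = W a b := hfull le_rfl (by omega) (by omega)
        have e2 : W (a + 1) b = W a b := hfull (by omega) le_rfl (by omega)
        have e3 : W (a + 1) (b + 1) = W a b := by
          have := hinf a (b + 1) (a + 1) b
          rw [e1, e2, inf_idem, max_eq_right (by omega), max_eq_left (by omega)] at this
          exact this.symm
        rw [← e3] at e1
        rw [← e1]
        exact Or.inl hX2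
  · rintro (h | h | ⟨h1, h2⟩ | ⟨h1, h2⟩)
    · have h1 := hmonod (m := a) (n := b + 1) (m' := a + 1) (n' := b + 1) (by omega) le_rfl
      have h2 := hmonod (m := a + 1) (n := b) (m' := a + 1) (n' := b + 1) le_rfl (by omega)
      exact ⟨Or.inr (by omega), Or.inr (by omega)⟩
    · have h1 := hstepP (a - 1) (b - 1)
      rw [sub_add_cancel] at h1
      -- the `Q`-step, by symmetry
      have h2 : Module.finrank k ↥(W (a - 1) (b - 1)) ≤ Module.finrank k ↥(W (a - 1) b) + 1 := by
        have h1 := finrank_inf_step_le hK V (D - Finsupp.single P (a - 1) - Finsupp.single Q (b - 1)) Q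
        have e : D - Finsupp.single P (a - 1) - Finsupp.single Q (b - 1) - Finsupp.single Q 1 =
            D - Finsupp.single P (a - 1) - Finsupp.single Q b := by
          have : (Finsupp.single Q b : Divisor k K) =
              Finsupp.single Q (b - 1) + Finsupp.single Q 1 := by
            rw [← Finsupp.single_add, sub_add_cancel]
          rw [this]; abel
        rw [e, hdQ] at h1
        exact h1
      exact ⟨Or.inl (by omega), Or.inl (by omega)⟩
    · exact ⟨Or.inr h1, Or.inl h2⟩
    · exact ⟨Or.inl h2, Or.inr h1⟩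

/-- **S16266**. -/
theorem no_common_ramification (D : Divisor k K) (V : Submodule k K) (r : ℕ)
    (P : Place k K)
    (hns : ∀ R : Place k K,
      Module.finrank k ↥(V ⊓ L (D - Finsupp.single R (r : ℤ))) ≤ 1)
    (hns' : ∀ R : Place k K,
        V ⊓ L (D - Finsupp.single P 1 - Finsupp.single R ((r : ℤ) + 1)) = ⊥)
    (Q : Place k K) (hQP : Q ≠ P) :
    ¬ (V ⊓ L (D - Finsupp.single Q ((r : ℤ) + 1)) ≠ ⊥ ∧
       V ⊓ L (D - Finsupp.single P 1 - Finsupp.single Q (r : ℤ)) ≠ ⊥) := by
  classical
  rintro ⟨h1, h2⟩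
  obtain ⟨f, hf, hf0⟩ := Submodule.exists_mem_ne_zero_of_ne_bot h1
  obtain ⟨h, hh, hh0⟩ := Submodule.exists_mem_ne_zero_of_ne_bot h2
  have hfd : FiniteDimensional k ↥(V ⊓ L (D - Finsupp.single Q (r : ℤ))) := by
    have := finiteDimensional_L hK (D - Finsupp.single Q (r : ℤ))
    exact Submodule.finiteDimensional_of_le inf_le_right
  have hle1 : V ⊓ L (D - Finsupp.single Q ((r : ℤ) + 1)) ≤ V ⊓ L (D - Finsupp.single Q (r : ℤ)) :=
    inf_le_inf_left V (L_mono (sub_le_sub_left (Finsupp.single_le_single.2 (by omega)) D))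
  have hle2 : V ⊓ L (D - Finsupp.single P 1 - Finsupp.single Q (r : ℤ)) ≤
      V ⊓ L (D - Finsupp.single Q (r : ℤ)) := by
    apply inf_le_inf_left V (L_mono _)
    have : (0 : Divisor k K) ≤ Finsupp.single P 1 := Finsupp.single_nonneg.2 zero_le_one
    exact sub_le_sub_right (sub_le_self D this) _
  have hf' := hle1 hf
  have hh' := hle2 hh
  -- `f` is a multiple of `h`
  have hne : (⟨h, hh'⟩ : ↥(V ⊓ L (D - Finsupp.single Q (r : ℤ)))) ≠ 0 :=
    fun e => hh0 (congrArg Subtype.val e)
  have hrk : Module.finrank k ↥(V ⊓ L (D - Finsupp.single Q (r : ℤ))) = 1 := by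
    have h3 := hns Q
    have h4 : 0 < Module.finrank k ↥(V ⊓ L (D - Finsupp.single Q (r : ℤ))) :=
      Module.finrank_pos_iff.2 ⟨⟨⟨h, hh'⟩, 0, hne⟩⟩
    omega
  obtain ⟨c, hc⟩ := (finrank_eq_one_iff_of_nonzero' _ hne).1 hrk ⟨f, hf'⟩
  have hc' : c • h = f := congrArg Subtype.val hc
  have hf2 : f ∈ V ⊓ L (D - Finsupp.single P 1 - Finsupp.single Q (r : ℤ)) := by
    rw [← hc']
    exact Submodule.smul_mem _ c hh
  have hf3 : f ∈ V ⊓ L (D - Finsupp.single P 1 - Finsupp.single Q ((r : ℤ) + 1)) := by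
    refine ⟨hf.1, ?_⟩
    have h5 : f ∈ L (D - Finsupp.single P 0 - Finsupp.single Q ((r : ℤ) + 1)) ⊓
        L (D - Finsupp.single P 1 - Finsupp.single Q (r : ℤ)) := by
      refine ⟨?_, hf2.2⟩
      rw [Finsupp.single_zero, sub_zero]
      exact hf.2
    rw [L_inf, two_point_inf (Ne.symm hQP), max_eq_right (by norm_num), max_eq_left (by omega)] at h5
    exact h5
  rw [hns' Q] at hf3
  exact hf0 ((Submodule.mem_bot k).1 hf3)

end AlgClosed

end Groth.Agent.Lib.Helper88.FF
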