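import Groth.Agent.Lib.Helper25.DCompTri
import Groth.Agent.Lib.Helper25.DCompRefl
import Mathlib.CategoryTheory.Linear.LinearFunctor
import Mathlib.CategoryTheory.Shift.Linear

/-!
# Orthogonality and dévissage along cones of `f • 𝟙` in linear pretriangulated categories
-/

set_option autoImplicit false
universe u

namespace Groth.Agent.Lib.Helper88.GM1

open CategoryTheory CategoryTheory.Limits CategoryTheory.Pretriangulated

section Tri

variable {C : Type*} [Category C] [Preadditive C] [HasZeroObject C] [HasShift C ℤ]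
  [∀ n : ℤ, (shiftFunctor C n).Additive] [Pretriangulated C]

theorem subsingleton_shift_iff {X Y : C} (a b : ℤ) (h : a + b = 0) :
    Subsingleton (X⟦a⟧ ⟶ Y) ↔ Subsingleton (X ⟶ Y⟦b⟧) :=
  Equiv.subsingleton_congr ((shiftEquiv' C a b h).toAdjunction.homEquiv X Y)

/-- objects receiving no map from an object of `S` -/
def RightOrth (S : C → Prop) (L : C) : Prop := ∀ T, S T → Subsingleton (T ⟶ L)

/-- objects with no map to an object of `S` -/
def LeftOrth (S : C → Prop) (L : C) : Prop := ∀ M, S M → Subsingleton (L ⟶ M)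

variable (S : C → Prop) (hS : ∀ (X : C) (n : ℤ), S X → S (X⟦n⟧))

theorem isZero_of_rightOrth {X : C} (h : RightOrth S X) (hX : S X) : IsZero X := by
  rw [IsZero.iff_id_eq_zero]
  exact (h X hX).elim _ _

theorem isZero_of_leftOrth {X : C} (h : LeftOrth S X) (hX : S X) : IsZero X := by
  rw [IsZero.iff_id_eq_zero]
  exact (h X hX).elim _ _

theorem rightOrth_of_isZero {X : C} (h : IsZero X) : RightOrth S X :=
  fun _ _ => ⟨fun a b => h.eq_of_tgt a b⟩

theorem leftOrth_of_isZero {X : C} (h : IsZero X) : LeftOrth S X :=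
  fun _ _ => ⟨fun a b => h.eq_of_src a b⟩

include hS in
theorem rightOrth_cone (T : Triangle C) (hT : T ∈ distTriang C)
    (h₁ : RightOrth S T.obj₁) (h₂ : RightOrth S T.obj₂) : RightOrth S T.obj₃ := by
  intro L hL
  have key : ∀ g : L ⟶ T.obj₃, g = 0 := by
    intro g
    have h1 : Subsingleton (L ⟶ T.obj₁⟦(1 : ℤ)⟧) :=
      (subsingleton_shift_iff (-1) 1 (by omega)).1 (h₁ _ (hS L (-1) hL))
    have h0 : g ≫ T.mor₃ = 0 := h1.elim _ _
    obtain ⟨g', hg'⟩ := Triangle.coyoneda_exact₃ T hT g h0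
    have : g' = 0 := (h₂ L hL).elim _ _
    rw [hg', this, zero_comp]
  exact ⟨fun a b => by rw [key a, key b]⟩

include hS in
theorem leftOrth_cone (T : Triangle C) (hT : T ∈ distTriang C)
    (h₁ : LeftOrth S T.obj₁) (h₂ : LeftOrth S T.obj₂) : LeftOrth S T.obj₃ := by
  intro M hM
  have key : ∀ g : T.obj₃ ⟶ M, g = 0 := by
    intro g
    have h0 : T.mor₂ ≫ g = 0 := (h₂ M hM).elim _ _
    obtain ⟨g', hg'⟩ := Triangle.yoneda_exact₃ T hT g h0
    have h1 : Subsingleton (T.obj₁⟦(1 : ℤ)⟧ ⟶ M) :=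
      (subsingleton_shift_iff 1 (-1) (by omega)).2 (h₁ _ (hS M (-1) hM))
    have : g' = 0 := h1.elim _ _
    rw [hg', this, comp_zero]
  exact ⟨fun a b => by rw [key a, key b]⟩

include hS in
/-- if the cone of `mor₁` is right orthogonal to `S`, postcomposition with `mor₁` is bijective
on maps from objects of `S` -/
theorem bijective_postcomp (T : Triangle C) (hT : T ∈ distTriang C)
    (h₃ : RightOrth S T.obj₃) (L : C) (hL : S L) :
    Function.Bijective (fun φ : L ⟶ T.obj₁ => φ ≫ T.mor₁) := by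
  constructor
  · intro a b hab
    have hab' : a ≫ T.mor₁ = b ≫ T.mor₁ := hab
    have h0 : (a - b) ≫ T.invRotate.mor₂ = 0 := by
      change (a - b) ≫ T.mor₁ = 0
      rw [Preadditive.sub_comp, hab', sub_self]
    obtain ⟨g, hg⟩ := Triangle.coyoneda_exact₂ _ (inv_rot_of_distTriang _ hT) (a - b) h0
    have h1 : Subsingleton (L ⟶ T.obj₃⟦(-1 : ℤ)⟧) :=
      (subsingleton_shift_iff 1 (-1) (by omega)).1 (h₃ _ (hS L 1 hL))
    have : g = 0 := h1.elim _ _
    rw [this, zero_comp] at hg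
    exact sub_eq_zero.1 hg
  · intro ψ
    have h0 : ψ ≫ T.mor₂ = 0 := (h₃ L hL).elim _ _
    obtain ⟨g, hg⟩ := Triangle.coyoneda_exact₂ T hT ψ h0
    exact ⟨g, hg.symm⟩

include hS in
/-- if the cone of `mor₁` is left orthogonal to `S`, precomposition with `mor₁` is bijective
on maps to objects of `S` -/
theorem bijective_precomp (T : Triangle C) (hT : T ∈ distTriang C)
    (h₃ : LeftOrth S T.obj₃) (M : C) (hM : S M) :
    Function.Bijective (fun φ : T.obj₂ ⟶ M => T.mor₁ ≫ φ) := by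
  constructor
  · intro a b hab
    have hab' : T.mor₁ ≫ a = T.mor₁ ≫ b := hab
    have h0 : T.mor₁ ≫ (a - b) = 0 := by
      rw [Preadditive.comp_sub, hab', sub_self]
    obtain ⟨g, hg⟩ := Triangle.yoneda_exact₂ T hT (a - b) h0
    have : g = 0 := (h₃ M hM).elim _ _
    rw [this, comp_zero] at hg
    exact sub_eq_zero.1 hg
  · intro ψ
    have h1 : Subsingleton (T.obj₃⟦(-1 : ℤ)⟧ ⟶ M) :=
      (subsingleton_shift_iff (-1) 1 (by omega)).2 (h₃ _ (hS M 1 hM))
    have h0 : T.invRotate.mor₁ ≫ ψ = 0 := h1.elim _ _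
    obtain ⟨g, hg⟩ := Triangle.yoneda_exact₂ _ (inv_rot_of_distTriang _ hT) ψ h0
    exact ⟨g, hg.symm⟩

include hS in
/-- converse of `bijective_postcomp` -/
theorem rightOrth_obj₃ (T : Triangle C) (hT : T ∈ distTriang C)
    (h : ∀ L, S L → Function.Bijective (fun φ : L ⟶ T.obj₁ => φ ≫ T.mor₁)) :
    RightOrth S T.obj₃ := by
  intro L hL
  exact Groth.Agent.Lib.Helper25.DCompTri.subsingleton_hom_obj₃ T hT L (L⟦(-1 : ℤ)⟧)
    (Iso.refl _) (h L hL).2 (h _ (hS L (-1) hL)).1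

include hS in
/-- converse of `bijective_precomp` -/
theorem leftOrth_obj₃ (T : Triangle C) (hT : T ∈ distTriang C)
    (h : ∀ M, S M → Function.Bijective (fun φ : T.obj₂ ⟶ M => T.mor₁ ≫ φ)) :
    LeftOrth S T.obj₃ := by
  intro M hM
  have key : ∀ g : T.obj₃ ⟶ M, g = 0 := by
    intro g
    have h0 : T.mor₂ ≫ g = 0 := by
      apply (h M hM).1
      change T.mor₁ ≫ T.mor₂ ≫ g = T.mor₁ ≫ 0
      rw [← Category.assoc, comp_distTriang_mor_zero₁₂ T hT, zero_comp, comp_zero]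
    obtain ⟨g', hg'⟩ := Triangle.yoneda_exact₃ T hT g h0
    let adj := (shiftEquiv' C (1 : ℤ) (-1) (by omega)).toAdjunction
    obtain ⟨k, hk⟩ := (h _ (hS M (-1) hM)).2 (adj.homEquiv _ _ g')
    have hk' : T.mor₁ ≫ k = adj.homEquiv _ _ g' := hk
    have h2 : g' = T.mor₁⟦(1 : ℤ)⟧' ≫ (adj.homEquiv _ _).symm k := by
      have := adj.homEquiv_naturality_left_symm T.mor₁ k
      have h3 : (adj.homEquiv T.obj₁ M).symm (T.mor₁ ≫ k) = g' :=
        (congrArg (adj.homEquiv T.obj₁ M).symm hk').trans (Equiv.symm_apply_apply _ _)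
      exact h3.symm.trans this
    rw [hg', h2, ← Category.assoc, comp_distTriang_mor_zero₃₁ T hT, zero_comp]
  exact ⟨fun a b => by rw [key a, key b]⟩

end Tri

section Lin

variable {A : Type u} [CommRing A]
variable {C : Type*} [Category C] [Preadditive C] [HasZeroObject C] [HasShift C ℤ]
  [∀ n : ℤ, (shiftFunctor C n).Additive] [Pretriangulated C] [Linear A C]
  [∀ n : ℤ, (shiftFunctor C n).Linear A]

/-- `a` acts nilpotently on `X` -/
def Nil (a : A) (X : C) : Prop := ∃ k : ℕ, a ^ k • 𝟙 X = 0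

omit [∀ (n : ℤ), (shiftFunctor C n).Linear A] in
theorem sq_zero_of_triangle (T : Triangle C) (hT : T ∈ distTriang C) (b : A)
    (hv : T.mor₂ ≫ (b • 𝟙 T.obj₃) = 0) (hw : (b • 𝟙 T.obj₃) ≫ T.mor₃ = 0) :
    (b * b) • 𝟙 T.obj₃ = 0 := by
  obtain ⟨h, hh⟩ := Triangle.yoneda_exact₃ T hT _ hv
  have : (b * b) • 𝟙 T.obj₃ = (b • 𝟙 T.obj₃) ≫ (b • 𝟙 T.obj₃) := by
    rw [Linear.smul_comp, Category.id_comp, smul_smul]
  rw [this]
  nth_rw 2 [hh]
  rw [← Category.assoc, hw, zero_comp]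

theorem nil_cone_self (f : A) {X Z : C} (v : X ⟶ Z) (w : Z ⟶ X⟦(1 : ℤ)⟧)
    (hT : Triangle.mk (f • 𝟙 X) v w ∈ distTriang C) : Nil f Z := by
  refine ⟨2, ?_⟩
  rw [pow_two]
  refine sq_zero_of_triangle _ hT f ?_ ?_
  · change v ≫ (f • 𝟙 Z) = 0
    have h := comp_distTriang_mor_zero₁₂ _ hT
    change (f • 𝟙 X) ≫ v = 0 at h
    rw [Linear.comp_smul, Category.comp_id, ← Category.id_comp v, ← Linear.smul_comp, h]
  · change (f • 𝟙 Z) ≫ w = 0
    have h := comp_distTriang_mor_zero₃₁ _ hT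
    change w ≫ (f • 𝟙 X)⟦(1 : ℤ)⟧' = 0 at h
    rw [CategoryTheory.Functor.map_smul, CategoryTheory.Functor.map_id, Linear.comp_smul,
      Category.comp_id] at h
    rw [Linear.smul_comp, Category.id_comp, h]

theorem nil_cone_of_nil (a : A) {X Z : C} (u : X ⟶ X) (v : X ⟶ Z) (w : Z ⟶ X⟦(1 : ℤ)⟧)
    (hT : Triangle.mk u v w ∈ distTriang C) (h : Nil a X) : Nil a Z := by
  obtain ⟨k, hk⟩ := h
  refine ⟨k + k, ?_⟩
  rw [pow_add]
  refine sq_zero_of_triangle _ hT (a ^ k) ?_ ?_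
  · change v ≫ (a ^ k • 𝟙 Z) = 0
    rw [Linear.comp_smul, Category.comp_id, ← Category.id_comp v, ← Linear.smul_comp, hk,
      zero_comp]
  · change (a ^ k • 𝟙 Z) ≫ w = 0
    have : w ≫ (a ^ k • 𝟙 X)⟦(1 : ℤ)⟧' = 0 := by rw [hk, Functor.map_zero, comp_zero]
    rw [CategoryTheory.Functor.map_smul, CategoryTheory.Functor.map_id, Linear.comp_smul,
      Category.comp_id] at this
    rw [Linear.smul_comp, Category.id_comp, this]

theorem devissage_aux (P Q : C → Prop)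
    (hcone : ∀ (f : A) (X Z : C) (v : X ⟶ Z) (w : Z ⟶ X⟦(1 : ℤ)⟧),
      Triangle.mk (f • 𝟙 X) v w ∈ distTriang C → P X → P Z) :
    ∀ (l : List A) (N : C → Prop)
      (_ : ∀ (f : A) (X Z : C) (v : X ⟶ Z) (w : Z ⟶ X⟦(1 : ℤ)⟧),
        Triangle.mk (f • 𝟙 X) v w ∈ distTriang C → N X → N Z)
      (_ : ∀ f ∈ l, ∀ (X Z : C) (v : X ⟶ Z) (w : Z ⟶ X⟦(1 : ℤ)⟧),
        Triangle.mk (f • 𝟙 X) v w ∈ distTriang C → Q Z → Q X)
      (_ : ∀ X, P X → N X → (∀ a ∈ l, Nil a X) → Q X), ∀ X, P X → N X → Q X := by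
  intro l
  induction l with
  | nil =>
    intro N _ _ hP1 X hX hN
    exact hP1 X hX hN (by simp)
  | cons f l ih =>
    intro N hN hP2 hP1 X hX hNX
    obtain ⟨Z, v, w, hT⟩ := distinguished_cocone_triangle (f • 𝟙 X)
    apply hP2 f (List.mem_cons_self) X Z v w hT
    refine ih (fun Y => N Y ∧ Nil f Y) ?_ ?_ ?_ Z (hcone f X Z v w hT hX)
      ⟨hN f X Z v w hT hNX, nil_cone_self f v w hT⟩
    · intro g Y Y' v' w' hT' hY
      exact ⟨hN g Y Y' v' w' hT' hY.1, nil_cone_of_nil f _ v' w' hT' hY.2⟩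
    · intro g hg
      exact hP2 g (List.mem_cons_of_mem _ hg)
    · intro Y hY hNY hl
      refine hP1 Y hY hNY.1 ?_
      intro a ha
      rcases List.mem_cons.1 ha with rfl | ha
      · exact hNY.2
      · exact hl a ha

/-- Dévissage: to show `P ⊆ Q` it suffices to treat the objects on which all `a ∈ l` are
nilpotent, provided `P` is stable under cones of `f • 𝟙` and `Q` descends along such cones. -/
theorem devissage (P Q : C → Prop)
    (hcone : ∀ (f : A) (X Z : C) (v : X ⟶ Z) (w : Z ⟶ X⟦(1 : ℤ)⟧),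
      Triangle.mk (f • 𝟙 X) v w ∈ distTriang C → P X → P Z)
    (l : List A)
    (hP2 : ∀ f ∈ l, ∀ (X Z : C) (v : X ⟶ Z) (w : Z ⟶ X⟦(1 : ℤ)⟧),
        Triangle.mk (f • 𝟙 X) v w ∈ distTriang C → Q Z → Q X)
    (hP1 : ∀ X, P X → (∀ a ∈ l, Nil a X) → Q X) : ∀ X, P X → Q X := by
  intro X hX
  exact devissage_aux P Q hcone l (fun _ => True) (fun _ _ _ _ _ _ _ => trivial) hP2
    (fun X hX _ hl => hP1 X hX hl) X hX trivial

end Lin

end Groth.Agent.Lib.Helper88.GM1
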