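import Groth.Agent.Lib.Helper88.GM1
import Groth.Agent.Lib.Helper89.RGI8
import Groth.Agent.Lib.Helper25.DerCompleteHom2

/-!
# Torsion and derived complete objects of `D(A)`: shifts, nilpotent endomorphisms
-/

set_option autoImplicit false
universe u

namespace Groth.Agent.Lib.Helper88.GM2

open CategoryTheory CategoryTheory.Limits CategoryTheory.Pretriangulated DerivedCategory
open DRing Groth.Agent.Lib.Helper88.GM1

attribute [local instance] HasDerivedCategory.standard

variable {A : Type u} [CommRing A] (I : Ideal A)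

/-- objects of `D(A)` with `I`-power torsion cohomology -/
def Tors (K : Dual.D A) : Prop :=
  ∀ (i : ℤ) (m : (homologyFunctor (ModuleCat.{u} A) i).obj K),
    m ∈ torsionSub I ((homologyFunctor (ModuleCat.{u} A) i).obj K)

theorem tors_shift (K : Dual.D A) (n : ℤ) (hK : Tors I K) : Tors I (K⟦n⟧) := by
  intro i
  exact Helper89.RGI.torsion_of_iso I
    (((homologyFunctor (ModuleCat.{u} A) 0).shiftIso n i (n + i) rfl).app K) (hK (n + i))

theorem comp_shift (K : Dual.D A) (n : ℤ) (hK : IsDerivedComplete I K) :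
    IsDerivedComplete I (K⟦n⟧) := by
  intro f hf
  exact Groth.Agent.Lib.Helper25.DCompTri.Orth.shift (hK f hf) n

theorem homology_map_smul (K : Dual.D A) (a : A) (i : ℤ) :
    (homologyFunctor (ModuleCat.{u} A) i).map (a • 𝟙 K) =
      a • 𝟙 ((homologyFunctor (ModuleCat.{u} A) i).obj K) := by
  let P := Q.objPreimage K
  let e : Q.obj P ≅ K := Q.objObjPreimageIso K
  have h1 : a • 𝟙 K = e.inv ≫ Q.map (a • 𝟙 P) ≫ e.hom := by
    rw [CategoryTheory.Functor.map_smul, CategoryTheory.Functor.map_id, Linear.smul_comp,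
      Category.id_comp, Linear.comp_smul, e.inv_hom_id]
  have h2 : (homologyFunctor (ModuleCat.{u} A) i).map (Q.map (a • 𝟙 P)) =
      a • 𝟙 _ := by
    have := (homologyFunctorFactors (ModuleCat.{u} A) i).hom.naturality (a • 𝟙 P)
    simp only [Functor.comp_map, HomologicalComplex.homologyFunctor_map] at this
    have h3 := Helper89.RGI.homologyMap_smul_id (R := A) P a i
    rw [h3] at this
    let e' := (homologyFunctorFactors (ModuleCat.{u} A) i).app P
    have h4 : (homologyFunctor (ModuleCat.{u} A) i).map (Q.map (a • 𝟙 P)) ≫ e'.hom =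
        e'.hom ≫ (a • 𝟙 _) := this
    rw [← cancel_mono e'.hom, h4, Linear.comp_smul, Category.comp_id, Linear.smul_comp,
      Category.id_comp]
  rw [h1, Functor.map_comp, Functor.map_comp, h2, Linear.smul_comp, Category.id_comp,
    Linear.comp_smul, ← Functor.map_comp, e.inv_hom_id, CategoryTheory.Functor.map_id]

theorem isZero_of_homology (K : Dual.D A)
    (h : ∀ i : ℤ, IsZero ((homologyFunctor (ModuleCat.{u} A) i).obj K)) : IsZero K := by
  have h1 : IsIso (0 : K ⟶ K) := by
    rw [isIso_iff]
    intro n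
    rw [Functor.map_zero]
    exact ⟨0, (h n).eq_of_src _ _, (h n).eq_of_src _ _⟩
  rw [IsZero.iff_id_eq_zero, ← IsIso.hom_inv_id (0 : K ⟶ K), zero_comp]

/-- a torsion object on which some `f ∈ I` acts invertibly vanishes -/
theorem isZero_of_tors_of_isIso (K : Dual.D A) (hK : Tors I K) (f : A) (hf : f ∈ I)
    (h : IsIso (f • 𝟙 K)) : IsZero K := by
  apply isZero_of_homology
  intro i
  have h1 : IsIso (f • 𝟙 ((homologyFunctor (ModuleCat.{u} A) i).obj K)) := by
    rw [← homology_map_smul]
    infer_instance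
  have hinj : Function.Injective
      (f • 𝟙 ((homologyFunctor (ModuleCat.{u} A) i).obj K) : _ ⟶ _).hom :=
    ((ConcreteCategory.isIso_iff_bijective _).1 h1).1
  have hinj' : ∀ (k : ℕ) (m : (homologyFunctor (ModuleCat.{u} A) i).obj K), f ^ k • m = 0 → m = 0 := by
    intro k
    induction k with
    | zero => intro m hm; simpa using hm
    | succ k ih =>
      intro m hm
      apply ih
      apply hinj
      rw [map_zero]
      change f • (f ^ k • m) = 0
      rw [smul_smul, ← pow_succ']
      exact hm
  have h0 : ∀ m : (homologyFunctor (ModuleCat.{u} A) i).obj K, m = 0 := by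
    intro m
    obtain ⟨k, hk⟩ := hK i m
    exact hinj' k m (hk _ (Ideal.pow_mem_pow hf k))
  have : Subsingleton ((homologyFunctor (ModuleCat.{u} A) i).obj K) :=
    ⟨fun a b => by rw [h0 a, h0 b]⟩
  exact ModuleCat.isZero_of_subsingleton _

/-- a derived complete object on which some `f ∈ I` acts invertibly vanishes -/
theorem isZero_of_comp_of_isIso (K : Dual.D A) (hK : IsDerivedComplete I K) (f : A) (hf : f ∈ I)
    (h : IsIso (f • 𝟙 K)) : IsZero K := by
  let P := Q.objPreimage K
  let e : Q.obj P ≅ K := Q.objObjPreimageIso K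
  have h1 : Q.map (f • 𝟙 P) = e.hom ≫ (f • 𝟙 K) ≫ e.inv := by
    rw [CategoryTheory.Functor.map_smul, CategoryTheory.Functor.map_id, Linear.smul_comp,
      Category.id_comp, Linear.comp_smul, e.hom_inv_id]
  have h2 : IsIso (Q.map (f • 𝟙 P)) := by
    rw [h1]
    infer_instance
  have h3 : QuasiIso (f • 𝟙 P) := (isIso_Q_map_iff_quasiIso _ _).1 h2
  have h4 := Groth.Agent.Lib.Helper25.DerCompleteHom.subsingleton_hom_of_quasiIso_smul f P h3 K
    (hK f hf)
  rw [IsZero.iff_id_eq_zero, ← e.inv_hom_id, h4.elim e.hom 0, comp_zero]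

/-- the ideal of elements killing an object -/
noncomputable def annId (K : Dual.D A) : Ideal A :=
  LinearMap.ker (LinearMap.toSpanSingleton A (K ⟶ K) (𝟙 K))

theorem mem_annId (K : Dual.D A) (a : A) : a ∈ annId K ↔ a • 𝟙 K = 0 := by
  simp [annId]

theorem span_le_radical_annId (K : Dual.D A) (s : Set A) (h : ∀ a ∈ s, Nil a K) :
    Ideal.span s ≤ (annId K).radical := by
  rw [Ideal.span_le]
  intro a ha
  obtain ⟨k, hk⟩ := h a ha
  exact ⟨k, (mem_annId K _).2 hk⟩

theorem isIso_smul_away (g : A) (N : ℕ) :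
    IsIso (g ^ N • 𝟙 (ModuleCat.of A (Localization.Away g))) := by
  have hu : IsUnit (algebraMap A (Localization.Away g) (g ^ N)) := by
    rw [map_pow]
    exact (IsLocalization.Away.algebraMap_isUnit g).pow N
  obtain ⟨u, hu⟩ := hu
  refine ⟨ModuleCat.ofHom (LinearMap.mulLeft A ((u⁻¹ : (Localization.Away g)ˣ) : Localization.Away g)), ?_, ?_⟩
  · ext x
    change ((u⁻¹ : (Localization.Away g)ˣ) : Localization.Away g) * (g ^ N • x) = x
    rw [Algebra.smul_def, ← hu, ← mul_assoc, Units.inv_mul, one_mul]
  · ext x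
    change g ^ N • (((u⁻¹ : (Localization.Away g)ˣ) : Localization.Away g) * x) = x
    rw [Algebra.smul_def, ← hu, ← mul_assoc, Units.mul_inv, one_mul]

/-- an object on which the elements of a generating set of `I` act nilpotently is derived
complete -/
theorem comp_of_nil (K : Dual.D A) (s : Set A) (hs : Ideal.span s = I) (h : ∀ a ∈ s, Nil a K) :
    IsDerivedComplete I K := by
  intro g hg n
  have h1 : g ∈ (annId K).radical := span_le_radical_annId K s h (hs ▸ hg)
  obtain ⟨N, hN⟩ := h1
  rw [mem_annId] at hN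
  have h2 : IsIso (g ^ N • 𝟙 (Dual.inD A (Localization.Away g))) := by
    have : g ^ N • 𝟙 (Dual.inD A (Localization.Away g)) =
        (singleFunctor (ModuleCat.{u} A) 0).map
          (g ^ N • 𝟙 (ModuleCat.of A (Localization.Away g))) := by
      rw [CategoryTheory.Functor.map_smul, CategoryTheory.Functor.map_id]
    rw [this]
    have := isIso_smul_away g N
    infer_instance
  have key : ∀ φ : Dual.inD A (Localization.Away g) ⟶ K⟦n⟧, φ = 0 := by
    intro φ
    have h3 : (g ^ N • 𝟙 (Dual.inD A (Localization.Away g))) ≫ φ = 0 := by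
      rw [Linear.smul_comp, Category.id_comp]
      have : g ^ N • φ = φ ≫ (g ^ N • 𝟙 K)⟦n⟧' := by
        rw [CategoryTheory.Functor.map_smul, CategoryTheory.Functor.map_id, Linear.comp_smul,
          Category.comp_id]
      rw [this, hN, Functor.map_zero, comp_zero]
    exact (cancel_epi _).1 (h3.trans comp_zero.symm)
  exact ⟨fun a b => by rw [key a, key b]⟩

/-- an object on which the elements of a finite generating set of `I` act nilpotently has
torsion cohomology -/
theorem tors_of_nil (K : Dual.D A) (s : Set A) (hs : Ideal.span s = I) (hI : I.FG)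
    (h : ∀ a ∈ s, Nil a K) : Tors I K := by
  intro i m
  have h1 : I ≤ (annId K).radical := hs ▸ span_le_radical_annId K s h
  obtain ⟨k, hk⟩ := Ideal.exists_pow_le_of_le_radical_of_fg h1 hI
  refine ⟨k, fun a ha => ?_⟩
  have h2 := (mem_annId K a).1 (hk ha)
  have h3 := homology_map_smul K a i
  rw [h2, Functor.map_zero] at h3
  have : a • m = (a • 𝟙 ((homologyFunctor (ModuleCat.{u} A) i).obj K) : _ ⟶ _).hom m := rfl
  rw [this, ← h3]
  rfl

end Groth.Agent.Lib.Helper88.GM2
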