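/-
Top coefficient of a multivariate polynomial evaluated at univariate polynomials of degree ≤ 1.
Author: helper88
-/
import Mathlib

set_option autoImplicit false
set_option linter.unusedSectionVars false

namespace Groth.Agent.Lib.Helper88.PT

open MvPolynomial

variable {k R σ : Type*} [Field k] [CommRing R] [Algebra k R] [Fintype σ]

/-- Products of powers of polynomials of degree `≤ 1`: degree bound and top coefficient. -/
lemma prod_pow_top (v : σ → Polynomial R) (hv : ∀ i, (v i).natDegree ≤ 1) (m : σ → ℕ)
    (s : Finset σ) :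
    (∏ i ∈ s, v i ^ m i).natDegree ≤ ∑ i ∈ s, m i ∧
      (∏ i ∈ s, v i ^ m i).coeff (∑ i ∈ s, m i) = ∏ i ∈ s, (v i).coeff 1 ^ m i := by
  classical
  induction s using Finset.induction_on with
  | empty => simp
  | insert a s ha ih =>
    obtain ⟨ih1, ih2⟩ := ih
    have h1 : (v a ^ m a).natDegree ≤ m a := by
      have := Polynomial.natDegree_pow_le_of_le (m a) (hv a)
      simpa using this
    have h2 : (v a ^ m a).coeff (m a) = (v a).coeff 1 ^ m a := by
      have := Polynomial.coeff_pow_of_natDegree_le (m := m a) (hv a)
      simpa using this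
    rw [Finset.prod_insert ha, Finset.sum_insert ha, Finset.prod_insert ha]
    refine ⟨Polynomial.natDegree_mul_le_of_le h1 ih1, ?_⟩
    rw [Polynomial.coeff_mul_add_eq_of_natDegree_le h1 ih1, h2, ih2]

/-- Evaluating `f` of total degree `≤ n` at polynomials of degree `≤ 1` gives a polynomial of
degree `≤ n`, whose `n`-th coefficient is the degree-`n` homogeneous component of `f` evaluated at
the linear coefficients. -/
theorem aeval_top (v : σ → Polynomial R) (hv : ∀ i, (v i).natDegree ≤ 1)
    (f : MvPolynomial σ k) (n : ℕ) (hf : f.totalDegree ≤ n) :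
    (aeval v f).natDegree ≤ n ∧
      (aeval v f).coeff n = aeval (fun i => (v i).coeff 1) (homogeneousComponent n f) := by
  classical
  have hmon : ∀ m ∈ f.support,
      (aeval v (monomial m (coeff m f))).natDegree ≤ n ∧
      (aeval v (monomial m (coeff m f))).coeff n =
        aeval (fun i => (v i).coeff 1) (homogeneousComponent n (monomial m (coeff m f))) := by
    intro m hm
    have hmn : ∑ i, m i ≤ n := by
      have h1 := le_totalDegree hm
      have h2 : (m.sum fun _ e => e) = ∑ i, m i := Finsupp.sum_fintype _ _ (fun _ => rfl)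
      rw [h2] at h1
      exact h1.trans hf
    obtain ⟨p1, p2⟩ := prod_pow_top v hv m Finset.univ
    have hae : aeval v (monomial m (coeff m f)) =
        Polynomial.C (algebraMap k R (coeff m f)) * ∏ i, v i ^ m i := by
      rw [aeval_monomial, Finsupp.prod_fintype _ _ (fun _ => pow_zero _)]
      rfl
    have hdeg : (aeval v (monomial m (coeff m f))).natDegree ≤ ∑ i, m i := by
      rw [hae]
      exact (Polynomial.natDegree_C_mul_le _ _).trans p1
    refine ⟨hdeg.trans hmn, ?_⟩
    have hhom : (monomial m (coeff m f)).IsHomogeneous (∑ i, m i) := by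
      apply isHomogeneous_monomial
      rw [Finsupp.degree_eq_sum]
    rw [homogeneousComponent_of_mem hhom]
    by_cases hn : n = ∑ i, m i
    · rw [if_pos hn, hn, hae, Polynomial.coeff_C_mul, p2, aeval_monomial,
        Finsupp.prod_fintype _ _ (fun _ => pow_zero _)]
    · rw [if_neg hn, map_zero]
      apply Polynomial.coeff_eq_zero_of_natDegree_lt
      exact lt_of_le_of_lt hdeg (lt_of_le_of_ne hmn (Ne.symm hn))
  have hsum : f = ∑ m ∈ f.support, monomial m (coeff m f) := (support_sum_monomial_coeff f).symm
  constructor
  · rw [hsum, map_sum]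
    exact Polynomial.natDegree_sum_le_of_forall_le _ _ (fun m hm => (hmon m hm).1)
  · conv_lhs => rw [hsum]
    conv_rhs => rw [hsum]
    rw [map_sum, Polynomial.finset_sum_coeff, map_sum, map_sum]
    exact Finset.sum_congr rfl (fun m hm => (hmon m hm).2)

end Groth.Agent.Lib.Helper88.PT
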