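/-
Gauss's lemma for plane curves: an irreducible bivariate polynomial, monic up to a constant in the
second variable, gives the minimal polynomial of `y` over `k(x)`.
Author: helper88
-/
import Groth.Agent.Lib.Helper88.PlaneTop
import Mathlib

set_option autoImplicit false
set_option linter.unusedSectionVars false

namespace Groth.Agent.Lib.Helper88.PG

open Polynomial Polynomial.Bivariate

variable {k K : Type*} [Field k] [Field K] [Algebra k K]

/-- The generator of `k(x)` as an element of `k(x)`. -/
noncomputable abbrev gen (x : K) : IntermediateField.adjoin k ({x} : Set K) :=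
  IntermediateField.AdjoinSimple.gen k x

/-- Evaluation `k[X] → k(x)`. -/
noncomputable abbrev ev (x : K) : k[X] →+* IntermediateField.adjoin k ({x} : Set K) :=
  (aeval (gen (k := k) x)).toRingHom

lemma aeval_map_ev (x y : K) (p : k[X][Y]) :
    aeval y (p.map (ev (k := k) x)) = aevalAeval x y p := by
  induction p using Polynomial.induction_on' with
  | add p q hp hq => rw [Polynomial.map_add, map_add, map_add, hp, hq]
  | monomial n a =>
    rw [Polynomial.map_monomial, ← C_mul_X_pow_eq_monomial, ← C_mul_X_pow_eq_monomial]
    simp only [map_mul, map_pow, aeval_C, aeval_X, aevalAeval_C, aevalAeval_Y]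
    congr 1
    show algebraMap _ K ((aeval (gen (k := k) x)) a) = aeval x a
    rw [← aeval_algebraMap_apply]
    congr 1

lemma aevalAeval_eq (x y : K) (p : k[X][Y]) :
    aevalAeval x y p = MvPolynomial.aeval ![x, y] (equivMvPolynomial k p) := by
  have : (aevalAeval x y : k[X][Y] →ₐ[k] K) =
      (MvPolynomial.aeval ![x, y]).comp (equivMvPolynomial k).toAlgHom := by
    ext <;> simp
  rw [this]
  rfl

/-- **Gauss**: an irreducible `g ∈ k[X, Y]` whose image in `k[X][Y]` has leading coefficient a
nonzero constant gives, up to that constant, the minimal polynomial of `y` over `k(x)`. -/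
theorem minpoly_eq (g : MvPolynomial (Fin 2) k) (hg : Irreducible g) (a : k) (ha : a ≠ 0)
    (hlead : ((equivMvPolynomial k).symm g).leadingCoeff = C a)
    (x y : K) (hx : Transcendental k x) (hgxy : MvPolynomial.aeval ![x, y] g = 0) :
    minpoly (IntermediateField.adjoin k ({x} : Set K)) y =
      (C (C a⁻¹) * (equivMvPolynomial k).symm g).map (ev (k := k) x) := by
  set p : k[X][Y] := (equivMvPolynomial k).symm g with hp
  have hpirr : Irreducible p := (MulEquiv.irreducible_iff (equivMvPolynomial k).symm).2 hg
  set p' : k[X][Y] := C (C a⁻¹) * p with hp'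
  have hunit : IsUnit (C (C a⁻¹) : k[X][Y]) := by
    apply IsUnit.map
    apply IsUnit.map
    exact (isUnit_iff_ne_zero.2 (inv_ne_zero ha))
  have hp'irr : Irreducible p' := (irreducible_isUnit_mul hunit).2 hpirr
  have hp'monic : p'.Monic := by
    rw [Monic, hp', leadingCoeff_mul, leadingCoeff_C, hlead, ← C_mul, inv_mul_cancel₀ ha, C_1]
  -- Gauss over `k[X] ⊆ RatFunc k`
  have h1 : Irreducible (p'.map (algebraMap k[X] (RatFunc k))) :=
    (Monic.irreducible_iff_irreducible_map_fraction_map hp'monic).1 hp'irr
  -- transport to `k(x)`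
  let σ : RatFunc k ≃ₐ[k] IntermediateField.adjoin k ({x} : Set K) :=
    RatFunc.algEquivOfTranscendental x hx
  have hσ : (σ.toRingEquiv.toRingHom).comp (algebraMap k[X] (RatFunc k)) = ev (k := k) x := by
    apply RingHom.ext
    intro r
    exact RatFunc.algEquivOfTranscendental_algebraMap x hx r
  have h2 : Irreducible ((p'.map (algebraMap k[X] (RatFunc k))).map σ.toRingEquiv.toRingHom) := by
    have := (MulEquiv.irreducible_iff (Polynomial.mapEquiv σ.toRingEquiv)
      (x := p'.map (algebraMap k[X] (RatFunc k)))).2 h1
    exact this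
  rw [Polynomial.map_map, hσ] at h2
  have h3 : aeval y (p'.map (ev (k := k) x)) = 0 := by
    rw [aeval_map_ev, hp', map_mul, aevalAeval_eq x y p, hp, AlgEquiv.apply_symm_apply, hgxy,
      mul_zero]
  have h4 : (p'.map (ev (k := k) x)).Monic := hp'monic.map _
  exact (minpoly.eq_of_irreducible_of_monic h2 h3 h4).symm

end Groth.Agent.Lib.Helper88.PG
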