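/-
Plane models over an arbitrary constant field: the relation ideal of `(x, y)` with `x`
transcendental is generated by any irreducible relation (Gauss's lemma).
Author: helper88
-/
import Groth.Agent.Lib.Helper88.PlaneGauss

set_option autoImplicit false
set_option linter.unusedSectionVars false

namespace Groth.Agent.Lib.Helper88.GEO

open Polynomial Polynomial.Bivariate Groth.Agent.Lib.Helper88.PG

variable {k K : Type*} [Field k] [Field K] [Algebra k K]

lemma ev_injective {x : K} (hx : Transcendental k x) : Function.Injective (ev (k := k) x) := by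
  intro r s hrs
  have h3 : ∀ r : Polynomial k, algebraMap (IntermediateField.adjoin k ({x} : Set K)) K
      (ev (k := k) x r) = Polynomial.aeval x r := by
    intro r
    show algebraMap _ K ((Polynomial.aeval (gen (k := k) x)) r) = Polynomial.aeval x r
    rw [← Polynomial.aeval_algebraMap_apply]
    congr 1
  have h4 := congrArg (algebraMap (IntermediateField.adjoin k ({x} : Set K)) K) hrs
  rw [h3, h3] at h4
  exact (transcendental_iff_injective.1 hx) h4

/-- **Gauss**: with `x` transcendental, every relation between `x` and `y` is a multiple of an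
irreducible one. -/
theorem dvd_of_aeval_eq_zero (x y : K) (hx : Transcendental k x)
    (f : MvPolynomial (Fin 2) k) (hf : Irreducible f) (hfxy : MvPolynomial.aeval ![x, y] f = 0)
    (g : MvPolynomial (Fin 2) k) (hg : MvPolynomial.aeval ![x, y] g = 0) : f ∣ g := by
  set F : k[X][Y] := (equivMvPolynomial k).symm f with hF
  set G : k[X][Y] := (equivMvPolynomial k).symm g with hG
  have hFirr : Irreducible F := (MulEquiv.irreducible_iff (equivMvPolynomial k).symm).2 hf
  have hFxy : aevalAeval x y F = 0 := by
    rw [aevalAeval_eq, hF, AlgEquiv.apply_symm_apply, hfxy]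
  have hGxy : aevalAeval x y G = 0 := by
    rw [aevalAeval_eq, hG, AlgEquiv.apply_symm_apply, hg]
  have hdeg : F.natDegree ≠ 0 := by
    intro h0
    obtain ⟨f₀, hf₀⟩ := natDegree_eq_zero.1 h0
    rw [← hf₀, aevalAeval_C] at hFxy
    have : f₀ = 0 := by
      by_contra hne
      exact hx ⟨f₀, hne, hFxy⟩
    rw [this, map_zero] at hf₀
    exact hFirr.ne_zero hf₀.symm
  have hprim : F.IsPrimitive := hFirr.isPrimitive hdeg
  have h1 : Irreducible (F.map (algebraMap k[X] (RatFunc k))) :=
    (hprim.irreducible_iff_irreducible_map_fraction_map).1 hFirr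
  let σ : RatFunc k ≃ₐ[k] IntermediateField.adjoin k ({x} : Set K) :=
    RatFunc.algEquivOfTranscendental x hx
  have hσ : (σ.toRingEquiv.toRingHom).comp (algebraMap k[X] (RatFunc k)) = ev (k := k) x := by
    apply RingHom.ext
    intro r
    exact RatFunc.algEquivOfTranscendental_algebraMap x hx r
  have h2 : Irreducible ((F.map (algebraMap k[X] (RatFunc k))).map σ.toRingEquiv.toRingHom) := by
    have := (MulEquiv.irreducible_iff (Polynomial.mapEquiv σ.toRingEquiv)
      (x := F.map (algebraMap k[X] (RatFunc k)))).2 h1
    exact this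
  have hFx : (F.map (algebraMap k[X] (RatFunc k))).map σ.toRingEquiv.toRingHom =
      F.map (ev (k := k) x) := by
    rw [Polynomial.map_map, hσ]
  have hGx : (G.map (algebraMap k[X] (RatFunc k))).map σ.toRingEquiv.toRingHom =
      G.map (ev (k := k) x) := by
    rw [Polynomial.map_map, hσ]
  rw [hFx] at h2
  have h3 : Polynomial.aeval y (F.map (ev (k := k) x)) = 0 := by
    rw [aeval_map_ev, hFxy]
  have h4 : Polynomial.aeval y (G.map (ev (k := k) x)) = 0 := by
    rw [aeval_map_ev, hGxy]
  have hmin := minpoly.eq_of_irreducible h2 h3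
  have hdvd : F.map (ev (k := k) x) ∣ G.map (ev (k := k) x) := by
    have := minpoly.dvd (IntermediateField.adjoin k ({x} : Set K)) y h4
    rw [← hmin] at this
    exact (Dvd.intro _ rfl).trans this
  rw [← hFx, ← hGx, Polynomial.map_dvd_map'] at hdvd
  have hFG : F ∣ G := (hprim.dvd_iff_fraction_map_dvd_fraction_map (K := RatFunc k)).2 hdvd
  obtain ⟨s, hs⟩ := hFG
  refine ⟨equivMvPolynomial k s, ?_⟩
  have := congrArg (equivMvPolynomial k) hs
  rw [hG, hF, AlgEquiv.apply_symm_apply, map_mul, AlgEquiv.apply_symm_apply] at this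
  exact this

end Groth.Agent.Lib.Helper88.GEO
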