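/-
Plane models and constant field extensions: `K ⊗ k'` versus `k'[X, Y] / (f)`.
Author: helper88
-/
import Groth.Agent.Lib.Helper88.GeoA

set_option autoImplicit false
set_option linter.unusedSectionVars false
set_option linter.style.haveILetI false

namespace Groth.Agent.Lib.Helper88.GEO

open MvPolynomial TensorProduct

variable {k K k' : Type*} [Field k] [Field K] [Algebra k K] [Field k'] [Algebra k k']

/-- Evaluation `k'[X, Y] → K ⊗ k'` at `(x ⊗ 1, y ⊗ 1)`. -/
noncomputable def psi (x y : K) : MvPolynomial (Fin 2) k' →+* K ⊗[k] k' :=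
  eval₂Hom (Algebra.TensorProduct.includeRight : k' →ₐ[k] K ⊗[k] k').toRingHom
    ![x ⊗ₜ[k] (1 : k'), y ⊗ₜ[k] (1 : k')]

lemma psi_C (x y : K) (c : k') : psi (k := k) x y (C c) = (1 : K) ⊗ₜ[k] c := by
  rw [psi, coe_eval₂Hom, eval₂_C]
  rfl

lemma psi_map (x y : K) (p : MvPolynomial (Fin 2) k) :
    psi (k := k) (k' := k') x y (map (algebraMap k k') p) = (aeval ![x, y] p) ⊗ₜ[k] (1 : k') := by
  rw [psi, coe_eval₂Hom, eval₂_map]
  have h1 : (Algebra.TensorProduct.includeLeft : K →ₐ[k] K ⊗[k] k') (aeval ![x, y] p) =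
      aeval (fun i => (Algebra.TensorProduct.includeLeft : K →ₐ[k] K ⊗[k] k') (![x, y] i)) p :=
    comp_aeval_apply _ _ p
  have h2 : (fun i => (Algebra.TensorProduct.includeLeft : K →ₐ[k] K ⊗[k] k') (![x, y] i)) =
      ![x ⊗ₜ[k] (1 : k'), y ⊗ₜ[k] (1 : k')] := by
    funext i
    fin_cases i <;> rfl
  rw [h2] at h1
  have h3 : (aeval ![x, y] p) ⊗ₜ[k] (1 : k') =
      (Algebra.TensorProduct.includeLeft : K →ₐ[k] K ⊗[k] k') (aeval ![x, y] p) := rfl
  rw [h3, h1, aeval_def]
  congr 1
  apply RingHom.ext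
  intro a
  simp

/-- Decomposition of a polynomial over `k'` along a `k`-basis of `k'`. -/
lemma exists_decomp {ι : Type*} [Fintype ι] (b : Module.Basis ι k k')
    (G : MvPolynomial (Fin 2) k') :
    ∃ Gs : ι → MvPolynomial (Fin 2) k, G = ∑ i, C (b i) * map (algebraMap k k') (Gs i) := by
  induction G using MvPolynomial.induction_on with
  | C c =>
    refine ⟨fun i => C (b.repr c i), ?_⟩
    conv_lhs => rw [← b.sum_repr c]
    rw [map_sum]
    refine Finset.sum_congr rfl fun i _ => ?_
    rw [map_C, ← C_mul, Algebra.smul_def, mul_comm]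
  | add p q hp hq =>
    obtain ⟨Ps, hPs⟩ := hp
    obtain ⟨Qs, hQs⟩ := hq
    refine ⟨fun i => Ps i + Qs i, ?_⟩
    rw [hPs, hQs, ← Finset.sum_add_distrib]
    refine Finset.sum_congr rfl fun i _ => ?_
    rw [map_add, mul_add]
  | mul_X p l hp =>
    obtain ⟨Ps, hPs⟩ := hp
    refine ⟨fun i => Ps i * X l, ?_⟩
    rw [hPs, Finset.sum_mul]
    refine Finset.sum_congr rfl fun i _ => ?_
    rw [map_mul, map_X, mul_assoc]

lemma psi_decomp {ι : Type*} [Fintype ι] (b : Module.Basis ι k k') (x y : K)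
    (Gs : ι → MvPolynomial (Fin 2) k) :
    psi (k := k) x y (∑ i, C (b i) * map (algebraMap k k') (Gs i)) =
      ∑ i, (aeval ![x, y] (Gs i)) ⊗ₜ[k] (b i) := by
  rw [map_sum]
  refine Finset.sum_congr rfl fun i _ => ?_
  rw [map_mul, psi_C, psi_map, Algebra.TensorProduct.tmul_mul_tmul, one_mul, mul_one]

/-- Independence of a `k`-basis of `k'` over `K` in `K ⊗ k'`. -/
lemma eq_zero_of_sum_tmul {ι : Type*} [Fintype ι] [DecidableEq ι] (b : Module.Basis ι k k')
    (z : ι → K) (h : ∑ i, (z i) ⊗ₜ[k] (b i) = 0) : ∀ i, z i = 0 := by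
  have h1 : ∑ i, z i • (Algebra.TensorProduct.basis K b) i = 0 := by
    rw [← h]
    refine Finset.sum_congr rfl fun i _ => ?_
    rw [Algebra.TensorProduct.basis_apply, TensorProduct.smul_tmul', smul_eq_mul, mul_one]
  exact Fintype.linearIndependent_iff.1 (Algebra.TensorProduct.basis K b).linearIndependent z h1

/-- The kernel of `psi` is generated by `f`. -/
theorem dvd_of_psi_eq_zero [FiniteDimensional k k'] (x y : K) (f : MvPolynomial (Fin 2) k)
    (hker : ∀ p : MvPolynomial (Fin 2) k, aeval ![x, y] p = 0 → f ∣ p)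
    (G : MvPolynomial (Fin 2) k') (hG : psi (k := k) x y G = 0) :
    map (algebraMap k k') f ∣ G := by
  classical
  set b := Module.finBasis k k' with hb
  obtain ⟨Gs, hGs⟩ := exists_decomp b G
  rw [hGs, psi_decomp] at hG
  have h0 := eq_zero_of_sum_tmul b _ hG
  rw [hGs]
  apply Finset.dvd_sum
  intro i _
  obtain ⟨q, hq⟩ := hker _ (h0 i)
  rw [hq, map_mul]
  exact ⟨C (b i) * map (algebraMap k k') q, by ring⟩

lemma psi_map_f (x y : K) (f : MvPolynomial (Fin 2) k) (hfxy : aeval ![x, y] f = 0) :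
    psi (k := k) (k' := k') x y (map (algebraMap k k') f) = 0 := by
  rw [psi_map, hfxy, zero_tmul]

/-- If `K ⊗ k'` is a field, the equation stays irreducible over `k'`. -/
theorem irreducible_map_of_isField [FiniteDimensional k k'] (hT : IsField (K ⊗[k] k'))
    (x y : K) (f : MvPolynomial (Fin 2) k) (hf0 : f ≠ 0) (hfxy : aeval ![x, y] f = 0)
    (hker : ∀ p : MvPolynomial (Fin 2) k, aeval ![x, y] p = 0 → f ∣ p) :
    Irreducible (map (algebraMap k k') f) := by
  haveI := hT.isDomain
  have hk : RingHom.ker (psi (k := k) (k' := k') x y) =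
      Ideal.span {map (algebraMap k k') f} := by
    apply le_antisymm
    · intro G hG
      rw [Ideal.mem_span_singleton]
      exact dvd_of_psi_eq_zero x y f hker G ((RingHom.mem_ker).1 hG)
    · rw [Ideal.span_le, Set.singleton_subset_iff, SetLike.mem_coe, RingHom.mem_ker]
      exact psi_map_f x y f hfxy
  have hprime : (Ideal.span {map (algebraMap k k') f}).IsPrime := by
    rw [← hk]
    exact RingHom.ker_isPrime _
  have hne : map (algebraMap k k') f ≠ 0 := by
    intro h
    apply hf0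
    exact map_injective _ (algebraMap k k').injective (by rw [h, map_zero])
  exact ((Ideal.span_singleton_prime hne).1 hprime).irreducible

end Groth.Agent.Lib.Helper88.GEO
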