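/-
Plane models and constant field extensions: absolute irreducibility of the equation makes
`K ⊗ k'` a field.
Author: helper88
-/
import Groth.Agent.Lib.Helper88.GeoB

set_option autoImplicit false
set_option linter.unusedSectionVars false
set_option linter.style.haveILetI false

namespace Groth.Agent.Lib.Helper88.GEO

open MvPolynomial TensorProduct

variable {k K k' : Type*} [Field k] [Field K] [Algebra k K] [Field k'] [Algebra k k']

lemma range_pair' (x y : K) : Set.range (![x, y] : Fin 2 → K) = {x, y} := by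
  ext z
  simp only [Set.mem_range, Fin.exists_fin_two, Set.mem_insert_iff, Set.mem_singleton_iff]
  constructor
  · rintro (h | h)
    · exact Or.inl h.symm
    · exact Or.inr h.symm
  · rintro (h | h)
    · exact Or.inl h.symm
    · exact Or.inr h.symm

/-- Every element of `K = k(x, y)` is a quotient of polynomial values. -/
lemma exists_frac (x y : K) (hxy : IntermediateField.adjoin k ({x, y} : Set K) = ⊤) (z : K) :
    ∃ u v : MvPolynomial (Fin 2) k, aeval ![x, y] v ≠ 0 ∧ z * aeval ![x, y] v = aeval ![x, y] u := by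
  have hz : z ∈ IntermediateField.adjoin k ({x, y} : Set K) := by
    rw [hxy]
    trivial
  obtain ⟨u, hu, v, hv, rfl⟩ := IntermediateField.mem_adjoin_iff_div.1 hz
  rw [← range_pair', Algebra.adjoin_range_eq_range_aeval] at hu hv
  obtain ⟨pu, rfl⟩ := hu
  obtain ⟨pv, rfl⟩ := hv
  by_cases hv0 : aeval ![x, y] pv = 0
  · refine ⟨0, 1, by simp, ?_⟩
    have h1 : (aeval ![x, y] : MvPolynomial (Fin 2) k →ₐ[k] K).toRingHom pv = 0 := hv0
    rw [h1, div_zero]
    simp
  · refine ⟨pu, pv, hv0, ?_⟩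
    have h1 : (aeval ![x, y] : MvPolynomial (Fin 2) k →ₐ[k] K).toRingHom pv =
        aeval ![x, y] pv := rfl
    have h2 : (aeval ![x, y] : MvPolynomial (Fin 2) k →ₐ[k] K).toRingHom pu =
        aeval ![x, y] pu := rfl
    rw [h1, h2]
    field_simp

/-- Clearing denominators in `K ⊗ k'`. -/
lemma exists_psi_rep (x y : K) (hxy : IntermediateField.adjoin k ({x, y} : Set K) = ⊤)
    (s : K ⊗[k] k') :
    ∃ (q : MvPolynomial (Fin 2) k) (G : MvPolynomial (Fin 2) k'), aeval ![x, y] q ≠ 0 ∧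
      ((aeval ![x, y] q) ⊗ₜ[k] (1 : k')) * s = psi (k := k) x y G := by
  induction s using TensorProduct.induction_on with
  | zero => exact ⟨1, 0, by simp, by simp⟩
  | tmul z c =>
    obtain ⟨u, v, hv, huv⟩ := exists_frac x y hxy z
    refine ⟨v, C c * map (algebraMap k k') u, hv, ?_⟩
    rw [map_mul, psi_C, psi_map, Algebra.TensorProduct.tmul_mul_tmul,
      Algebra.TensorProduct.tmul_mul_tmul, one_mul, mul_one, mul_comm, huv, one_mul]
  | add s₁ s₂ h₁ h₂ =>
    obtain ⟨q₁, G₁, hq₁, e₁⟩ := h₁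
    obtain ⟨q₂, G₂, hq₂, e₂⟩ := h₂
    refine ⟨q₁ * q₂, map (algebraMap k k') q₂ * G₁ + map (algebraMap k k') q₁ * G₂, ?_, ?_⟩
    · rw [map_mul]
      exact mul_ne_zero hq₁ hq₂
    · have hA : psi (k := k) x y (map (algebraMap k k') q₂ * G₁ + map (algebraMap k k') q₁ * G₂) =
          ((aeval ![x, y] q₂) ⊗ₜ[k] (1 : k')) * psi (k := k) x y G₁ +
            ((aeval ![x, y] q₁) ⊗ₜ[k] (1 : k')) * psi (k := k) x y G₂ := by
        rw [map_add, map_mul, map_mul, psi_map, psi_map]
      rw [hA, ← e₁, ← e₂, map_mul]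
      have : (aeval ![x, y] q₁ * aeval ![x, y] q₂) ⊗ₜ[k] (1 : k') =
          ((aeval ![x, y] q₁) ⊗ₜ[k] (1 : k')) * ((aeval ![x, y] q₂) ⊗ₜ[k] (1 : k')) := by
        rw [Algebra.TensorProduct.tmul_mul_tmul, mul_one]
      rw [this]
      ring

/-- If the equation stays irreducible over `k'`, then `K ⊗ k'` is a field. -/
theorem isField_of_irreducible_map [FiniteDimensional k k'] (x y : K)
    (hxy : IntermediateField.adjoin k ({x, y} : Set K) = ⊤)
    (f : MvPolynomial (Fin 2) k) (hfxy : aeval ![x, y] f = 0)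
    (hker : ∀ p : MvPolynomial (Fin 2) k, aeval ![x, y] p = 0 → f ∣ p)
    (hirr : Irreducible (map (algebraMap k k') f)) : IsField (K ⊗[k] k') := by
  have hprime : Prime (map (algebraMap k k') f) := hirr.prime
  have hpsi0 : ∀ G : MvPolynomial (Fin 2) k', map (algebraMap k k') f ∣ G →
      psi (k := k) x y G = 0 := by
    rintro G ⟨H, rfl⟩
    rw [map_mul, psi_map_f x y f hfxy, zero_mul]
  have hcancel : ∀ (q : MvPolynomial (Fin 2) k) (s : K ⊗[k] k'), aeval ![x, y] q ≠ 0 →
      ((aeval ![x, y] q) ⊗ₜ[k] (1 : k')) * s = 0 → s = 0 := by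
    intro q s hq h
    have h1 : ((aeval ![x, y] q)⁻¹ ⊗ₜ[k] (1 : k')) * (((aeval ![x, y] q) ⊗ₜ[k] (1 : k')) * s) = s := by
      rw [← mul_assoc, Algebra.TensorProduct.tmul_mul_tmul, inv_mul_cancel₀ hq, mul_one,
        ← Algebra.TensorProduct.one_def, one_mul]
    rw [h, mul_zero] at h1
    exact h1.symm
  have hnzd : ∀ s t : K ⊗[k] k', s * t = 0 → s = 0 ∨ t = 0 := by
    intro s t hst
    obtain ⟨q₁, G₁, hq₁, e₁⟩ := exists_psi_rep (k' := k') x y hxy s
    obtain ⟨q₂, G₂, hq₂, e₂⟩ := exists_psi_rep (k' := k') x y hxy t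
    have h1 : psi (k := k) x y (G₁ * G₂) = 0 := by
      rw [map_mul, ← e₁, ← e₂]
      have : ((aeval ![x, y] q₁) ⊗ₜ[k] (1 : k')) * s * (((aeval ![x, y] q₂) ⊗ₜ[k] (1 : k')) * t) =
          ((aeval ![x, y] q₁) ⊗ₜ[k] (1 : k')) * ((aeval ![x, y] q₂) ⊗ₜ[k] (1 : k')) * (s * t) := by
        ring
      rw [this, hst, mul_zero]
    have h2 := dvd_of_psi_eq_zero x y f hker _ h1
    rcases hprime.dvd_or_dvd h2 with h | h
    · left
      apply hcancel q₁ s hq₁
      rw [e₁]
      exact hpsi0 _ h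
    · right
      apply hcancel q₂ t hq₂
      rw [e₂]
      exact hpsi0 _ h
  have hpos : 0 < Module.finrank K (K ⊗[k] k') := by
    rw [Module.finrank_baseChange]
    exact Module.finrank_pos
  haveI : Nontrivial (K ⊗[k] k') := Module.nontrivial_of_finrank_pos (R := K) hpos
  haveI : NoZeroDivisors (K ⊗[k] k') := ⟨fun {s t} h => hnzd s t h⟩
  haveI : IsDomain (K ⊗[k] k') := NoZeroDivisors.to_isDomain _
  exact isField_of_isIntegral_of_isField' (R := K) (Field.toIsField K)

end Groth.Agent.Lib.Helper88.GEO
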