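/-
Homogenisation of a bivariate polynomial to a ternary form.
Author: helper88
-/
import Groth.Agent.Lib.Helper83.PlaneCoord
import Mathlib

set_option autoImplicit false
set_option linter.unusedSectionVars false

namespace Groth.Agent.Lib.Helper88.PH

open MvPolynomial

variable {k : Type*} [Field k]

/-- The homogenisation `F(X₀, X₁, X₂) = X₀^d f(X₁/X₀, X₂/X₀)`, `d = totalDegree f`. -/
noncomputable def homog (f : MvPolynomial (Fin 2) k) : MvPolynomial (Fin 3) k :=
  ∑ i ∈ Finset.range (f.totalDegree + 1),
    X 0 ^ (f.totalDegree - i) * rename Fin.succ (homogeneousComponent i f)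

theorem homog_isHomogeneous (f : MvPolynomial (Fin 2) k) :
    (homog f).IsHomogeneous f.totalDegree := by
  unfold homog
  apply IsHomogeneous.sum
  intro i hi
  rw [Finset.mem_range] at hi
  have h1 : (X 0 ^ (f.totalDegree - i) : MvPolynomial (Fin 3) k).IsHomogeneous
      (f.totalDegree - i) := isHomogeneous_X_pow 0 _
  have h2 : (rename Fin.succ (homogeneousComponent i f) : MvPolynomial (Fin 3) k).IsHomogeneous i :=
    (homogeneousComponent_isHomogeneous i f).rename_isHomogeneous
  have h3 := h1.mul h2
  have : f.totalDegree - i + i = f.totalDegree := by omega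
  rwa [this] at h3

theorem aeval_homog_gen {R : Type*} [CommRing R] [Algebra k R] (f : MvPolynomial (Fin 2) k)
    (c a b : R) :
    aeval ![c, a, b] (homog f) =
      ∑ i ∈ Finset.range (f.totalDegree + 1),
        c ^ (f.totalDegree - i) * aeval ![a, b] (homogeneousComponent i f) := by
  unfold homog
  rw [map_sum]
  apply Finset.sum_congr rfl
  intro i _
  rw [map_mul, map_pow, aeval_X, aeval_rename]
  have : (![c, a, b] ∘ Fin.succ : Fin 2 → R) = ![a, b] := by
    funext j
    fin_cases j <;> rfl
  rw [this]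
  rfl

theorem aeval_homog {R : Type*} [CommRing R] [Algebra k R] (f : MvPolynomial (Fin 2) k)
    (a b : R) : aeval ![1, a, b] (homog f) = aeval ![a, b] f := by
  rw [aeval_homog_gen]
  simp only [one_pow, one_mul]
  rw [← map_sum, sum_homogeneousComponent]

theorem aeval_homog_zero {R : Type*} [CommRing R] [Algebra k R] (f : MvPolynomial (Fin 2) k)
    (a b : R) :
    aeval ![0, a, b] (homog f) = aeval ![a, b] (homogeneousComponent f.totalDegree f) := by
  rw [aeval_homog_gen, Finset.sum_eq_single f.totalDegree]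
  · simp
  · intro i hi hne
    rw [Finset.mem_range] at hi
    have : f.totalDegree - i ≠ 0 := by omega
    rw [zero_pow this, zero_mul]
  · intro h
    exact absurd (Finset.mem_range.2 (Nat.lt_succ_self _)) h

theorem aeval_pderiv_homog {R : Type*} [CommRing R] [Algebra k R] (f : MvPolynomial (Fin 2) k)
    (a b : R) :
    aeval ![1, a, b] (pderiv 2 (homog f)) = aeval ![a, b] (pderiv 1 f) := by
  classical
  have h0 : aeval (![1, X 0, X 1] : Fin 3 → MvPolynomial (Fin 2) k) (homog f) = f := by
    rw [aeval_homog]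
    have : (![X 0, X 1] : Fin 2 → MvPolynomial (Fin 2) k) = X := by
      funext j
      fin_cases j <;> rfl
    rw [this, aeval_X_left]
    rfl
  have h1 := Groth.Agent.Lib.Helper83.PlaneCoord.deriv_aeval (pderiv (1 : Fin 2))
    (![1, X 0, X 1] : Fin 3 → MvPolynomial (Fin 2) k) (homog f)
  rw [h0, Fin.sum_univ_three] at h1
  have e0 : pderiv (1 : Fin 2) ((![1, X 0, X 1] : Fin 3 → MvPolynomial (Fin 2) k) 0) = 0 := by
    show pderiv (1 : Fin 2) (1 : MvPolynomial (Fin 2) k) = 0
    exact pderiv_one
  have e1 : pderiv (1 : Fin 2) ((![1, X 0, X 1] : Fin 3 → MvPolynomial (Fin 2) k) 1) = 0 := by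
    show pderiv (1 : Fin 2) (X 0 : MvPolynomial (Fin 2) k) = 0
    rw [pderiv_X]
    simp
  have e2 : pderiv (1 : Fin 2) ((![1, X 0, X 1] : Fin 3 → MvPolynomial (Fin 2) k) 2) = 1 := by
    show pderiv (1 : Fin 2) (X 1 : MvPolynomial (Fin 2) k) = 1
    rw [pderiv_X]
    simp
  rw [e0, e1, e2, smul_zero, smul_zero, zero_add, zero_add, smul_eq_mul, mul_one] at h1
  rw [h1, comp_aeval_apply]
  have : (fun i => aeval ![a, b] ((![1, X 0, X 1] : Fin 3 → MvPolynomial (Fin 2) k) i)) =
      ![1, a, b] := by
    funext j
    fin_cases j <;> simp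
  rw [this]

theorem homogeneousComponent_totalDegree_ne_zero {σ : Type*} {f : MvPolynomial σ k} (hf : f ≠ 0) :
    homogeneousComponent f.totalDegree f ≠ 0 := by
  classical
  have hne : f.support.Nonempty := by
    rw [Finset.nonempty_iff_ne_empty, Ne, support_eq_empty]
    exact hf
  obtain ⟨m, hm, hmd⟩ := Finset.exists_mem_eq_sup f.support hne (fun s => s.sum fun _ e => e)
  intro h0
  have h1 : coeff m (homogeneousComponent f.totalDegree f) = coeff m f := by
    rw [coeff_homogeneousComponent, if_pos]
    rw [Finsupp.degree_apply]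
    exact hmd.symm
  rw [h0, coeff_zero] at h1
  exact (mem_support_iff.1 hm) h1.symm

end Groth.Agent.Lib.Helper88.PH
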