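/-
The degree of a plane model equals the total degree of its irreducible equation.
Author: helper88
-/
import Groth.Agent.Lib.Helper88.PlaneGauss
import Groth.Agent.Lib.Helper88.PlaneHomog
import Groth.Agent.Lib.Helper34.FunFldPlane
import Groth.Agent.Lib.Helper88.FunFldDeg
import Groth.Agent.Lib.Helper88.FunFldExist

set_option autoImplicit false
set_option linter.unusedSectionVars false

namespace Groth.Agent.Lib.Helper88.PG

open FunFld WithZero Groth.Agent.Lib.Helper88.FF Groth.Agent.Lib.Helper34.FunFldPlane
  Groth.Agent.Lib.Helper34.FunFldCond Groth.Agent.Lib.Helper34.FunFldMapDiv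

variable {k K : Type*} [Field k] [Field K] [Algebra k K]

/-- **Generic coordinate change**, avoiding a given finite set of constants. -/
theorem exists_generic' [IsAlgClosed k] (hK : IsFunctionField k K) (x y : K) (T : Finset k) :
    ∃ c : k, c ∉ T ∧ ∀ Q : Place k K,
      (0 < mapDiv k ![(1 : K), x, y] Q →
        Q.1 (x + c • y) = exp (mapDiv k ![(1 : K), x, y] Q)) ∧
      (mapDiv k ![(1 : K), x, y] Q = 0 → Q.1 (x + c • y) ≤ 1) := by
  classical
  set D := mapDiv k ![(1 : K), x, y] with hD
  have hα : ∀ Q : Place k K, ∃ a : k, Q.1 y = exp (D Q) → Q.1 (x / y - algebraMap k K a) < 1 := by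
    intro Q
    by_cases h : Q.1 y = exp (D Q)
    · have hy0 : y ≠ 0 := by
        rintro rfl
        rw [map_zero] at h
        exact exp_ne_zero h.symm
      have h1 : Q.1 (x / y) ≤ 1 := by
        rw [map_div₀, h]
        exact (div_le_one₀ (zero_lt_iff.2 exp_ne_zero)).2 (x_mem_L hK x y Q)
      obtain ⟨a, ha⟩ := Groth.Agent.Lib.Helper68.FunFldRes.exists_const hK Q h1
      exact ⟨a, fun _ => ha⟩
    · exact ⟨0, fun h' => (h h').elim⟩
  choose α hα using hα
  have hinf : Infinite k := IsAlgClosed.instInfinite
  obtain ⟨c, hc⟩ := Infinite.exists_notMem_finset (T ∪ D.support.image fun Q => -α Q)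
  rw [Finset.mem_union, not_or] at hc
  obtain ⟨hcT, hc⟩ := hc
  refine ⟨c, hcT, fun Q => ⟨fun hpos => ?_, fun hzero => ?_⟩⟩
  · have hQsupp : Q ∈ D.support := by
      rw [Finsupp.mem_support_iff]
      exact hpos.ne'
    have hcα : c + α Q ≠ 0 := by
      intro h
      apply hc
      rw [Finset.mem_image]
      exact ⟨Q, hQsupp, by linear_combination -h⟩
    by_cases hy : Q.1 y = exp (D Q)
    · have hy0 : y ≠ 0 := by
        rintro rfl
        rw [map_zero] at hy
        exact exp_ne_zero hy.symm
      have h1 := hα Q hy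
      have h2 : Q.1 (algebraMap k K (c + α Q)) = 1 := val_algebraMap Q hcα
      have e : x + c • y = y * ((x / y - algebraMap k K (α Q)) + algebraMap k K (c + α Q)) := by
        rw [Algebra.smul_def, map_add]
        field_simp
        ring
      rw [e, map_mul, Valuation.map_add_eq_of_lt_right _ (by rw [h2]; exact h1), h2, mul_one, hy]
    · have hylt : Q.1 y < exp (D Q) := lt_of_le_of_ne (y_mem_L hK x y Q) hy
      have hx : Q.1 x = exp (D Q) := (val_eq_of_pos hK x y Q hpos).resolve_right hy
      have h1 : Q.1 (c • y) < Q.1 x := by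
        rw [hx]
        exact lt_of_le_of_lt (val_smul_le Q c y) hylt
      rw [Valuation.map_add_eq_of_lt_left _ h1, hx]
  · have hx1 : Q.1 x ≤ 1 := by
      have := x_mem_L hK x y Q
      rwa [← hD, hzero, exp_zero] at this
    have hy1 : Q.1 y ≤ 1 := by
      have := y_mem_L hK x y Q
      rwa [← hD, hzero, exp_zero] at this
    exact (Q.1.map_add _ _).trans (max_le hx1 ((val_smul_le Q c y).trans hy1))


section shear

open MvPolynomial

/-- The shear `(X, Y) ↦ (X - cY, Y)` as an automorphism of `k[X, Y]`. -/
noncomputable def shear (c : k) : MvPolynomial (Fin 2) k ≃ₐ[k] MvPolynomial (Fin 2) k :=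
  AlgEquiv.ofAlgHom (aeval ![X 0 - C c * X 1, X 1]) (aeval ![X 0 + C c * X 1, X 1])
    (by ext i; fin_cases i <;> simp) (by ext i; fin_cases i <;> simp)

lemma shear_apply (c : k) (f : MvPolynomial (Fin 2) k) :
    shear c f = aeval ![X 0 - C c * X 1, X 1] f := rfl

lemma aeval_shear {R : Type*} [CommRing R] [Algebra k R] (c : k) (f : MvPolynomial (Fin 2) k)
    (a b : R) : aeval ![a, b] (shear c f) = aeval ![a - c • b, b] f := by
  rw [shear_apply, comp_aeval_apply]
  have : (fun i => aeval ![a, b] ((![X 0 - C c * X 1, X 1] : Fin 2 → MvPolynomial (Fin 2) k) i)) =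
      ![a - c • b, b] := by
    funext i
    fin_cases i
    · simp [Algebra.smul_def]
    · simp
  rw [this]

open Polynomial.Bivariate in
lemma symm_shear (c : k) (f : MvPolynomial (Fin 2) k) :
    (Polynomial.Bivariate.equivMvPolynomial k).symm (shear c f) =
      aeval (![Polynomial.C Polynomial.X - Polynomial.C (Polynomial.C c) * Polynomial.X,
        Polynomial.X] : Fin 2 → Polynomial (Polynomial k)) f := by
  rw [shear_apply]
  have := comp_aeval_apply (![X 0 - C c * X 1, X 1] : Fin 2 → MvPolynomial (Fin 2) k)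
    ((Polynomial.Bivariate.equivMvPolynomial k).symm.toAlgHom) f
  refine this.trans ?_
  have h2 : (fun i => (Polynomial.Bivariate.equivMvPolynomial k).symm.toAlgHom
      ((![X 0 - C c * X 1, X 1] : Fin 2 → MvPolynomial (Fin 2) k) i)) =
      (![Polynomial.C Polynomial.X - Polynomial.C (Polynomial.C c) * Polynomial.X,
        Polynomial.X] : Fin 2 → Polynomial (Polynomial k)) := by
    funext i
    fin_cases i
    · simp
    · simp
  rw [h2]

/-- Degree and leading coefficient in `Y` of the sheared polynomial. -/
lemma symm_shear_top (c : k) (f : MvPolynomial (Fin 2) k) :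
    ((Polynomial.Bivariate.equivMvPolynomial k).symm (shear c f)).natDegree ≤ f.totalDegree ∧
    ((Polynomial.Bivariate.equivMvPolynomial k).symm (shear c f)).coeff f.totalDegree =
      Polynomial.C (aeval (![-c, 1] : Fin 2 → k) (homogeneousComponent f.totalDegree f)) := by
  rw [symm_shear]
  have hv : ∀ i, ((![Polynomial.C Polynomial.X - Polynomial.C (Polynomial.C c) * Polynomial.X,
      Polynomial.X] : Fin 2 → Polynomial (Polynomial k)) i).natDegree ≤ 1 := by
    intro i
    fin_cases i
    · show (Polynomial.C Polynomial.X - Polynomial.C (Polynomial.C c) * Polynomial.X :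
        Polynomial (Polynomial k)).natDegree ≤ 1
      compute_degree
    · show (Polynomial.X : Polynomial (Polynomial k)).natDegree ≤ 1
      compute_degree
  obtain ⟨h1, h2⟩ := Groth.Agent.Lib.Helper88.PT.aeval_top (k := k) _ hv f f.totalDegree le_rfl
  refine ⟨h1, ?_⟩
  rw [h2]
  have : (fun i => ((![Polynomial.C Polynomial.X - Polynomial.C (Polynomial.C c) * Polynomial.X,
      Polynomial.X] : Fin 2 → Polynomial (Polynomial k)) i).coeff 1) =
      algebraMap k (Polynomial k) ∘ (![-c, 1] : Fin 2 → k) := by
    funext i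
    fin_cases i
    · simp [Polynomial.coeff_C, Polynomial.coeff_X]
    · simp [Polynomial.coeff_X]
  rw [this, aeval_algebraMap_apply]
  rfl


/-- Only finitely many `c` kill the top form at `(-c, 1)`. -/
lemma finite_bad (f : MvPolynomial (Fin 2) k) (hf : f ≠ 0) :
    ∃ T : Finset k, ∀ c ∉ T,
      aeval (![-c, 1] : Fin 2 → k) (homogeneousComponent f.totalDegree f) ≠ 0 := by
  classical
  set fd := homogeneousComponent f.totalDegree f with hfd
  have hfd0 : fd ≠ 0 := Groth.Agent.Lib.Helper88.PH.homogeneousComponent_totalDegree_ne_zero hf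
  set q : Polynomial k := aeval (![Polynomial.X, 1] : Fin 2 → Polynomial k) fd with hq
  have hq0 : q ≠ 0 := by
    intro h0
    have := Polynomial.homogenize_eq_of_isHomogeneous
      (homogeneousComponent_isHomogeneous f.totalDegree f) hq.symm
    rw [h0, Polynomial.homogenize_zero] at this
    exact hfd0 this.symm
  refine ⟨q.roots.toFinset.image (fun r => -r), fun c hc => ?_⟩
  have hnr : ¬ q.IsRoot (-c) := by
    intro hr
    apply hc
    rw [Finset.mem_image]
    exact ⟨-c, by rw [Multiset.mem_toFinset, Polynomial.mem_roots hq0]; exact hr, neg_neg c⟩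
  have hev : Polynomial.eval (-c) q = aeval (![-c, 1] : Fin 2 → k) fd := by
    have := comp_aeval_apply (![Polynomial.X, 1] : Fin 2 → Polynomial k)
      (Polynomial.aeval (-c) : Polynomial k →ₐ[k] k) fd
    rw [← hq] at this
    have h2 : (fun i => (Polynomial.aeval (-c) : Polynomial k →ₐ[k] k)
        ((![Polynomial.X, 1] : Fin 2 → Polynomial k) i)) = (![-c, 1] : Fin 2 → k) := by
      funext i
      fin_cases i
      · simp
      · simp
    rw [h2] at this
    rw [← this]
    rfl
  rw [← hev]
  exact hnr

/-- **Field-theoretic degree**: for a generic shear, `y` has degree `deg f` over `k(x₁)`, with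
explicit minimal polynomial. -/
theorem minpoly_shear (f : MvPolynomial (Fin 2) k) (hf : Irreducible f) (c : k)
    (hc : aeval (![-c, 1] : Fin 2 → k) (homogeneousComponent f.totalDegree f) ≠ 0)
    (x₁ y : K) (hx : Transcendental k x₁) (hfxy : aeval ![x₁ - c • y, y] f = 0) :
    minpoly (IntermediateField.adjoin k ({x₁} : Set K)) y =
      (Polynomial.C (Polynomial.C
        (aeval (![-c, 1] : Fin 2 → k) (homogeneousComponent f.totalDegree f))⁻¹) *
        (Polynomial.Bivariate.equivMvPolynomial k).symm (shear c f)).map (ev (k := k) x₁) ∧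
    (minpoly (IntermediateField.adjoin k ({x₁} : Set K)) y).natDegree = f.totalDegree := by
  set a := aeval (![-c, 1] : Fin 2 → k) (homogeneousComponent f.totalDegree f) with ha
  obtain ⟨h1, h2⟩ := symm_shear_top c f
  set p := (Polynomial.Bivariate.equivMvPolynomial k).symm (shear c f) with hp
  have hCa : (Polynomial.C a : Polynomial k) ≠ 0 := by
    rw [Ne, Polynomial.C_eq_zero]
    exact hc
  have hdeg : p.natDegree = f.totalDegree :=
    Polynomial.natDegree_eq_of_le_of_coeff_ne_zero h1 (by rw [h2]; exact hCa)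
  have hlead : p.leadingCoeff = Polynomial.C a := by
    rw [Polynomial.leadingCoeff, hdeg, h2]
  have hirr : Irreducible (shear c f) := (MulEquiv.irreducible_iff (shear c)).2 hf
  have hzero : aeval ![x₁, y] (shear c f) = 0 := by
    rw [aeval_shear]
    exact hfxy
  have hmin := minpoly_eq (shear c f) hirr a hc hlead x₁ y hx hzero
  refine ⟨hmin, ?_⟩
  rw [hmin]
  have hmonic : (Polynomial.C (Polynomial.C a⁻¹) * p).Monic := by
    rw [Polynomial.Monic, Polynomial.leadingCoeff_mul, Polynomial.leadingCoeff_C, hlead,
      ← Polynomial.C_mul, inv_mul_cancel₀ hc, Polynomial.C_1]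
  rw [hmonic.natDegree_map, Polynomial.natDegree_C_mul, hdeg]
  rw [Ne, Polynomial.C_eq_zero]
  exact inv_ne_zero hc

end shear


section degree

/-- `k(x₁)(y₁) = K` when a generating set of `K` lies in `k(x₁, y₁)`. -/
lemma adjoin_adjoin_eq_top {x₁ y₁ : K} (S : Set K) (hS : IntermediateField.adjoin k S = ⊤)
    (h : ∀ s ∈ S, s ∈ IntermediateField.adjoin k ({x₁, y₁} : Set K)) :
    IntermediateField.adjoin (IntermediateField.adjoin k ({x₁} : Set K)) ({y₁} : Set K) = ⊤ := by
  rw [← IntermediateField.restrictScalars_eq_top_iff (K := k),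
    IntermediateField.adjoin_adjoin_left, Set.singleton_union, eq_top_iff, ← hS]
  exact IntermediateField.adjoin_le_iff.2 h

/-- The degree of `K` over `k(x₁)` is the degree of the minimal polynomial of a primitive `y₁`. -/
lemma finrank_eq_natDegree_minpoly {x₁ y₁ : K}
    (htop : IntermediateField.adjoin (IntermediateField.adjoin k ({x₁} : Set K))
      ({y₁} : Set K) = ⊤)
    (hint : IsIntegral (IntermediateField.adjoin k ({x₁} : Set K)) y₁) :
    Module.finrank (IntermediateField.adjoin k ({x₁} : Set K)) K =
      (minpoly (IntermediateField.adjoin k ({x₁} : Set K)) y₁).natDegree := by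
  rw [← IntermediateField.adjoin.finrank hint, htop, IntermediateField.finrank_top']

variable [IsAlgClosed k]

/-- A plane model with no poles is constant: impossible. -/
lemma mapDiv_ne_zero (hK : IsFunctionField k K) (x y : K)
    (hxy : IntermediateField.adjoin k ({x, y} : Set K) = ⊤) :
    mapDiv k ![(1 : K), x, y] ≠ 0 := by
  intro h0
  have hx := x_mem_L hK x y
  have hy := y_mem_L hK x y
  rw [h0, L_zero_eq hK, Submodule.mem_one] at hx hy
  obtain ⟨a, rfl⟩ := hx
  obtain ⟨b, rfl⟩ := hy
  obtain ⟨⟨z, hz, -⟩, -⟩ := hK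
  apply hz
  have hzt : z ∈ IntermediateField.adjoin k ({algebraMap k K a, algebraMap k K b} : Set K) := by
    rw [hxy]
    exact IntermediateField.mem_top
  have hbot : IntermediateField.adjoin k ({algebraMap k K a, algebraMap k K b} : Set K) = ⊥ := by
    rw [IntermediateField.adjoin_eq_bot_iff]
    intro s hs
    rcases hs with rfl | rfl
    · exact IntermediateField.algebraMap_mem _ _
    · exact IntermediateField.algebraMap_mem _ _
  rw [hbot, IntermediateField.mem_bot] at hzt
  obtain ⟨r, rfl⟩ := hzt
  exact isAlgebraic_algebraMap r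

/-- A generic coordinate is transcendental. -/
lemma transcendental_of_generic (hK : IsFunctionField k K) (x y : K)
    (hxy : IntermediateField.adjoin k ({x, y} : Set K) = ⊤) (z : K)
    (hz : ∀ Q : Place k K,
      (0 < mapDiv k ![(1 : K), x, y] Q → Q.1 z = exp (mapDiv k ![(1 : K), x, y] Q)) ∧
      (mapDiv k ![(1 : K), x, y] Q = 0 → Q.1 z ≤ 1)) : Transcendental k z := by
  intro halg
  obtain ⟨a, rfl⟩ := hK.2 z halg
  apply mapDiv_ne_zero hK x y hxy
  ext Q
  rw [Finsupp.zero_apply]
  rcases (mapDiv_nonneg hK x y Q).lt_or_eq with hpos | h0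
  · exfalso
    have h1 := (hz Q).1 hpos
    have h2 : Q.1 (algebraMap k K a) ≤ 1 := Q.2.1 a
    rw [h1, ← exp_zero, exp_le_exp] at h2
    omega
  · exact h0.symm

/-- **The degree of a plane model is the degree of its equation** (S11070). -/
theorem deg_mapDiv_eq_totalDegree (hK : IsFunctionField k K) (x y : K)
    (hxy : IntermediateField.adjoin k ({x, y} : Set K) = ⊤) (f : MvPolynomial (Fin 2) k)
    (hf : Irreducible f) (hfxy : MvPolynomial.aeval ![x, y] f = 0) :
    (mapDiv k ![(1 : K), x, y]).deg = f.totalDegree := by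
  obtain ⟨T, hT⟩ := finite_bad f hf.ne_zero
  obtain ⟨c, hcT, hc⟩ := exists_generic' hK x y T
  set x₁ : K := x + c • y with hx₁
  have htr : Transcendental k x₁ := transcendental_of_generic hK x y hxy x₁ hc
  have hpole := poleDiv_eq_mapDiv hK x y x₁ hc
  have hdeg := deg_poleDiv_eq hK htr
  rw [hpole] at hdeg
  have hxx : x₁ - c • y = x := by rw [hx₁]; ring
  obtain ⟨-, hmin⟩ := minpoly_shear f hf c (hT c hcT) x₁ y htr (by rw [hxx]; exact hfxy)
  have hfin := finiteDimensional_adjoin_of_transcendental hK htr
  have htop := adjoin_adjoin_eq_top (k := k) (x₁ := x₁) (y₁ := y) {x, y} hxy (by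
    intro s hs
    rcases hs with rfl | rfl
    · rw [← hxx]
      apply sub_mem
      · exact IntermediateField.subset_adjoin _ _ (by simp)
      · rw [Algebra.smul_def]
        exact mul_mem (IntermediateField.algebraMap_mem _ _)
          (IntermediateField.subset_adjoin _ _ (by simp))
    · exact IntermediateField.subset_adjoin _ _ (by simp))
  rw [hdeg, finrank_eq_natDegree_minpoly htop (Algebra.IsIntegral.isIntegral y), hmin]

end degree

end Groth.Agent.Lib.Helper88.PG
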