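/-
Plane models and constant field extensions: algebraic closedness of the constant field and the
transcendence degree, from absolute irreducibility.
Author: helper88
-/
import Groth.Agent.Lib.Helper88.GeoC
import Groth.Agent.Lib.Helper88.PlaneDeg

set_option autoImplicit false
set_option linter.unusedSectionVars false
set_option linter.style.haveILetI false

namespace Groth.Agent.Lib.Helper88.GEO

open MvPolynomial TensorProduct

universe u v

variable {k : Type u} {K : Type v} [Field k] [Field K] [Algebra k K]

/-- If all `K ⊗ k'` are fields, `k` is algebraically closed in `K`. -/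
theorem mem_range_of_isAlgebraic
    (hgeo : ∀ (k' : Type u) [Field k'] [Algebra k k'], FiniteDimensional k k' →
      IsField (K ⊗[k] k'))
    (α : K) (hα : IsAlgebraic k α) : α ∈ Set.range (algebraMap k K) := by
  have hint : IsIntegral k α := hα.isIntegral
  set m := minpoly k α with hm
  haveI : Fact (Irreducible m) := ⟨minpoly.irreducible hint⟩
  have hne : m ≠ 0 := minpoly.ne_zero hint
  set pb := AdjoinRoot.powerBasis hne with hpb
  haveI hfd : FiniteDimensional k (AdjoinRoot m) := pb.finite
  have hT := hgeo (AdjoinRoot m) hfd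
  set ι : AdjoinRoot m →ₐ[k] K :=
    AdjoinRoot.liftAlgHom m (Algebra.ofId k K) α (by
      have := minpoly.aeval k α
      rw [Polynomial.aeval_def] at this
      exact this) with hι
  set μ : K ⊗[k] AdjoinRoot m →ₐ[K] K :=
    Algebra.TensorProduct.lift (AlgHom.id K K) ι (fun _ _ => Commute.all _ _) with hμ
  have hμsurj : Function.Surjective μ := by
    intro z
    refine ⟨z ⊗ₜ 1, ?_⟩
    rw [hμ, Algebra.TensorProduct.lift_tmul]
    simp
  have hμinj : Function.Injective μ := by
    rw [injective_iff_map_eq_zero]
    intro s hs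
    by_contra hs0
    obtain ⟨s', hs'⟩ := hT.mul_inv_cancel hs0
    have := congrArg μ hs'
    rw [map_mul, hs, zero_mul, map_one] at this
    exact zero_ne_one this
  have e : (K ⊗[k] AdjoinRoot m) ≃ₗ[K] K :=
    LinearEquiv.ofBijective μ.toLinearMap ⟨hμinj, hμsurj⟩
  have h1 : Module.finrank K (K ⊗[k] AdjoinRoot m) = 1 := by
    rw [e.finrank_eq, Module.finrank_self]
  rw [Module.finrank_baseChange, pb.finrank, hpb, AdjoinRoot.powerBasis_dim] at h1
  have := (minpoly.natDegree_eq_one_iff (A := k) (x := α)).1 h1
  exact this

end Groth.Agent.Lib.Helper88.GEO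

namespace Groth.Agent.Lib.Helper88.GEO

open MvPolynomial TensorProduct Groth.Agent.Lib.Helper88.PG

universe u v

variable {k : Type u} {K : Type v} [Field k] [Field K] [Algebra k K]

lemma finite_of_top {F : Type*} [Field F] [Algebra F K] {y : K} (hint : IsIntegral F y)
    (htop : IntermediateField.adjoin F ({y} : Set K) = ⊤) : FiniteDimensional F K := by
  have h1 := IntermediateField.adjoin.finiteDimensional hint
  rw [htop] at h1
  exact Module.Finite.equiv (IntermediateField.topEquiv (F := F) (E := K)).toLinearEquiv

/-- The generators of a plane model with principal relation ideal are not both constants. -/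
lemma not_both_const (x y : K) (f : MvPolynomial (Fin 2) k) (hirr : Irreducible f)
    (hker : ∀ p : MvPolynomial (Fin 2) k, aeval ![x, y] p = 0 → f ∣ p) (a b : k)
    (ha : algebraMap k K a = x) (hb : algebraMap k K b = y) : False := by
  have h1 : f ∣ X 0 - C a := hker _ (by simp [← ha])
  have h2 : f ∣ X 1 - C b := hker _ (by simp [← hb])
  have hf0 : f ≠ 0 := hirr.ne_zero
  have hdeg : 1 ≤ f.totalDegree := by
    by_contra hlt
    have h0 : f.totalDegree = 0 := by omega
    obtain ⟨c, hc⟩ : ∃ c, f = C c := ⟨_, (totalDegree_eq_zero_iff_eq_C).1 h0⟩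
    have hc0 : c ≠ 0 := by
      rintro rfl
      exact hf0 (by rw [hc, map_zero])
    apply hirr.not_isUnit
    rw [hc]
    exact (isUnit_iff_ne_zero.2 hc0).map C
  have hlin : ∀ (l : Fin 2) (e : k) (h : MvPolynomial (Fin 2) k), X l - C e = f * h →
      ∃ c₁ : k, h = C c₁ := by
    intro l e h hh
    have hne : (X l - C e : MvPolynomial (Fin 2) k) ≠ 0 := by
      intro h0
      have := congrArg (eval (fun _ => e + 1)) h0
      simp at this
    have hh0 : h ≠ 0 := by
      rintro rfl
      rw [mul_zero] at hh
      exact hne hh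
    have h3 : (X l - C e : MvPolynomial (Fin 2) k).totalDegree ≤ 1 := by
      refine (totalDegree_sub_C_le _ _).trans ?_
      rw [totalDegree_X]
    rw [hh, totalDegree_mul_of_isDomain hf0 hh0] at h3
    have h4 : h.totalDegree = 0 := by omega
    exact ⟨_, (totalDegree_eq_zero_iff_eq_C).1 h4⟩
  obtain ⟨h, hh⟩ := h1
  obtain ⟨h', hh'⟩ := h2
  obtain ⟨c₁, rfl⟩ := hlin 0 a h hh
  obtain ⟨c₂, rfl⟩ := hlin 1 b h' hh'
  have h5 : C c₂ * (X 0 - C a) = C c₁ * (X 1 - C b : MvPolynomial (Fin 2) k) := by
    rw [hh, hh']
    ring
  have h6 := congrArg (eval (![a + 1, b] : Fin 2 → k)) h5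
  simp at h6
  rw [h6, map_zero, mul_zero] at hh'
  have h7 := congrArg (eval (![a, b + 1] : Fin 2 → k)) hh'
  simp at h7

/-- A plane model with principal relation ideal, over a constant field algebraically closed in
`K`, has transcendence degree one. -/
theorem exists_transcendental (x y : K)
    (hxy : IntermediateField.adjoin k ({x, y} : Set K) = ⊤)
    (f : MvPolynomial (Fin 2) k) (hirr : Irreducible f) (hfxy : aeval ![x, y] f = 0)
    (hker : ∀ p : MvPolynomial (Fin 2) k, aeval ![x, y] p = 0 → f ∣ p)
    (hcl : ∀ α : K, IsAlgebraic k α → α ∈ Set.range (algebraMap k K)) :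
    ∃ z : K, Transcendental k z ∧
      FiniteDimensional (IntermediateField.adjoin k ({z} : Set K)) K := by
  have hnot : ¬ (IsAlgebraic k x ∧ IsAlgebraic k y) := by
    rintro ⟨hx, hy⟩
    obtain ⟨a, ha⟩ := hcl x hx
    obtain ⟨b, hb⟩ := hcl y hy
    exact not_both_const x y f hirr hker a b ha hb
  by_cases hx : IsAlgebraic k x
  · have hy : Transcendental k y := fun hy => hnot ⟨hx, hy⟩
    refine ⟨y, hy, ?_⟩
    have hint : IsIntegral (IntermediateField.adjoin k ({y} : Set K)) x :=
      (hx.tower_top _).isIntegral
    have htop := adjoin_adjoin_eq_top (k := k) (x₁ := y) (y₁ := x) {x, y} hxy (by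
      intro s hs
      rcases hs with rfl | hs
      · exact IntermediateField.subset_adjoin k _ (by simp)
      · rw [Set.mem_singleton_iff.1 hs]
        exact IntermediateField.subset_adjoin k _ (by simp))
    exact finite_of_top hint htop
  · refine ⟨x, hx, ?_⟩
    set F := (Polynomial.Bivariate.equivMvPolynomial k).symm f with hF
    have hF0 : F ≠ 0 := by
      intro h
      apply hirr.ne_zero
      have := congrArg (Polynomial.Bivariate.equivMvPolynomial k) h
      rwa [hF, AlgEquiv.apply_symm_apply, map_zero] at this
    have hFx0 : F.map (ev (k := k) x) ≠ 0 := by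
      intro h
      apply hF0
      exact Polynomial.map_injective _ (ev_injective hx) (by rw [h, Polynomial.map_zero])
    have hFy : Polynomial.aeval y (F.map (ev (k := k) x)) = 0 := by
      rw [aeval_map_ev, aevalAeval_eq, hF, AlgEquiv.apply_symm_apply, hfxy]
    have halg : IsAlgebraic (IntermediateField.adjoin k ({x} : Set K)) y := ⟨_, hFx0, hFy⟩
    have hint : IsIntegral (IntermediateField.adjoin k ({x} : Set K)) y := halg.isIntegral
    have htop := adjoin_adjoin_eq_top (k := k) (x₁ := x) (y₁ := y) {x, y} hxy (by
      intro s hs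
      exact IntermediateField.subset_adjoin k _ hs)
    exact finite_of_top hint htop

end Groth.Agent.Lib.Helper88.GEO
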