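/-
Gluing Gorenstein-ness along a regular element: if `R/f` and `R[1/f]` are Gorenstein rings then so
is `R`.
Author: helper88
-/
import Groth.Agent.Lib.Helper85.GorRing

set_option autoImplicit false
set_option linter.style.haveILetI false

namespace Groth.Agent.Lib.Helper88.GorGlue

open IsLocalRing Groth.Agent.Lib.Helper85.GorRing

universe u

/-- If `f` is a regular element of a Noetherian ring `R` such that `R/f` and `R[1/f]` are
Gorenstein rings, then `R` is a Gorenstein ring. -/
theorem gorRing_of_quot_of_away {R R' S : Type u} [CommRing R] [CommRing R'] [CommRing S]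
    [IsNoetherianRing R] (f : R) (hf : IsSMulRegular R f) (π : R →+* R')
    (hπ : Function.Surjective π) (hker : RingHom.ker π = Ideal.span {f})
    [Algebra R S] [IsLocalization.Away f S]
    [LocCoh.IsGorensteinRing R'] [LocCoh.IsGorensteinRing S] : LocCoh.IsGorensteinRing R := by
  refine { isGorensteinLocalRing_localization := fun p _ => ?_ }
  by_cases hfp : f ∈ p
  · have hle : RingHom.ker π ≤ p := by
      rw [hker]; exact (Ideal.span_singleton_le_iff_mem _).mpr hfp
    let q' : Ideal R' := p.map π
    haveI : q'.IsPrime := Ideal.map_isPrime_of_surjective hπ hle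
    have hcomap : q'.comap π = p := by
      rw [Ideal.comap_map_of_surjective π hπ, ← RingHom.ker_eq_comap_bot]
      exact sup_eq_left.mpr hle
    obtain ⟨φ, hφ, hkerφ, -⟩ := exists_loc_surjective π hπ p q' hcomap
    haveI := LocCoh.IsGorensteinRing.isGorensteinLocalRing_localization (A := R') q'
    refine (gor_iff_of_surjective φ hφ (algebraMap R (Localization.AtPrime p) f)
      ?_ ?_ ?_).mp inferInstance
    · rw [← Localization.AtPrime.map_eq_maximalIdeal]
      exact Ideal.mem_map_of_mem _ hfp
    · exact IsSMulRegular.of_flat hf
    · rw [hkerφ, hker, Ideal.map_span, Set.image_singleton]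
  · have hdisj : Disjoint (Submonoid.powers f : Set R) (p : Set R) := by
      rw [Set.disjoint_left]
      rintro x ⟨n, rfl⟩ hx
      exact hfp (Ideal.IsPrime.mem_of_pow_mem inferInstance n hx)
    let q : Ideal S := p.map (algebraMap R S)
    haveI hq : q.IsPrime :=
      IsLocalization.isPrime_of_isPrime_disjoint (Submonoid.powers f) S p inferInstance hdisj
    haveI : IsLocalization.AtPrime (Localization.AtPrime q) p := by
      convert IsLocalization.isLocalization_isLocalization_atPrime_isLocalization
        (Submonoid.powers f) (Localization.AtPrime q) q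
      exact (IsLocalization.under_map_of_isPrime_disjoint (Submonoid.powers f) S
        inferInstance hdisj).symm
    haveI := LocCoh.IsGorensteinRing.isGorensteinLocalRing_localization (A := S) q
    exact gor_of_ringEquiv (R := Localization.AtPrime q) (S := Localization.AtPrime p)
      (IsLocalization.algEquiv p.primeCompl
        (Localization.AtPrime q) (Localization.AtPrime p)).toRingEquiv

end Groth.Agent.Lib.Helper88.GorGlue
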