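/-
Hilbert's different formula, part A: the constant-term homomorphism `O_Q → F'` of an expansion at
a place, and local lifting of a primitive element of the coefficient field.
Author: helper88
-/
import Groth.Agent.Lib.Helper88.DualDiff4

set_option autoImplicit false
set_option linter.style.haveILetI false

namespace Groth.Agent.Lib.Helper88.Hilb

open FunFld WithZero Polynomial
open Groth.Agent.Lib.Helper88.FF

universe u v w

variable {k : Type u} {K' : Type v} [Field k] [Field K'] [Algebra k K']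
variable {F' : Type w} [Field F'] [Algebra k F']

/-- The expansion of an element of `O_Q` is a power series. -/
lemma exists_powerSeries {Q : Place k K'} {ψ : K' →ₐ[k] LaurentSeries F'}
    (hψ : LocRes.IsExpansionAt Q.1 ψ) {z : K'} (hz : Q.1 z ≤ 1) :
    ∃ f : PowerSeries F', (f : LaurentSeries F') = ψ z := by
  rw [← LaurentSeries.val_le_one_iff_eq_coe, hψ.1]
  exact hz

/-- The constant-term map of an expansion, as a `k`-algebra homomorphism on the valuation ring. -/
noncomputable def cz {Q : Place k K'} {ψ : K' →ₐ[k] LaurentSeries F'}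
    (hψ : LocRes.IsExpansionAt Q.1 ψ) : Q.O →ₐ[k] F' where
  toFun z := (ψ z.1).coeff 0
  map_one' := by
    show (ψ 1).coeff 0 = 1
    rw [map_one, HahnSeries.coeff_one]
    simp
  map_mul' z w := by
    show (ψ (z.1 * w.1)).coeff 0 = (ψ z.1).coeff 0 * (ψ w.1).coeff 0
    obtain ⟨f, hf⟩ := exists_powerSeries hψ z.2
    obtain ⟨g, hg⟩ := exists_powerSeries hψ w.2
    rw [map_mul, ← hf, ← hg, ← PowerSeries.coe_mul]
    have h0 : ((0 : ℕ) : ℤ) = 0 := Nat.cast_zero
    rw [← h0, LaurentSeries.coeff_coe_powerSeries, LaurentSeries.coeff_coe_powerSeries,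
      LaurentSeries.coeff_coe_powerSeries, PowerSeries.coeff_zero_eq_constantCoeff_apply,
      PowerSeries.coeff_zero_eq_constantCoeff_apply, PowerSeries.coeff_zero_eq_constantCoeff_apply,
      map_mul]
  map_zero' := by
    show (ψ 0).coeff 0 = 0
    rw [map_zero, HahnSeries.coeff_zero]
  map_add' z w := by
    show (ψ (z.1 + w.1)).coeff 0 = (ψ z.1).coeff 0 + (ψ w.1).coeff 0
    rw [map_add, HahnSeries.coeff_add]
  commutes' c := by
    show (ψ (algebraMap k K' c)).coeff 0 = algebraMap k F' c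
    rw [LocRes.map_algebraMap]
    exact HahnSeries.coeff_single_same 0 _

lemma cz_apply {Q : Place k K'} {ψ : K' →ₐ[k] LaurentSeries F'}
    (hψ : LocRes.IsExpansionAt Q.1 ψ) (z : Q.O) : cz hψ z = (ψ z.1).coeff 0 := rfl

lemma cz_surjective {Q : Place k K'} {ψ : K' →ₐ[k] LaurentSeries F'}
    (hψ : LocRes.IsExpansionAt Q.1 ψ) : Function.Surjective (cz hψ) := by
  intro a
  obtain ⟨z, hz, hza⟩ := hψ.2.1 a
  exact ⟨⟨z, hz⟩, hza⟩

lemma cz_eq_zero_iff {Q : Place k K'} {ψ : K' →ₐ[k] LaurentSeries F'}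
    (hψ : LocRes.IsExpansionAt Q.1 ψ) (z : Q.O) : cz hψ z = 0 ↔ Q.1 z.1 < 1 := by
  rw [cz_apply, lt_one_iff_le_exp_neg_one, ← hψ.1]
  constructor
  · intro h0
    rw [show ((-1 : ℤ)) = -(1 : ℤ) from rfl, LaurentSeries.valuation_le_iff_coeff_lt_eq_zero]
    intro n hn
    rcases lt_or_eq_of_le (Int.lt_add_one_iff.1 (by simpa using hn) : n ≤ 0) with h | h
    · have h1 : Valued.v (ψ z.1) ≤ exp (-(0 : ℤ)) := by
        rw [hψ.1, neg_zero, exp_zero]; exact z.2
      exact LaurentSeries.coeff_zero_of_lt_valuation F' h1 h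
    · rw [h]; exact h0
  · intro h
    exact LaurentSeries.coeff_zero_of_lt_valuation F' h (by norm_num)

instance isScalarTower_O (Q : Place k K') : IsScalarTower k Q.O K' :=
  IsScalarTower.of_algebraMap_eq (fun _ => rfl)

lemma coe_aeval (Q : Place k K') (a : Q.O) (p : k[X]) :
    ((aeval a p : Q.O) : K') = aeval (a : K') p :=
  (Polynomial.aeval_algebraMap_apply K' a p).symm

/-- Polynomials with constant coefficients are `1`-Lipschitz on the valuation ring. -/
lemma val_aeval_sub_le (Q : Place k K') {a b : K'} (ha : Q.1 a ≤ 1) (hb : Q.1 b ≤ 1) (p : k[X]) :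
    Q.1 (aeval a p - aeval b p) ≤ Q.1 (a - b) := by
  set a' : Q.O := ⟨a, ha⟩
  set b' : Q.O := ⟨b, hb⟩
  obtain ⟨c, hc⟩ := Polynomial.sub_dvd_eval_sub a' b' (p.map (algebraMap k Q.O))
  rw [eval_map_algebraMap, eval_map_algebraMap] at hc
  have h1 : aeval a p - aeval b p = (a - b) * c.1 := by
    have := congrArg (Subtype.val) hc
    rw [← coe_aeval Q a' p, ← coe_aeval Q b' p]
    exact this
  rw [h1, map_mul]
  exact (mul_le_mul' le_rfl c.2).trans_eq (mul_one _)

lemma val_aeval_le_one (Q : Place k K') {a : K'} (ha : Q.1 a ≤ 1) (p : k[X]) :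
    Q.1 (aeval a p) ≤ 1 := by
  rw [← coe_aeval Q ⟨a, ha⟩ p]
  exact (aeval (⟨a, ha⟩ : Q.O) p).2

variable [FiniteDimensional k F'] [Algebra.IsSeparable k F']

/-- **Local lifting**: there are `h ∈ k[X]` with nonzero constant term and a unit `y₀ ∈ O_Q`
such that `h(y₀)` is a uniformizer at `Q` and `k[y₀]` surjects onto the residue field. -/
theorem exists_local_lift {Q : Place k K'} {ψ : K' →ₐ[k] LaurentSeries F'}
    (hψ : LocRes.IsExpansionAt Q.1 ψ) :
    ∃ (h : k[X]) (y₀ : K'), h.eval 0 ≠ 0 ∧ Q.1 y₀ = 1 ∧ Q.1 (aeval y₀ h) = exp (-1 : ℤ) ∧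
      ∀ w : K', Q.1 w ≤ 1 → ∃ p : k[X], Q.1 (w - aeval y₀ p) < 1 := by
  classical
  -- a nonzero primitive element
  obtain ⟨α, hα0, hα⟩ : ∃ α : F', α ≠ 0 ∧ IntermediateField.adjoin k ({α} : Set F') = ⊤ := by
    obtain ⟨α₀, hα₀⟩ := Field.exists_primitive_element k F'
    by_cases h0 : α₀ = 0
    · refine ⟨1, one_ne_zero, ?_⟩
      rw [h0, IntermediateField.adjoin_zero] at hα₀
      rw [IntermediateField.adjoin_one]
      exact hα₀
    · exact ⟨α₀, h0, hα₀⟩
  have hint : IsIntegral k α := Algebra.IsIntegral.isIntegral α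
  set h : k[X] := minpoly k α with hh
  have hsep : h.Separable := Algebra.IsSeparable.isSeparable k α
  have hh0 : h.eval 0 ≠ 0 := by
    rw [← coeff_zero_eq_eval_zero]
    exact minpoly.coeff_zero_ne_zero hint hα0
  have hhα : aeval α h = 0 := minpoly.aeval k α
  have hh'α : aeval α (derivative h) ≠ 0 := hsep.aeval_derivative_ne_zero hhα
  have hadj : Algebra.adjoin k ({α} : Set F') = ⊤ := by
    rw [← IntermediateField.adjoin_simple_toSubalgebra_of_isAlgebraic hint.isAlgebraic, hα,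
      IntermediateField.top_toSubalgebra]
  -- key facts for lifts of `α`
  have hunit : ∀ y : Q.O, cz hψ y ≠ 0 → Q.1 y.1 = 1 := by
    intro y hy
    refine le_antisymm y.2 (not_lt.1 fun hlt => hy ((cz_eq_zero_iff hψ y).2 hlt))
  have hres : ∀ y : Q.O, cz hψ y = α → ∀ w : K', Q.1 w ≤ 1 →
      ∃ p : k[X], Q.1 (w - aeval y.1 p) < 1 := by
    intro y hy w hw
    have hmem : cz hψ ⟨w, hw⟩ ∈ Algebra.adjoin k ({α} : Set F') := by rw [hadj]; trivial
    rw [Algebra.adjoin_singleton_eq_range_aeval] at hmem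
    obtain ⟨p, hp⟩ := hmem
    refine ⟨p, ?_⟩
    have h1 : cz hψ (⟨w, hw⟩ - aeval y p) = 0 := by
      rw [map_sub, ← Polynomial.aeval_algHom_apply, hy, sub_eq_zero]
      exact hp.symm
    have h2 := (cz_eq_zero_iff hψ _).1 h1
    rw [← coe_aeval Q y p]
    exact h2
  obtain ⟨y₁, hy₁⟩ := cz_surjective hψ α
  have hval1 : Q.1 (aeval y₁ h : Q.O).1 < 1 := by
    rw [← cz_eq_zero_iff hψ, ← Polynomial.aeval_algHom_apply, hy₁]
    exact hhα
  by_cases hcase : Q.1 (aeval y₁ h : Q.O).1 = exp (-1 : ℤ)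
  · refine ⟨h, y₁.1, hh0, hunit y₁ (by rw [hy₁]; exact hα0), ?_, hres y₁ hy₁⟩
    rw [← coe_aeval Q y₁ h]
    exact hcase
  · -- modify by a uniformizer
    have hval2 : Q.1 (aeval y₁ h : Q.O).1 ≤ exp (-2 : ℤ) := by
      have h1 : Q.1 (aeval y₁ h : Q.O).1 < exp (-1 : ℤ) :=
        lt_of_le_of_ne (lt_one_iff_le_exp_neg_one.1 hval1) hcase
      have := (lt_exp_succ_iff (x := Q.1 (aeval y₁ h : Q.O).1) (n := -2)).1 (by simpa using h1)
      exact this
    obtain ⟨t, ht⟩ := exists_uniformizer Q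
    have ht1 : Q.1 t ≤ 1 := by rw [ht, ← exp_zero, exp_le_exp]; norm_num
    set tO : Q.O := ⟨t, ht1⟩ with htO
    set y₀ : Q.O := y₁ + tO with hy₀
    have hczt : cz hψ tO = 0 := by
      rw [cz_eq_zero_iff]
      show Q.1 t < 1
      rw [ht, ← exp_zero, exp_lt_exp]; norm_num
    have hy₀α : cz hψ y₀ = α := by rw [hy₀, map_add, hy₁, hczt, add_zero]
    refine ⟨h, y₀.1, hh0, hunit y₀ (by rw [hy₀α]; exact hα0), ?_, hres y₀ hy₀α⟩
    obtain ⟨c, hc⟩ := Polynomial.binomExpansion (h.map (algebraMap k Q.O)) y₁ tO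
    rw [derivative_map, eval_map_algebraMap, eval_map_algebraMap, eval_map_algebraMap] at hc
    have hd1 : Q.1 (aeval y₁ (derivative h) : Q.O).1 = 1 := by
      apply hunit
      rw [← Polynomial.aeval_algHom_apply, hy₁]
      exact hh'α
    rw [← coe_aeval Q y₀ h, hy₀, hc]
    have hsplit : ((aeval y₁ h + aeval y₁ (derivative h) * tO + c * tO ^ 2 : Q.O) : K') =
        ((aeval y₁ h : Q.O).1 + c.1 * t ^ 2) + (aeval y₁ (derivative h) : Q.O).1 * t := by
      push_cast
      ring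
    rw [hsplit]
    have hB : Q.1 ((aeval y₁ (derivative h) : Q.O).1 * t) = exp (-1 : ℤ) := by
      rw [map_mul, hd1, one_mul, ht]
    have hA : Q.1 ((aeval y₁ h : Q.O).1 + c.1 * t ^ 2) ≤ exp (-2 : ℤ) := by
      refine (Q.1.map_add _ _).trans (max_le hval2 ?_)
      rw [map_mul, map_pow, ht, ← exp_nsmul]
      calc Q.1 c.1 * exp ((2 : ℕ) • (-1 : ℤ)) ≤ 1 * exp ((2 : ℕ) • (-1 : ℤ)) :=
            mul_le_mul' c.2 le_rfl
        _ = exp (-2 : ℤ) := by rw [one_mul]; congr 1
    rw [Valuation.map_add_eq_of_lt_right, hB]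
    rw [hB]
    refine lt_of_le_of_lt hA ?_
    rw [exp_lt_exp]; norm_num

end Groth.Agent.Lib.Helper88.Hilb
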