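/-
Hilbert's different formula, part B: a global element generating `O_Q` locally over `O_P`:
weak approximation of a local lift.
Author: helper88
-/
import Groth.Agent.Lib.Helper88.HilbA

set_option autoImplicit false
set_option linter.style.haveILetI false

namespace Groth.Agent.Lib.Helper88.Hilb

open FunFld WithZero Polynomial
open Groth.Agent.Lib.Helper88.FF Groth.Agent.Lib.Helper34.FunFldIntFin

universe u v w

variable {k : Type u} {K K' : Type v} [Field k] [Field K] [Field K'] [Algebra k K]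
  [Algebra K K'] [Algebra k K'] [IsScalarTower k K K'] [FiniteDimensional K K']
variable {F' : Type w} [Field F'] [Algebra k F'] [FiniteDimensional k F']
  [Algebra.IsSeparable k F']

/-- **A global local generator**: `y` is a unit at `Q`, lies in the maximal ideal of every other
place over `P`; `h(y)` is a uniformizer at `Q` and a unit at the other places over `P`; and `k[y]`
surjects onto the residue field of `Q`. -/
theorem exists_global_generator (hK : IsFunctionField k K) (P : Place k K) (Q : Place k K')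
    (hover : IsOver Q P) {ψ : K' →ₐ[k] LaurentSeries F'} (hψ : LocRes.IsExpansionAt Q.1 ψ) :
    ∃ (h : k[X]) (y : K'), (∀ Q' : Place k K', IsOver Q' P → Q' ≠ Q → Q'.1 y < 1) ∧
      Q.1 y = 1 ∧ Q.1 (aeval y h) = exp (-1 : ℤ) ∧
      (∀ Q' : Place k K', IsOver Q' P → Q' ≠ Q → Q'.1 (aeval y h) = 1) ∧
      ∀ w : K', Q.1 w ≤ 1 → ∃ p : k[X], Q.1 (w - aeval y p) < 1 := by
  classical
  obtain ⟨h, y₀, hh0, hy₀, hπ, hres⟩ := exists_local_lift hψ
  obtain ⟨y, hy⟩ := weak_approx (Qs (K' := K') hK P) (fun Q' => if Q' = Q then y₀ else 0) 2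
  have hyQ : Q.1 (y - y₀) ≤ exp (-2 : ℤ) := by
    have := hy Q ((mem_Qs hK P Q).2 hover)
    rwa [if_pos rfl] at this
  have hyQ' : ∀ Q' : Place k K', IsOver Q' P → Q' ≠ Q → Q'.1 y ≤ exp (-2 : ℤ) := by
    intro Q' hQ' hne
    have := hy Q' ((mem_Qs hK P Q').2 hQ')
    rwa [if_neg hne, sub_zero] at this
  have he2 : (exp (-2 : ℤ) : ℤᵐ⁰) < 1 := by rw [← exp_zero, exp_lt_exp]; norm_num
  have he21 : (exp (-2 : ℤ) : ℤᵐ⁰) < exp (-1 : ℤ) := by rw [exp_lt_exp]; norm_num
  have hy1 : Q.1 y = 1 := by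
    have h1 : y = (y - y₀) + y₀ := by ring
    rw [h1, Valuation.map_add_eq_of_lt_right, hy₀]
    rw [hy₀]
    exact lt_of_le_of_lt hyQ he2
  have hy₀1 : Q.1 y₀ ≤ 1 := hy₀.le
  refine ⟨h, y, fun Q' hQ' hne => lt_of_le_of_lt (hyQ' Q' hQ' hne) he2, hy1, ?_, ?_, ?_⟩
  · have h1 : aeval y h = (aeval y h - aeval y₀ h) + aeval y₀ h := by ring
    rw [h1, Valuation.map_add_eq_of_lt_right, hπ]
    rw [hπ]
    exact lt_of_le_of_lt ((val_aeval_sub_le Q hy1.le hy₀1 h).trans hyQ) he21
  · intro Q' hQ' hne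
    have hlt : Q'.1 y < 1 := lt_of_le_of_lt (hyQ' Q' hQ' hne) he2
    have h0 : aeval (0 : K') h = algebraMap k K' (h.eval 0) := by
      rw [← coeff_zero_eq_eval_zero, ← Polynomial.coeff_zero_eq_aeval_zero']
    have hv0 : Q'.1 (aeval (0 : K') h) = 1 := by
      rw [h0]
      exact val_algebraMap Q' hh0
    have h1 : aeval y h = (aeval y h - aeval (0 : K') h) + aeval (0 : K') h := by ring
    rw [h1, Valuation.map_add_eq_of_lt_right, hv0]
    rw [hv0]
    have := val_aeval_sub_le Q' hlt.le (by simp : Q'.1 (0 : K') ≤ 1) h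
    rw [sub_zero] at this
    exact lt_of_le_of_lt this hlt
  · intro w hw
    obtain ⟨p, hp⟩ := hres w hw
    refine ⟨p, ?_⟩
    have h1 : w - aeval y p = (w - aeval y₀ p) + (aeval y₀ p - aeval y p) := by ring
    rw [h1]
    refine lt_of_le_of_lt (Q.1.map_add _ _) (max_lt hp ?_)
    refine lt_of_le_of_lt (val_aeval_sub_le Q hy₀1 hy1.le p) ?_
    rw [← Valuation.map_neg, neg_sub]
    exact lt_of_le_of_lt hyQ he2

end Groth.Agent.Lib.Helper88.Hilb
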