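/-
Hilbert's different formula, part C: the element constructed in part B generates `O_Q` locally
over `O_P` (`O_Q` is the localisation of `O_P[y]`), by the determinant trick.
Author: helper88
-/
import Groth.Agent.Lib.Helper88.HilbB
import Mathlib.LinearAlgebra.Matrix.Adjugate

set_option autoImplicit false
set_option linter.style.haveILetI false

namespace Groth.Agent.Lib.Helper88.Hilb

open FunFld WithZero Polynomial
open Groth.Agent.Lib.Helper88.FF Groth.Agent.Lib.Helper34.FunFldIntFin

universe u v w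

variable {k : Type u} {K K' : Type v} [Field k] [Field K] [Field K'] [Algebra k K]
  [Algebra K K'] [Algebra k K'] [IsScalarTower k K K'] [FiniteDimensional K K']

/-- Determinant trick: if `b = a + π G b` with everything in a subring `S`, then
`det (1 - π G) • b ∈ S`, and `det (1 - π G) ≡ 1 mod π`. -/
lemma det_trick {R : Type*} [CommRing R] {A : Type*} [CommRing A] [Algebra R A] (S : Subalgebra R A)
    {n : ℕ} (b : Fin n → A) (a : Fin n → S) (π : S) (G : Matrix (Fin n) (Fin n) S)
    (hrel : ∀ i, b i = (a i : A) + (π : A) * ∑ j, (G i j : A) * b j) :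
    ∃ c : S, (∃ s : S, c = 1 + π * s) ∧ ∀ i, (c : A) * b i ∈ S := by
  classical
  set M : Matrix (Fin n) (Fin n) S := 1 - π • G with hM
  set f : S →+* A := algebraMap S A with hf
  have hfcoe : ∀ s : S, f s = (s : A) := fun _ => rfl
  set Mc : Matrix (Fin n) (Fin n) A := f.mapMatrix M with hMc
  have hMcb : Mc.mulVec b = fun i => (a i : A) := by
    funext i
    have h1 : Mc.mulVec b i = ∑ j, f (M i j) * b j := rfl
    rw [h1]
    have h2 : ∀ j, f (M i j) * b j = (if i = j then b j else 0) - (π : A) * ((G i j : A) * b j) := by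
      intro j
      rw [hM, Matrix.sub_apply, Matrix.smul_apply, Matrix.one_apply, map_sub, smul_eq_mul, map_mul,
        hfcoe, hfcoe, sub_mul, mul_assoc]
      congr 1
      split_ifs
      · rw [Subalgebra.coe_one, one_mul]
      · rw [Subalgebra.coe_zero, zero_mul]
    rw [Finset.sum_congr rfl (fun j _ => h2 j), Finset.sum_sub_distrib, ← Finset.mul_sum,
      Finset.sum_ite_eq Finset.univ i, if_pos (Finset.mem_univ i)]
    conv_lhs => rw [hrel i]
    ring
  have hadj : (Matrix.adjugate Mc).mulVec (Mc.mulVec b) = Mc.det • b := by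
    rw [Matrix.mulVec_mulVec, Matrix.adjugate_mul, Matrix.smul_mulVec, Matrix.one_mulVec]
  have hdet : Mc.det = f M.det := (RingHom.map_det f M).symm
  have hadjM : Matrix.adjugate Mc = f.mapMatrix (Matrix.adjugate M) :=
    (RingHom.map_adjugate f M).symm
  refine ⟨M.det, ?_, ?_⟩
  · -- reduction modulo `π`
    set q := Ideal.Quotient.mk (Ideal.span ({π} : Set S)) with hq
    have hqπ : q π = 0 := Ideal.Quotient.eq_zero_iff_mem.2 (Ideal.mem_span_singleton_self π)
    have hqM : q.mapMatrix M = 1 := by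
      ext i j
      rw [RingHom.mapMatrix_apply, Matrix.map_apply, hM, Matrix.sub_apply, Matrix.smul_apply,
        smul_eq_mul, map_sub, map_mul, hqπ, zero_mul, sub_zero, Matrix.one_apply, Matrix.one_apply]
      split_ifs
      · rw [map_one]
      · rw [map_zero]
    have h1 : q M.det = 1 := by
      rw [RingHom.map_det, hqM, Matrix.det_one]
    have h2 : M.det - 1 ∈ Ideal.span ({π} : Set S) := by
      rw [← Ideal.Quotient.eq_zero_iff_mem, map_sub, map_one]
      show q M.det - 1 = 0
      rw [h1, sub_self]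
    obtain ⟨s, hs⟩ := Ideal.mem_span_singleton'.1 h2
    exact ⟨s, by rw [mul_comm, hs]; ring⟩
  · intro i
    have h1 := congrFun hadj i
    rw [hMcb, hdet, hadjM] at h1
    have h2 : (f M.det • b) i = (M.det : A) * b i := rfl
    rw [h2] at h1
    rw [← h1]
    have h3 : ((f.mapMatrix (Matrix.adjugate M)).mulVec fun i => (a i : A)) i =
        ∑ j, ((Matrix.adjugate M i j * a j : S) : A) := by
      show ∑ j, f (Matrix.adjugate M i j) * (a j : A) = _
      refine Finset.sum_congr rfl (fun j _ => ?_)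
      rw [hfcoe]
      rfl
    rw [h3]
    exact S.sum_mem (fun j _ => (Matrix.adjugate M i j * a j).2)

/-- **Local generation**: with `y` as in part B, `O_Q` is the localisation of `O_P[y]`. -/
theorem hloc_of_generator (hK : IsFunctionField k K) (P : Place k K) (Q : Place k K')
    (hover : IsOver Q P) [Algebra P.O K'] [IsScalarTower P.O K K']
    (h : k[X]) (y : K')
    (h1 : ∀ Q' : Place k K', IsOver Q' P → Q' ≠ Q → Q'.1 y < 1) (h2 : Q.1 y = 1)
    (h3 : Q.1 (aeval y h) = exp (-1 : ℤ))
    (h4 : ∀ Q' : Place k K', IsOver Q' P → Q' ≠ Q → Q'.1 (aeval y h) = 1)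
    (h5 : ∀ w : K', Q.1 w ≤ 1 → ∃ p : k[X], Q.1 (w - aeval y p) < 1) :
    IsIntegral P.O y ∧ ∀ z : K', Q.1 z ≤ 1 → ∃ a ∈ Algebra.adjoin P.O ({y} : Set K'),
      ∃ b ∈ Algebra.adjoin P.O ({y} : Set K'), Q.1 b = 1 ∧ z * b = a := by
  classical
  obtain ⟨b, -, hint, hspan, hrep⟩ := integral_structure (K' := K') hK P
  have hintegral : ∀ z : K', IsIntegral P.O z ↔ ∀ Q' : Place k K', IsOver Q' P → Q'.1 z ≤ 1 :=
    fun z => (hint z).trans (mem_Bp hK P)
  have hyi : IsIntegral P.O y := (hintegral y).2 (fun Q' hQ' => by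
    by_cases hne : Q' = Q
    · rw [hne, h2]
    · exact (h1 Q' hQ' hne).le)
  refine ⟨hyi, ?_⟩
  set S := Algebra.adjoin P.O ({y} : Set K') with hS
  have hyS : y ∈ S := Algebra.subset_adjoin (Set.mem_singleton y)
  have hSint : ∀ s ∈ S, IsIntegral P.O s := by
    intro s hs
    have hle : S ≤ integralClosure P.O K' := Algebra.adjoin_le (by
      intro s hs
      rw [Set.mem_singleton_iff] at hs
      rw [hs]
      exact hyi)
    exact hle hs
  have hOS : ∀ g : K, P.1 g ≤ 1 → algebraMap K K' g ∈ S := by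
    intro g hg
    have : algebraMap K K' g = algebraMap P.O K' ⟨g, hg⟩ := by
      rw [IsScalarTower.algebraMap_apply P.O K K']; rfl
    rw [this]
    exact Subalgebra.algebraMap_mem S _
  have hkS : ∀ p : k[X], aeval y p ∈ S := by
    intro p
    induction p using Polynomial.induction_on' with
    | add p q hp hq => rw [map_add]; exact S.add_mem hp hq
    | monomial n c =>
      rw [aeval_monomial]
      refine S.mul_mem ?_ (S.pow_mem hyS n)
      rw [IsScalarTower.algebraMap_apply k K K']
      exact hOS _ (P.2.1 c)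
  set π' : K' := aeval y h with hπ'
  have hπS : π' ∈ S := hkS h
  have hπ0 : π' ≠ 0 := by
    intro h0
    rw [h0, map_zero] at h3
    exact exp_ne_zero h3.symm
  -- decomposition modulo `π'`
  have hdec : ∀ w : K', IsIntegral P.O w → ∃ p : k[X], ∃ w' : K', IsIntegral P.O w' ∧
      w = aeval y p + π' * w' := by
    intro w hw
    have hwB := (hintegral w).1 hw
    obtain ⟨p, hp⟩ := h5 w (hwB Q hover)
    refine ⟨p, (w - aeval y p) / π', ?_, by field_simp; ring⟩
    rw [hintegral]
    intro Q' hQ'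
    have hdiff : IsIntegral P.O (w - aeval y p) := hw.sub (hSint _ (hkS p))
    have hdB := (hintegral _).1 hdiff Q' hQ'
    rw [map_div₀]
    by_cases hne : Q' = Q
    · rw [hne, h3, div_le_iff₀ exp_pos, one_mul]
      exact lt_one_iff_le_exp_neg_one.1 hp
    · rw [h4 Q' hQ' hne, div_one]
      exact hdB
  have hbint : ∀ i, IsIntegral P.O (b i) := fun i =>
    (hspan (b i)).2 (Submodule.subset_span ⟨i, rfl⟩)
  choose p w' hw'int hw'eq using fun i => hdec (b i) (hbint i)
  choose g hg1 hgeq using fun i => (hrep (w' i)).1 (hw'int i)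
  obtain ⟨c, ⟨s, hcs⟩, hcb⟩ := det_trick S b (fun i => ⟨aeval y (p i), hkS (p i)⟩) ⟨π', hπS⟩
    (fun i j => ⟨algebraMap K K' (g i j), hOS _ (hg1 i j)⟩) (fun i => by
      show b i = aeval y (p i) + π' * ∑ j, algebraMap K K' (g i j) * b j
      rw [← hgeq i]
      exact hw'eq i)
  have hQc : Q.1 (c : K') = 1 := by
    have h6 : (c : K') = 1 + π' * (s : K') := by
      rw [hcs]; rfl
    rw [h6]
    apply Valuation.map_one_add_of_lt
    rw [map_mul, h3]
    have hs1 : Q.1 (s : K') ≤ 1 := (hintegral _).1 (hSint _ s.2) Q hover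
    calc exp (-1 : ℤ) * Q.1 (s : K') ≤ exp (-1 : ℤ) * 1 := mul_le_mul' le_rfl hs1
      _ = exp (-1 : ℤ) := mul_one _
      _ < 1 := by rw [← exp_zero, exp_lt_exp]; norm_num
  have hcr : ∀ r : K', IsIntegral P.O r → (c : K') * r ∈ S := by
    intro r hr
    obtain ⟨g', hg'1, rfl⟩ := (hrep r).1 hr
    rw [Finset.mul_sum]
    refine S.sum_mem (fun i _ => ?_)
    have h7 : (c : K') * (algebraMap K K' (g' i) * b i) =
        algebraMap K K' (g' i) * ((c : K') * b i) := by ring
    rw [h7]
    exact S.mul_mem (hOS _ (hg'1 i)) (hcb i)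
  -- the final localisation statement
  intro z hz
  obtain ⟨B, hB⟩ := Finset.exists_le ((Qs (K' := K') hK P).image fun Q' => Q'.1 z)
  set N : ℕ := (log B).toNat with hN
  have hr : IsIntegral P.O (y ^ N * z) := by
    rw [hintegral]
    intro Q' hQ'
    rw [map_mul, map_pow]
    by_cases hne : Q' = Q
    · rw [hne, h2, one_pow, one_mul]
      exact hz
    · have hy' : Q'.1 y ≤ exp (-1 : ℤ) := lt_one_iff_le_exp_neg_one.1 (h1 Q' hQ' hne)
      have hz' : Q'.1 z ≤ exp (log B) :=
        (hB _ (Finset.mem_image.2 ⟨Q', (mem_Qs hK P Q').2 hQ', rfl⟩)).trans le_exp_log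
      calc Q'.1 y ^ N * Q'.1 z ≤ exp (-1 : ℤ) ^ N * exp (log B) :=
            mul_le_mul' (pow_le_pow_left₀ zero_le hy' N) hz'
        _ = exp (N • (-1 : ℤ) + log B) := by rw [← exp_nsmul, ← exp_add]
        _ ≤ 1 := by
            rw [← exp_zero, exp_le_exp]
            have := Int.self_le_toNat (log B)
            rw [nsmul_eq_mul]
            omega
  refine ⟨(c : K') * (y ^ N * z), hcr _ hr, (c : K') * y ^ N, S.mul_mem c.2 (S.pow_mem hyS N), ?_,
    by ring⟩
  rw [map_mul, hQc, map_pow, h2, one_pow, one_mul]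

end Groth.Agent.Lib.Helper88.Hilb
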