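/-
Hilbert's different formula, part D: Galois theory.  For a primitive element `y` of a Galois
extension, `f'(y) = ∏_{σ ≠ 1} (y - σ y)`; ramification groups are detected on a local generator.
Author: helper88
-/
import Groth.Agent.Lib.Helper88.HilbC
import Groth.Agent.Lib.Helper44.FunFldInertia

set_option autoImplicit false
set_option linter.style.haveILetI false

namespace Groth.Agent.Lib.Helper88.Hilb

open FunFld WithZero Polynomial
open Groth.Agent.Lib.Helper88.FF Groth.Agent.Lib.Helper34.FunFldIntFin
  Groth.Agent.Lib.Helper44.FFExt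

universe u v w

section Field

variable {K K' : Type*} [Field K] [Field K'] [Algebra K K'] [FiniteDimensional K K']

lemma algEquiv_apply_injective {y : K'} (hy : IntermediateField.adjoin K ({y} : Set K') = ⊤) :
    Function.Injective fun σ : K' ≃ₐ[K] K' => σ y := by
  intro σ τ hστ
  have hint : IsIntegral K y := Algebra.IsIntegral.isIntegral y
  have hadj : Algebra.adjoin K ({y} : Set K') = ⊤ := by
    rw [← IntermediateField.adjoin_simple_toSubalgebra_of_isAlgebraic hint.isAlgebraic, hy,
      IntermediateField.top_toSubalgebra]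
  have h1 : (σ : K' →ₐ[K] K') = (τ : K' →ₐ[K] K') := by
    apply AlgHom.ext_of_adjoin_eq_top hadj
    intro z hz
    rw [Set.mem_singleton_iff] at hz
    rw [hz]
    exact hστ
  exact AlgEquiv.coe_algHom_injective h1

variable [IsGalois K K']

open scoped Classical in
/-- In a Galois extension the minimal polynomial of a primitive element is `∏_σ (X - σ y)`. -/
theorem minpoly_map_eq_prod {y : K'} (hy : IntermediateField.adjoin K ({y} : Set K') = ⊤) :
    (minpoly K y).map (algebraMap K K') = ∏ σ : K' ≃ₐ[K] K', (X - C (σ y)) := by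
  have hint : IsIntegral K y := Algebra.IsIntegral.isIntegral y
  have hinj := algEquiv_apply_injective hy
  set g : K'[X] := ∏ σ : K' ≃ₐ[K] K', (X - C (σ y)) with hg
  have hgm : g.Monic := monic_prod_of_monic _ _ (fun σ _ => monic_X_sub_C (σ y))
  have hfm : ((minpoly K y).map (algebraMap K K')).Monic := (minpoly.monic hint).map _
  have hgdeg : g.natDegree = Module.finrank K K' := by
    rw [hg, natDegree_prod_of_monic _ _ (fun σ _ => monic_X_sub_C (σ y))]
    simp only [natDegree_X_sub_C, Finset.sum_const, Finset.card_univ, smul_eq_mul, mul_one]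
    rw [← Nat.card_eq_fintype_card]
    exact IsGalois.card_aut_eq_finrank K K'
  have hfdeg : ((minpoly K y).map (algebraMap K K')).natDegree = Module.finrank K K' := by
    rw [natDegree_map]
    exact (Field.primitive_element_iff_minpoly_natDegree_eq K y).1 hy
  have hdvd : g ∣ (minpoly K y).map (algebraMap K K') := by
    apply Finset.prod_dvd_of_coprime
    · intro σ _ τ _ hne
      exact isCoprime_X_sub_C_of_isUnit_sub
        (sub_ne_zero.2 (fun h => hne (hinj h))).isUnit
    · intro σ _
      rw [dvd_iff_isRoot, IsRoot.def, eval_map_algebraMap]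
      have : aeval (σ y) (minpoly K y) = σ (aeval y (minpoly K y)) :=
        Polynomial.aeval_algHom_apply (σ : K' →ₐ[K] K') y (minpoly K y)
      rw [this, minpoly.aeval, map_zero]
  exact eq_of_monic_of_dvd_of_natDegree_le hgm hfm hdvd (by rw [hgdeg, hfdeg])

open scoped Classical in
/-- `f'(y) = ∏_{σ ≠ 1} (y - σ y)`. -/
theorem aeval_derivative_minpoly {y : K'} (hy : IntermediateField.adjoin K ({y} : Set K') = ⊤) :
    aeval y (derivative (minpoly K y)) =
      ∏ σ ∈ (Finset.univ : Finset (K' ≃ₐ[K] K')).erase 1, (y - σ y) := by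
  rw [← eval_map_algebraMap, ← derivative_map, minpoly_map_eq_prod hy, derivative_prod_finset,
    eval_finset_sum]
  rw [Finset.sum_eq_single (1 : K' ≃ₐ[K] K')]
  · rw [eval_mul, derivative_X_sub_C, eval_one, mul_one, eval_prod]
    refine Finset.prod_congr rfl (fun σ _ => ?_)
    rw [eval_sub, eval_X, eval_C]
  · intro σ _ hσ
    rw [eval_mul, eval_prod]
    rw [Finset.prod_eq_zero (Finset.mem_erase.2 ⟨Ne.symm hσ, Finset.mem_univ (1 : K' ≃ₐ[K] K')⟩),
      zero_mul]
    rw [eval_sub, eval_X, eval_C, AlgEquiv.one_apply, sub_self]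
  · intro h
    exact absurd (Finset.mem_univ _) h

end Field

end Groth.Agent.Lib.Helper88.Hilb
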