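/-
Hilbert's different formula, part E: the ramification groups are detected on a local generator,
and the final count.
Author: helper88
-/
import Groth.Agent.Lib.Helper88.HilbD

set_option autoImplicit false
set_option linter.style.haveILetI false

namespace Groth.Agent.Lib.Helper88.Hilb

open FunFld WithZero Polynomial
open Groth.Agent.Lib.Helper88.FF Groth.Agent.Lib.Helper34.FunFldIntFin
  Groth.Agent.Lib.Helper44.FFExt

universe u v w

variable {k : Type u} {K K' : Type v} [Field k] [Field K] [Field K'] [Algebra k K]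
  [Algebra K K'] [Algebra k K'] [IsScalarTower k K K']

/-- **Ramification groups on a local generator**: if `O_Q` is the localisation of `O_P[y]`, `y` is
a unit at `Q` and lies in the maximal ideal of the other places over `P`, then `σ ∈ G_j` iff
`v_Q (σ y - y) ≥ j` (for `j ≥ 1`). -/
theorem isRam_iff_generator (P : Place k K) (Q : Place k K') (hover : IsOver Q P)
    [Algebra P.O K'] [IsScalarTower P.O K K'] (y : K')
    (h1 : ∀ Q' : Place k K', IsOver Q' P → Q' ≠ Q → Q'.1 y < 1) (h2 : Q.1 y = 1)
    (hloc : ∀ z : K', Q.1 z ≤ 1 → ∃ a ∈ Algebra.adjoin P.O ({y} : Set K'),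
      ∃ b ∈ Algebra.adjoin P.O ({y} : Set K'), Q.1 b = 1 ∧ z * b = a)
    (σ : K' ≃ₐ[K] K') {j : ℕ} (hj : 1 ≤ j) :
    IsRam Q j σ ↔ Q.1 (σ y - y) ≤ exp (-(j : ℤ)) := by
  constructor
  · intro h
    exact h y h2.le
  · intro h
    have hej : (exp (-(j : ℤ)) : ℤᵐ⁰) < 1 := by
      rw [← exp_zero, exp_lt_exp]; omega
    -- `σ` fixes `Q`
    have hfix : comapPlace σ Q = Q := by
      by_contra hne
      have hlt : Q.1 (σ y) < 1 := h1 (comapPlace σ Q) (isOver_comapPlace hover σ) hne
      have h3 : Q.1 (σ y - y) = 1 := by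
        rw [sub_eq_add_neg, Valuation.map_add_eq_of_lt_right, Valuation.map_neg, h2]
        rw [Valuation.map_neg, h2]
        exact hlt
      rw [h3] at h
      exact absurd h (not_le.2 hej)
    have hval : ∀ z : K', Q.1 (σ z) = Q.1 z := by
      intro z
      conv_rhs => rw [← hfix]
      rfl
    -- elements of `O_P[y]`
    have hS : ∀ s ∈ Algebra.adjoin P.O ({y} : Set K'),
        Q.1 s ≤ 1 ∧ Q.1 (σ s - s) ≤ exp (-(j : ℤ)) := by
      intro s hs
      induction hs using Algebra.adjoin_induction with
      | mem x hx =>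
        rw [Set.mem_singleton_iff] at hx
        rw [hx]
        exact ⟨h2.le, h⟩
      | algebraMap r =>
        have hr : algebraMap P.O K' r = algebraMap K K' (r : K) := by
          rw [IsScalarTower.algebraMap_apply P.O K K']; rfl
        rw [hr, σ.commutes, sub_self, map_zero]
        exact ⟨val_algebraMap_le_one hover r.2, zero_le⟩
      | add s t _ _ hs ht =>
        refine ⟨(Q.1.map_add _ _).trans (max_le hs.1 ht.1), ?_⟩
        have h4 : σ (s + t) - (s + t) = (σ s - s) + (σ t - t) := by rw [map_add]; ring
        rw [h4]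
        exact (Q.1.map_add _ _).trans (max_le hs.2 ht.2)
      | mul s t _ _ hs ht =>
        refine ⟨?_, ?_⟩
        · rw [map_mul]
          exact (mul_le_mul' hs.1 ht.1).trans_eq (one_mul _)
        · have h4 : σ (s * t) - s * t = σ s * (σ t - t) + (σ s - s) * t := by rw [map_mul]; ring
          rw [h4]
          refine (Q.1.map_add _ _).trans (max_le ?_ ?_)
          · rw [map_mul, hval]
            exact (mul_le_mul' hs.1 ht.2).trans_eq (one_mul _)
          · rw [map_mul]
            exact (mul_le_mul' hs.2 ht.1).trans_eq (mul_one _)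
    intro z hz
    obtain ⟨a, ha, b, hb, hQb, hzb⟩ := hloc z hz
    have hb0 : b ≠ 0 := by
      intro h0
      rw [h0, map_zero] at hQb
      exact zero_ne_one hQb
    have hσb0 : σ b ≠ 0 := fun h0 => hb0 ((map_eq_zero σ).1 h0)
    have hza : z = a / b := by rw [← hzb]; field_simp
    have hQa : Q.1 a ≤ 1 := (hS a ha).1
    have h5 : σ z - z = ((σ a - a) * b - a * (σ b - b)) / (σ b * b) := by
      rw [hza, map_div₀]
      field_simp
      ring
    rw [h5, map_div₀, map_mul, hval, hQb, mul_one, div_one]
    refine (Valuation.map_sub _ _ _).trans (max_le ?_ ?_)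
    · rw [map_mul, hQb, mul_one]
      exact (hS a ha).2
    · rw [map_mul]
      exact (mul_le_mul' hQa (hS b hb).2).trans_eq (one_mul _)

end Groth.Agent.Lib.Helper88.Hilb
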