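/-
Hilbert's different formula: `d(Q|P) = ∑_{i ≥ 1} (|G_i| - 1)`.
Author: helper88
-/
import Groth.Agent.Lib.Helper88.HilbE

set_option autoImplicit false
set_option linter.style.haveILetI false

namespace Groth.Agent.Lib.Helper88.Hilb

open FunFld WithZero Polynomial
open Groth.Agent.Lib.Helper88.FF Groth.Agent.Lib.Helper34.FunFldIntFin
  Groth.Agent.Lib.Helper44.FFExt Groth.Agent.Lib.Helper88

universe u v w

variable {k : Type u} {K K' : Type v} [Field k] [Field K] [Field K'] [Algebra k K]
  [Algebra K K'] [Algebra k K'] [IsScalarTower k K K']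

lemma ord_prod' (Q : Place k K') {ι : Type*} (s : Finset ι) (f : ι → K')
    (hf : ∀ i ∈ s, f i ≠ 0) : Q.ord (∏ i ∈ s, f i) = ∑ i ∈ s, Q.ord (f i) := by
  classical
  induction s using Finset.induction_on with
  | empty => simp [ord_one]
  | insert i s hi ih =>
    rw [Finset.prod_insert hi, Finset.sum_insert hi,
      ord_mul Q (hf i (Finset.mem_insert_self i s))
        (Finset.prod_ne_zero_iff.2 fun j hj => hf j (Finset.mem_insert_of_mem hj)),
      ih (fun j hj => hf j (Finset.mem_insert_of_mem hj))]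

/-- Counting lemma: `∑_{j ≤ B} [1 ≤ j ≤ m] = m` for `m ≤ B`. -/
lemma sum_range_ite (m B : ℕ) (hm : m ≤ B) :
    (∑ j ∈ Finset.range (B + 1), if 1 ≤ j ∧ j ≤ m then (1 : ℤ) else 0) = m := by
  rw [Finset.sum_boole]
  have : (Finset.range (B + 1)).filter (fun j => 1 ≤ j ∧ j ≤ m) = Finset.Icc 1 m := by
    ext j
    simp only [Finset.mem_filter, Finset.mem_range, Finset.mem_Icc]
    omega
  rw [this, Nat.card_Icc]
  simp

variable [FiniteDimensional K K']

/-- **Hilbert's different formula.** -/
theorem hilbert_formula (hK : IsFunctionField k K) (hg : IsGeometric k K) [IsGalois K K']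
    {F F' : Type w} [Field F] [Algebra k F] [Field F'] [Algebra k F']
    (P : Place k K) (Q : Place k K') (e : ℕ) (he : IsOverWith Q P e)
    {φ : K →ₐ[k] LaurentSeries F} (hφ : LocRes.IsExpansionAt P.1 φ)
    {ψ : K' →ₐ[k] LaurentSeries F'} (hψ : LocRes.IsExpansionAt Q.1 ψ)
    (x : K) (hx : LocRes.vDiff φ 1 x ≠ 0) (hx' : LocRes.vDiff ψ 1 (algebraMap K K' x) ≠ 0) :
    (Function.support fun i : ℕ => (Nat.card {σ : K' ≃ₐ[K] K' //
        ∀ z : K', Q.1 z ≤ 1 → Q.1 (σ z - z) ≤ WithZero.exp (-(i : ℤ))} : ℤ) - 1).Finite ∧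
    LocRes.diffExp φ ψ e x = ∑ᶠ i : ℕ, if 1 ≤ i then
      (Nat.card {σ : K' ≃ₐ[K] K' //
        ∀ z : K', Q.1 z ≤ 1 → Q.1 (σ z - z) ≤ WithZero.exp (-(i : ℤ))} : ℤ) - 1
      else 0 := by
  classical
  have hover : IsOver Q P := ⟨e, he⟩
  haveI : FiniteDimensional k (IsLocalRing.ResidueField Q.O) := finiteDimensional_residue' hK Q
  haveI : FiniteDimensional k F' := RH.finiteDimensional_of_expansion' hψ
  obtain ⟨s, -, hsepK⟩ := exists_separating hK hg
  haveI := hsepK
  have hd' : TG.DiffGen k K' := RH.diffGen_of_tower (k := k) (k' := k) s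
  haveI : Algebra.IsSeparable k F' := TG.isSeparable_of_expansion' hd' hψ
  letI : Algebra P.O K' := ((algebraMap K K').comp P.O.subtype).toAlgebra
  haveI : IsScalarTower P.O K K' := IsScalarTower.of_algebraMap_eq (fun _ => rfl)
  obtain ⟨h, y, h1, h2, h3, h4, h5⟩ := exists_global_generator hK P Q hover hψ
  obtain ⟨hyi, hloc⟩ := hloc_of_generator hK P Q hover h y h1 h2 h3 h4 h5
  have hyB : ∀ Q' : Place k K', IsOver Q' P → Q'.1 y ≤ 1 := by
    intro Q' hQ'
    by_cases hne : Q' = Q
    · rw [hne, h2]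
    · exact (h1 Q' hQ' hne).le
  -- `y` is a primitive element
  have hy : IntermediateField.adjoin K ({y} : Set K') = ⊤ := by
    rw [eq_top_iff]
    intro z _
    have hSle : ∀ s ∈ Algebra.adjoin P.O ({y} : Set K'),
        s ∈ IntermediateField.adjoin K ({y} : Set K') := by
      intro s hs
      induction hs using Algebra.adjoin_induction with
      | mem x hx =>
        rw [Set.mem_singleton_iff] at hx
        rw [hx]
        exact IntermediateField.mem_adjoin_simple_self K y
      | algebraMap r =>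
        have hr : algebraMap P.O K' r = algebraMap K K' (r : K) := rfl
        rw [hr]
        exact IntermediateField.algebraMap_mem _ _
      | add s t _ _ hs ht => exact add_mem hs ht
      | mul s t _ _ hs ht => exact mul_mem hs ht
    obtain ⟨t, ht⟩ := exists_uniformizer P
    have ht0 : algebraMap K K' t ≠ 0 := by
      intro h0
      have : t = 0 := (map_eq_zero (algebraMap K K')).1 h0
      rw [this, map_zero] at ht
      exact exp_ne_zero ht.symm
    have htQ : Q.1 (algebraMap K K' t) ≤ exp (-1 : ℤ) := by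
      rw [he t, ht, ← exp_nsmul, exp_le_exp]
      have := isOverWith_pos he
      rw [nsmul_eq_mul]
      have h6 : (1 : ℤ) ≤ (e : ℤ) := by exact_mod_cast this
      linarith
    set N : ℕ := (log (Q.1 z)).toNat with hN
    have hzN : Q.1 (algebraMap K K' t ^ N * z) ≤ 1 := by
      rw [map_mul, map_pow]
      calc Q.1 (algebraMap K K' t) ^ N * Q.1 z ≤ exp (-1 : ℤ) ^ N * exp (log (Q.1 z)) :=
            mul_le_mul' (pow_le_pow_left₀ zero_le htQ N) le_exp_log
        _ = exp (N • (-1 : ℤ) + log (Q.1 z)) := by rw [← exp_nsmul, ← exp_add]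
        _ ≤ exp 0 := by
            rw [exp_le_exp]
            have := Int.self_le_toNat (log (Q.1 z))
            rw [nsmul_eq_mul]
            omega
        _ = 1 := exp_zero
    obtain ⟨a, ha, b, hb, hQb, hzb⟩ := hloc _ hzN
    have hb0 : b ≠ 0 := by
      intro h0
      rw [h0, map_zero] at hQb
      exact zero_ne_one hQb
    have hz : z = a / (b * algebraMap K K' t ^ N) := by
      rw [← hzb]
      field_simp
    rw [hz]
    exact div_mem (hSle a ha) (mul_mem (hSle b hb)
      (pow_mem (IntermediateField.algebraMap_mem _ _) N))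
  have hconv := TR.dedekind_different_conv hK hg P Q e he hφ hψ x hx hx' y hy hyi hloc
  rw [aeval_derivative_minpoly hy] at hconv
  set T : Finset (K' ≃ₐ[K] K') := (Finset.univ : Finset (K' ≃ₐ[K] K')).erase 1 with hT
  have hinj := algEquiv_apply_injective hy
  have hne : ∀ σ ∈ T, y - σ y ≠ 0 := by
    intro σ hσ h0
    have h6 : σ y = (1 : K' ≃ₐ[K] K') y := by
      rw [AlgEquiv.one_apply]
      exact (sub_eq_zero.1 h0).symm
    exact (Finset.mem_erase.1 hσ).1 (hinj h6)
  have hle1 : ∀ σ : K' ≃ₐ[K] K', Q.1 (y - σ y) ≤ 1 := by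
    intro σ
    refine (Valuation.map_sub _ _ _).trans (max_le h2.le ?_)
    exact hyB (comapPlace σ Q) (isOver_comapPlace hover σ)
  set m : (K' ≃ₐ[K] K') → ℕ := fun σ => (Q.ord (y - σ y)).toNat with hm
  have hmord : ∀ σ ∈ T, (m σ : ℤ) = Q.ord (y - σ y) := by
    intro σ hσ
    apply Int.toNat_of_nonneg
    have h6 := hle1 σ
    rw [val_eq_exp_neg_ord Q (hne σ hσ), ← exp_zero, exp_le_exp] at h6
    linarith
  have hmval : ∀ σ ∈ T, Q.1 (σ y - y) = exp (-(m σ : ℤ)) := by
    intro σ hσ
    rw [← neg_sub, Valuation.map_neg, val_eq_exp_neg_ord Q (hne σ hσ), hmord σ hσ]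
  -- the different exponent as a sum
  have hsum : LocRes.diffExp φ ψ e x = ∑ σ ∈ T, (m σ : ℤ) := by
    rw [← hconv, ord_prod' Q T _ hne]
    exact Finset.sum_congr rfl (fun σ hσ => (hmord σ hσ).symm)
  -- the cardinalities
  have hcard : ∀ j : ℕ, 1 ≤ j → (Nat.card {σ : K' ≃ₐ[K] K' //
      ∀ z : K', Q.1 z ≤ 1 → Q.1 (σ z - z) ≤ WithZero.exp (-(j : ℤ))} : ℤ) - 1 =
      ((T.filter fun σ => j ≤ m σ).card : ℤ) := by
    intro j hj
    rw [Nat.card_eq_fintype_card, Fintype.card_subtype]
    have hfilter : (Finset.univ.filter fun σ : K' ≃ₐ[K] K' =>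
        ∀ z : K', Q.1 z ≤ 1 → Q.1 (σ z - z) ≤ WithZero.exp (-(j : ℤ))) =
        insert 1 (T.filter fun σ => j ≤ m σ) := by
      ext σ
      simp only [Finset.mem_filter, Finset.mem_univ, true_and, Finset.mem_insert]
      by_cases hσ1 : σ = 1
      · simp only [hσ1, true_or, iff_true]
        exact IsRam.one Q j
      · have hσT : σ ∈ T := Finset.mem_erase.2 ⟨hσ1, Finset.mem_univ σ⟩
        simp only [hσ1, false_or, hσT, true_and]
        have := isRam_iff_generator P Q hover y h1 h2 hloc σ hj
        rw [hmval σ hσT, exp_le_exp] at this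
        refine Iff.trans this ?_
        constructor
        · intro h6; exact_mod_cast (neg_le_neg_iff.1 h6)
        · intro h6; exact neg_le_neg (by exact_mod_cast h6)
    rw [hfilter, Finset.card_insert_of_notMem]
    · push_cast
      ring
    · intro h6
      exact (Finset.mem_erase.1 (Finset.mem_filter.1 h6).1).1 rfl
  set B : ℕ := ∑ σ ∈ T, m σ with hB
  have hmB : ∀ σ ∈ T, m σ ≤ B := fun σ hσ =>
    Finset.single_le_sum (fun _ _ => Nat.zero_le _) hσ
  have hzero : ∀ j : ℕ, B < j → ((T.filter fun σ => j ≤ m σ).card : ℤ) = 0 := by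
    intro j hj
    rw [Nat.cast_eq_zero, Finset.card_eq_zero, Finset.filter_eq_empty_iff]
    intro σ hσ h6
    exact absurd (h6.trans (hmB σ hσ)) (not_le.2 hj)
  refine ⟨?_, ?_⟩
  · refine Set.Finite.subset (Finset.finite_toSet (Finset.range (B + 1))) ?_
    intro j hj
    rw [Function.mem_support] at hj
    rw [Finset.mem_coe, Finset.mem_range]
    by_contra hcon
    have hBj : B < j := by omega
    apply hj
    rw [hcard j (by omega), hzero j hBj]
  · rw [finsum_eq_sum_of_support_subset (s := Finset.range (B + 1))]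
    · have hterm : ∀ j ∈ Finset.range (B + 1), (if 1 ≤ j then
          (Nat.card {σ : K' ≃ₐ[K] K' //
            ∀ z : K', Q.1 z ≤ 1 → Q.1 (σ z - z) ≤ WithZero.exp (-(j : ℤ))} : ℤ) - 1 else 0) =
          ∑ σ ∈ T, if 1 ≤ j ∧ j ≤ m σ then (1 : ℤ) else 0 := by
        intro j _
        split_ifs with hj
        · rw [hcard j hj, ← Finset.sum_boole]
          refine Finset.sum_congr rfl (fun σ _ => ?_)
          simp only [hj, true_and]
        · rw [Finset.sum_eq_zero]
          intro σ _
          rw [if_neg]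
          exact fun h6 => hj h6.1
      rw [Finset.sum_congr rfl hterm, Finset.sum_comm, hsum]
      exact Finset.sum_congr rfl (fun σ hσ => (sum_range_ite (m σ) B (hmB σ hσ)).symm)
    · intro j hj
      rw [Function.mem_support] at hj
      rw [Finset.mem_coe, Finset.mem_range]
      by_contra hcon
      have hBj : B < j := by omega
      apply hj
      rw [if_pos (by omega), hcard j (by omega), hzero j hBj]

end Groth.Agent.Lib.Helper88.Hilb
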