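/-
The section ring of a point divisor: embedding dimension of the irrelevant ideal (S18670).
Author: helper88
-/
import Groth.Agent.Lib.Helper88.SectRing
import Groth.Agent.Lib.Helper88.FunFldApps
import Mathlib.Algebra.Module.SpanRank
import Mathlib.LinearAlgebra.Basis.VectorSpace
import Mathlib.LinearAlgebra.Dimension.Constructions

set_option autoImplicit false
set_option linter.unusedSectionVars false

namespace Groth.Agent.Lib.Helper88.Sect

open FunFld WithZero Polynomial Groth.Agent.Lib.Helper88.FF W4c6gradedringsgw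

universe u

variable {k K : Type u} [Field k] [Field K] [Algebra k K]

section Semigroup

variable [IsAlgClosed k] (hK : IsFunctionField k K) (P : Place k K)
include hK

/-- Every `n ≥ 2g` is a pole order. -/
lemma mem_poleOrders_of_le {n : ℕ} (hn : 2 * genus k K ≤ n) : n ∈ poleOrders P := by
  have hdP := deg_eq_one_of_isAlgClosed hK P
  unfold poleOrders
  rw [Set.mem_ofPred_eq, zsmul_single_one, zsmul_single_one]
  have h1 := ell_eq_of_le_deg hK (D := (Finsupp.single P (n : ℤ) : Divisor k K))
    (by rw [deg_single, hdP]; push_cast; have : (2 * genus k K : ℤ) ≤ n := by exact_mod_cast hn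
        linarith)
  rcases Nat.eq_zero_or_pos n with h0 | hpos
  · subst h0
    have hg0 : genus k K = 0 := by omega
    simp only [Nat.cast_zero, zero_sub]
    rw [Finsupp.single_zero, ell_zero hK, ell_eq_zero_of_deg_neg hK
      (by rw [deg_single, hdP]; norm_num)]
  · have h2 := ell_eq_of_le_deg hK (D := (Finsupp.single P ((n : ℤ) - 1) : Divisor k K))
      (by rw [deg_single, hdP]; push_cast; have : (2 * genus k K : ℤ) ≤ n := by exact_mod_cast hn
          linarith)
    rw [deg_single, hdP] at h1 h2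
    push_cast at h1 h2
    have : (ell (Finsupp.single P (n : ℤ) : Divisor k K) : ℤ) =
        ell (Finsupp.single P ((n : ℤ) - 1) : Divisor k K) + 1 := by
      rw [h1, h2]; ring
    exact_mod_cast this

lemma minGens_subset : minGens (poleOrders P) ⊆ (Finset.range (4 * genus k K + 2) : Set ℕ) := by
  intro n hn
  rw [Finset.coe_range, Set.mem_Iio]
  by_contra hcon
  push Not at hcon
  obtain ⟨-, -, h3⟩ := hn
  exact h3 (2 * genus k K + 1) (mem_poleOrders_of_le hK P (by omega))
    (n - (2 * genus k K + 1)) (mem_poleOrders_of_le hK P (by omega)) (by omega) (by omega)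
    (by omega)

lemma minGens_finite : (minGens (poleOrders P)).Finite :=
  (Finset.finite_toSet _).subset (minGens_subset hK P)

/-- Products of lower-degree pieces do not reach a minimal generator. -/
lemma mul_mem_of_minGens {h i j : ℕ} (hh : h ∈ minGens (poleOrders P)) (hij : i + j = h)
    (hi : 1 ≤ i) (hj : 1 ≤ j) {u v : K} (hu : u ∈ L (Finsupp.single P (i : ℤ) : Divisor k K))
    (hv : v ∈ L (Finsupp.single P (j : ℤ) : Divisor k K)) :
    u * v ∈ L (Finsupp.single P ((h : ℤ) - 1) : Divisor k K) := by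
  have hcast : (h : ℤ) = i + j := by exact_mod_cast hij.symm
  by_cases hu' : u ∈ L (Finsupp.single P ((i : ℤ) - 1) : Divisor k K)
  · have := FF.mul_mem_L hu' hv
    rw [← Finsupp.single_add] at this
    have e : (i : ℤ) - 1 + j = (h : ℤ) - 1 := by rw [hcast]; ring
    rwa [e] at this
  by_cases hv' : v ∈ L (Finsupp.single P ((j : ℤ) - 1) : Divisor k K)
  · have := FF.mul_mem_L hu hv'
    rw [← Finsupp.single_add] at this
    have e : (i : ℤ) + ((j : ℤ) - 1) = (h : ℤ) - 1 := by rw [hcast]; ring
    rwa [e] at this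
  exfalso
  have hiH : i ∈ poleOrders P := (mem_poleOrders_iff hK P i).2 ⟨u, hu, hu'⟩
  have hjH : j ∈ poleOrders P := (mem_poleOrders_iff hK P j).2 ⟨v, hv, hv'⟩
  exact hh.2.2 i hiH j hjH (by omega) (by omega) hij

/-- In positive genus `L(P)` consists of constants. -/
lemma mem_L_single_one (hg : 1 ≤ genus k K) {a : K}
    (ha : a ∈ L (Finsupp.single P 1 : Divisor k K)) : a ∈ Set.range (algebraMap k K) := by
  have hdP := deg_eq_one_of_isAlgClosed hK P
  by_contra hcon
  have := genus_eq_zero_of_mem_L_place hK hdP (transcendental_of_not_mem_range hK hcon) ha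
  omega

lemma one_notMem_poleOrders (hg : 1 ≤ genus k K) : 1 ∉ poleOrders P := by
  intro h1
  obtain ⟨g, hg1, hg2⟩ := (mem_poleOrders_iff hK P 1).1 h1
  apply hg2
  obtain ⟨c, rfl⟩ := mem_L_single_one hK P hg (by exact_mod_cast hg1)
  have : ((1 : ℕ) : ℤ) - 1 = 0 := by norm_num
  rw [this, Finsupp.single_zero]
  exact algebraMap_mem_L_zero c

end Semigroup

section Irrelevant

variable (P : Place k K)

/-- The irrelevant ideal. -/
noncomputable abbrev Iplus : Ideal ↥(sectRing (Finsupp.single P 1 : Divisor k K)) :=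
  RingHom.ker (Polynomial.constantCoeff.comp
    (sectRing (Finsupp.single P 1 : Divisor k K)).val.toRingHom)

lemma mem_Iplus {x : ↥(sectRing (Finsupp.single P 1 : Divisor k K))} :
    x ∈ Iplus P ↔ (x : K[X]).coeff 0 = 0 := by
  rw [RingHom.mem_ker]
  rfl

lemma one_mem_L_single_one : (1 : K) ∈ L (Finsupp.single P ((1 : ℕ) : ℤ) : Divisor k K) := by
  have h := L_single_mono P (m := 0) (n := ((1 : ℕ) : ℤ)) (by norm_num)
  apply h
  rw [Finsupp.single_zero]
  exact one_mem_L_zero

variable [IsAlgClosed k] (hK : IsFunctionField k K) {P} {π : K} (hπ : P.1 π = exp (-1 : ℤ))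

open Classical in
/-- The generator of degree `n` (zero unless `n` is a pole order). -/
noncomputable def genOf (n : ℕ) : ↥(sectRing (Finsupp.single P 1 : Divisor k K)) :=
  if hn : n ∈ AddSubmonoid.closure (poleOrders P) then
    mono P n (fN hK hπ ⟨n, hn⟩) (fN_spec hK hπ ⟨n, hn⟩).1 else 0

lemma coe_genOf {n : ℕ} (hn : n ∈ AddSubmonoid.closure (poleOrders P)) :
    ((genOf hK hπ n : ↥(sectRing (Finsupp.single P 1 : Divisor k K))) : K[X]) =
      monomial n (fN hK hπ ⟨n, hn⟩) := by
  unfold genOf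
  rw [dif_pos hn]
  rfl

/-- The ideal generated by `T` and the `f_h T^h` for minimal generators `h`. -/
noncomputable def Jgen : Ideal ↥(sectRing (Finsupp.single P 1 : Divisor k K)) :=
  Ideal.span (insert (mono P 1 1 (one_mem_L_single_one P))
    ((genOf hK hπ) '' (minGens (poleOrders P))))

lemma T_mem_Jgen : mono P 1 1 (one_mem_L_single_one P) ∈ Jgen hK hπ :=
  Ideal.subset_span (Set.mem_insert _ _)

lemma genOf_mem_Jgen {h : ℕ} (hh : h ∈ minGens (poleOrders P)) : genOf hK hπ h ∈ Jgen hK hπ :=
  Ideal.subset_span (Set.mem_insert_of_mem _ ⟨h, hh, rfl⟩)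

/-- Monomials with low coefficient lie in `J`. -/
lemma low_mem_Jgen {n : ℕ} (hn : 1 ≤ n) {g : K}
    (hg : g ∈ L (Finsupp.single P (n : ℤ) : Divisor k K))
    (hlow : g ∈ L (Finsupp.single P ((n : ℤ) - 1) : Divisor k K)) :
    mono P n g hg ∈ Jgen hK hπ := by
  obtain ⟨m, rfl⟩ : ∃ m, n = m + 1 := ⟨n - 1, by omega⟩
  have e : (((m + 1 : ℕ) : ℤ) - 1) = (m : ℤ) := by push_cast; ring
  rw [e] at hlow
  have : mono P (m + 1) g hg = mono P 1 1 (one_mem_L_single_one P) * mono P m g hlow := by
    apply Subtype.ext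
    rw [MulMemClass.coe_mul, coe_mono, coe_mono, coe_mono, monomial_mul_monomial, one_mul,
      add_comm]
  rw [this]
  exact Ideal.mul_mem_right _ _ (T_mem_Jgen hK hπ)

lemma mono_mem_Jgen : ∀ n : ℕ, 1 ≤ n → ∀ (g : K)
    (hg : g ∈ L (Finsupp.single P (n : ℤ) : Divisor k K)), mono P n g hg ∈ Jgen hK hπ := by
  intro n
  induction n using Nat.strong_induction_on with
  | _ n ih =>
    intro hn g hg
    by_cases hlow : g ∈ L (Finsupp.single P ((n : ℤ) - 1) : Divisor k K)
    · exact low_mem_Jgen hK hπ hn hg hlow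
    have hnH : n ∈ poleOrders P := (mem_poleOrders_iff hK P n).2 ⟨g, hg, hlow⟩
    have hnC : n ∈ AddSubmonoid.closure (poleOrders P) := (mem_closure_poleOrders hK hπ).2 hnH
    by_cases hmin : n ∈ minGens (poleOrders P)
    · obtain ⟨b, hb⟩ := IsNrm.exists_sub_smul_mem hπ hK (fN_spec hK hπ ⟨n, hnC⟩) hg
      have hb : g - b • fN hK hπ ⟨n, hnC⟩ ∈ L (Finsupp.single P ((n : ℤ) - 1) : Divisor k K) := hb
      have hmem2 : g - b • fN hK hπ ⟨n, hnC⟩ ∈ L (Finsupp.single P (n : ℤ) : Divisor k K) :=
        L_single_mono P (by omega) hb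
      have : mono P n g hg = algebraMap k _ b * genOf hK hπ n + mono P n _ hmem2 := by
        apply Subtype.ext
        rw [AddMemClass.coe_add, MulMemClass.coe_mul, coe_genOf hK hπ hnC, coe_mono, coe_mono]
        rw [show ((algebraMap k ↥(sectRing (Finsupp.single P 1 : Divisor k K)) b :
          ↥(sectRing (Finsupp.single P 1 : Divisor k K))) : K[X]) = algebraMap k K[X] b from rfl]
        rw [← Algebra.smul_def, smul_monomial, ← map_add]
        congr 1
        ring
      rw [this]
      exact Ideal.add_mem _ (Ideal.mul_mem_left _ _ (genOf_mem_Jgen hK hπ hmin))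
        (low_mem_Jgen hK hπ hn hmem2 hb)
    · -- `n = a + b` with `a, b` nonzero pole orders
      have hn0 : n ≠ 0 := by omega
      have : ∃ a ∈ poleOrders P, ∃ b ∈ poleOrders P, a ≠ 0 ∧ b ≠ 0 ∧ a + b = n := by
        by_contra hcon
        apply hmin
        refine ⟨hnH, hn0, fun a ha b hb ha0 hb0 hab => hcon ⟨a, ha, b, hb, ha0, hb0, hab⟩⟩
      obtain ⟨a, haH, b, hbH, ha0, hb0, hab⟩ := this
      have haC : a ∈ AddSubmonoid.closure (poleOrders P) := (mem_closure_poleOrders hK hπ).2 haH
      have hbC : b ∈ AddSubmonoid.closure (poleOrders P) := (mem_closure_poleOrders hK hπ).2 hbH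
      have hfa := fN_spec hK hπ ⟨a, haC⟩
      have hfb := fN_spec hK hπ ⟨b, hbC⟩
      have hfab := IsNrm.mul hπ hfa hfb
      have hcast : ((a : ℕ) : ℤ) + ((b : ℕ) : ℤ) = (n : ℤ) := by exact_mod_cast hab
      simp only at hfab
      rw [hcast] at hfab
      obtain ⟨c, hc⟩ := IsNrm.exists_sub_smul_mem hπ hK hfab hg
      have hmem2 : g - c • (fN hK hπ ⟨a, haC⟩ * fN hK hπ ⟨b, hbC⟩) ∈
          L (Finsupp.single P (n : ℤ) : Divisor k K) := L_single_mono P (by omega) hc
      have hbJ : mono P b (fN hK hπ ⟨b, hbC⟩) hfb.1 ∈ Jgen hK hπ :=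
        ih b (by omega) (by omega) _ _
      have : mono P n g hg = algebraMap k _ c * (mono P a (fN hK hπ ⟨a, haC⟩) hfa.1 *
          mono P b (fN hK hπ ⟨b, hbC⟩) hfb.1) + mono P n _ hmem2 := by
        apply Subtype.ext
        rw [AddMemClass.coe_add, MulMemClass.coe_mul, MulMemClass.coe_mul, coe_mono, coe_mono,
          coe_mono, coe_mono, monomial_mul_monomial, hab]
        rw [show ((algebraMap k ↥(sectRing (Finsupp.single P 1 : Divisor k K)) c :
          ↥(sectRing (Finsupp.single P 1 : Divisor k K))) : K[X]) = algebraMap k K[X] c from rfl]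
        rw [← Algebra.smul_def, smul_monomial, ← map_add]
        congr 1
        ring
      rw [this]
      exact Ideal.add_mem _ (Ideal.mul_mem_left _ _ (Ideal.mul_mem_left _ _ hbJ))
        (low_mem_Jgen hK hπ hn hmem2 hc)

lemma Jgen_eq_Iplus : Jgen hK hπ = Iplus P := by
  apply le_antisymm
  · unfold Jgen
    rw [Ideal.span_le]
    intro x hx
    rw [SetLike.mem_coe, mem_Iplus]
    rcases hx with rfl | ⟨h, hh, rfl⟩
    · rw [coe_mono, coeff_monomial, if_neg (by norm_num)]
    · have hC : h ∈ AddSubmonoid.closure (poleOrders P) :=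
        (mem_closure_poleOrders hK hπ).2 hh.1
      rw [coe_genOf hK hπ hC, coeff_monomial, if_neg hh.2.1]
  · intro x hx
    rw [mem_Iplus] at hx
    rw [eq_sum_mono P x]
    refine Ideal.sum_mem _ fun i _ => ?_
    have hi : i.1 ≠ 0 := by
      intro h0
      have := Polynomial.mem_support_iff.1 i.2
      rw [h0] at this
      exact this hx
    exact mono_mem_Jgen hK hπ i.1 (by omega) _ _

end Irrelevant

section Lower

variable (P : Place k K)

/-- The `n`-th coefficient as a `k`-linear map `R → L(nP)`. -/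
noncomputable def cn (n : ℕ) : ↥(sectRing (Finsupp.single P 1 : Divisor k K)) →ₗ[k]
    ↥(L (Finsupp.single P (n : ℤ) : Divisor k K)) :=
  LinearMap.codRestrict (L (Finsupp.single P (n : ℤ) : Divisor k K))
    (((lcoeff K n).restrictScalars k) ∘ₗ
      (sectRing (Finsupp.single P 1 : Divisor k K)).val.toLinearMap)
    (fun x => coeff_mem P x n)

lemma cn_apply (n : ℕ) (x : ↥(sectRing (Finsupp.single P 1 : Divisor k K))) :
    ((cn P n x : ↥(L (Finsupp.single P (n : ℤ) : Divisor k K))) : K) = (x : K[X]).coeff n := rfl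

variable (G : Finset ℕ)

/-- The target space `L(P) × ∏_{h ∈ G} L(hP)/L((h-1)P)`. -/
abbrev VG : Type u :=
  ↥(L (Finsupp.single P ((1 : ℕ) : ℤ) : Divisor k K)) ×
    ((h : ↥G) → RelQuot (L (Finsupp.single P (((h : ℕ) : ℤ) - 1) : Divisor k K))
      (L (Finsupp.single P ((h : ℕ) : ℤ) : Divisor k K)))

/-- The map `R → V`. -/
noncomputable def FG : ↥(sectRing (Finsupp.single P 1 : Divisor k K)) →ₗ[k] VG P G :=
  LinearMap.prod (cn P 1) (LinearMap.pi fun h : ↥G => (Submodule.mkQ _) ∘ₗ (cn P (h : ℕ)))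

lemma FG_fst (x : ↥(sectRing (Finsupp.single P 1 : Divisor k K))) :
    (FG P G x).1 = cn P 1 x := rfl

lemma FG_snd (x : ↥(sectRing (Finsupp.single P 1 : Divisor k K))) (h : ↥G) :
    (FG P G x).2 h = Submodule.Quotient.mk (cn P (h : ℕ) x) := rfl

variable [IsAlgClosed k] (hK : IsFunctionField k K)
include hK

/-- `F(r y) = r₀ F(y)` for `y` in the irrelevant ideal. -/
lemma FG_mul (hG : ∀ h ∈ G, h ∈ minGens (poleOrders P))
    (r y : ↥(sectRing (Finsupp.single P 1 : Divisor k K))) (hy : y ∈ Iplus P) (c : k)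
    (hc : (r : K[X]).coeff 0 = algebraMap k K c) : FG P G (r * y) = c • FG P G y := by
  rw [mem_Iplus] at hy
  apply Prod.ext
  · rw [Prod.smul_fst, FG_fst, FG_fst]
    apply Subtype.ext
    rw [Submodule.coe_smul, cn_apply, cn_apply, MulMemClass.coe_mul, mul_coeff_one, hy, mul_zero,
      add_zero, hc, Algebra.smul_def]
  · funext h
    rw [Prod.smul_snd, Pi.smul_apply, FG_snd, FG_snd, ← Submodule.Quotient.mk_smul,
      Submodule.Quotient.eq, Submodule.mem_comap]
    simp only [Submodule.subtype_apply, Submodule.coe_sub, Submodule.coe_smul, cn_apply]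
    rw [MulMemClass.coe_mul, coeff_mul,
      ← Finset.add_sum_erase _ _ (show ((0, (h : ℕ)) : ℕ × ℕ) ∈ Finset.antidiagonal (h : ℕ) by
        rw [Finset.mem_antidiagonal]; simp)]
    simp only
    rw [hc, ← Algebra.smul_def, add_sub_cancel_left]
    refine Submodule.sum_mem _ fun x hx => ?_
    rw [Finset.mem_erase, Finset.mem_antidiagonal] at hx
    obtain ⟨hne, hsum⟩ := hx
    by_cases h2 : x.2 = 0
    · rw [h2, hy, mul_zero]
      exact Submodule.zero_mem _
    · have h1 : 1 ≤ x.1 := by
        by_contra hcon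
        apply hne
        have : x.1 = 0 := by omega
        apply Prod.ext
        · exact this
        · simp only; omega
      exact mul_mem_of_minGens hK P (hG h h.2) hsum h1 (by omega) (coeff_mem P r x.1)
        (coeff_mem P y x.2)

lemma FG_mono_one (hG1 : 1 ∉ G) (g : K)
    (hg : g ∈ L (Finsupp.single P ((1 : ℕ) : ℤ) : Divisor k K)) :
    FG P G (mono P 1 g hg) = (⟨g, hg⟩, 0) := by
  apply Prod.ext
  · rw [FG_fst]
    apply Subtype.ext
    rw [cn_apply, coe_mono, coeff_monomial, if_pos rfl]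
  · funext h
    rw [FG_snd]
    have h1 : (h : ℕ) ≠ 1 := fun e => hG1 (e ▸ h.2)
    have : cn P (h : ℕ) (mono P 1 g hg) = 0 := by
      apply Subtype.ext
      rw [cn_apply, coe_mono, coeff_monomial, if_neg (Ne.symm h1)]
      rfl
    rw [this]
    rfl

open Classical in
lemma FG_mono (hG1 : 1 ∉ G) (h : ↥G) (g : K)
    (hg : g ∈ L (Finsupp.single P ((h : ℕ) : ℤ) : Divisor k K)) :
    FG P G (mono P (h : ℕ) g hg) = (0, Pi.single h (Submodule.Quotient.mk ⟨g, hg⟩)) := by
  apply Prod.ext
  · rw [FG_fst]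
    have h1 : (h : ℕ) ≠ 1 := fun e => hG1 (e ▸ h.2)
    apply Subtype.ext
    rw [cn_apply, coe_mono, coeff_monomial, if_neg h1]
    rfl
  · funext h'
    rw [FG_snd]
    dsimp only
    by_cases hh : h' = h
    · subst hh
      rw [Pi.single_eq_same]
      congr 1
      apply Subtype.ext
      rw [cn_apply, coe_mono, coeff_monomial, if_pos rfl]
    · rw [Pi.single_eq_of_ne hh]
      have : cn P (h' : ℕ) (mono P (h : ℕ) g hg) = 0 := by
        apply Subtype.ext
        rw [cn_apply, coe_mono, coeff_monomial,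
          if_neg (fun e : (h : ℕ) = (h' : ℕ) => hh (Subtype.ext e.symm))]
        rfl
      rw [this]
      rfl

lemma mono_mem_Iplus {n : ℕ} (hn : n ≠ 0) (g : K)
    (hg : g ∈ L (Finsupp.single P (n : ℤ) : Divisor k K)) : mono P n g hg ∈ Iplus P := by
  rw [mem_Iplus, coe_mono, coeff_monomial, if_neg hn]

lemma FG_range (hG1 : 1 ∉ G) (hG0 : 0 ∉ G) :
    Submodule.map (FG P G) ((Iplus P).restrictScalars k) = ⊤ := by
  classical
  rw [eq_top_iff]
  rintro ⟨v1, w⟩ -
  have h1 : ((v1, 0) : VG P G) ∈ Submodule.map (FG P G) ((Iplus P).restrictScalars k) :=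
    ⟨mono P 1 v1.1 v1.2, mono_mem_Iplus P hK one_ne_zero _ _, FG_mono_one P G hK hG1 v1.1 v1.2⟩
  have h2 : ∀ w' : ((h : ↥G) → RelQuot (L (Finsupp.single P (((h : ℕ) : ℤ) - 1) : Divisor k K))
      (L (Finsupp.single P ((h : ℕ) : ℤ) : Divisor k K))),
      ((0, w') : VG P G) ∈ Submodule.map (FG P G) ((Iplus P).restrictScalars k) := by
    intro w'
    rw [← Finset.univ_sum_single w']
    have : ((0, ∑ i : ↥G, Pi.single i (w' i)) : VG P G) =
        ∑ i : ↥G, ((0, Pi.single i (w' i)) : VG P G) := by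
      rw [Prod.ext_iff]
      constructor
      · rw [Prod.fst_sum]; simp
      · rw [Prod.snd_sum]
    rw [this]
    refine Submodule.sum_mem _ fun h _ => ?_
    obtain ⟨⟨g, hg⟩, hq⟩ := Submodule.Quotient.mk_surjective _ (w' h)
    rw [← hq]
    exact ⟨mono P (h : ℕ) g hg, mono_mem_Iplus P hK (fun e => hG0 (e ▸ h.2)) _ _,
      FG_mono P G hK hG1 h g hg⟩
  have : ((v1, w) : VG P G) = (v1, 0) + (0, w) := by
    apply Prod.ext
    · exact (add_zero v1).symm
    · funext h
      exact (zero_add (w h)).symm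
  rw [this]
  exact Submodule.add_mem _ h1 (h2 w)

lemma finrank_VG (hg : 1 ≤ genus k K) (hG : ∀ h ∈ G, h ∈ minGens (poleOrders P)) :
    Module.finrank k (VG P G) = 1 + G.card := by
  have hfd1 := finiteDimensional_L hK (Finsupp.single P ((1 : ℕ) : ℤ) : Divisor k K)
  have hfdh : ∀ h : ↥G, Module.Finite k (RelQuot
      (L (Finsupp.single P (((h : ℕ) : ℤ) - 1) : Divisor k K))
      (L (Finsupp.single P ((h : ℕ) : ℤ) : Divisor k K))) := by
    intro h
    have := finiteDimensional_L hK (Finsupp.single P ((h : ℕ) : ℤ) : Divisor k K)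
    infer_instance
  haveI hfree : ∀ h : ↥G, Module.Free k (RelQuot
      (L (Finsupp.single P (((h : ℕ) : ℤ) - 1) : Divisor k K))
      (L (Finsupp.single P ((h : ℕ) : ℤ) : Divisor k K))) := fun h => inferInstance
  haveI hfreePi : Module.Free k ((h : ↥G) → RelQuot
      (L (Finsupp.single P (((h : ℕ) : ℤ) - 1) : Divisor k K))
      (L (Finsupp.single P ((h : ℕ) : ℤ) : Divisor k K))) := Module.Free.pi _ _
  rw [Module.finrank_prod, Module.finrank_pi_fintype]
  congr 1
  · -- `ℓ(P) = 1`
    have e : L (Finsupp.single P ((1 : ℕ) : ℤ) : Divisor k K) = L (0 : Divisor k K) := by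
      apply le_antisymm
      · intro a ha
        obtain ⟨c, rfl⟩ := mem_L_single_one hK P hg (by exact_mod_cast ha)
        exact algebraMap_mem_L_zero c
      · have := L_single_mono P (m := 0) (n := ((1 : ℕ) : ℤ)) (by norm_num)
        rwa [Finsupp.single_zero] at this
    rw [e]
    exact ell_zero hK
  · have hone : ∀ h : ↥G, Module.finrank k (RelQuot
        (L (Finsupp.single P (((h : ℕ) : ℤ) - 1) : Divisor k K))
        (L (Finsupp.single P ((h : ℕ) : ℤ) : Divisor k K))) = 1 := by
      intro h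
      have hh := (hG h h.2).1
      have hfd := finiteDimensional_L hK (Finsupp.single P ((h : ℕ) : ℤ) : Divisor k K)
      have h1 := relQuot_finrank_total (L_single_mono P (m := ((h : ℕ) : ℤ) - 1)
        (n := ((h : ℕ) : ℤ)) (by omega))
      unfold poleOrders at hh
      rw [Set.mem_ofPred_eq, zsmul_single_one, zsmul_single_one] at hh
      unfold ell at hh
      omega
    rw [Finset.sum_congr rfl (fun h _ => hone h)]
    simp

end Lower

section Main

/-- **S18670**. -/
theorem spanFinrank_irrelevant [IsAlgClosed k] (hK : IsFunctionField k K) (hg : 1 ≤ genus k K)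
    (P : Place k K) :
    (RingHom.ker (Polynomial.constantCoeff.comp
      (sectRing (Finsupp.single P 1 : Divisor k K)).val.toRingHom)).spanFinrank =
      Set.ncard (minGens (poleOrders P)) + 1 := by
  classical
  obtain ⟨π, hπ⟩ := exists_uniformizer P
  have hfin := minGens_finite hK P
  set G : Finset ℕ := hfin.toFinset with hGdef
  have hGmem : ∀ h, h ∈ G ↔ h ∈ minGens (poleOrders P) := fun h => hfin.mem_toFinset
  have hcard : Set.ncard (minGens (poleOrders P)) = G.card :=
    Set.ncard_eq_toFinset_card _ hfin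
  have hG : ∀ h ∈ G, h ∈ minGens (poleOrders P) := fun h hh => (hGmem h).1 hh
  have hG1 : 1 ∉ G := fun h1 => one_notMem_poleOrders hK P hg (hG 1 h1).1
  have hG0 : 0 ∉ G := fun h0 => (hG 0 h0).2.1 rfl
  have hJ := Jgen_eq_Iplus hK hπ
  show (Iplus P).spanFinrank = _
  have hgenfin : (insert (mono P 1 1 (one_mem_L_single_one P))
      ((genOf hK hπ) '' (minGens (poleOrders P)))).Finite :=
    (hfin.image _).insert _
  -- upper bound
  have hup : (Iplus P).spanFinrank ≤ G.card + 1 := by
    rw [← hJ]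
    unfold Jgen
    refine (Submodule.spanFinrank_span_le_ncard_of_finite hgenfin).trans ?_
    refine (Set.ncard_insert_le _ _).trans ?_
    rw [← hcard]
    exact Nat.add_le_add_right (Set.ncard_image_le hfin) 1
  have hFG : (Iplus P).FG := by
    rw [← hJ]
    exact Submodule.fg_span hgenfin
  -- lower bound
  obtain ⟨s, hs_card, hs_span⟩ := Submodule.FG.exists_span_finset_card_eq_spanFinrank hFG
  have hmemW : ∀ x ∈ Submodule.span ↥(sectRing (Finsupp.single P 1 : Divisor k K))
      (s : Set ↥(sectRing (Finsupp.single P 1 : Divisor k K))),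
      FG P G x ∈ Submodule.span k ((FG P G) '' (s : Set _)) := by
    intro x hx
    induction hx using Submodule.span_induction with
    | mem x hx => exact Submodule.subset_span ⟨x, hx, rfl⟩
    | zero => rw [map_zero]; exact Submodule.zero_mem _
    | add x y _ _ hx hy => rw [map_add]; exact Submodule.add_mem _ hx hy
    | smul r x hx ih =>
      have hxI : x ∈ Iplus P := hs_span ▸ hx
      have hr0 := coeff_mem P r 0
      have e0 : (((0 : ℕ) : ℤ)) = 0 := rfl
      rw [e0, Finsupp.single_zero, L_zero_eq hK, Submodule.mem_one] at hr0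
      obtain ⟨c, hc⟩ := hr0
      rw [smul_eq_mul, FG_mul P G hK hG r x hxI c hc.symm]
      exact Submodule.smul_mem _ _ ih
  have htop : Submodule.span k ((FG P G) '' (s : Set _)) = ⊤ := by
    rw [eq_top_iff]
    intro v _
    have hv : v ∈ Submodule.map (FG P G) ((Iplus P).restrictScalars k) := by
      rw [FG_range P G hK hG1 hG0]; trivial
    obtain ⟨x, hx, rfl⟩ := hv
    exact hmemW x (hs_span ▸ hx)
  have hlow : 1 + G.card ≤ s.card := by
    rw [← finrank_VG P G hK hg hG]
    have h1 : Module.finrank k (VG P G) =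
        Module.finrank k ↥(Submodule.span k ((FG P G) '' (s : Set _))) := by
      rw [htop, finrank_top]
    rw [h1]
    have h2 : ((FG P G) '' (s : Set _)) = ((s.image (FG P G) : Finset (VG P G)) : Set (VG P G)) := by
      rw [Finset.coe_image]
    rw [h2]
    exact (finrank_span_finset_le_card _).trans Finset.card_image_le
  rw [hcard]
  omega

end Main

end Groth.Agent.Lib.Helper88.Sect
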