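/-
The section ring `⊕ L(nP) Tⁿ` of a point divisor is a finitely generated `k`-algebra, hence
Noetherian.
Author: helper88
-/
import Groth.Agent.Lib.Helper88.SectRing2
import Mathlib.RingTheory.FiniteType

set_option autoImplicit false
set_option linter.unusedSectionVars false
set_option linter.style.haveILetI false

namespace Groth.Agent.Lib.Helper88.Sect

open FunFld WithZero Polynomial Groth.Agent.Lib.Helper88.FF W4c6gradedringsgw

universe u

variable {k K : Type u} [Field k] [Field K] [Algebra k K]

section Noeth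

variable (P : Place k K)

/-- `g ↦ g Tⁿ` as a linear map. -/
noncomputable def monoL (n : ℕ) : L (Finsupp.single P (n : ℤ) : Divisor k K) →ₗ[k]
    ↥(sectRing (Finsupp.single P 1 : Divisor k K)) where
  toFun g := mono P n g.1 g.2
  map_add' a b := by
    apply Subtype.ext
    simp only [coe_mono, Submodule.coe_add, map_add, AddMemClass.coe_add]
  map_smul' c a := by
    apply Subtype.ext
    simp only [coe_mono, Submodule.coe_smul, RingHom.id_apply, Subalgebra.coe_smul,
      smul_monomial]

/-- the sum of the low-degree pieces -/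
noncomputable def lowMap (N : ℕ) :
    ((n : Fin N) → L (Finsupp.single P ((n : ℕ) : ℤ) : Divisor k K)) →ₗ[k]
      ↥(sectRing (Finsupp.single P 1 : Divisor k K)) :=
  ∑ n : Fin N, (monoL P (n : ℕ)).comp (LinearMap.proj n)

lemma mono_mem_range_lowMap {N n : ℕ} (hn : n < N) {g : K}
    (hg : g ∈ L (Finsupp.single P (n : ℤ) : Divisor k K)) :
    mono P n g hg ∈ LinearMap.range (lowMap P N) := by
  classical
  refine ⟨Pi.single (⟨n, hn⟩ : Fin N) ⟨g, hg⟩, ?_⟩
  unfold lowMap
  rw [LinearMap.sum_apply, Finset.sum_eq_single (⟨n, hn⟩ : Fin N)]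
  · simp only [LinearMap.comp_apply, LinearMap.proj_apply, Pi.single_eq_same]
    rfl
  · intro b _ hb
    simp only [LinearMap.comp_apply, LinearMap.proj_apply, Pi.single_eq_of_ne hb, map_zero]
  · intro h; exact absurd (Finset.mem_univ _) h

variable [IsAlgClosed k] (hK : IsFunctionField k K)
include hK

/-- every `g Tⁿ` lies in the subalgebra generated by the pieces of degree `< 4g + 2` -/
lemma mono_mem_adjoin : ∀ (n : ℕ) (g : K)
    (hg : g ∈ L (Finsupp.single P (n : ℤ) : Divisor k K)),
    mono P n g hg ∈ Algebra.adjoin k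
      (LinearMap.range (lowMap P (4 * genus k K + 2)) :
        Set ↥(sectRing (Finsupp.single P 1 : Divisor k K))) := by
  obtain ⟨π, hπ⟩ := exists_uniformizer P
  intro n
  induction n using Nat.strong_induction_on with
  | _ n ih =>
    intro g hg
    by_cases hn : n < 4 * genus k K + 2
    · exact Algebra.subset_adjoin (mono_mem_range_lowMap P hn hg)
    push Not at hn
    set j : ℕ := 2 * genus k K + 1 with hj
    set i : ℕ := n - j with hi
    have hij : i + j = n := by omega
    have hiH : i ∈ poleOrders P := mem_poleOrders_of_le hK P (by omega)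
    have hjH : j ∈ poleOrders P := mem_poleOrders_of_le hK P (by omega)
    obtain ⟨fi, hfi⟩ := (mem_poleOrders_iff_isNrm hK hπ i).1 hiH
    obtain ⟨fj, hfj⟩ := (mem_poleOrders_iff_isNrm hK hπ j).1 hjH
    have hmul := IsNrm.mul hπ hfi hfj
    have ecast : ((i : ℤ) + (j : ℤ)) = (n : ℤ) := by exact_mod_cast hij
    rw [ecast] at hmul
    obtain ⟨c, hc⟩ := IsNrm.exists_sub_smul_mem hπ hK hmul hg
    have e1 : ((n : ℤ) - 1) = ((n - 1 : ℕ) : ℤ) := by
      rw [Nat.cast_sub (by omega)]; rfl
    rw [e1] at hc
    have hone : (1 : K) ∈ L (Finsupp.single P ((1 : ℕ) : ℤ) : Divisor k K) :=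
      one_mem_L_single_one P
    have hdecomp : mono P n g hg = mono P 1 1 hone * mono P (n - 1) (g - c • (fi * fj)) hc +
        c • (mono P i fi hfi.1 * mono P j fj hfj.1) := by
      apply Subtype.ext
      simp only [AddMemClass.coe_add, MulMemClass.coe_mul, coe_mono, Subalgebra.coe_smul,
        monomial_mul_monomial, smul_monomial, one_mul]
      rw [show 1 + (n - 1) = n by omega, hij, ← map_add, sub_add_cancel]
    rw [hdecomp]
    refine Subalgebra.add_mem _ (Subalgebra.mul_mem _ ?_ ?_) (Subalgebra.smul_mem _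
      (Subalgebra.mul_mem _ ?_ ?_) c)
    · exact ih 1 (by omega) 1 hone
    · exact ih (n - 1) (by omega) _ hc
    · exact ih i (by omega) _ hfi.1
    · exact ih j (by omega) _ hfj.1

lemma adjoin_lowMap_eq_top : Algebra.adjoin k
    (LinearMap.range (lowMap P (4 * genus k K + 2)) :
      Set ↥(sectRing (Finsupp.single P 1 : Divisor k K))) = ⊤ := by
  rw [eq_top_iff]
  intro p _
  rw [eq_sum_mono P p]
  exact Subalgebra.sum_mem _ fun i _ => mono_mem_adjoin P hK _ _ _

/-- the section ring is a finitely generated `k`-algebra -/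
theorem finiteType_sectRing :
    Algebra.FiniteType k ↥(sectRing (Finsupp.single P 1 : Divisor k K)) := by
  haveI : ∀ n : Fin (4 * genus k K + 2),
      Module.Finite k (L (Finsupp.single P ((n : ℕ) : ℤ) : Divisor k K)) :=
    fun n => finiteDimensional_L hK _
  have hfg : (LinearMap.range (lowMap P (4 * genus k K + 2))).FG := by
    rw [LinearMap.range_eq_map]
    exact Submodule.FG.map _ Module.Finite.fg_top
  obtain ⟨s, hs⟩ := hfg
  refine ⟨⟨s, ?_⟩⟩
  rw [← Algebra.adjoin_span, hs]
  exact adjoin_lowMap_eq_top P hK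

theorem isNoetherianRing_sectRing :
    IsNoetherianRing ↥(sectRing (Finsupp.single P 1 : Divisor k K)) := by
  haveI := finiteType_sectRing P hK
  exact Algebra.FiniteType.isNoetherianRing k _

end Noeth

end Groth.Agent.Lib.Helper88.Sect
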