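/-
The ring of functions regular away from a place `P` of a function field: it is a Dedekind domain
with fraction field `K`.
Author: helper88
-/
import Groth.Agent.Lib.Helper88.SectNoeth
import Groth.Agent.Lib.Helper34.FunFldCond
import Mathlib.RingTheory.DedekindDomain.Basic

set_option autoImplicit false
set_option linter.unusedSectionVars false
set_option linter.style.haveILetI false

namespace Groth.Agent.Lib.Helper88.HR

open FunFld WithZero Polynomial Groth.Agent.Lib.Helper88.FF Groth.Agent.Lib.Helper88.Sect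
  W4c6gradedringsgw

universe u

variable {k K : Type u} [Field k] [Field K] [Algebra k K]

section Basic

variable (P : Place k K)

/-- the functions regular away from `P` -/
def holo : Subalgebra k K where
  carrier := {x | ∀ Q : Place k K, Q ≠ P → Q.1 x ≤ 1}
  mul_mem' := by
    intro x y hx hy Q hQ
    rw [map_mul]
    exact mul_le_one' (hx Q hQ) (hy Q hQ)
  add_mem' := by
    intro x y hx hy Q hQ
    exact (Q.1.map_add _ _).trans (max_le (hx Q hQ) (hy Q hQ))
  algebraMap_mem' := fun c Q _ => Q.2.1 c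

variable {P}

lemma mem_holo {x : K} : x ∈ holo P ↔ ∀ Q : Place k K, Q ≠ P → Q.1 x ≤ 1 := Iff.rfl

lemma mem_holo_of_mem_L {n : ℤ} {x : K} (hx : x ∈ L (Finsupp.single P n : Divisor k K)) :
    x ∈ holo P := (mem_L_single_iff.1 hx).2

lemma exists_mem_L_of_mem_holo {x : K} (hx : x ∈ holo P) :
    ∃ n : ℕ, x ∈ L (Finsupp.single P (n : ℤ) : Divisor k K) := by
  obtain ⟨n, hn⟩ := Groth.Agent.Lib.Helper34.FunFldCond.exists_le_exp_nat (P.1 x)
  exact ⟨n, mem_L_single_iff.2 ⟨hn, hx⟩⟩

variable (P)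

/-- evaluation at `T = 1` -/
noncomputable def ev1 : ↥(sectRing (Finsupp.single P 1 : Divisor k K)) →+* ↥(holo P) :=
  RingHom.codRestrict ((Polynomial.evalRingHom (1 : K)).comp
    (sectRing (Finsupp.single P 1 : Divisor k K)).val.toRingHom) (holo P) (by
    intro p
    change (p : K[X]).eval 1 ∈ holo P
    rw [Polynomial.eval_eq_sum_range]
    refine Subalgebra.sum_mem _ fun i _ => ?_
    rw [one_pow, mul_one]
    exact mem_holo_of_mem_L (coeff_mem P p i))

lemma coe_ev1 (p : ↥(sectRing (Finsupp.single P 1 : Divisor k K))) :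
    ((ev1 P p : ↥(holo P)) : K) = (p : K[X]).eval 1 := rfl

lemma ev1_surjective : Function.Surjective (ev1 P) := by
  intro x
  obtain ⟨n, hn⟩ := exists_mem_L_of_mem_holo x.2
  refine ⟨mono P n x.1 hn, ?_⟩
  apply Subtype.ext
  rw [coe_ev1, coe_mono, eval_monomial, one_pow, mul_one]

theorem isNoetherianRing_holo [IsAlgClosed k] (hK : IsFunctionField k K) :
    IsNoetherianRing ↥(holo P) := by
  haveI := isNoetherianRing_sectRing P hK
  exact isNoetherianRing_of_surjective _ _ (ev1 P) (ev1_surjective P)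

end Basic

section Dim

variable [IsAlgClosed k] (hK : IsFunctionField k K) {P : Place k K} {π : K}
  (hπ : P.1 π = exp (-1 : ℤ))
include hK hπ

/-- a nonzero `g ∈ L(nP) ∖ L((n-1)P)` has a normalised constant multiple -/
lemma exists_isNrm_smul {n : ℤ} {g : K} (hg : g ∈ L (Finsupp.single P n : Divisor k K))
    (hg' : g ∉ L (Finsupp.single P (n - 1) : Divisor k K)) :
    ∃ c : k, c ≠ 0 ∧ IsNrm P π n (c⁻¹ • g) := by
  have hu : P.1 (g * π ^ n) ≤ 1 := (val_mul_pi_zpow_le_iff hπ g n).2 (mem_L_single_iff.1 hg).1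
  obtain ⟨c, hc⟩ := exists_val_sub_lt hK P hu
  have hnlt : ¬ P.1 (g * π ^ n) < 1 := by
    intro h
    apply hg'
    rw [mem_L_single_iff]
    exact ⟨(val_mul_pi_zpow_lt_iff hπ g n).1 h, (mem_L_single_iff.1 hg).2⟩
  have hc0 : c ≠ 0 := by
    rintro rfl
    rw [map_zero, sub_zero] at hc
    exact hnlt hc
  refine ⟨c, hc0, Submodule.smul_mem _ _ hg, ?_⟩
  have h1 : c⁻¹ • g * π ^ n - 1 = c⁻¹ • (g * π ^ n - algebraMap k K c) := by
    rw [smul_sub, smul_mul_assoc, Algebra.smul_def c⁻¹ (algebraMap k K c), ← map_mul,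
      inv_mul_cancel₀ hc0, map_one]
  rw [h1]
  exact lt_of_le_of_lt (val_smul_le P _ _) hc

/-- modulo a normalised element of pole order `m`, every regular function is represented in
`L((2g+m)P)` -/
lemma exists_decomp {m : ℕ} {y : K} (hy : IsNrm P π (m : ℤ) y) :
    ∀ (n : ℕ) (z : K), z ∈ L (Finsupp.single P (n : ℤ) : Divisor k K) →
      ∃ a ∈ holo P, ∃ r ∈ L (Finsupp.single P ((2 * genus k K + m : ℕ) : ℤ) : Divisor k K),
        z = y * a + r := by
  intro n
  induction n with
  | zero =>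
    intro z hz
    refine ⟨0, Subalgebra.zero_mem _, z, ?_, by ring⟩
    exact L_single_mono P (by positivity) hz
  | succ n ih =>
    intro z hz
    by_cases hle : n + 1 ≤ 2 * genus k K + m
    · refine ⟨0, Subalgebra.zero_mem _, z, ?_, by ring⟩
      exact L_single_mono P (by exact_mod_cast hle) hz
    push Not at hle
    have hH : n + 1 - m ∈ poleOrders P := mem_poleOrders_of_le hK P (by omega)
    obtain ⟨w, hw⟩ := (mem_poleOrders_iff_isNrm hK hπ (n + 1 - m)).1 hH
    have hmul := IsNrm.mul hπ hy hw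
    have ecast : ((m : ℤ) + ((n + 1 - m : ℕ) : ℤ)) = ((n + 1 : ℕ) : ℤ) := by
      rw [Nat.cast_sub (by omega)]; push_cast; ring
    rw [ecast] at hmul
    obtain ⟨c, hc⟩ := IsNrm.exists_sub_smul_mem hπ hK hmul hz
    have e1 : (((n + 1 : ℕ) : ℤ) - 1) = (n : ℤ) := by push_cast; ring
    rw [e1] at hc
    obtain ⟨a, ha, r, hr, hzr⟩ := ih _ hc
    refine ⟨a + c • w, Subalgebra.add_mem _ ha (Subalgebra.smul_mem _
      (mem_holo_of_mem_L hw.1) c), r, hr, ?_⟩
    have : z = (z - c • (y * w)) + c • (y * w) := by ring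
    rw [this, hzr, mul_add, mul_smul_comm]
    ring

/-- nonzero primes of the ring of functions regular away from `P` are maximal -/
theorem isMaximal_of_isPrime (q : Ideal ↥(holo P)) (hq : q.IsPrime) (hq0 : q ≠ ⊥) :
    q.IsMaximal := by
  obtain ⟨y0, hy0q, hy0⟩ := Submodule.exists_mem_ne_zero_of_ne_bot hq0
  have hy0K : (y0 : K) ≠ 0 := fun h => hy0 (Subtype.ext h)
  have hnc : (y0 : K) ∉ Set.range (algebraMap k K) := by
    rintro ⟨c, hc⟩
    have hc0 : c ≠ 0 := by
      rintro rfl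
      rw [map_zero] at hc
      exact hy0K hc.symm
    have h1 : y0 = algebraMap k ↥(holo P) c := Subtype.ext hc.symm
    have h2 : IsUnit y0 := by
      rw [h1]; exact (IsUnit.mk0 c hc0).map _
    exact hq.ne_top (Ideal.eq_top_of_isUnit_mem _ hy0q h2)
  obtain ⟨Q, hQ⟩ := exists_pole hK hnc
  have hQP : Q = P := by
    by_contra hne
    have := (val_le_one_iff Q hy0K).1 (y0.2 Q hne)
    omega
  subst hQP
  set m : ℕ := (-Q.ord (y0 : K)).toNat with hm
  have hmcast : (m : ℤ) = -Q.ord (y0 : K) := by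
    rw [hm]; exact Int.toNat_of_nonneg (by omega)
  have hmem : (y0 : K) ∈ L (Finsupp.single Q (m : ℤ) : Divisor k K) := by
    rw [mem_L_single_iff]
    refine ⟨?_, y0.2⟩
    rw [val_le_exp_iff Q hy0K]
    omega
  have hnot : (y0 : K) ∉ L (Finsupp.single Q ((m : ℤ) - 1) : Divisor k K) := by
    intro h
    have := (mem_L_single_iff.1 h).1
    rw [val_le_exp_iff Q hy0K] at this
    omega
  obtain ⟨c, hc0, hnrm⟩ := exists_isNrm_smul hK hπ hmem hnot
  have hyq : (c⁻¹ • y0 : ↥(holo Q)) ∈ q := by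
    rw [Algebra.smul_def]
    exact Ideal.mul_mem_left _ _ hy0q
  haveI := finiteDimensional_L hK
    (Finsupp.single Q ((2 * genus k K + m : ℕ) : ℤ) : Divisor k K)
  let φ : L (Finsupp.single Q ((2 * genus k K + m : ℕ) : ℤ) : Divisor k K) →ₗ[k]
      (↥(holo Q) ⧸ q) :=
    { toFun := fun r => Ideal.Quotient.mk q ⟨r.1, mem_holo_of_mem_L r.2⟩
      map_add' := fun a b => by rw [← map_add]; rfl
      map_smul' := fun d a => by
        rw [RingHom.id_apply, ← Ideal.Quotient.mkₐ_eq_mk k, ← map_smul]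
        rfl }
  have hsurj : Function.Surjective φ := by
    intro xbar
    obtain ⟨x, rfl⟩ := Ideal.Quotient.mk_surjective xbar
    obtain ⟨n, hn⟩ := exists_mem_L_of_mem_holo x.2
    obtain ⟨a, ha, r, hr, hxr⟩ := exists_decomp hK hπ hnrm n _ hn
    refine ⟨⟨r, hr⟩, ?_⟩
    change Ideal.Quotient.mk q ⟨r, _⟩ = Ideal.Quotient.mk q x
    rw [eq_comm, Ideal.Quotient.eq]
    have : x - ⟨r, mem_holo_of_mem_L hr⟩ = (c⁻¹ • y0 : ↥(holo Q)) * ⟨a, ha⟩ := by
      apply Subtype.ext
      rw [AddSubgroupClass.coe_sub, MulMemClass.coe_mul, Subalgebra.coe_smul, hxr]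
      ring
    rw [this]
    exact Ideal.mul_mem_right _ _ hyq
  haveI : Module.Finite k (↥(holo Q) ⧸ q) := Module.Finite.of_surjective φ hsurj
  haveI : IsDomain (↥(holo Q) ⧸ q) := (Ideal.Quotient.isDomain_iff_prime q).2 hq
  haveI : Algebra.IsIntegral k (↥(holo Q) ⧸ q) := Algebra.IsIntegral.of_finite k _
  exact Ideal.Quotient.maximal_of_isField q
    (isField_of_isIntegral_of_isField' (Field.toIsField k))

end Dim

end Groth.Agent.Lib.Helper88.HR
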