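/-
The ring of functions regular away from a place `P` is integrally closed with fraction field `K`,
hence a Dedekind domain.
Author: helper88
-/
import Groth.Agent.Lib.Helper88.HoloRing
import Mathlib.RingTheory.Valuation.Integral
import Mathlib.RingTheory.Algebraic.Integral

set_option autoImplicit false
set_option linter.unusedSectionVars false
set_option linter.style.haveILetI false

namespace Groth.Agent.Lib.Helper88.HR

open FunFld WithZero Polynomial Groth.Agent.Lib.Helper88.FF Groth.Agent.Lib.Helper88.Sect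
  W4c6gradedringsgw
open scoped IntermediateField.algebraAdjoinAdjoin

universe u

variable {k K : Type u} [Field k] [Field K] [Algebra k K]

lemma mem_holo_of_isIntegral {P : Place k K} {x : K} (hx : IsIntegral ↥(holo P) x) :
    x ∈ holo P := by
  intro Q hQ
  obtain ⟨f, hm, hf⟩ := hx
  let ι : ↥(holo P) →+* ↥(Q.1.integer) :=
    { toFun := fun a => ⟨a.1, a.2 Q hQ⟩
      map_one' := rfl
      map_mul' := fun _ _ => rfl
      map_zero' := rfl
      map_add' := fun _ _ => rfl }
  have hcomp : (algebraMap ↥(Q.1.integer) K).comp ι = algebraMap ↥(holo P) K :=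
    RingHom.ext fun _ => rfl
  have hint : IsIntegral ↥(Q.1.integer) x :=
    ⟨f.map ι, hm.map ι, by rw [eval₂_map, hcomp]; exact hf⟩
  exact (Valuation.integer.integers Q.1).mem_of_integral hint

variable [IsAlgClosed k] (hK : IsFunctionField k K) (P : Place k K)
include hK

theorem isFractionRing_holo : IsFractionRing ↥(holo P) K := by
  obtain ⟨π, hπ⟩ := exists_uniformizer P
  have hH : 2 * genus k K + 1 ∈ poleOrders P := mem_poleOrders_of_le hK P (by omega)
  obtain ⟨f, hf⟩ := (mem_poleOrders_iff_isNrm hK hπ _).1 hH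
  have hfh : f ∈ holo P := mem_holo_of_mem_L hf.1
  have hfnc : f ∉ Set.range (algebraMap k K) := by
    rintro ⟨c, rfl⟩
    apply hf.not_mem hπ
    refine L_single_mono P (m := 0) (by push_cast; omega) ?_
    rw [Finsupp.single_zero]
    exact algebraMap_mem_L_zero c
  have htr := transcendental_of_not_mem_range hK hfnc
  haveI hfin := finiteDimensional_adjoin_of_transcendental hK htr
  have halg0 : Algebra.IsAlgebraic (IntermediateField.adjoin k ({f} : Set K)) K :=
    Algebra.IsAlgebraic.of_finite _ _
  have halg1 : Algebra.IsAlgebraic (Algebra.adjoin k ({f} : Set K)) K :=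
    Algebra.IsAlgebraic.trans (Algebra.adjoin k ({f} : Set K))
      (IntermediateField.adjoin k ({f} : Set K)) K
  have hle : Algebra.adjoin k ({f} : Set K) ≤ holo P :=
    Algebra.adjoin_le (Set.singleton_subset_iff.2 hfh)
  have halg : ∀ z : K, IsAlgebraic ↥(holo P) z := by
    intro z
    obtain ⟨p, hp0, hpz⟩ := halg1.isAlgebraic z
    refine ⟨p.map (Subalgebra.inclusion hle).toRingHom, ?_, ?_⟩
    · rwa [Ne, Polynomial.map_eq_zero_iff (Subalgebra.inclusion_injective hle)]
    · rw [aeval_def, eval₂_map]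
      exact hpz
  rw [IsFractionRing, isLocalization_iff]
  refine ⟨?_, ?_, ?_⟩
  · rintro ⟨y, hy⟩
    exact IsUnit.mk0 _ (fun h => nonZeroDivisors.ne_zero hy (Subtype.ext h))
  · intro z
    obtain ⟨y, hy0, hyz⟩ := (halg z).exists_integral_multiple
    have hmem := mem_holo_of_isIntegral hyz
    refine ⟨⟨⟨y • z, hmem⟩, ⟨y, mem_nonZeroDivisors_of_ne_zero hy0⟩⟩, ?_⟩
    change z * (y : K) = y • z
    rw [mul_comm]
    rfl
  · intro x y hxy
    exact ⟨1, by rw [Subtype.ext hxy]⟩

theorem isDedekindDomain_holo : IsDedekindDomain ↥(holo P) := by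
  haveI := isFractionRing_holo hK P
  obtain ⟨π, hπ⟩ := exists_uniformizer P
  rw [isDedekindDomain_iff ↥(holo P) K]
  exact ⟨inferInstance, isNoetherianRing_holo P hK,
    ⟨fun {q} hq0 hq => isMaximal_of_isPrime hK hπ q hq hq0⟩,
    fun {x} hx => ⟨⟨x, mem_holo_of_isIntegral hx⟩, rfl⟩⟩

end Groth.Agent.Lib.Helper88.HR
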