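/-
The semigroup algebra `k[H]` of a numerical semigroup `H ⊆ ℕ`, realised as a subalgebra of `k[X]`:
membership in the ideal generated by a monomial, localization away from a monomial.
Author: helper88
-/
import Groth.Agent.Lib.Helper88.GorGlue
import Mathlib.Algebra.Polynomial.Div
import Mathlib.RingTheory.Localization.Away.Basic

set_option autoImplicit false
set_option linter.style.haveILetI false
set_option linter.unusedSectionVars false

namespace Groth.Agent.Lib.Helper88.SG

open Polynomial IsLocalRing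

universe u

/-- a regular ring is Gorenstein -/
theorem gorRing_of_isRegularRing (R : Type u) [CommRing R] [IsRegularRing R] :
    LocCoh.IsGorensteinRing R :=
  { isGorensteinLocalRing_localization := fun p _ =>
      Groth.Agent.Lib.Helper85.FLCrit.isGorensteinLocalRing_of_regular _ }

variable (k : Type u) [Field k] (H : AddSubmonoid ℕ)

/-- the semigroup algebra of `H ⊆ ℕ` as a subalgebra of `k[X]` -/
def semiAlg : Subalgebra k k[X] where
  carrier := {p | ∀ n, p.coeff n ≠ 0 → n ∈ H}
  mul_mem' := by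
    intro p q hp hq n hn
    rw [coeff_mul] at hn
    obtain ⟨x, hx, hx0⟩ := Finset.exists_ne_zero_of_sum_ne_zero hn
    have h1 : p.coeff x.1 ≠ 0 := left_ne_zero_of_mul hx0
    have h2 : q.coeff x.2 ≠ 0 := right_ne_zero_of_mul hx0
    rw [← Finset.HasAntidiagonal.mem_antidiagonal.mp hx]
    exact H.add_mem (hp _ h1) (hq _ h2)
  add_mem' := by
    intro p q hp hq n hn
    rw [coeff_add] at hn
    by_cases h1 : p.coeff n = 0
    · rw [h1, zero_add] at hn; exact hq n hn
    · exact hp n h1
  algebraMap_mem' := by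
    intro c n hn
    rw [← Polynomial.C_eq_algebraMap, coeff_C] at hn
    split_ifs at hn with h
    · subst h; exact H.zero_mem
    · exact absurd rfl hn

variable {k H}

lemma mem_semiAlg {p : k[X]} : p ∈ semiAlg k H ↔ ∀ n, p.coeff n ≠ 0 → n ∈ H := Iff.rfl

lemma X_pow_mem {h : ℕ} (hh : h ∈ H) : (X : k[X]) ^ h ∈ semiAlg k H := by
  intro n hn
  rw [coeff_X_pow] at hn
  split_ifs at hn with h1
  · subst h1; exact hh
  · exact absurd rfl hn

lemma mem_of_forall_lt {c : ℕ} (hc : ∀ n, c ≤ n → n ∈ H) {p : k[X]}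
    (hp : ∀ n < c, p.coeff n = 0) : p ∈ semiAlg k H := by
  intro n hn
  by_contra hnH
  have : n < c := by
    by_contra hcon
    exact hnH (hc n (not_lt.mp hcon))
  exact hn (hp n this)

variable (k H) in
/-- the monomial `X ^ h` of `k[H]` -/
noncomputable def bm (h : ℕ) (hh : h ∈ H) : semiAlg k H := ⟨X ^ h, X_pow_mem hh⟩

@[simp] lemma coe_bm (h : ℕ) (hh : h ∈ H) : ((bm k H h hh : semiAlg k H) : k[X]) = X ^ h := rfl

lemma bm_ne_zero (h : ℕ) (hh : h ∈ H) : bm k H h hh ≠ 0 := by
  intro h0
  have := congrArg (fun p : semiAlg k H => (p : k[X])) h0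
  simp only [coe_bm, ZeroMemClass.coe_zero] at this
  exact (pow_ne_zero h Polynomial.X_ne_zero) this

section Span

variable (e : ℕ) (he : e ∈ H)

/-- membership in the principal ideal generated by a monomial -/
lemma mem_span_bm (p : semiAlg k H) : p ∈ Ideal.span {bm k H e he} ↔
    ∀ n, (p : k[X]).coeff n ≠ 0 → e ≤ n ∧ n - e ∈ H := by
  constructor
  · intro hp
    obtain ⟨q, rfl⟩ := Ideal.mem_span_singleton'.mp hp
    intro n hn
    rw [MulMemClass.coe_mul, coe_bm, coeff_mul_X_pow'] at hn
    split_ifs at hn with h1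
    · exact ⟨h1, q.2 _ hn⟩
    · exact absurd rfl hn
  · intro h
    have hdvd : (X : k[X]) ^ e ∣ (p : k[X]) := by
      rw [X_pow_dvd_iff]
      intro d hd
      by_contra hne
      exact absurd (h d hne).1 (not_le.mpr hd)
    obtain ⟨q, hq⟩ := hdvd
    have hqm : q ∈ semiAlg k H := by
      intro n hn
      have h1 : (p : k[X]).coeff (n + e) = q.coeff n := by rw [hq, coeff_X_pow_mul]
      have h2 := (h (n + e) (by rw [h1]; exact hn)).2
      rwa [Nat.add_sub_cancel] at h2
    rw [Ideal.mem_span_singleton']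
    refine ⟨⟨q, hqm⟩, ?_⟩
    apply Subtype.ext
    rw [MulMemClass.coe_mul, coe_bm, hq, mul_comm]

end Span

section Loc

variable {c : ℕ} (hc : ∀ n, c ≤ n → n ∈ H) (e : ℕ) (he : e ∈ H) (hpos : 0 < e)
include hc hpos

/-- `k[H][1/X^e] = k[X][1/X]` -/
theorem isLocalization_away :
    IsLocalization.Away (bm k H e he) (Localization.Away (X : k[X])) := by
  have halg : ∀ b : semiAlg k H, algebraMap (semiAlg k H) (Localization.Away (X : k[X])) b =
      algebraMap k[X] (Localization.Away (X : k[X])) (b : k[X]) := fun _ => rfl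
  have hXu : IsUnit (algebraMap k[X] (Localization.Away (X : k[X])) X) :=
    IsLocalization.Away.algebraMap_isUnit (X : k[X])
  have hinj : Function.Injective (algebraMap k[X] (Localization.Away (X : k[X]))) := by
    apply IsLocalization.injective (M := Submonoid.powers (X : k[X]))
    exact powers_le_nonZeroDivisors_of_noZeroDivisors Polynomial.X_ne_zero
  rw [IsLocalization.Away, isLocalization_iff]
  refine ⟨?_, ?_, ?_⟩
  · rintro ⟨y, n, rfl⟩
    rw [map_pow, halg, coe_bm, map_pow]
    exact (hXu.pow e).pow n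
  · intro z
    obtain ⟨⟨f, ⟨y, n, rfl⟩⟩, hz⟩ := IsLocalization.surj (Submonoid.powers (X : k[X])) z
    -- z * X^n = f
    have hle : n ≤ e * (n + c) := by nlinarith
    have hmem : f * X ^ (e * (n + c) - n) ∈ semiAlg k H := by
      apply mem_of_forall_lt hc
      intro m hm
      rw [coeff_mul_X_pow']
      split_ifs with h1
      · exfalso
        have : n + c ≤ e * (n + c) := Nat.le_mul_of_pos_left _ hpos
        omega
      · rfl
    refine ⟨⟨⟨f * X ^ (e * (n + c) - n), hmem⟩, ⟨(bm k H e he) ^ (n + c), n + c, rfl⟩⟩, ?_⟩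
    simp only at hz ⊢
    rw [halg, halg, SubmonoidClass.coe_pow, coe_bm, ← pow_mul, map_mul, ← hz,
      mul_assoc, ← map_mul, ← pow_add, Nat.add_sub_cancel' hle]
  · intro x y hxy
    refine ⟨1, ?_⟩
    rw [halg, halg] at hxy
    have := hinj hxy
    rw [Subtype.ext this]

end Loc

variable (k) in
/-- `k[X][1/X]` is Gorenstein -/
theorem gorRing_away_X : LocCoh.IsGorensteinRing (Localization.Away (X : k[X])) := by
  haveI : LocCoh.IsGorensteinRing k[X] := gorRing_of_isRegularRing k[X]
  exact Groth.Agent.Lib.Helper85.GorRing.gorRing_localization (Submonoid.powers (X : k[X])) _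

end Groth.Agent.Lib.Helper88.SG
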