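/-
The section ring `R = ⊕ L(nP) Tⁿ` localised at `T` is `A[T, T⁻¹]` with `A` the ring of functions
regular away from `P`; it is a Gorenstein (indeed regular) ring.
Author: helper88
-/
import Groth.Agent.Lib.Helper88.HoloDed
import Groth.Agent.Lib.Helper88.SemiAlg
import Mathlib.Algebra.Polynomial.Lifts

set_option autoImplicit false
set_option linter.unusedSectionVars false
set_option linter.style.haveILetI false

namespace Groth.Agent.Lib.Helper88.HR

open FunFld WithZero Polynomial Groth.Agent.Lib.Helper88.FF Groth.Agent.Lib.Helper88.Sect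
  W4c6gradedringsgw

universe u

variable {k K : Type u} [Field k] [Field K] [Algebra k K] (P : Place k K)

lemma algebraMap_holo_injective : Function.Injective (algebraMap ↥(holo P) K) :=
  Subtype.val_injective

lemma exists_lift (p : ↥(sectRing (Finsupp.single P 1 : Divisor k K))) :
    ∃ q : (↥(holo P))[X], q.map (algebraMap ↥(holo P) K) = (p : K[X]) := by
  rw [← mem_lifts, lifts_iff_coeff_lifts]
  intro n
  exact ⟨⟨_, mem_holo_of_mem_L (coeff_mem P p n)⟩, rfl⟩

/-- the inclusion of the section ring into `A[T]` -/
noncomputable def iota : ↥(sectRing (Finsupp.single P 1 : Divisor k K)) →+* (↥(holo P))[X] where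
  toFun p := Classical.choose (exists_lift P p)
  map_one' := map_injective _ (algebraMap_holo_injective P) (by
    rw [Classical.choose_spec (exists_lift P 1), Polynomial.map_one]; rfl)
  map_mul' p q := map_injective _ (algebraMap_holo_injective P) (by
    rw [Classical.choose_spec (exists_lift P (p * q)), Polynomial.map_mul,
      Classical.choose_spec (exists_lift P p), Classical.choose_spec (exists_lift P q)]; rfl)
  map_zero' := map_injective _ (algebraMap_holo_injective P) (by
    rw [Classical.choose_spec (exists_lift P 0), Polynomial.map_zero]; rfl)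
  map_add' p q := map_injective _ (algebraMap_holo_injective P) (by
    rw [Classical.choose_spec (exists_lift P (p + q)), Polynomial.map_add,
      Classical.choose_spec (exists_lift P p), Classical.choose_spec (exists_lift P q)]; rfl)

lemma map_iota (p : ↥(sectRing (Finsupp.single P 1 : Divisor k K))) :
    (iota P p).map (algebraMap ↥(holo P) K) = (p : K[X]) :=
  Classical.choose_spec (exists_lift P p)

lemma iota_injective : Function.Injective (iota P) := fun p q h =>
  Subtype.ext (by rw [← map_iota, ← map_iota, h])

lemma iota_eq_iff (p : ↥(sectRing (Finsupp.single P 1 : Divisor k K))) (q : (↥(holo P))[X]) :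
    iota P p = q ↔ q.map (algebraMap ↥(holo P) K) = (p : K[X]) :=
  ⟨fun h => h ▸ map_iota P p,
    fun h => map_injective _ (algebraMap_holo_injective P) (by rw [map_iota, h])⟩

/-- the degree one element `T` -/
noncomputable def tt : ↥(sectRing (Finsupp.single P 1 : Divisor k K)) :=
  mono P 1 1 (one_mem_L_single_one P)

lemma coe_tt : ((tt P : ↥(sectRing (Finsupp.single P 1 : Divisor k K))) : K[X]) = X := by
  rw [tt, coe_mono, monomial_one_one_eq_X]

lemma iota_tt : iota P (tt P) = X :=
  (iota_eq_iff P _ _).2 (by rw [Polynomial.map_X, coe_tt])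

/-- `A[T, T⁻¹]` as an algebra over the section ring -/
@[reducible] noncomputable def algS :
    Algebra ↥(sectRing (Finsupp.single P 1 : Divisor k K))
      (Localization.Away (X : (↥(holo P))[X])) :=
  ((algebraMap (↥(holo P))[X] (Localization.Away (X : (↥(holo P))[X]))).comp (iota P)).toAlgebra

theorem isLocalization_away_tt :
    @IsLocalization.Away _ _ (tt P) (Localization.Away (X : (↥(holo P))[X])) _ (algS P) := by
  letI := algS P
  have halg : ∀ r : ↥(sectRing (Finsupp.single P 1 : Divisor k K)),
      algebraMap ↥(sectRing (Finsupp.single P 1 : Divisor k K))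
        (Localization.Away (X : (↥(holo P))[X])) r =
      algebraMap (↥(holo P))[X] (Localization.Away (X : (↥(holo P))[X])) (iota P r) :=
    fun _ => rfl
  have hXu : IsUnit (algebraMap (↥(holo P))[X] (Localization.Away (X : (↥(holo P))[X])) X) :=
    IsLocalization.Away.algebraMap_isUnit (X : (↥(holo P))[X])
  have hinj : Function.Injective
      (algebraMap (↥(holo P))[X] (Localization.Away (X : (↥(holo P))[X]))) := by
    apply IsLocalization.injective (M := Submonoid.powers (X : (↥(holo P))[X]))
    exact powers_le_nonZeroDivisors_of_noZeroDivisors Polynomial.X_ne_zero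
  rw [IsLocalization.Away, isLocalization_iff]
  refine ⟨?_, ?_, ?_⟩
  · rintro ⟨y, n, rfl⟩
    rw [map_pow, halg, iota_tt]
    exact hXu.pow n
  · intro z
    obtain ⟨⟨f, ⟨y, n, rfl⟩⟩, hz⟩ :=
      IsLocalization.surj (Submonoid.powers (X : (↥(holo P))[X])) z
    choose ni hni using fun i : ℕ => exists_mem_L_of_mem_holo (f.coeff i).2
    set M : ℕ := f.support.sup ni with hM
    have hcoef : ∀ i : ℕ, ((f.coeff i : ↥(holo P)) : K) ∈
        L (Finsupp.single P (M : ℤ) : Divisor k K) := by
      intro i
      by_cases hi : i ∈ f.support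
      · exact L_single_mono P (by exact_mod_cast Finset.le_sup (f := ni) hi) (hni i)
      · rw [notMem_support_iff.1 hi]
        exact Submodule.zero_mem _
    have hr : (f * X ^ M).map (algebraMap ↥(holo P) K) ∈
        sectRing (Finsupp.single P 1 : Divisor k K) := by
      intro j
      rw [zsmul_single_one, Polynomial.map_mul, Polynomial.map_pow, Polynomial.map_X,
        coeff_mul_X_pow']
      split_ifs with h1
      · rw [coeff_map]
        exact L_single_mono P (by exact_mod_cast h1) (hcoef _)
      · exact Submodule.zero_mem _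
    have hir : iota P ⟨_, hr⟩ = f * X ^ M := (iota_eq_iff P _ _).2 rfl
    refine ⟨⟨⟨_, hr⟩, ⟨(tt P) ^ (n + M), n + M, rfl⟩⟩, ?_⟩
    simp only at hz ⊢
    rw [halg, halg, hir, map_pow, iota_tt, pow_add, map_mul, ← mul_assoc, hz, map_mul]
  · intro x y hxy
    refine ⟨1, ?_⟩
    rw [halg, halg] at hxy
    rw [iota_injective P (hinj hxy)]

/-- `A[T, T⁻¹]` is Gorenstein -/
theorem gorRing_away [IsAlgClosed k] (hK : IsFunctionField k K) :
    LocCoh.IsGorensteinRing (Localization.Away (X : (↥(holo P))[X])) := by
  haveI := isDedekindDomain_holo hK P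
  haveI : LocCoh.IsGorensteinRing (↥(holo P))[X] :=
    Groth.Agent.Lib.Helper88.SG.gorRing_of_isRegularRing _
  exact Groth.Agent.Lib.Helper85.GorRing.gorRing_localization
    (Submonoid.powers (X : (↥(holo P))[X])) _

end Groth.Agent.Lib.Helper88.HR
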