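/-
Polynomial preliminaries for the Jacobian criterion: the ideal of a point, second order Taylor
expansion modulo its square, gradients at a point, homogenisation with respect to a variable.
Author: helper88
-/
import Mathlib

set_option autoImplicit false
set_option linter.unusedSectionVars false

namespace Groth.Agent.Lib.Helper88.AJ

open MvPolynomial

variable {k : Type*} [Field k] {ι : Type*} [Fintype ι] [DecidableEq ι] (a : ι → k)

/-- The ideal of the point `a`. -/
noncomputable def Ia : Ideal (MvPolynomial ι k) := Ideal.span (Set.range fun l => X l - C (a l))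

lemma X_sub_C_mem (l : ι) : (X l - C (a l) : MvPolynomial ι k) ∈ Ia a :=
  Ideal.subset_span ⟨l, rfl⟩

/-- Second order Taylor expansion modulo the square of the ideal of the point. -/
lemma taylor_mem (g : MvPolynomial ι k) :
    g - C (eval a g) - ∑ l, C (eval a (pderiv l g)) * (X l - C (a l)) ∈ Ia a ^ 2 ∧
      g - C (eval a g) ∈ Ia a := by
  induction g using MvPolynomial.induction_on with
  | C c => simp
  | add p q hp hq =>
    constructor
    · have e : (p + q) - C (eval a (p + q)) -
          ∑ l, C (eval a (pderiv l (p + q))) * (X l - C (a l)) =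
          (p - C (eval a p) - ∑ l, C (eval a (pderiv l p)) * (X l - C (a l))) +
          (q - C (eval a q) - ∑ l, C (eval a (pderiv l q)) * (X l - C (a l))) := by
        simp only [map_add, add_mul, Finset.sum_add_distrib]
        ring
      rw [e]
      exact Ideal.add_mem _ hp.1 hq.1
    · have e : (p + q) - C (eval a (p + q)) = (p - C (eval a p)) + (q - C (eval a q)) := by
        simp only [map_add]
        ring
      rw [e]
      exact Ideal.add_mem _ hp.2 hq.2
  | mul_X p l₀ hp =>
    obtain ⟨hp2, hp1⟩ := hp
    have hD : ∀ l, (C (eval a (pderiv l (p * X l₀))) : MvPolynomial ι k) =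
        C (eval a (pderiv l p)) * C (a l₀) + C (eval a p) * (if l₀ = l then 1 else 0) := by
      intro l
      rw [Derivation.leibniz, pderiv_X]
      simp only [smul_eq_mul, map_add, map_mul, eval_X, Pi.single_apply]
      split_ifs with h
      · simp
        ring
      · simp
        ring
    have hsum : ∑ l, C (eval a (pderiv l (p * X l₀))) * (X l - C (a l)) =
        C (a l₀) * ∑ l, C (eval a (pderiv l p)) * (X l - C (a l)) +
          C (eval a p) * (X l₀ - C (a l₀)) := by
      simp only [hD, add_mul, Finset.sum_add_distrib, Finset.mul_sum]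
      congr 1
      · refine Finset.sum_congr rfl fun i _ => ?_
        ring
      · simp [mul_ite, ite_mul]
    constructor
    · have e : p * X l₀ - C (eval a (p * X l₀)) -
          ∑ l, C (eval a (pderiv l (p * X l₀))) * (X l - C (a l)) =
          (X l₀ - C (a l₀)) * (p - C (eval a p)) +
          C (a l₀) * (p - C (eval a p) - ∑ l, C (eval a (pderiv l p)) * (X l - C (a l))) := by
        rw [hsum, map_mul, eval_X, map_mul]
        ring
      rw [e, pow_two]
      refine Ideal.add_mem _ (Ideal.mul_mem_mul (X_sub_C_mem a l₀) hp1) ?_
      rw [← pow_two]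
      exact Ideal.mul_mem_left _ _ hp2
    · have e : p * X l₀ - C (eval a (p * X l₀)) =
          (p - C (eval a p)) * X l₀ + C (eval a p) * (X l₀ - C (a l₀)) := by
        rw [map_mul, eval_X, map_mul]
        ring
      rw [e]
      exact Ideal.add_mem _ (Ideal.mul_mem_right _ _ hp1)
        (Ideal.mul_mem_left _ _ (X_sub_C_mem a l₀))

lemma eval_of_mem {h : MvPolynomial ι k} (hh : h ∈ Ia a) : eval a h = 0 := by
  have : Ia a ≤ RingHom.ker (eval a) := by
    rw [Ia, Ideal.span_le]
    rintro _ ⟨l, rfl⟩
    simp [RingHom.mem_ker]
  exact this hh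

/-- The gradient at the point `a`. -/
noncomputable def gradL : MvPolynomial ι k →ₗ[k] (ι → k) where
  toFun g l := eval a (pderiv l g)
  map_add' p q := by
    funext l
    simp
  map_smul' c p := by
    funext l
    simp [Derivation.map_smul, smul_eval]

lemma gradL_apply (g : MvPolynomial ι k) (l : ι) : gradL a g l = eval a (pderiv l g) := rfl

lemma gradL_mul (x y : MvPolynomial ι k) :
    gradL a (x * y) = eval a x • gradL a y + eval a y • gradL a x := by
  funext l
  simp only [gradL_apply, Derivation.leibniz, Pi.add_apply, Pi.smul_apply, smul_eq_mul, map_add,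
    map_mul]

lemma gradL_C (c : k) : gradL a (C c : MvPolynomial ι k) = 0 := by
  funext l
  simp [gradL_apply]

lemma gradL_X (l : ι) : gradL a (X l : MvPolynomial ι k) = Pi.single l 1 := by
  funext m
  rw [gradL_apply, pderiv_X]
  simp [Pi.single_apply, eq_comm]

lemma gradL_X_sub_C (l : ι) (c : k) :
    gradL a (X l - C c : MvPolynomial ι k) = Pi.single l 1 := by
  rw [map_sub, gradL_C, gradL_X, sub_zero]

lemma gradL_of_mem_sq {h : MvPolynomial ι k} (hh : h ∈ Ia a ^ 2) : gradL a h = 0 := by
  rw [pow_two] at hh
  refine Submodule.mul_induction_on hh ?_ ?_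
  · intro x hx y hy
    rw [gradL_mul, eval_of_mem a hx, eval_of_mem a hy, zero_smul, zero_smul, add_zero]
  · intro x y hx hy
    rw [map_add, hx, hy, add_zero]

/-- Homogenisation with respect to the variable `X j`. -/
noncomputable def homj (j : ι) (g : MvPolynomial ι k) : MvPolynomial ι k :=
  ∑ m ∈ Finset.range (g.totalDegree + 1), X j ^ (g.totalDegree - m) * homogeneousComponent m g

lemma homj_isHomogeneous (j : ι) (g : MvPolynomial ι k) :
    (homj j g).IsHomogeneous g.totalDegree := by
  unfold homj
  apply IsHomogeneous.sum
  intro i hi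
  rw [Finset.mem_range] at hi
  have h1 : (X j ^ (g.totalDegree - i) : MvPolynomial ι k).IsHomogeneous
      (g.totalDegree - i) := isHomogeneous_X_pow j _
  have h3 := h1.mul (homogeneousComponent_isHomogeneous i g)
  have : g.totalDegree - i + i = g.totalDegree := by omega
  rwa [this] at h3

lemma homj_sub (j : ι) (g : MvPolynomial ι k) :
    ∃ h : MvPolynomial ι k, homj j g - g = (X j - 1) * h := by
  have hdvd : (X j - 1 : MvPolynomial ι k) ∣ homj j g - g := by
    have e0 : homj j g - g = ∑ m ∈ Finset.range (g.totalDegree + 1),
        (X j ^ (g.totalDegree - m) - 1 ^ (g.totalDegree - m)) * homogeneousComponent m g := by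
      have hg : g = ∑ m ∈ Finset.range (g.totalDegree + 1), homogeneousComponent m g :=
        (sum_homogeneousComponent g).symm
      calc homj j g - g = homj j g -
            ∑ m ∈ Finset.range (g.totalDegree + 1), homogeneousComponent m g := by rw [← hg]
        _ = _ := by
          unfold homj
          rw [← Finset.sum_sub_distrib]
          refine Finset.sum_congr rfl fun m _ => ?_
          rw [one_pow]
          ring
    rw [e0]
    apply Finset.dvd_sum
    intro m _
    exact Dvd.dvd.mul_right (sub_dvd_pow_sub_pow _ _ _) _
  obtain ⟨h, hh⟩ := hdvd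
  exact ⟨h, hh⟩

lemma aeval_homj {R : Type*} [CommRing R] [Algebra k R] (j : ι) (g : MvPolynomial ι k)
    (v : ι → R) (hv : v j = 1) : aeval v (homj j g) = aeval v g := by
  obtain ⟨h, hh⟩ := homj_sub j g
  have := congrArg (aeval v) hh
  rw [map_sub, map_mul, map_sub, aeval_X, hv, map_one, sub_self, zero_mul, sub_eq_zero] at this
  exact this

end Groth.Agent.Lib.Helper88.AJ
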