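/-
The local ring of a projective map at a place, as a local `k`-algebra, its maximal ideal and
cotangent space in terms of the coordinates; the sufficiency half of the Jacobian criterion.
Author: helper88
-/
import Groth.Agent.Lib.Helper88.JacPoly
import Groth.Agent.Lib.Helper34.FunFldNak

set_option autoImplicit false
set_option linter.unusedSectionVars false

namespace Groth.Agent.Lib.Helper88.AJ

open FunFld WithZero MvPolynomial Groth.Agent.Lib.Helper88.FF
  Groth.Agent.Lib.Helper34.FunFldLocRing Groth.Agent.Lib.Helper34.FunFldNak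

variable {k K : Type*} [Field k] [Field K] [Algebra k K]
variable {ι : Type*} [Fintype ι] [DecidableEq ι]

/-- Evaluation at the residue point. -/
lemma val_aeval_sub_lt (P : Place k K) (w : ι → K) (a : ι → k)
    (ha : ∀ i, P.1 (w i - algebraMap k K (a i)) < 1) (g : MvPolynomial ι k) :
    P.1 (aeval w g - algebraMap k K (eval a g)) < 1 := by
  induction g using MvPolynomial.induction_on with
  | C c => simp
  | add p q hp hq =>
    have e : aeval w (p + q) - algebraMap k K (eval a (p + q)) =
        (aeval w p - algebraMap k K (eval a p)) + (aeval w q - algebraMap k K (eval a q)) := by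
      simp only [map_add]
      ring
    rw [e]
    exact (P.1.map_add _ _).trans_lt (max_lt hp hq)
  | mul_X p l hp =>
    have hwl : P.1 (w l) ≤ 1 := by
      have : w l = (w l - algebraMap k K (a l)) + algebraMap k K (a l) := by ring
      rw [this]
      exact (P.1.map_add _ _).trans (max_le (ha l).le (P.2.1 _))
    have e : aeval w (p * X l) - algebraMap k K (eval a (p * X l)) =
        (aeval w p - algebraMap k K (eval a p)) * w l +
          algebraMap k K (eval a p) * (w l - algebraMap k K (a l)) := by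
      rw [map_mul, aeval_X, map_mul, eval_X, map_mul]
      ring
    rw [e]
    refine (P.1.map_add _ _).trans_lt (max_lt ?_ ?_)
    · rw [map_mul]
      calc P.1 (aeval w p - algebraMap k K (eval a p)) * P.1 (w l)
          ≤ P.1 (aeval w p - algebraMap k K (eval a p)) * 1 := mul_le_mul' le_rfl hwl
        _ = P.1 (aeval w p - algebraMap k K (eval a p)) := mul_one _
        _ < 1 := hp
    · rw [map_mul]
      calc P.1 (algebraMap k K (eval a p)) * P.1 (w l - algebraMap k K (a l))
          ≤ 1 * P.1 (w l - algebraMap k K (a l)) := mul_le_mul' (P.2.1 _) le_rfl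
        _ = P.1 (w l - algebraMap k K (a l)) := one_mul _
        _ < 1 := ha l

lemma eval_eq_zero_of_lt (P : Place k K) (w : ι → K) (a : ι → k)
    (ha : ∀ i, P.1 (w i - algebraMap k K (a i)) < 1) {g : MvPolynomial ι k}
    (h : P.1 (aeval w g) < 1) : eval a g = 0 := by
  by_contra hne
  have h1 := val_aeval_sub_lt P w a ha g
  have h2 : P.1 (algebraMap k K (eval a g)) < 1 := by
    have e : algebraMap k K (eval a g) = aeval w g - (aeval w g - algebraMap k K (eval a g)) := by
      ring
    rw [e]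
    exact (Valuation.map_sub _ _ _).trans_lt (max_lt h h1)
  rw [val_algebraMap P hne] at h2
  exact lt_irrefl _ h2

lemma eval_ne_zero_of_eq_one (P : Place k K) (w : ι → K) (a : ι → k)
    (ha : ∀ i, P.1 (w i - algebraMap k K (a i)) < 1) {g : MvPolynomial ι k}
    (h : P.1 (aeval w g) = 1) : eval a g ≠ 0 := by
  intro h0
  have h1 := val_aeval_sub_lt P w a ha g
  rw [h0, map_zero, sub_zero, h] at h1
  exact lt_irrefl _ h1

section ring

variable (φ : ι → K) (P : Place k K) (j : ι)

/-- The local ring of `φ` at `P` with respect to the entry `φ j`, as a `k`-subalgebra of `K`. -/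
def Rloc : Subalgebra k K where
  carrier := {z | LocAt φ P j z}
  mul_mem' := fun ha hb => LocAt.mul ha hb
  add_mem' := fun ha hb => LocAt.add ha hb
  algebraMap_mem' := fun c => locAt_algebraMap φ P j c

lemma mem_Rloc {z : K} : z ∈ Rloc φ P j ↔ LocAt φ P j z := Iff.rfl

/-- The coordinates as elements of the local ring. -/
def wR : ι → Rloc φ P j := fun i =>
  ⟨φ i / φ j, locAt_of_mem φ P j (Algebra.subset_adjoin ⟨i, rfl⟩)⟩

lemma coe_aeval_wR (g : MvPolynomial ι k) :
    ((aeval (wR φ P j) g : Rloc φ P j) : K) = aeval (fun i => φ i / φ j) g :=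
  comp_aeval_apply (wR φ P j) (Rloc φ P j).val g

theorem isLocalRing_Rloc (hj : φ j ≠ 0) (hP : ∀ i, P.1 (φ i) ≤ P.1 (φ j)) :
    IsLocalRing (Rloc φ P j) ∧ ∀ a : Rloc φ P j, IsUnit a ↔ P.1 (a : K) = 1 := by
  have hunit : ∀ a : Rloc φ P j, IsUnit a ↔ P.1 (a : K) = 1 := by
    intro a
    constructor
    · intro ha
      obtain ⟨b, hb⟩ := ha.exists_right_inv
      have h1 : (a : K) * (b : K) = 1 := by
        have := congrArg (Subtype.val) hb
        simpa using this
      have h2 : P.1 (a : K) * P.1 (b : K) = 1 := by rw [← map_mul, h1, map_one]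
      have ha1 : P.1 (a : K) ≤ 1 := LocAt.val_le_one hj hP a.2
      have hb1 : P.1 (b : K) ≤ 1 := LocAt.val_le_one hj hP b.2
      refine le_antisymm ha1 ?_
      calc (1 : ℤᵐ⁰) = P.1 (a : K) * P.1 (b : K) := h2.symm
        _ ≤ P.1 (a : K) * 1 := mul_le_mul' le_rfl hb1
        _ = P.1 (a : K) := mul_one _
    · intro ha
      have ha0 : (a : K) ≠ 0 := by
        intro h0
        rw [h0, map_zero] at ha
        exact zero_ne_one ha
      refine IsUnit.of_mul_eq_one ⟨(a : K)⁻¹, LocAt.inv a.2 ha⟩ ?_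
      apply Subtype.ext
      show (a : K) * (a : K)⁻¹ = 1
      exact mul_inv_cancel₀ ha0
  refine ⟨?_, hunit⟩
  have : Nontrivial (Rloc φ P j) := ⟨⟨0, 1, fun h => by
    have := congrArg Subtype.val h
    simp at this⟩⟩
  apply IsLocalRing.of_nonunits_add
  intro a b ha hb
  have ha' : P.1 (a : K) < 1 := lt_of_le_of_ne (LocAt.val_le_one hj hP a.2)
    (fun h => ha ((hunit a).2 h))
  have hb' : P.1 (b : K) < 1 := lt_of_le_of_ne (LocAt.val_le_one hj hP b.2)
    (fun h => hb ((hunit b).2 h))
  intro hab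
  have := (hunit (a + b)).1 hab
  have h2 : P.1 ((a : K) + (b : K)) < 1 := (P.1.map_add _ _).trans_lt (max_lt ha' hb')
  rw [show ((a + b : Rloc φ P j) : K) = (a : K) + (b : K) from rfl] at this
  rw [this] at h2
  exact lt_irrefl _ h2

end ring

section main

variable {φ : ι → K} {P : Place k K} {j : ι} (hj : φ j ≠ 0) (hP : ∀ i, P.1 (φ i) ≤ P.1 (φ j))
  (a : ι → k) (ha : ∀ i, P.1 (φ i / φ j - algebraMap k K (a i)) < 1)
  [hloc : IsLocalRing (Rloc φ P j)] (hunit : ∀ z : Rloc φ P j, IsUnit z ↔ P.1 (z : K) = 1)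

include hj hP hunit in
lemma mem_max_iff (z : Rloc φ P j) :
    z ∈ IsLocalRing.maximalIdeal (Rloc φ P j) ↔ P.1 (z : K) < 1 := by
  rw [IsLocalRing.mem_maximalIdeal, mem_nonunits_iff, hunit]
  have h1 : P.1 (z : K) ≤ 1 := LocAt.val_le_one hj hP z.2
  constructor
  · intro h
    exact lt_of_le_of_ne h1 h
  · intro h
    exact h.ne

include hj hP ha hunit in
lemma map_Ia_le :
    Ideal.map (aeval (wR φ P j)) (Ia a) ≤ IsLocalRing.maximalIdeal (Rloc φ P j) := by
  rw [Ideal.map_le_iff_le_comap, Ia, Ideal.span_le]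
  rintro _ ⟨l, rfl⟩
  show aeval (wR φ P j) (X l - C (a l)) ∈ IsLocalRing.maximalIdeal (Rloc φ P j)
  rw [mem_max_iff hj hP hunit, coe_aeval_wR]
  simpa using ha l

include hj hP ha hunit in
lemma max_le_map :
    IsLocalRing.maximalIdeal (Rloc φ P j) ≤ Ideal.map (aeval (wR φ P j)) (Ia a) := by
  intro z hz
  rw [mem_max_iff hj hP hunit] at hz
  obtain ⟨u, hu, v, hv, hPv, hzv⟩ := z.2
  rw [Algebra.adjoin_range_eq_range_aeval] at hu hv
  obtain ⟨gu, rfl⟩ := hu
  obtain ⟨gv, rfl⟩ := hv
  set uR : Rloc φ P j := aeval (wR φ P j) gu with huR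
  set vR : Rloc φ P j := aeval (wR φ P j) gv with hvR
  have hzv' : z * vR = uR := by
    apply Subtype.ext
    show (z : K) * (vR : K) = (uR : K)
    rw [huR, hvR, coe_aeval_wR, coe_aeval_wR]
    exact hzv
  have hvu : IsUnit vR := by
    rw [hunit, hvR, coe_aeval_wR]
    exact hPv
  have hPu : P.1 (aeval (fun i => φ i / φ j) gu) < 1 := by
    have : aeval (fun i => φ i / φ j) gu = (z : K) * aeval (fun i => φ i / φ j) gv := hzv.symm
    rw [this, map_mul]
    have hPv' : P.1 (aeval (fun i => φ i / φ j) gv) = 1 := hPv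
    rw [hPv', mul_one]
    exact hz
  have h0 : eval a gu = 0 := eval_eq_zero_of_lt P _ a ha hPu
  have hmem : gu ∈ Ia a := by
    have := (taylor_mem a gu).2
    rwa [h0, map_zero, sub_zero] at this
  have huM : uR ∈ Ideal.map (aeval (wR φ P j)) (Ia a) := Ideal.mem_map_of_mem _ hmem
  obtain ⟨vi, hvi⟩ := hvu.exists_right_inv
  have : z = uR * vi := by
    rw [← hzv', mul_assoc, hvi, mul_one]
  rw [this]
  exact Ideal.mul_mem_right _ _ huM

include hj hP ha hunit in
lemma max_eq_map :
    IsLocalRing.maximalIdeal (Rloc φ P j) = Ideal.map (aeval (wR φ P j)) (Ia a) :=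
  le_antisymm (max_le_map hj hP a ha hunit) (map_Ia_le hj hP a ha hunit)

/-- The linear form `∑ v_l (X_l - a_l)`. -/
noncomputable def linL : (ι → k) →ₗ[k] MvPolynomial ι k :=
  Fintype.linearCombination k (fun l => (X l - C (a l) : MvPolynomial ι k))

lemma linL_apply (v : ι → k) : linL a v = ∑ l, C (v l) * (X l - C (a l)) := by
  rw [linL, Fintype.linearCombination_apply]
  refine Finset.sum_congr rfl fun l _ => ?_
  rw [smul_eq_C_mul]

lemma linL_single (l : ι) : linL a (Pi.single l 1) = X l - C (a l) := by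
  rw [linL, Fintype.linearCombination_apply_single, one_smul]

lemma linL_mem (v : ι → k) : linL a v ∈ Ia a := by
  rw [linL_apply]
  exact Ideal.sum_mem _ fun l _ => Ideal.mul_mem_left _ _ (X_sub_C_mem a l)

/-- The gradient space: gradients at `a` of the relations between the coordinates. -/
noncomputable def gradSpace (w : ι → K) : Submodule k (ι → k) :=
  Submodule.map (gradL a) ((RingHom.ker (aeval w : MvPolynomial ι k →ₐ[k] K)).restrictScalars k)

lemma mem_gradSpace {w : ι → K} {v : ι → k} :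
    v ∈ gradSpace a w ↔ ∃ g : MvPolynomial ι k, aeval w g = 0 ∧ gradL a g = v := by
  rw [gradSpace, Submodule.mem_map]
  constructor
  · rintro ⟨g, hg, rfl⟩
    exact ⟨g, hg, rfl⟩
  · rintro ⟨g, hg, rfl⟩
    exact ⟨g, hg, rfl⟩

/-- The map `(ι → k) → R`, `v ↦ ∑ v_l (w_l - a_l)`. -/
noncomputable def theta : (ι → k) →ₗ[k] Rloc φ P j :=
  (aeval (wR φ P j)).toLinearMap ∘ₗ linL a

include hj hP ha hunit in
/-- Gradients of relations give elements of `𝔪²`. -/
lemma theta_grad_mem {g : MvPolynomial ι k} (hg : aeval (fun i => φ i / φ j) g = 0) :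
    theta (φ := φ) (P := P) (j := j) a (gradL a g) ∈
      IsLocalRing.maximalIdeal (Rloc φ P j) ^ 2 := by
  have h0 : eval a g = 0 := by
    apply eval_eq_zero_of_lt P _ a ha
    rw [hg, map_zero]
    exact zero_lt_one
  have h1 := (taylor_mem a g).1
  rw [h0, map_zero, sub_zero] at h1
  have h2 : aeval (wR φ P j) (g - ∑ l, C (eval a (pderiv l g)) * (X l - C (a l))) ∈
      IsLocalRing.maximalIdeal (Rloc φ P j) ^ 2 := by
    rw [max_eq_map hj hP a ha hunit, ← Ideal.map_pow]
    exact Ideal.mem_map_of_mem _ h1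
  have hg' : aeval (wR φ P j) g = 0 := by
    apply Subtype.ext
    rw [coe_aeval_wR, hg]
    rfl
  rw [map_sub, hg', zero_sub] at h2
  have h3 : theta (φ := φ) (P := P) (j := j) a (gradL a g) =
      aeval (wR φ P j) (∑ l, C (eval a (pderiv l g)) * (X l - C (a l))) := by
    show aeval (wR φ P j) (linL a (gradL a g)) = _
    rw [linL_apply]
    rfl
  rw [h3]
  have := Ideal.neg_mem_iff (I := IsLocalRing.maximalIdeal (Rloc φ P j) ^ 2) |>.1 h2
  exact this

end main

end Groth.Agent.Lib.Helper88.AJ
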