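/-
The sufficiency half of the affine Jacobian criterion: if the gradients of the relations span a
space of codimension at most one, the local ring is the whole valuation ring.
Author: helper88
-/
import Groth.Agent.Lib.Helper88.JacLocal

set_option autoImplicit false
set_option linter.unusedSectionVars false

namespace Groth.Agent.Lib.Helper88.AJ

open FunFld WithZero MvPolynomial Groth.Agent.Lib.Helper88.FF
  Groth.Agent.Lib.Helper34.FunFldLocRing Groth.Agent.Lib.Helper34.FunFldNak

variable {k K : Type*} [Field k] [Field K] [Algebra k K]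
variable {ι : Type*} [Fintype ι] [DecidableEq ι]

section main

variable {φ : ι → K} {P : Place k K} {j : ι} (hj : φ j ≠ 0) (hP : ∀ i, P.1 (φ i) ≤ P.1 (φ j))
  (a : ι → k) (ha : ∀ i, P.1 (φ i / φ j - algebraMap k K (a i)) < 1)
  [hloc : IsLocalRing (Rloc φ P j)] (hunit : ∀ z : Rloc φ P j, IsUnit z ↔ P.1 (z : K) = 1)

include hj hP ha hunit in
lemma theta_mem_max (v : ι → k) :
    theta (φ := φ) (P := P) (j := j) a v ∈ IsLocalRing.maximalIdeal (Rloc φ P j) :=
  map_Ia_le hj hP a ha hunit (Ideal.mem_map_of_mem _ (linL_mem a v))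

lemma theta_single (l : ι) :
    theta (φ := φ) (P := P) (j := j) a (Pi.single l 1) = aeval (wR φ P j) (X l - C (a l)) := by
  show aeval (wR φ P j) (linL a (Pi.single l 1)) = _
  rw [linL_single]

include hj hP ha hunit in
/-- Nakayama: the maximal ideal is generated by `θ ν` if `ν` spans the cotangent space. -/
lemma max_le_span (ν : ι → k)
    (hν : ∀ u : ι → k, ∃ c : k, theta (φ := φ) (P := P) (j := j) a (u - c • ν) ∈
      IsLocalRing.maximalIdeal (Rloc φ P j) ^ 2) :
    IsLocalRing.maximalIdeal (Rloc φ P j) ≤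
      Ideal.span {theta (φ := φ) (P := P) (j := j) a ν} := by
  set t := theta (φ := φ) (P := P) (j := j) a ν with ht
  have hmap := max_eq_map hj hP a ha hunit
  have hfg : (IsLocalRing.maximalIdeal (Rloc φ P j)).FG := by
    rw [hmap, Ia, Ideal.map_span]
    exact Submodule.fg_span ((Set.finite_range _).image _)
  apply Submodule.le_of_le_smul_of_le_jacobson_bot hfg (IsLocalRing.maximalIdeal_le_jacobson ⊥)
  conv_lhs => rw [hmap, Ia, Ideal.map_span]
  rw [Ideal.span_le]
  rintro _ ⟨_, ⟨l, rfl⟩, rfl⟩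
  obtain ⟨c, hc⟩ := hν (Pi.single l 1)
  have e : aeval (wR φ P j) (X l - C (a l)) =
      c • t + theta (φ := φ) (P := P) (j := j) a (Pi.single l 1 - c • ν) := by
    rw [← theta_single, map_sub, map_smul, ← ht]
    ring
  show aeval (wR φ P j) (X l - C (a l)) ∈ _
  rw [e]
  refine Submodule.add_mem_sup ?_ ?_
  · rw [Algebra.smul_def]
    exact Ideal.mul_mem_left _ _ (Ideal.mem_span_singleton_self t)
  · rw [pow_two] at hc
    exact hc

include hj hP hunit in
/-- If the maximal ideal is principal, every nonzero element is a power of the generator times a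
unit. -/
lemma exists_pow_mul (t : Rloc φ P j) (htm : t ∈ IsLocalRing.maximalIdeal (Rloc φ P j))
    (ht : IsLocalRing.maximalIdeal (Rloc φ P j) ≤ Ideal.span {t}) :
    ∀ N : ℕ, ∀ r : Rloc φ P j, P.1 (r : K) = exp (-(N : ℤ)) →
      ∃ m : ℕ, ∃ ε : Rloc φ P j, IsUnit ε ∧ r = t ^ m * ε := by
  intro N
  induction N using Nat.strong_induction_on with
  | _ N ih =>
    intro r hr
    rcases Nat.eq_zero_or_pos N with h0 | hpos
    · subst h0
      refine ⟨0, r, ?_, by simp⟩
      rw [hunit, hr]
      simp
    · have hrm : r ∈ IsLocalRing.maximalIdeal (Rloc φ P j) := by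
        rw [mem_max_iff hj hP hunit, hr, ← exp_zero, exp_lt_exp]
        omega
      obtain ⟨r', hr'⟩ := Ideal.mem_span_singleton'.1 (ht hrm)
      have hrK : (r : K) = (r' : K) * (t : K) := by
        rw [← hr']
        rfl
      have hr0 : (r : K) ≠ 0 := by
        intro h
        rw [h, map_zero] at hr
        exact exp_ne_zero hr.symm
      have hr'0 : (r' : K) ≠ 0 := by
        intro h
        rw [h, zero_mul] at hrK
        exact hr0 hrK
      have ht0 : (t : K) ≠ 0 := by
        intro h
        rw [h, mul_zero] at hrK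
        exact hr0 hrK
      have hordr : P.ord (r : K) = N := by
        rw [val_eq_exp_neg_ord P hr0, exp_inj] at hr
        omega
      have hordt : 0 < P.ord (t : K) :=
        (val_lt_one_iff P ht0).1 ((mem_max_iff hj hP hunit t).1 htm)
      have hordr' : 0 ≤ P.ord (r' : K) :=
        (val_le_one_iff P hr'0).1 (LocAt.val_le_one hj hP r'.2)
      have hsum : P.ord (r : K) = P.ord (r' : K) + P.ord (t : K) := by
        rw [hrK, ord_mul P hr'0 ht0]
      have hlt : (P.ord (r' : K)).toNat < N := by
        omega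
      obtain ⟨m, ε, hε, hm⟩ := ih _ hlt r' (by
        rw [val_eq_exp_neg_ord P hr'0, Int.toNat_of_nonneg hordr'])
      refine ⟨m + 1, ε, hε, ?_⟩
      rw [← hr', hm]
      ring

end main

/-- **Affine Jacobian criterion, sufficiency**: if the gradients at the image point of the
relations between the coordinates span a space of codimension at most one, then the projective
map is nonsingular at the place. -/
theorem nonsing_of_le (φ : ι → K) (P : Place k K) (j : ι) (hj : φ j ≠ 0)
    (hP : ∀ i, P.1 (φ i) ≤ P.1 (φ j))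
    (hbir : IntermediateField.adjoin k (Set.range fun i => φ i / φ j) = ⊤)
    (a : ι → k) (ha : ∀ i, P.1 (φ i / φ j - algebraMap k K (a i)) < 1)
    (V : Submodule k (ι → k)) (hV : V ≤ gradSpace a (fun i => φ i / φ j))
    (hcard : Fintype.card ι ≤ Module.finrank k V + 1) : IsNonsingularAt φ P := by
  obtain ⟨hloc, hunit⟩ := isLocalRing_Rloc φ P j hj hP
  haveI := hloc
  set θ := theta (φ := φ) (P := P) (j := j) a with hθ
  set V' : Submodule k (ι → k) :=
    Submodule.comap θ ((IsLocalRing.maximalIdeal (Rloc φ P j) ^ 2).restrictScalars k) with hV'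
  have hVV' : V ≤ V' := by
    intro v hv
    obtain ⟨g, hg, rfl⟩ := (mem_gradSpace a).1 (hV hv)
    exact theta_grad_mem hj hP a ha hunit hg
  obtain ⟨W, hW⟩ := Submodule.exists_isCompl V'
  have hdim : Module.finrank k V' + Module.finrank k W = Fintype.card ι := by
    rw [Submodule.finrank_add_eq_of_isCompl hW, Module.finrank_fintype_fun_eq_card]
  have hW1 : Module.finrank k W ≤ 1 := by
    have := Submodule.finrank_mono hVV'
    omega
  obtain ⟨ν, hν⟩ := finrank_le_one_iff.1 hW1
  have hdecomp : ∀ u : ι → k, ∃ c : k, θ (u - c • (ν : ι → k)) ∈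
      IsLocalRing.maximalIdeal (Rloc φ P j) ^ 2 := by
    intro u
    have hu : u ∈ V' ⊔ W := by
      rw [hW.sup_eq_top]
      trivial
    obtain ⟨u₁, hu₁, u₂, hu₂, rfl⟩ := Submodule.mem_sup.1 hu
    obtain ⟨c, hc⟩ := hν ⟨u₂, hu₂⟩
    refine ⟨c, ?_⟩
    have : u₂ = c • (ν : ι → k) := by
      have := congrArg Subtype.val hc
      simpa using this.symm
    rw [this, add_sub_cancel_right]
    exact hu₁
  have hmt := max_le_span hj hP a ha hunit (ν : ι → k) hdecomp
  set t := θ (ν : ι → k) with ht
  have htm : t ∈ IsLocalRing.maximalIdeal (Rloc φ P j) := theta_mem_max hj hP a ha hunit _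
  have key := exists_pow_mul hj hP hunit t htm hmt
  have key' : ∀ r : Rloc φ P j, (r : K) ≠ 0 →
      ∃ m : ℕ, ∃ ε : Rloc φ P j, IsUnit ε ∧ r = t ^ m * ε := by
    intro r hr0
    have h1 : P.1 (r : K) ≤ 1 := LocAt.val_le_one hj hP r.2
    have hord : 0 ≤ P.ord (r : K) := (val_le_one_iff P hr0).1 h1
    refine key (P.ord (r : K)).toNat r ?_
    rw [val_eq_exp_neg_ord P hr0, Int.toNat_of_nonneg hord]
  intro z hz
  rw [inLocRing_iff φ P j hj hP]
  by_cases hz0 : z = 0
  · rw [hz0]
    exact (Rloc φ P j).zero_mem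
  have hzt : z ∈ IntermediateField.adjoin k (Set.range fun i => φ i / φ j) := by
    rw [hbir]
    trivial
  obtain ⟨u, hu, v, hv, rfl⟩ := IntermediateField.mem_adjoin_iff_div.1 hzt
  have hu0 : u ≠ 0 := by
    rintro rfl
    exact hz0 (zero_div _)
  have hv0 : v ≠ 0 := by
    rintro rfl
    exact hz0 (div_zero _)
  obtain ⟨m, ε, hε, hum⟩ := key' ⟨u, locAt_of_mem φ P j hu⟩ hu0
  obtain ⟨m', ε', hε', hvm⟩ := key' ⟨v, locAt_of_mem φ P j hv⟩ hv0
  have huK : u = (t : K) ^ m * (ε : K) := by
    have := congrArg Subtype.val hum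
    simpa using this
  have hvK : v = (t : K) ^ m' * (ε' : K) := by
    have := congrArg Subtype.val hvm
    simpa using this
  have hPε : P.1 (ε : K) = 1 := (hunit ε).1 hε
  have hPε' : P.1 (ε' : K) = 1 := (hunit ε').1 hε'
  have hε'0 : (ε' : K) ≠ 0 := by
    intro h
    rw [h, map_zero] at hPε'
    exact zero_ne_one hPε'
  have htm'0 : (t : K) ^ m' ≠ 0 := by
    intro h
    rw [hvK, h, zero_mul] at hv0
    exact hv0 rfl
  have hPt : P.1 (t : K) < 1 := (mem_max_iff hj hP hunit t).1 htm
  have hmm : m' ≤ m := by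
    by_contra hlt
    push Not at hlt
    have hd : 0 < m' - m := by omega
    have ht0 : (t : K) ≠ 0 := by
      intro h
      apply htm'0
      rw [h, zero_pow (by omega)]
    have hsplit : (t : K) ^ m' = (t : K) ^ m * (t : K) ^ (m' - m) := by
      rw [← pow_add]
      congr 1
      omega
    have hz' : u / v * (t : K) ^ (m' - m) = (ε : K) / (ε' : K) := by
      rw [huK, hvK, hsplit]
      have := pow_ne_zero m ht0
      have := pow_ne_zero (m' - m) ht0
      field_simp
    have h1 : P.1 (u / v * (t : K) ^ (m' - m)) = 1 := by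
      rw [hz', map_div₀, hPε, hPε', div_one]
    rw [map_mul, map_pow] at h1
    have h2 : P.1 (t : K) ^ (m' - m) < 1 := pow_lt_one₀ zero_le hPt (by omega)
    have h3 : P.1 (u / v) * P.1 (t : K) ^ (m' - m) < 1 := by
      calc P.1 (u / v) * P.1 (t : K) ^ (m' - m) ≤ 1 * P.1 (t : K) ^ (m' - m) :=
            mul_le_mul' hz le_rfl
        _ = P.1 (t : K) ^ (m' - m) := one_mul _
        _ < 1 := h2
    rw [h1] at h3
    exact lt_irrefl _ h3
  obtain ⟨εi, hεi⟩ := hε'.exists_right_inv
  have hεiK : (ε' : K) * (εi : K) = 1 := by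
    have := congrArg Subtype.val hεi
    simpa using this
  have hfin : u / v = ((t ^ (m - m') * ε * εi : Rloc φ P j) : K) := by
    have hsplit : (t : K) ^ m = (t : K) ^ m' * (t : K) ^ (m - m') := by
      rw [← pow_add]
      congr 1
      omega
    have hεi' : (εi : K) = (ε' : K)⁻¹ := eq_inv_of_mul_eq_one_right hεiK
    show u / v = (t : K) ^ (m - m') * (ε : K) * (εi : K)
    rw [huK, hvK, hsplit, hεi']
    field_simp
  rw [hfin]
  exact (t ^ (m - m') * ε * εi : Rloc φ P j).2

end Groth.Agent.Lib.Helper88.AJ
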