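/-
The necessity half of the affine Jacobian criterion: at a nonsingular place the gradients of the
relations span a space of codimension exactly one.
Author: helper88
-/
import Groth.Agent.Lib.Helper88.JacSuff
import Groth.Agent.Lib.Helper68.FunFldRes

set_option autoImplicit false
set_option linter.unusedSectionVars false

namespace Groth.Agent.Lib.Helper88.AJ

open FunFld WithZero MvPolynomial Groth.Agent.Lib.Helper88.FF
  Groth.Agent.Lib.Helper34.FunFldLocRing Groth.Agent.Lib.Helper34.FunFldNak

variable {k K : Type*} [Field k] [Field K] [Algebra k K]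
variable {ι : Type*} [Fintype ι] [DecidableEq ι]

section main

variable {φ : ι → K} {P : Place k K} {j : ι} (hj : φ j ≠ 0) (hP : ∀ i, P.1 (φ i) ≤ P.1 (φ j))
  (a : ι → k) (ha : ∀ i, P.1 (φ i / φ j - algebraMap k K (a i)) < 1)
  [hloc : IsLocalRing (Rloc φ P j)] (hunit : ∀ z : Rloc φ P j, IsUnit z ↔ P.1 (z : K) = 1)

include hj hP hunit in
lemma val_le_of_mem_sq {z : Rloc φ P j}
    (hz : z ∈ IsLocalRing.maximalIdeal (Rloc φ P j) ^ 2) : P.1 (z : K) ≤ exp (-2 : ℤ) := by
  rw [pow_two] at hz
  refine Submodule.mul_induction_on hz ?_ ?_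
  · intro x hx y hy
    have hx' := lt_one_iff_le_exp_neg_one.1 ((mem_max_iff hj hP hunit x).1 hx)
    have hy' := lt_one_iff_le_exp_neg_one.1 ((mem_max_iff hj hP hunit y).1 hy)
    show P.1 ((x : K) * (y : K)) ≤ _
    rw [map_mul]
    calc P.1 (x : K) * P.1 (y : K) ≤ exp (-1 : ℤ) * exp (-1 : ℤ) := mul_le_mul' hx' hy'
      _ = exp (-2 : ℤ) := by rw [← exp_add]; norm_num
  · intro x y hx hy
    show P.1 ((x : K) + (y : K)) ≤ _
    exact (P.1.map_add _ _).trans (max_le hx hy)

end main

/-- **Affine Jacobian criterion, necessity**: at a nonsingular place, the gradients at the image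
point of the relations between the coordinates span a space of codimension exactly one. -/
theorem finrank_of_nonsing [IsAlgClosed k] (hK : IsFunctionField k K) (φ : ι → K)
    (P : Place k K) (j : ι) (hj : φ j ≠ 0) (hP : ∀ i, P.1 (φ i) ≤ P.1 (φ j))
    (a : ι → k) (ha : ∀ i, P.1 (φ i / φ j - algebraMap k K (a i)) < 1)
    (hns : IsNonsingularAt φ P) :
    Module.finrank k (gradSpace a (fun i => φ i / φ j)) + 1 = Fintype.card ι := by
  obtain ⟨hloc, hunit⟩ := isLocalRing_Rloc φ P j hj hP
  haveI := hloc
  set w : ι → K := fun i => φ i / φ j with hw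
  set V := gradSpace a w with hV
  have hR : ∀ z : K, P.1 z ≤ 1 → LocAt φ P j z :=
    fun z hz => (inLocRing_iff φ P j hj hP z).1 (hns z hz)
  obtain ⟨t, ht⟩ := exists_uniformizer P
  have ht0 : t ≠ 0 := by
    rintro rfl
    rw [map_zero] at ht
    exact exp_ne_zero ht.symm
  have ht1 : P.1 t ≤ 1 := by
    rw [ht, ← exp_zero, exp_le_exp]
    norm_num
  -- `t = τ / q`
  obtain ⟨τ, hτ, q, hq, hPq, htq⟩ := hR t ht1
  rw [Algebra.adjoin_range_eq_range_aeval] at hτ hq
  obtain ⟨τ', rfl⟩ := hτ
  obtain ⟨q', rfl⟩ := hq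
  have hPq' : P.1 (aeval w q') = 1 := hPq
  have htq' : t * aeval w q' = aeval w τ' := htq
  have hτa : eval a τ' = 0 := by
    apply eval_eq_zero_of_lt P w a ha
    rw [← htq', map_mul, hPq', mul_one, ht, ← exp_zero, exp_lt_exp]
    norm_num
  have hqa : eval a q' ≠ 0 := eval_ne_zero_of_eq_one P w a ha hPq'
  -- expansions of the coordinates
  have hs : ∀ l, P.1 ((w l - algebraMap k K (a l)) / t) ≤ 1 := by
    intro l
    rw [map_div₀, ht]
    exact (div_le_one₀ (zero_lt_iff.2 exp_ne_zero)).2 (lt_one_iff_le_exp_neg_one.1 (ha l))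
  choose c hc using fun l => Groth.Agent.Lib.Helper68.FunFldRes.exists_const hK P (hs l)
  have hz : ∀ l, P.1 (((w l - algebraMap k K (a l)) / t - algebraMap k K (c l)) / t) ≤ 1 := by
    intro l
    rw [map_div₀, ht]
    exact (div_le_one₀ (zero_lt_iff.2 exp_ne_zero)).2 (lt_one_iff_le_exp_neg_one.1 (hc l))
  have hzR := fun l => hR _ (hz l)
  choose p hp ql hql hPql hzq using hzR
  simp only [Algebra.adjoin_range_eq_range_aeval] at hp hql
  choose p' hp' using hp
  choose ql' hql' using hql
  have hPql' : ∀ l, P.1 (aeval w (ql' l)) = 1 := by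
    intro l
    have := hPql l
    rwa [← hql' l] at this
  have hqla : ∀ l, eval a (ql' l) ≠ 0 := fun l => eval_ne_zero_of_eq_one P w a ha (hPql' l)
  -- relations
  set G : ι → MvPolynomial ι k := fun l =>
    (X l - C (a l)) * (q' ^ 2 * ql' l) - τ' * (C (c l) * q' * ql' l) - τ' * (τ' * p' l) with hG
  have hGw : ∀ l, aeval w (G l) = 0 := by
    intro l
    have h1 : aeval w (p' l) =
        ((w l - algebraMap k K (a l)) / t - algebraMap k K (c l)) / t * aeval w (ql' l) := by
      have h2 : aeval w (p' l) = p l := hp' l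
      have h3 : aeval w (ql' l) = ql l := hql' l
      rw [h2, h3]
      exact (hzq l).symm
    simp only [hG, map_sub, map_mul, map_pow, aeval_X, aeval_C]
    rw [h1, ← htq']
    field_simp
    ring
  have hGgrad : ∀ l, gradL a (G l) =
      (eval a q' ^ 2 * eval a (ql' l)) • (Pi.single l 1 : ι → k) -
        (c l * eval a q' * eval a (ql' l)) • gradL a τ' := by
    intro l
    simp only [hG, map_sub, gradL_mul, hτa, zero_smul, zero_add, add_zero, map_mul, map_pow,
      eval_X, eval_C, sub_self, zero_mul, sub_zero]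
    rw [gradL_X, gradL_C, sub_zero]
  have hGV : ∀ l, gradL a (G l) ∈ V := fun l => (mem_gradSpace a).2 ⟨G l, hGw l, rfl⟩
  -- `V + k T = ⊤`
  have hsingle : ∀ l, (Pi.single l 1 : ι → k) ∈ V ⊔ Submodule.span k {gradL a τ'} := by
    intro l
    have hβ : eval a q' ^ 2 * eval a (ql' l) ≠ 0 := mul_ne_zero (pow_ne_zero _ hqa) (hqla l)
    have e : (Pi.single l 1 : ι → k) = (eval a q' ^ 2 * eval a (ql' l))⁻¹ •
        (gradL a (G l) + (c l * eval a q' * eval a (ql' l)) • gradL a τ') := by
      rw [hGgrad l, sub_add_cancel, smul_smul, inv_mul_cancel₀ hβ, one_smul]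
    rw [e]
    refine Submodule.smul_mem _ _ (Submodule.add_mem_sup (hGV l) ?_)
    exact Submodule.smul_mem _ _ (Submodule.mem_span_singleton_self _)
  have htop : V ⊔ Submodule.span k {gradL a τ'} = ⊤ := by
    rw [eq_top_iff]
    intro u _
    have : u = ∑ l, u l • (Pi.single l 1 : ι → k) := by
      funext m
      simp [Finset.sum_apply, Pi.single_apply]
    rw [this]
    exact Submodule.sum_mem _ fun l _ => Submodule.smul_mem _ _ (hsingle l)
  have hlow : Fintype.card ι ≤ Module.finrank k V + 1 := by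
    have h1 := Submodule.finrank_add_le_finrank_add_finrank V (Submodule.span k {gradL a τ'})
    rw [htop, finrank_top, Module.finrank_fintype_fun_eq_card] at h1
    have h2 : Module.finrank k (Submodule.span k {gradL a τ'}) ≤ 1 := by
      have := finrank_span_le_card (R := k) ({gradL a τ'} : Set (ι → k))
      simpa using this
    omega
  -- `V ≠ ⊤`
  have hup : Module.finrank k V < Fintype.card ι := by
    have hle : Module.finrank k V ≤ Fintype.card ι := by
      have := Submodule.finrank_le V
      rwa [Module.finrank_fintype_fun_eq_card] at this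
    rcases hle.lt_or_eq with h | h
    · exact h
    exfalso
    have hVtop : V = ⊤ := by
      apply Submodule.eq_top_of_finrank_eq
      rw [h, Module.finrank_fintype_fun_eq_card]
    have hgen : ∀ l, aeval (wR φ P j) (X l - C (a l)) ∈
        IsLocalRing.maximalIdeal (Rloc φ P j) ^ 2 := by
      intro l
      have hmem : (Pi.single l 1 : ι → k) ∈ V := by
        rw [hVtop]
        trivial
      obtain ⟨g, hg, hgrad⟩ := (mem_gradSpace a).1 hmem
      have := theta_grad_mem hj hP a ha hunit hg
      rw [hgrad, theta_single] at this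
      exact this
    have hmm : IsLocalRing.maximalIdeal (Rloc φ P j) ≤
        IsLocalRing.maximalIdeal (Rloc φ P j) ^ 2 := by
      conv_lhs => rw [max_eq_map hj hP a ha hunit, Ia, Ideal.map_span]
      rw [Ideal.span_le]
      rintro _ ⟨_, ⟨l, rfl⟩, rfl⟩
      exact hgen l
    have htR : (⟨t, hR t ht1⟩ : Rloc φ P j) ∈ IsLocalRing.maximalIdeal (Rloc φ P j) := by
      rw [mem_max_iff hj hP hunit]
      show P.1 t < 1
      rw [ht, ← exp_zero, exp_lt_exp]
      norm_num
    have := val_le_of_mem_sq hj hP hunit (hmm htR)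
    have h2 : P.1 t ≤ exp (-2 : ℤ) := this
    rw [ht, exp_le_exp] at h2
    norm_num at h2
  omega

end Groth.Agent.Lib.Helper88.AJ
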