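/-
From the affine Jacobian criterion to the projective one: the gradient space of the relations
between the ratios `φ i / φ j` in terms of generators of the homogeneous ideal; residues; ranks.
Author: helper88
-/
import Groth.Agent.Lib.Helper88.JacNec
import Groth.Agent.Lib.Helper83.PlaneCoord

set_option autoImplicit false
set_option linter.unusedSectionVars false

namespace Groth.Agent.Lib.Helper88.AJ

open FunFld WithZero MvPolynomial Groth.Agent.Lib.Helper88.FF
  Groth.Agent.Lib.Helper34.FunFldLocRing Groth.Agent.Lib.Helper34.FunFldNak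

variable {k K : Type*} [Field k] [Field K] [Algebra k K]
variable {ι : Type*} [Fintype ι] [DecidableEq ι]

/-- The graded evaluation `X_i ↦ v_i T` on a homogeneous polynomial. -/
lemma aeval_CX {H : MvPolynomial ι k} {m : ℕ} (hH : H.IsHomogeneous m) (v : ι → K) :
    aeval (fun i => Polynomial.C (v i) * Polynomial.X) H =
      Polynomial.C (aeval v H) * Polynomial.X ^ m := by
  have h1 : (fun i => Polynomial.C (v i) * (Polynomial.X : Polynomial K)) =
      fun i => Polynomial.X * Polynomial.C (v i) := by
    funext i
    ring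
  rw [h1, Groth.Agent.Lib.Helper83.PlaneCoord.aeval_smul_of_isHomogeneous hH]
  have h2 : aeval (fun i => (Polynomial.C (v i) : Polynomial K)) H = Polynomial.C (aeval v H) :=
    (comp_aeval_apply v (Polynomial.CAlgHom (R := k) (A := K)) H).symm
  rw [h2]
  ring

lemma aeval_CX_eq_zero_iff {H : MvPolynomial ι k} {m : ℕ} (hH : H.IsHomogeneous m) (v : ι → K) :
    aeval (fun i => Polynomial.C (v i) * Polynomial.X) H = 0 ↔ aeval v H = 0 := by
  rw [aeval_CX hH]
  constructor
  · intro h
    rcases mul_eq_zero.1 h with h | h
    · exact Polynomial.C_eq_zero.1 h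
    · exact absurd h (pow_ne_zero _ Polynomial.X_ne_zero)
  · intro h
    rw [h, map_zero, zero_mul]

/-- Rescaling the point. -/
lemma aeval_div {H : MvPolynomial ι k} {m : ℕ} (hH : H.IsHomogeneous m) (φ : ι → K) (c : K)
    (hc : c ≠ 0) : aeval (fun i => φ i / c) H = 0 ↔ aeval φ H = 0 := by
  have h1 : (fun i => φ i / c) = fun i => c⁻¹ * φ i := by
    funext i
    rw [div_eq_inv_mul]
  rw [h1, Groth.Agent.Lib.Helper83.PlaneCoord.aeval_smul_of_isHomogeneous hH]
  constructor
  · intro h
    rcases mul_eq_zero.1 h with h | h
    · exact absurd h (pow_ne_zero _ (inv_ne_zero hc))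
    · exact h
  · intro h
    rw [h, mul_zero]

/-- Gradients of elements of an ideal generated by polynomials vanishing at the point. -/
lemma gradL_mem_of_mem_span (α : ι → k) (S : Set (MvPolynomial ι k))
    (hS : ∀ s ∈ S, eval α s = 0) {G : MvPolynomial ι k} (hG : G ∈ Ideal.span S) :
    gradL α G ∈ Submodule.span k (gradL α '' S) ∧ eval α G = 0 := by
  induction hG using Submodule.span_induction with
  | mem s hs => exact ⟨Submodule.subset_span ⟨s, hs, rfl⟩, hS s hs⟩
  | zero => exact ⟨by rw [map_zero]; exact Submodule.zero_mem _, map_zero _⟩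
  | add x y _ _ hx hy =>
    exact ⟨by rw [map_add]; exact Submodule.add_mem _ hx.1 hy.1, by rw [map_add, hx.2, hy.2, add_zero]⟩
  | smul h x _ hx =>
    constructor
    · rw [smul_eq_mul, gradL_mul, hx.2, zero_smul, add_zero]
      exact Submodule.smul_mem _ _ hx.1
    · rw [smul_eq_mul, map_mul, hx.2, mul_zero]

/-- The gradient space of the affine relations in terms of generators of the homogeneous ideal. -/
theorem gradSpace_eq (φ : ι → K) (P : Place k K) (j : ι) (hj : φ j ≠ 0) (α : ι → k)
    (hαj : α j = 1) (hα : ∀ i, P.1 (φ i / φ j - algebraMap k K (α i)) < 1)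
    (S : Set (MvPolynomial ι k)) (hS0 : ∀ s ∈ S, aeval (fun i => φ i / φ j) s = 0)
    (hS : ∀ G : MvPolynomial ι k, ∀ m, G.IsHomogeneous m → aeval φ G = 0 → G ∈ Ideal.span S) :
    gradSpace α (fun i => φ i / φ j) =
      Submodule.span k (gradL α '' S) ⊔ Submodule.span k {(Pi.single j 1 : ι → k)} := by
  set w : ι → K := fun i => φ i / φ j with hw
  have hwj : w j = 1 := div_self hj
  have hSα : ∀ s ∈ S, eval α s = 0 := by
    intro s hs
    apply eval_eq_zero_of_lt P w α hα
    rw [hS0 s hs, map_zero]
    exact zero_lt_one
  apply le_antisymm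
  · intro v hv
    obtain ⟨g, hg, rfl⟩ := (mem_gradSpace α).1 hv
    set G := homj j g with hGdef
    have hGhom := homj_isHomogeneous j g
    have hGw : aeval w G = 0 := by
      rw [hGdef, aeval_homj j g w hwj, hg]
    have hGφ : aeval φ G = 0 := (aeval_div hGhom φ (φ j) hj).1 hGw
    have hGS := hS G _ hGhom hGφ
    obtain ⟨h, hh⟩ := homj_sub j g
    have hgG : g = G - (X j - 1) * h := by
      rw [← hh]
      ring
    have h1 := (gradL_mem_of_mem_span α S hSα hGS).1
    have h2 : gradL α ((X j - 1) * h) = eval α h • (Pi.single j 1 : ι → k) := by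
      rw [gradL_mul]
      have e1 : eval α (X j - 1 : MvPolynomial ι k) = 0 := by
        rw [map_sub, eval_X, map_one, hαj, sub_self]
      have e2 : gradL α (X j - 1 : MvPolynomial ι k) = Pi.single j 1 := by
        have := gradL_X_sub_C α j (1 : k)
        rwa [C_1] at this
      rw [e1, zero_smul, zero_add, e2]
    rw [hgG, map_sub, h2]
    refine Submodule.sub_mem _ (Submodule.mem_sup_left h1) (Submodule.mem_sup_right ?_)
    exact Submodule.smul_mem _ _ (Submodule.mem_span_singleton_self _)
  · rw [sup_le_iff, Submodule.span_le, Submodule.span_le]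
    constructor
    · rintro _ ⟨s, hs, rfl⟩
      exact (mem_gradSpace α).2 ⟨s, hS0 s hs, rfl⟩
    · rintro _ rfl
      refine (mem_gradSpace α).2 ⟨X j - 1, ?_, ?_⟩
      · rw [map_sub, aeval_X, map_one, hwj, sub_self]
      · have := gradL_X_sub_C α j (1 : k)
        rwa [C_1] at this

/-- The residue of an integral element congruent to a constant. -/
lemma residue_eq (P : Place k K) (x : P.O) (c : k)
    (h : P.1 ((x : K) - algebraMap k K c) < 1) :
    IsLocalRing.residue P.O x = algebraMap k (IsLocalRing.ResidueField P.O) c := by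
  have e1 : algebraMap k (IsLocalRing.ResidueField P.O) c =
      IsLocalRing.residue P.O (algebraMap k P.O c) := rfl
  rw [e1, ← sub_eq_zero, ← map_sub, IsLocalRing.residue_eq_zero_iff,
    Valuation.mem_maximalIdeal_iff]
  exact h

lemma algebraMap_residue_bijective [IsAlgClosed k] (hK : IsFunctionField k K) (P : Place k K) :
    Function.Bijective (algebraMap k (IsLocalRing.ResidueField P.O)) := by
  refine ⟨(algebraMap k (IsLocalRing.ResidueField P.O)).injective, ?_⟩
  intro x
  obtain ⟨y, rfl⟩ := IsLocalRing.residue_surjective x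
  have hy : P.1 (y : K) ≤ 1 := y.2
  obtain ⟨c, hc⟩ := Groth.Agent.Lib.Helper68.FunFldRes.exists_const hK P hy
  exact ⟨c, (residue_eq P y c hc).symm⟩

/-- Evaluating at residues. -/
lemma aeval_residue (P : Place k K) (α : ι → k) (h : MvPolynomial ι k) :
    aeval (fun i => algebraMap k (IsLocalRing.ResidueField P.O) (α i)) h =
      algebraMap k (IsLocalRing.ResidueField P.O) (eval α h) := by
  have e3 : (fun i => algebraMap k (IsLocalRing.ResidueField P.O) (α i)) =
      (algebraMap k (IsLocalRing.ResidueField P.O)) ∘ α := rfl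
  rw [e3, aeval_def]
  have h4 := eval₂_comp_left (algebraMap k (IsLocalRing.ResidueField P.O)) (RingHom.id k) α h
  rw [RingHom.comp_id] at h4
  rw [← h4]
  rfl

/-- The rank of a matrix is unchanged under a bijective base change. -/
lemma rank_map_of_bijective {κ : Type*} [Field κ] [Algebra k κ]
    (hb : Function.Bijective (algebraMap k κ)) {r n : ℕ} (M₀ : Matrix (Fin r) (Fin n) k) :
    (M₀.map (algebraMap k κ)).rank = M₀.rank := by
  rw [Matrix.rank_eq_finrank_span_row, Matrix.rank_eq_finrank_span_row]
  set L : (Fin n → k) →ₗ[k] (Fin n → κ) := (Algebra.linearMap k κ).compLeft (Fin n) with hL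
  have hLinj : Function.Injective L := by
    intro u v huv
    funext i
    have := congrFun huv i
    exact hb.1 this
  have hrow : Set.range (M₀.map (algebraMap k κ)).row = L '' Set.range M₀.row := by
    ext v
    constructor
    · rintro ⟨i, rfl⟩
      exact ⟨M₀.row i, ⟨i, rfl⟩, rfl⟩
    · rintro ⟨_, ⟨i, rfl⟩, rfl⟩
      exact ⟨i, rfl⟩
  have h1 : (Submodule.span κ (Set.range (M₀.map (algebraMap k κ)).row)).restrictScalars k =
      Submodule.map L (Submodule.span k (Set.range M₀.row)) := by
    rw [Submodule.restrictScalars_span k κ hb.2, hrow, Submodule.map_span]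
  have h2 : Module.finrank k (Submodule.map L (Submodule.span k (Set.range M₀.row))) =
      Module.finrank k (Submodule.span k (Set.range M₀.row)) :=
    (Submodule.equivMapOfInjective L hLinj _).finrank_eq.symm
  have h3 : Module.finrank k κ = 1 := by
    have e : k ≃ₗ[k] κ := LinearEquiv.ofBijective (Algebra.linearMap k κ) hb
    rw [← e.finrank_eq, Module.finrank_self]
  have h4 := Module.finrank_mul_finrank k κ
    (Submodule.span κ (Set.range (M₀.map (algebraMap k κ)).row))
  rw [h3, one_mul] at h4
  rw [h4, ← h2, ← h1]
  rfl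

/-- Dimension of a space containing `e₀` in terms of its projection forgetting the coordinate `0`. -/
lemma finrank_sup_single {n : ℕ} (U : Submodule k (Fin (n + 1) → k)) :
    Module.finrank k (U ⊔ Submodule.span k {(Pi.single 0 1 : Fin (n + 1) → k)} :
      Submodule k (Fin (n + 1) → k)) =
      Module.finrank k (Submodule.map (LinearMap.funLeft k k Fin.succ) U) + 1 := by
  set e0 : Fin (n + 1) → k := Pi.single 0 1 with he0
  set π : (Fin (n + 1) → k) →ₗ[k] (Fin n → k) := LinearMap.funLeft k k Fin.succ with hπ
  set V := U ⊔ Submodule.span k {e0} with hV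
  have hπe0 : π e0 = 0 := by
    funext i
    simp [hπ, he0, LinearMap.funLeft_apply, Pi.single_apply, Fin.succ_ne_zero]
  have hker : LinearMap.ker π = Submodule.span k {e0} := by
    apply le_antisymm
    · intro v hv
      rw [LinearMap.mem_ker] at hv
      rw [Submodule.mem_span_singleton]
      refine ⟨v 0, ?_⟩
      funext i
      refine Fin.cases ?_ (fun i' => ?_) i
      · simp [he0]
      · have := congrFun hv i'
        simp only [hπ, LinearMap.funLeft_apply, Pi.zero_apply] at this
        simp [he0, this, Fin.succ_ne_zero]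
    · rw [Submodule.span_le]
      rintro _ rfl
      exact hπe0
  have hmap : Submodule.map π V = Submodule.map π U := by
    rw [hV, Submodule.map_sup, Submodule.map_span, Set.image_singleton, hπe0]
    simp
  have h1 := LinearMap.finrank_range_add_finrank_ker (π.domRestrict V)
  rw [LinearMap.range_domRestrict, LinearMap.ker_domRestrict, hmap] at h1
  have hle : LinearMap.ker π ≤ V := by
    rw [hker]
    exact le_sup_right
  have h2 : Module.finrank k (Submodule.comap V.subtype (LinearMap.ker π)) = 1 := by
    rw [(Submodule.comapSubtypeEquivOfLe hle).finrank_eq, hker]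
    apply finrank_span_singleton
    intro h
    have := congrFun h 0
    simp [he0] at this
  rw [h2] at h1
  exact h1.symm

end Groth.Agent.Lib.Helper88.AJ
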