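/-
Lattices of functions with prescribed orders at finitely many places, and the dimension of their
successive quotients (over an algebraically closed constant field).
Author: helper88
-/
import Groth.Agent.Lib.Helper88.FunFldApprox
import Groth.Agent.Lib.Helper88.RelQuot
import Groth.Agent.Lib.Helper88.JacProj

set_option autoImplicit false
set_option linter.unusedSectionVars false

namespace Groth.Agent.Lib.Helper88.IM

open FunFld WithZero Groth.Agent.Lib.Helper88.FF Groth.Agent.Lib.Helper88

variable {k K : Type*} [Field k] [Field K] [Algebra k K]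

/-- Functions of order at least `n Q` at each `Q ∈ F`. -/
def LL (F : Finset (Place k K)) (n : Place k K → ℤ) : Submodule k K :=
  ⨅ Q ∈ F, ball Q (-(n Q))

lemma mem_LL {F : Finset (Place k K)} {n : Place k K → ℤ} {z : K} :
    z ∈ LL F n ↔ ∀ Q ∈ F, Q.1 z ≤ exp (-(n Q)) := by
  simp only [LL, Submodule.mem_iInf]
  rfl

lemma LL_mono {F : Finset (Place k K)} {n n' : Place k K → ℤ} (h : ∀ Q ∈ F, n Q ≤ n' Q) :
    LL F n' ≤ LL F n := by
  intro z hz
  rw [mem_LL] at hz ⊢
  intro Q hQ
  exact (hz Q hQ).trans (exp_le_exp.2 (by have := h Q hQ; omega))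

lemma LL_congr {F : Finset (Place k K)} {n n' : Place k K → ℤ} (h : ∀ Q ∈ F, n Q = n' Q) :
    LL F n = LL F n' :=
  le_antisymm (LL_mono fun Q hQ => (h Q hQ).symm.le) (LL_mono fun Q hQ => (h Q hQ).le)

section step

variable [IsAlgClosed k] [DecidableEq (Place k K)]

/-- One step: raising the order at one place by one cuts the dimension by one. -/
theorem step (hK : IsFunctionField k K) (F : Finset (Place k K)) (n : Place k K → ℤ)
    (Q₀ : Place k K) (hQ₀ : Q₀ ∈ F) :
    FiniteDimensional k (RelQuot (LL F (Function.update n Q₀ (n Q₀ + 1))) (LL F n)) ∧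
      Module.finrank k (RelQuot (LL F (Function.update n Q₀ (n Q₀ + 1))) (LL F n)) = 1 := by
  obtain ⟨t, ht⟩ := exists_uniformizer Q₀
  have hincl : LL F n ≤ ball Q₀ (-(n Q₀)) := fun z hz => (mem_LL.1 hz) Q₀ hQ₀
  set ψ : ↥(LL F n) →ₗ[k] IsLocalRing.ResidueField Q₀.O :=
    (resAt Q₀ ht (-(n Q₀))).comp (Submodule.inclusion hincl) with hψ
  have hker : ∀ b : ↥(LL F n), ψ b = 0 ↔
      (b : K) ∈ LL F (Function.update n Q₀ (n Q₀ + 1)) := by
    intro b
    have h1 : ψ b = 0 ↔ (b : K) ∈ ball Q₀ (-(n Q₀) - 1) :=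
      resAt_eq_zero_iff Q₀ ht (-(n Q₀)) (Submodule.inclusion hincl b)
    rw [h1, mem_LL]
    constructor
    · intro h Q hQ
      by_cases hQQ : Q = Q₀
      · subst hQQ
        rw [Function.update_self]
        have : -(n Q + 1) = -(n Q) - 1 := by ring
        rw [this]
        exact h
      · rw [Function.update_of_ne hQQ]
        exact (mem_LL.1 b.2) Q hQ
    · intro h
      have := h Q₀ hQ₀
      rw [Function.update_self] at this
      have e : -(n Q₀ + 1) = -(n Q₀) - 1 := by ring
      rw [e] at this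
      exact this
  have hsurj : Function.Surjective ψ := by
    intro r
    obtain ⟨z₀, hz₀⟩ := resAt_surjective Q₀ ht (-(n Q₀)) r
    -- a common precision
    obtain ⟨B, hB⟩ := Finset.exists_le (F.image fun Q => n Q + 1)
    obtain ⟨z, hz⟩ := weak_approx F (fun Q => if Q = Q₀ then (z₀ : K) else 0) B
    have hzLL : z ∈ LL F n := by
      rw [mem_LL]
      intro Q hQ
      have hBQ : n Q + 1 ≤ B := hB _ (Finset.mem_image.2 ⟨Q, hQ, rfl⟩)
      have h1 := hz Q hQ
      by_cases hQQ : Q = Q₀
      · subst hQQ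
        rw [if_pos rfl] at h1
        have e : z = (z - (z₀ : K)) + (z₀ : K) := by ring
        rw [e]
        refine (Q.1.map_add _ _).trans (max_le (h1.trans (exp_le_exp.2 (by omega))) z₀.2)
      · rw [if_neg hQQ, sub_zero] at h1
        exact h1.trans (exp_le_exp.2 (by omega))
    refine ⟨⟨z, hzLL⟩, ?_⟩
    rw [← hz₀, ← sub_eq_zero]
    show resAt Q₀ ht (-(n Q₀)) (Submodule.inclusion hincl ⟨z, hzLL⟩) -
      resAt Q₀ ht (-(n Q₀)) z₀ = 0
    rw [← map_sub, resAt_eq_zero_iff]
    show Q₀.1 (z - (z₀ : K)) ≤ exp (-(n Q₀) - 1)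
    have h1 := hz Q₀ hQ₀
    rw [if_pos rfl] at h1
    have hBQ : n Q₀ + 1 ≤ B := hB _ (Finset.mem_image.2 ⟨Q₀, hQ₀, rfl⟩)
    exact h1.trans (exp_le_exp.2 (by omega))
  have e := relQuotEquivOfSurjective (A := LL F (Function.update n Q₀ (n Q₀ + 1))) ψ hsurj hker
  have hb := Groth.Agent.Lib.Helper88.AJ.algebraMap_residue_bijective hK Q₀
  have h3 : Module.finrank k (IsLocalRing.ResidueField Q₀.O) = 1 := by
    have e' : k ≃ₗ[k] IsLocalRing.ResidueField Q₀.O :=
      LinearEquiv.ofBijective (Algebra.linearMap k _) hb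
    rw [← e'.finrank_eq, Module.finrank_self]
  have hfin : FiniteDimensional k (IsLocalRing.ResidueField Q₀.O) :=
    Module.finite_of_finrank_pos (by rw [h3]; exact one_pos)
  exact ⟨Module.Finite.equiv e.symm, by rw [e.finrank_eq, h3]⟩

/-- **Dimension of a quotient of lattices.** -/
theorem finrank_LL (hK : IsFunctionField k K) (F : Finset (Place k K)) :
    ∀ (T : ℕ) (n n' : Place k K → ℤ), (∀ Q ∈ F, n Q ≤ n' Q) →
      ∑ Q ∈ F, (n' Q - n Q) = (T : ℤ) →
      FiniteDimensional k (RelQuot (LL F n') (LL F n)) ∧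
        Module.finrank k (RelQuot (LL F n') (LL F n)) = T := by
  intro T
  induction T with
  | zero =>
    intro n n' hle hsum
    have heq : ∀ Q ∈ F, n Q = n' Q := by
      intro Q hQ
      have h1 : ∀ Q' ∈ F, 0 ≤ n' Q' - n Q' := fun Q' hQ' => by have := hle Q' hQ'; omega
      have h2 := (Finset.sum_eq_zero_iff_of_nonneg h1).1 (by simpa using hsum) Q hQ
      omega
    have hLL : LL F n' = LL F n := (LL_congr heq).symm
    rw [hLL]
    have htop : Submodule.comap (LL F n).subtype (LL F n) = ⊤ := by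
      rw [eq_top_iff]
      intro b _
      exact b.2
    have hsub : Subsingleton (RelQuot (LL F n) (LL F n)) := by
      show Subsingleton (↥(LL F n) ⧸ Submodule.comap (LL F n).subtype (LL F n))
      rw [htop]
      infer_instance
    exact ⟨inferInstance, by
      rw [Nat.cast_zero] at hsum
      exact Module.finrank_zero_of_subsingleton⟩
  | succ T ih =>
    intro n n' hle hsum
    have hex : ∃ Q₀ ∈ F, n Q₀ < n' Q₀ := by
      by_contra hcon
      push Not at hcon
      have h0 : ∑ Q ∈ F, (n' Q - n Q) = 0 := by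
        apply Finset.sum_eq_zero
        intro Q hQ
        have := hcon Q hQ
        have := hle Q hQ
        omega
      rw [h0] at hsum
      have : (0 : ℤ) < ((T + 1 : ℕ) : ℤ) := by positivity
      omega
    obtain ⟨Q₀, hQ₀, hlt⟩ := hex
    set n'' := Function.update n Q₀ (n Q₀ + 1) with hn''
    have hle'' : ∀ Q ∈ F, n'' Q ≤ n' Q := by
      intro Q hQ
      by_cases hQQ : Q = Q₀
      · subst hQQ
        rw [hn'', Function.update_self]
        omega
      · rw [hn'', Function.update_of_ne hQQ]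
        exact hle Q hQ
    have hsum'' : ∑ Q ∈ F, (n' Q - n'' Q) = (T : ℤ) := by
      have h1 : ∑ Q ∈ F, (n' Q - n'' Q) = ∑ Q ∈ F, ((n' Q - n Q) - if Q = Q₀ then 1 else 0) := by
        refine Finset.sum_congr rfl fun Q _ => ?_
        by_cases hQQ : Q = Q₀
        · subst hQQ
          rw [hn'', Function.update_self, if_pos rfl]
          ring
        · rw [hn'', Function.update_of_ne hQQ, if_neg hQQ]
          ring
      rw [h1, Finset.sum_sub_distrib, hsum, Finset.sum_ite_eq' F Q₀, if_pos hQ₀]
      push_cast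
      ring
    obtain ⟨hf1, hr1⟩ := ih n'' n' hle'' hsum''
    obtain ⟨hf2, hr2⟩ := step hK F n Q₀ hQ₀
    have hAB : LL F n' ≤ LL F n'' := LL_mono hle''
    have hBC : LL F n'' ≤ LL F n := by
      apply LL_mono
      intro Q hQ
      by_cases hQQ : Q = Q₀
      · subst hQQ
        rw [hn'', Function.update_self]
        omega
      · rw [hn'', Function.update_of_ne hQQ]
    have := hf1
    have := hf2
    have := relQuot_tower_finite hAB hBC
    refine ⟨inferInstance, ?_⟩
    rw [relQuot_tower_finrank hAB hBC, hr1, hr2]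

end step

end Groth.Agent.Lib.Helper88.IM
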