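/-
Algebraic preparation for the adjoint divisor of a plane model: projective coordinate changes of
a ternary form, and the minimal polynomial of `y'` over `k(x')` when the degrees match.
Author: helper88
-/
import Groth.Agent.Lib.Helper83.PlaneCoord
import Groth.Agent.Lib.Helper88.PlaneTop
import Groth.Agent.Lib.Helper88.PlaneGauss
import Mathlib

set_option autoImplicit false
set_option linter.unusedSectionVars false

namespace Groth.Agent.Lib.Helper88.PC

open MvPolynomial

variable {k K : Type*} [Field k] [Field K] [Algebra k K]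

/-- The linear forms of a coordinate change. -/
noncomputable abbrev Lf (A : Matrix (Fin 3) (Fin 3) k) : Fin 3 → MvPolynomial (Fin 3) k :=
  fun i => ∑ j, C (A i j) * X j

lemma Lf_isHomogeneous (A : Matrix (Fin 3) (Fin 3) k) (i : Fin 3) : (Lf A i).IsHomogeneous 1 := by
  apply IsHomogeneous.sum
  intro j _
  exact isHomogeneous_C_mul_X _ _

lemma aeval_Lf_isHomogeneous (A : Matrix (Fin 3) (Fin 3) k) {f : MvPolynomial (Fin 3) k} {e : ℕ}
    (hf : f.IsHomogeneous e) : (aeval (Lf A) f).IsHomogeneous e := by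
  have := hf.aeval (Lf A) (Lf_isHomogeneous A)
  rwa [one_mul] at this

/-- Evaluating a transformed form at the new affine point. -/
lemma aeval_change (A : Matrix (Fin 3) (Fin 3) k) (x y : K) (u : Fin 3 → K)
    (hu : ∀ i, ∑ j, algebraMap k K (A i j) * u j = ![(1 : K), x, y] i) (hu0 : u 0 ≠ 0)
    {h : MvPolynomial (Fin 3) k} {n : ℕ} (hh : h.IsHomogeneous n) :
    aeval ![(1 : K), u 1 / u 0, u 2 / u 0] (aeval (Lf A) h) =
      (u 0)⁻¹ ^ n * aeval ![(1 : K), x, y] h := by
  rw [comp_aeval_apply]
  have : (fun i => aeval ![(1 : K), u 1 / u 0, u 2 / u 0] (Lf A i)) =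
      fun i => (u 0)⁻¹ * ![(1 : K), x, y] i := by
    funext i
    have hq0 : (![(1 : K), u 1 / u 0, u 2 / u 0] : Fin 3 → K) 0 = 1 := rfl
    have hq1 : (![(1 : K), u 1 / u 0, u 2 / u 0] : Fin 3 → K) 1 = u 1 / u 0 := rfl
    have hq2 : (![(1 : K), u 1 / u 0, u 2 / u 0] : Fin 3 → K) 2 = u 2 / u 0 := rfl
    rw [← hu i]
    simp only [Lf, Fin.sum_univ_three, map_add, map_mul, aeval_C, aeval_X, hq0, hq1, hq2]
    field_simp
  rw [this, Groth.Agent.Lib.Helper83.PlaneCoord.aeval_smul_of_isHomogeneous hh]

/-- The last partial derivative of the transformed form at the new affine point. -/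
lemma pderiv_change (A : Matrix (Fin 3) (Fin 3) k) (x y : K) (u : Fin 3 → K)
    (hu : ∀ i, ∑ j, algebraMap k K (A i j) * u j = ![(1 : K), x, y] i) (hu0 : u 0 ≠ 0)
    {f : MvPolynomial (Fin 3) k} {e : ℕ} (hf : f.IsHomogeneous e) :
    aeval ![(1 : K), u 1 / u 0, u 2 / u 0] (pderiv 2 (aeval (Lf A) f)) =
      (u 0)⁻¹ ^ (e - 1) * ∑ i, algebraMap k K (A i 2) * aeval ![(1 : K), x, y] (pderiv i f) := by
  classical
  have h1 := Groth.Agent.Lib.Helper83.PlaneCoord.deriv_aeval (pderiv (2 : Fin 3)) (Lf A) f
  have h2 : ∀ i, pderiv (2 : Fin 3) (Lf A i) = C (A i 2) := by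
    intro i
    simp [Lf, Fin.sum_univ_three, pderiv_X]
  rw [h1]
  simp only [h2, smul_eq_mul, map_sum, map_mul, aeval_C]
  rw [Finset.mul_sum]
  apply Finset.sum_congr rfl
  intro i _
  rw [aeval_change A x y u hu hu0 hf.pderiv]
  ring

section minpoly

open Polynomial in
/-- The univariate polynomial `F'(1, x', Y)` over `k(x')`. -/
noncomputable def Gpoly (F' : MvPolynomial (Fin 3) k) (x' : K) :
    Polynomial (IntermediateField.adjoin k ({x'} : Set K)) :=
  MvPolynomial.aeval (![Polynomial.C 1, Polynomial.C (PG.gen (k := k) x'), Polynomial.X] :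
    Fin 3 → Polynomial (IntermediateField.adjoin k ({x'} : Set K))) F'

lemma aeval_Gpoly (F' : MvPolynomial (Fin 3) k) (x' y' : K) :
    Polynomial.aeval y' (Gpoly F' x') = aeval ![(1 : K), x', y'] F' := by
  unfold Gpoly
  have := comp_aeval_apply (![Polynomial.C 1, Polynomial.C (PG.gen (k := k) x'), Polynomial.X] :
    Fin 3 → Polynomial (IntermediateField.adjoin k ({x'} : Set K)))
    ((Polynomial.aeval y' :
      Polynomial (IntermediateField.adjoin k ({x'} : Set K)) →ₐ[_] K).restrictScalars k) F'
  refine this.trans ?_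
  have h2 : (fun i => ((Polynomial.aeval y' :
      Polynomial (IntermediateField.adjoin k ({x'} : Set K)) →ₐ[_] K).restrictScalars k)
      ((![Polynomial.C 1, Polynomial.C (PG.gen (k := k) x'), Polynomial.X] :
        Fin 3 → Polynomial (IntermediateField.adjoin k ({x'} : Set K))) i)) =
      ![(1 : K), x', y'] := by
    funext i
    fin_cases i
    · simp
    · simp
    · simp
  rw [h2]

lemma derivative_Gpoly (F' : MvPolynomial (Fin 3) k) (x' : K) :
    Polynomial.derivative (Gpoly F' x') = Gpoly (pderiv 2 F') x' := by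
  classical
  unfold Gpoly
  let D : Derivation k (Polynomial (IntermediateField.adjoin k ({x'} : Set K)))
      (Polynomial (IntermediateField.adjoin k ({x'} : Set K))) :=
    (Polynomial.derivative' (R := IntermediateField.adjoin k ({x'} : Set K))).restrictScalars k
  have h1 := Groth.Agent.Lib.Helper83.PlaneCoord.deriv_aeval D
    (![Polynomial.C 1, Polynomial.C (PG.gen (k := k) x'), Polynomial.X] :
      Fin 3 → Polynomial (IntermediateField.adjoin k ({x'} : Set K))) F'
  rw [Fin.sum_univ_three] at h1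
  have e0 : D ((![Polynomial.C 1, Polynomial.C (PG.gen (k := k) x'), Polynomial.X] :
      Fin 3 → Polynomial (IntermediateField.adjoin k ({x'} : Set K))) 0) = 0 := by
    show Polynomial.derivative (Polynomial.C 1) = 0
    exact Polynomial.derivative_C
  have e1 : D ((![Polynomial.C 1, Polynomial.C (PG.gen (k := k) x'), Polynomial.X] :
      Fin 3 → Polynomial (IntermediateField.adjoin k ({x'} : Set K))) 1) = 0 := by
    show Polynomial.derivative (Polynomial.C _) = 0
    exact Polynomial.derivative_C
  have e2 : D ((![Polynomial.C 1, Polynomial.C (PG.gen (k := k) x'), Polynomial.X] :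
      Fin 3 → Polynomial (IntermediateField.adjoin k ({x'} : Set K))) 2) = 1 := by
    show Polynomial.derivative Polynomial.X = 1
    exact Polynomial.derivative_X
  rw [e0, e1, e2, smul_zero, smul_zero, zero_add, zero_add, smul_eq_mul, mul_one] at h1
  exact h1

lemma Gpoly_top {F' : MvPolynomial (Fin 3) k} {d : ℕ} (hF' : F'.IsHomogeneous d) (x' : K) :
    (Gpoly F' x').natDegree ≤ d ∧
      (Gpoly F' x').coeff d = algebraMap k _ (aeval (![0, 0, 1] : Fin 3 → k) F') := by
  unfold Gpoly
  have hv : ∀ i, ((![Polynomial.C 1, Polynomial.C (PG.gen (k := k) x'), Polynomial.X] :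
      Fin 3 → Polynomial (IntermediateField.adjoin k ({x'} : Set K))) i).natDegree ≤ 1 := by
    intro i
    fin_cases i
    · show (Polynomial.C 1 : Polynomial (IntermediateField.adjoin k ({x'} : Set K))).natDegree ≤ 1
      rw [Polynomial.natDegree_C]
      exact Nat.zero_le _
    · show (Polynomial.C _ : Polynomial (IntermediateField.adjoin k ({x'} : Set K))).natDegree ≤ 1
      rw [Polynomial.natDegree_C]
      exact Nat.zero_le _
    · show (Polynomial.X : Polynomial (IntermediateField.adjoin k ({x'} : Set K))).natDegree ≤ 1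
      exact Polynomial.natDegree_X_le
  obtain ⟨h1, h2⟩ := Groth.Agent.Lib.Helper88.PT.aeval_top (k := k) _ hv F' d hF'.totalDegree_le
  refine ⟨h1, ?_⟩
  rw [h2, homogeneousComponent_eq_self hF']
  have : (fun i => ((![Polynomial.C 1, Polynomial.C (PG.gen (k := k) x'), Polynomial.X] :
      Fin 3 → Polynomial (IntermediateField.adjoin k ({x'} : Set K))) i).coeff 1) =
      algebraMap k (IntermediateField.adjoin k ({x'} : Set K)) ∘ (![0, 0, 1] : Fin 3 → k) := by
    funext i
    fin_cases i
    · simp [Polynomial.coeff_one]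
    · simp [Polynomial.coeff_C]
    · simp [Polynomial.coeff_X]
  rw [this, aeval_algebraMap_apply]

open Polynomial in
/-- If `y'` has degree `d` over `k(x')` and is a root of the degree-`≤ d` polynomial
`F'(1, x', Y)` whose derivative does not vanish at `y'`, then that polynomial is a nonzero
constant multiple of the minimal polynomial. -/
theorem Gpoly_eq_minpoly {F' : MvPolynomial (Fin 3) k} {d : ℕ} (hF' : F'.IsHomogeneous d)
    (x' y' : K) (hzero : aeval ![(1 : K), x', y'] F' = 0)
    (hder : aeval ![(1 : K), x', y'] (pderiv 2 F') ≠ 0)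
    (hint : IsIntegral (IntermediateField.adjoin k ({x'} : Set K)) y')
    (hdeg : (minpoly (IntermediateField.adjoin k ({x'} : Set K)) y').natDegree = d) :
    aeval (![0, 0, 1] : Fin 3 → k) F' ≠ 0 ∧
    Gpoly F' x' = Polynomial.C (algebraMap k _ (aeval (![0, 0, 1] : Fin 3 → k) F')) *
      minpoly (IntermediateField.adjoin k ({x'} : Set K)) y' ∧
    aeval ![(1 : K), x', y'] (pderiv 2 F') =
      algebraMap k K (aeval (![0, 0, 1] : Fin 3 → k) F') *
        Polynomial.aeval y' (derivative (minpoly (IntermediateField.adjoin k ({x'} : Set K)) y')) := by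
  obtain ⟨htop1, htop2⟩ := Gpoly_top hF' x'
  set K₀ := IntermediateField.adjoin k ({x'} : Set K) with hK₀
  set G := Gpoly F' x' with hG
  set m := minpoly K₀ y' with hm
  set c₀ := aeval (![0, 0, 1] : Fin 3 → k) F' with hc₀
  have hGy : Polynomial.aeval y' G = 0 := by rw [hG, aeval_Gpoly, hzero]
  have hdvd : m ∣ G := minpoly.dvd K₀ y' hGy
  have hG0 : G ≠ 0 := by
    intro h0
    apply hder
    rw [← aeval_Gpoly, ← derivative_Gpoly, ← hG, h0, derivative_zero, map_zero]
  obtain ⟨q, hq⟩ := hdvd
  have hmmonic : m.Monic := minpoly.monic hint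
  have hq0 : q ≠ 0 := by
    rintro rfl
    exact hG0 (by rw [hq, mul_zero])
  have hnat : G.natDegree = d + q.natDegree := by
    rw [hq, hmmonic.natDegree_mul' hq0, hdeg]
  have hqdeg : q.natDegree = 0 := by
    have := htop1
    omega
  obtain ⟨r, hr⟩ : ∃ r, q = Polynomial.C r := ⟨q.coeff 0, Polynomial.eq_C_of_natDegree_eq_zero hqdeg⟩
  have hcoeff : G.coeff d = r := by
    rw [hq, hr, Polynomial.coeff_mul_C, ← hdeg]
    show m.leadingCoeff * r = r
    rw [hmmonic.leadingCoeff, one_mul]
  have hr' : r = algebraMap k K₀ c₀ := by rw [← hcoeff, htop2]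
  have hGeq : G = Polynomial.C (algebraMap k K₀ c₀) * m := by
    rw [hq, hr, hr', mul_comm]
  have hc0 : c₀ ≠ 0 := by
    intro h0
    apply hG0
    rw [hGeq, h0, map_zero, map_zero, zero_mul]
  refine ⟨hc0, hGeq, ?_⟩
  rw [← aeval_Gpoly, ← derivative_Gpoly, ← hG, hGeq, derivative_C_mul, map_mul, Polynomial.aeval_C,
    ← IsScalarTower.algebraMap_apply]

end minpoly

end Groth.Agent.Lib.Helper88.PC
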