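/-
Auxiliary facts for plane models: separability from a nonzero differential, the local ring of a
rational function field at a finite place, differentials of uniformizers.
Author: helper88
-/
import Groth.Agent.Lib.Helper88.ResRows
import Groth.Agent.Lib.Helper88.FunFldSep
import Groth.Agent.Lib.Helper34.FunFldLocParam

set_option autoImplicit false
set_option linter.unusedSectionVars false
set_option linter.style.haveILetI false

namespace Groth.Agent.Lib.Helper88.PR

open FunFld WithZero LaurentSeries
open Groth.Agent.Lib.Helper88.FF Groth.Agent.Lib.Helper88.TG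

universe u v w
variable {k : Type u} {K : Type v} [Field k] [Field K] [Algebra k K]

open scoped KaehlerDifferential in
/-- If `dx ≠ 0` in a geometric function field then `K/k(x)` is separable. -/
theorem isSeparable_of_D_ne_zero (hK : IsFunctionField k K) (hg : IsGeometric k K) {x : K}
    (hx : KaehlerDifferential.D k K x ≠ 0) :
    Algebra.IsSeparable (IntermediateField.adjoin k ({x} : Set K)) K := by
  have htr : Transcendental k x := by
    intro halg
    obtain ⟨a, rfl⟩ := hK.2 x halg
    exact hx ((KaehlerDifferential.D k K).map_algebraMap a)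
  have hfin := finiteDimensional_adjoin_of_transcendental hK htr
  set K₀ := IntermediateField.adjoin k ({x} : Set K) with hK₀
  let E : Derivation k K (Ω[K⁄K₀]) :=
    { toFun := KaehlerDifferential.D K₀ K
      map_add' := fun a b => map_add _ a b
      map_smul' := fun c z => by
        simp only [RingHom.id_apply]
        have h1 : c • z = algebraMap K₀ K (algebraMap k K₀ c) * z := by
          rw [Algebra.smul_def, IsScalarTower.algebraMap_apply k K₀ K]
        rw [h1, (KaehlerDifferential.D K₀ K).leibniz, (KaehlerDifferential.D K₀ K).map_algebraMap,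
          smul_zero, add_zero]
        rw [← IsScalarTower.algebraMap_apply k K₀ K, algebraMap_smul]
      map_one_eq_zero' := (KaehlerDifferential.D K₀ K).map_one_eq_zero
      leibniz' := fun a b => (KaehlerDifferential.D K₀ K).leibniz a b }
  have hEx : E x = 0 := by
    show KaehlerDifferential.D K₀ K x = 0
    have : x = algebraMap K₀ K ⟨x, IntermediateField.mem_adjoin_simple_self k x⟩ := rfl
    rw [this, (KaehlerDifferential.D K₀ K).map_algebraMap]
  have hE0 : E = 0 := derivation_eq_zero_of_D_ne_zero hK hg hx E hEx
  have hsub : Subsingleton (Ω[K⁄K₀]) := by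
    have htop := KaehlerDifferential.span_range_derivation K₀ K
    have hzero : Set.range (KaehlerDifferential.D K₀ K) ⊆ {0} := by
      rintro _ ⟨z, rfl⟩
      have : E z = 0 := by rw [hE0]; rfl
      exact this
    have hbot : (⊤ : Submodule K (Ω[K⁄K₀])) = ⊥ := by
      rw [← htop, Submodule.span_eq_bot]
      intro z hz
      exact hzero hz
    constructor
    intro a b
    have ha : a ∈ (⊤ : Submodule K (Ω[K⁄K₀])) := trivial
    have hb : b ∈ (⊤ : Submodule K (Ω[K⁄K₀])) := trivial
    rw [hbot, Submodule.mem_bot] at ha hb
    rw [ha, hb]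
  have hU : Algebra.FormallyUnramified K₀ K := ⟨hsub⟩
  exact Algebra.FormallyUnramified.isSeparable K₀ K


open Polynomial Groth.Agent.Lib.Helper34.FunFldLocParam in
/-- Elements of `k(x)` integral at a place where `x ≡ a` are fractions of polynomials in `x` with
unit denominator. -/
theorem exists_fraction (P : Place k K) {x : K} {a : k} (hxa : P.1 (x - algebraMap k K a) < 1)
    {r : K} (hr : r ∈ IntermediateField.adjoin k ({x} : Set K)) (hPr : P.1 r ≤ 1) :
    ∃ p q : k[X], P.1 (aeval x q) = 1 ∧ r * aeval x q = aeval x p := by
  have hx1 : P.1 x ≤ 1 := by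
    have e : x = (x - algebraMap k K a) + algebraMap k K a := by ring
    rw [e]
    exact (Valuation.map_add _ _ _).trans (max_le hxa.le (P.2.1 a))
  have key : ∀ n : ℕ, ∀ p q : k[X], q.natDegree = n → aeval x q ≠ 0 →
      P.1 (aeval x p / aeval x q) ≤ 1 →
      ∃ p' q' : k[X], P.1 (aeval x q') = 1 ∧ (aeval x p / aeval x q) * aeval x q' = aeval x p' := by
    intro n
    induction n using Nat.strong_induction_on with
    | _ n ih =>
      intro p q hqn hq0 hle
      have hq : q ≠ 0 := by
        rintro rfl
        exact hq0 (map_zero _)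
      by_cases hp : p = 0
      · refine ⟨0, 1, by simp, ?_⟩
        rw [hp, map_zero, zero_div, zero_mul]
      by_cases h1 : P.1 (aeval x q) = 1
      · exact ⟨p, q, h1, div_mul_cancel₀ _ hq0⟩
      · have hlt : P.1 (aeval x q) < 1 := lt_of_le_of_ne (val_aeval_le_one P hx1 q) h1
        have hroot : ∀ s : k[X], s ≠ 0 → P.1 (aeval x s) < 1 → (X - C a) ∣ s := by
          intro s hs hlt'
          rw [val_aeval_eq P hxa hs] at hlt'
          have hm : s.rootMultiplicity a ≠ 0 := by
            intro h0
            rw [h0, pow_zero] at hlt'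
            exact lt_irrefl _ hlt'
          rw [Polynomial.dvd_iff_isRoot, ← Polynomial.rootMultiplicity_pos hs]
          exact Nat.pos_of_ne_zero hm
        have hplt : P.1 (aeval x p) < 1 := by
          have : P.1 (aeval x p) = P.1 (aeval x p / aeval x q) * P.1 (aeval x q) := by
            rw [← map_mul, div_mul_cancel₀ _ hq0]
          rw [this]
          calc P.1 (aeval x p / aeval x q) * P.1 (aeval x q) ≤ 1 * P.1 (aeval x q) :=
                mul_le_mul' hle le_rfl
            _ < 1 := by rwa [one_mul]
        obtain ⟨q₁, rfl⟩ := hroot q hq hlt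
        obtain ⟨p₁, rfl⟩ := hroot p hp hplt
        have hXa : (X - C a : k[X]) ≠ 0 := Polynomial.X_sub_C_ne_zero a
        have hq₁ : q₁ ≠ 0 := right_ne_zero_of_mul hq
        have hdeg : q₁.natDegree < n := by
          rw [← hqn, Polynomial.natDegree_mul hXa hq₁, Polynomial.natDegree_X_sub_C]
          omega
        have hxa0 : aeval x (X - C a : k[X]) ≠ 0 := by
          intro h0
          apply hq0
          rw [map_mul, h0, zero_mul]
        have hq₁0 : aeval x q₁ ≠ 0 := by
          intro h0
          apply hq0
          rw [map_mul, h0, mul_zero]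
        have heq : aeval x ((X - C a) * p₁) / aeval x ((X - C a) * q₁) =
            aeval x p₁ / aeval x q₁ := by
          rw [map_mul, map_mul, mul_div_mul_left _ _ hxa0]
        rw [heq] at hle ⊢
        exact ih q₁.natDegree hdeg p₁ q₁ rfl hq₁0 hle
  rw [IntermediateField.mem_adjoin_simple_iff] at hr
  obtain ⟨p, q, rfl⟩ := hr
  by_cases hq0 : aeval x q = 0
  · refine ⟨0, 1, by simp, ?_⟩
    rw [hq0, div_zero, zero_mul, map_zero]
  · exact key q.natDegree p q rfl hq0 hPr

/-- `k(x)` is generated over `k` by `x`, inside `k(x)`. -/
lemma adjoin_gen_eq_top (x : K) :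
    (IntermediateField.adjoin k
      ({(⟨x, IntermediateField.mem_adjoin_simple_self k x⟩ : IntermediateField.adjoin k ({x} : Set K))} :
        Set (IntermediateField.adjoin k ({x} : Set K))) :
        IntermediateField k (IntermediateField.adjoin k ({x} : Set K))) = ⊤ := by
  rw [eq_top_iff]
  intro z _
  have h1 : (IntermediateField.adjoin k
      ({(⟨x, IntermediateField.mem_adjoin_simple_self k x⟩ :
        IntermediateField.adjoin k ({x} : Set K))} :
        Set (IntermediateField.adjoin k ({x} : Set K)))).map
      (IntermediateField.val (IntermediateField.adjoin k ({x} : Set K))) =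
      IntermediateField.adjoin k ({x} : Set K) := by
    rw [IntermediateField.adjoin_map, Set.image_singleton]
    rfl
  have hz : (z : K) ∈ (IntermediateField.adjoin k
      ({(⟨x, IntermediateField.mem_adjoin_simple_self k x⟩ :
        IntermediateField.adjoin k ({x} : Set K))} :
        Set (IntermediateField.adjoin k ({x} : Set K)))).map
      (IntermediateField.val (IntermediateField.adjoin k ({x} : Set K))) := by
    rw [h1]
    exact z.2
  obtain ⟨w, hw, hwz⟩ := hz
  have : w = z := Subtype.ext hwz
  rw [← this]
  exact hw

section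

variable {F₀ : Type w} [Field F₀] [Algebra k F₀]

/-- The differential of a uniformizer has order `0`. -/
lemma ordDiff_uniformizer {w : Valuation K ℤᵐ⁰} {φ : K →ₐ[k] F₀⸨X⸩}
    (hφ : LocRes.IsExpansionAt w φ) {t : K} (ht : w t = exp (-1 : ℤ)) :
    LocRes.vDiff φ 1 t ≠ 0 ∧ LocRes.ordDiff φ 1 t = 0 := by
  have hv : Valued.v (φ t) = exp (-(1 : ℤ)) := by rw [hφ.1, ht]
  have hc := coeff_ne_zero_of_val_eq hv
  have hval : Valued.v (LocRes.D F₀ (φ t)) = exp (-(0 : ℤ)) := by
    apply val_eq_exp_neg_of_coeff
    · intro n hn
      rw [LocRes.D_coeff, LaurentSeries.coeff_zero_of_lt_valuation F₀ hv.le (by omega),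
        smul_zero]
    · rw [LocRes.D_coeff, zero_add, one_smul]
      exact hc
  constructor
  · unfold LocRes.vDiff
    rw [map_one, one_mul, hval]
    exact exp_ne_zero
  · unfold LocRes.ordDiff LocRes.vDiff
    rw [map_one, one_mul, hval, log_exp]
    simp

end

end Groth.Agent.Lib.Helper88.PR
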