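/-
The adjoint coefficient of a plane model at a place, in coordinates in general position:
it is nonnegative and vanishes iff the valuation ring is a localisation of `k[x', y']`.
Author: helper88
-/
import Groth.Agent.Lib.Helper88.DualDiff4
import Groth.Agent.Lib.Helper88.PlaneCore1
import Groth.Agent.Lib.Helper88.PlaneRat
import Groth.Agent.Lib.Helper88.PlaneDeg
import Groth.Agent.Lib.Helper88.SVExpansion
import Groth.Agent.Lib.Helper44.FunFldAdjoint

set_option autoImplicit false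
set_option linter.unusedSectionVars false
set_option linter.style.haveILetI false

namespace Groth.Agent.Lib.Helper88.PC

open FunFld WithZero MvPolynomial
open Groth.Agent.Lib.Helper88.FF Groth.Agent.Lib.Helper88.TG Groth.Agent.Lib.Helper88.TR
  Groth.Agent.Lib.Helper88.PG Groth.Agent.Lib.Helper88.PR
  Groth.Agent.Lib.Helper44.FFExt Groth.Agent.Lib.Helper34.FunFldIntFin
  Groth.Agent.Lib.Helper34.FunFldPlane Groth.Agent.Lib.Helper34.FunFldLocParam

universe u v
variable {k : Type u} {K : Type v} [Field k] [Field K] [Algebra k K]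

/-- Polynomials in `x'` with coefficients in `k` clear the denominators of `O_P[y']`. -/
lemma clear_denominators (K₀ : IntermediateField k K) (P : Place k K₀)
    [Algebra P.O K] [IsScalarTower P.O K₀ K] (x'' : K₀) (a : k)
    (hxa : P.1 (x'' - algebraMap k K₀ a) < 1)
    (hgen : ∀ r : K₀, r ∈ IntermediateField.adjoin k ({x''} : Set K₀)) (y' : K)
    (s : K) (hs : s ∈ Algebra.adjoin P.O ({y'} : Set K)) :
    ∃ q : Polynomial k, P.1 (Polynomial.aeval x'' q) = 1 ∧
      Polynomial.aeval (x'' : K) q * s ∈ Algebra.adjoin k ({(x'' : K), y'} : Set K) := by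
  have hmap : ∀ p : Polynomial k, algebraMap K₀ K (Polynomial.aeval x'' p) =
      Polynomial.aeval (x'' : K) p := by
    intro p
    exact (Polynomial.aeval_algHom_apply (IsScalarTower.toAlgHom k K₀ K) x'' p).symm
  have hxmem : ∀ p : Polynomial k,
      Polynomial.aeval (x'' : K) p ∈ Algebra.adjoin k ({(x'' : K), y'} : Set K) := by
    intro p
    have h1 := Polynomial.aeval_mem_adjoin_singleton k (x'' : K) (p := p)
    exact Algebra.adjoin_mono (by simp) h1
  induction hs using Algebra.adjoin_induction with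
  | mem z hz =>
    rw [Set.mem_singleton_iff] at hz
    refine ⟨1, by simp, ?_⟩
    rw [hz, map_one, one_mul]
    exact Algebra.subset_adjoin (by simp)
  | algebraMap r =>
    obtain ⟨p, q, hq1, hpq⟩ := exists_fraction P hxa (hgen (r : K₀)) r.2
    refine ⟨q, hq1, ?_⟩
    have : Polynomial.aeval (x'' : K) q * algebraMap P.O K r = Polynomial.aeval (x'' : K) p := by
      rw [IsScalarTower.algebraMap_apply P.O K₀ K, ← hmap, ← hmap, ← map_mul]
      congr 1
      rw [mul_comm]
      exact hpq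
    rw [this]
    exact hxmem p
  | add z w _ _ hz hw =>
    obtain ⟨q₁, h1, h1'⟩ := hz
    obtain ⟨q₂, h2, h2'⟩ := hw
    refine ⟨q₁ * q₂, by rw [map_mul, map_mul, h1, h2, one_mul], ?_⟩
    have : Polynomial.aeval (x'' : K) (q₁ * q₂) * (z + w) =
        Polynomial.aeval (x'' : K) q₂ * (Polynomial.aeval (x'' : K) q₁ * z) +
        Polynomial.aeval (x'' : K) q₁ * (Polynomial.aeval (x'' : K) q₂ * w) := by
      rw [map_mul]
      ring
    rw [this]
    exact Subalgebra.add_mem _ (Subalgebra.mul_mem _ (hxmem q₂) h1')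
      (Subalgebra.mul_mem _ (hxmem q₁) h2')
  | mul z w _ _ hz hw =>
    obtain ⟨q₁, h1, h1'⟩ := hz
    obtain ⟨q₂, h2, h2'⟩ := hw
    refine ⟨q₁ * q₂, by rw [map_mul, map_mul, h1, h2, one_mul], ?_⟩
    have : Polynomial.aeval (x'' : K) (q₁ * q₂) * (z * w) =
        (Polynomial.aeval (x'' : K) q₁ * z) * (Polynomial.aeval (x'' : K) q₂ * w) := by
      rw [map_mul]
      ring
    rw [this]
    exact Subalgebra.mul_mem _ h1' h2'


/-- Each original coordinate is a quotient of `k`-linear combinations of the new affine ones. -/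
lemma coord_mem_adjoin (A : Matrix (Fin 3) (Fin 3) k) (x y : K) (u : Fin 3 → K)
    (hu : ∀ i, ∑ j, algebraMap k K (A i j) * u j = ![(1 : K), x, y] i) (hu0 : u 0 ≠ 0)
    (i : Fin 3) :
    ![(1 : K), x, y] i ∈ IntermediateField.adjoin k ({u 1 / u 0, u 2 / u 0} : Set K) := by
  have hmem : ∀ j : Fin 3, u j / u 0 ∈
      IntermediateField.adjoin k ({u 1 / u 0, u 2 / u 0} : Set K) := by
    intro j
    fin_cases j
    · show u 0 / u 0 ∈ _
      rw [div_self hu0]
      exact one_mem _
    · exact IntermediateField.subset_adjoin _ _ (by simp)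
    · exact IntermediateField.subset_adjoin _ _ (by simp)
  have hlin : ∀ l : Fin 3, ∑ j, algebraMap k K (A l j) * (u j / u 0) ∈
      IntermediateField.adjoin k ({u 1 / u 0, u 2 / u 0} : Set K) := by
    intro l
    apply sum_mem
    intro j _
    exact mul_mem (IntermediateField.algebraMap_mem _ _) (hmem j)
  have h1 : ∀ l : Fin 3, ∑ j, algebraMap k K (A l j) * (u j / u 0) = ![(1 : K), x, y] l / u 0 := by
    intro l
    rw [← hu l, Finset.sum_div]
    apply Finset.sum_congr rfl
    intro j _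
    rw [mul_div_assoc]
  have h2 : ![(1 : K), x, y] i =
      (∑ j, algebraMap k K (A i j) * (u j / u 0)) / (∑ j, algebraMap k K (A 0 j) * (u j / u 0)) := by
    rw [h1, h1]
    show _ = _ / ((1 : K) / u 0)
    field_simp
  rw [h2]
  exact div_mem (hlin i) (hlin 0)

/-- **Core**: the adjoint coefficient in coordinates in general position. -/
theorem core [IsAlgClosed k] (hK : IsFunctionField k K) (x y : K)
    (hxy : IntermediateField.adjoin k ({x, y} : Set K) = ⊤)
    (F : MvPolynomial (Fin 3) k) (d : ℕ) (hF : F.IsHomogeneous d)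
    (hFxy : aeval ![(1 : K), x, y] F = 0)
    (hd : (mapDiv k ![(1 : K), x, y]).deg = d)
    (Q : Place k K) (ΦQ : K →ₐ[k] LaurentSeries k) (hΦQ : LocRes.IsExpansionAt Q.1 ΦQ)
    (hfy : aeval ![(1 : K), x, y] (pderiv 2 F) ≠ 0)
    (hne : LocRes.vDiff ΦQ (aeval ![(1 : K), x, y] (pderiv 2 F))⁻¹ x ≠ 0)
    (A : Matrix (Fin 3) (Fin 3) k) (hA : A.det ≠ 0) (u : Fin 3 → K)
    (hu : ∀ i, ∑ j, algebraMap k K (A i j) * u j = ![(1 : K), x, y] i) (hu0 : u 0 ≠ 0)
    (hQ0 : ∀ i, Q.1 (u i) ≤ Q.1 (u 0))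
    (hfy' : aeval ![(1 : K), u 1 / u 0, u 2 / u 0] (pderiv 2 (aeval (Lf A) F)) ≠ 0)
    (hpole : ∀ P : Place k K, P.1 (u 2 / u 0) ≤ max 1 (P.1 (u 1 / u 0))) :
    0 ≤ ((d : ℤ) - 3) * mapDiv k ![(1 : K), x, y] Q -
        LocRes.ordDiff ΦQ (aeval ![(1 : K), x, y] (pderiv 2 F))⁻¹ x ∧
    (((d : ℤ) - 3) * mapDiv k ![(1 : K), x, y] Q -
        LocRes.ordDiff ΦQ (aeval ![(1 : K), x, y] (pderiv 2 F))⁻¹ x = 0 ↔
      ∀ z : K, Q.1 z ≤ 1 → ∃ a ∈ Algebra.adjoin k ({u 1 / u 0, u 2 / u 0} : Set K),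
        ∃ b ∈ Algebra.adjoin k ({u 1 / u 0, u 2 / u 0} : Set K), Q.1 b = 1 ∧ z * b = a) := by
  classical
  have hg : IsGeometric k K := isGeometric_of_isAlgClosed
  set x' : K := u 1 / u 0 with hx'
  set y' : K := u 2 / u 0 with hy'
  set g₂ : K := aeval ![(1 : K), x, y] (pderiv 2 F) with hg₂
  set g' : K := aeval ![(1 : K), x', y'] (pderiv 2 (aeval (Lf A) F)) with hg'
  have hid := Groth.Agent.Lib.Helper83.PlaneCoord.main k K F d hF x y hFxy A u hu hu0 hfy hfy'
  rw [← hg₂, ← hx', ← hy'] at hid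
  change _ = (_ * _ * g'⁻¹) • _ at hid
  -- nonvanishing differentials
  have hdx : KaehlerDifferential.D k K x ≠ 0 := by
    apply kaehler_D_ne_zero_of_vDiff_ne_zero ΦQ
    intro h0
    apply hne
    unfold LocRes.vDiff at h0 ⊢
    rw [map_one, one_mul, map_eq_zero] at h0
    rw [h0, mul_zero, map_zero]
  have hg₂0 : g₂⁻¹ ≠ 0 := inv_ne_zero hfy
  have hdx' : KaehlerDifferential.D k K x' ≠ 0 := by
    intro h0
    rw [h0, smul_zero] at hid
    exact hdx ((smul_eq_zero.1 hid).resolve_left hg₂0)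
  have htr : Transcendental k x' := by
    intro halg
    obtain ⟨a, ha⟩ := hK.2 x' halg
    apply hdx'
    rw [← ha]
    exact (KaehlerDifferential.D k K).map_algebraMap a
  set K₀ := IntermediateField.adjoin k ({x'} : Set K) with hK₀def
  haveI hsep : Algebra.IsSeparable K₀ K := isSeparable_of_D_ne_zero hK hg hdx'
  haveI hfin : FiniteDimensional K₀ K := finiteDimensional_adjoin_of_transcendental hK htr
  have hK₀ : IsFunctionField k K₀ := isFunctionField_adjoin_simple hK htr
  have hg₀ : IsGeometric k K₀ := isGeometric_of_isAlgClosed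
  -- the divisor of the map
  have hM := mapDiv_change hK hA hu hu0
  rw [← hx', ← hy'] at hM
  have hdeg' : (mapDiv k ![(1 : K), x', y']).deg = d := by
    rw [← hd, hM, deg_sub, deg_div hK, sub_zero]
  have hz : ∀ P : Place k K,
      (0 < mapDiv k ![(1 : K), x', y'] P → P.1 x' = exp (mapDiv k ![(1 : K), x', y'] P)) ∧
      (mapDiv k ![(1 : K), x', y'] P = 0 → P.1 x' ≤ 1) := by
    intro P
    have h1 := exp_mapDiv_one hK x' y' P
    have h2 : max 1 (max (P.1 x') (P.1 y')) = max 1 (P.1 x') := by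
      apply le_antisymm
      · exact max_le (le_max_left _ _) (max_le (le_max_right _ _) (hpole P))
      · exact max_le (le_max_left _ _) ((le_max_left _ _).trans (le_max_right _ _))
    rw [h2] at h1
    constructor
    · intro hpos
      have h3 : (1 : ℤᵐ⁰) < exp (mapDiv k ![(1 : K), x', y'] P) := by
        rw [← exp_zero, exp_lt_exp]
        exact hpos
      rw [h1] at h3 ⊢
      rcases le_total (P.1 x') 1 with h | h
      · rw [max_eq_left h] at h3
        exact absurd h3 (lt_irrefl _)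
      · rw [max_eq_right h]
    · intro h0
      rw [h0, exp_zero] at h1
      have := le_max_right 1 (P.1 x')
      rwa [← h1] at this
  have hpoleDiv := poleDiv_eq_mapDiv hK x' y' x' hz
  have hfinrank : (Module.finrank K₀ K : ℤ) = d := by
    rw [← deg_poleDiv_eq hK htr, hpoleDiv, hdeg']
  -- `K = k(x')(y')`
  have htop : IntermediateField.adjoin K₀ ({y'} : Set K) = ⊤ := by
    apply adjoin_adjoin_eq_top (k := k) (x₁ := x') (y₁ := y') {x, y} hxy
    intro s hs
    rcases hs with rfl | rfl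
    · exact coord_mem_adjoin A s y u hu hu0 1
    · exact coord_mem_adjoin A x s u hu hu0 2
  have hint : IsIntegral K₀ y' := Algebra.IsIntegral.isIntegral y'
  have hmindeg : (minpoly K₀ y').natDegree = d := by
    have := finrank_eq_natDegree_minpoly htop hint
    rw [this] at hfinrank
    exact_mod_cast hfinrank
  have hzero' : aeval ![(1 : K), x', y'] (aeval (Lf A) F) = 0 := by
    rw [aeval_change A x y u hu hu0 hF, hFxy, mul_zero]
  obtain ⟨hc0, -, hgamma⟩ :=
    Gpoly_eq_minpoly (aeval_Lf_isHomogeneous A hF) x' y' hzero' hfy' hint hmindeg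
  rw [← hg'] at hgamma
  set c₀ : k := aeval (![0, 0, 1] : Fin 3 → k) (aeval (Lf A) F) with hc₀
  set γ : K := Polynomial.aeval y' (Polynomial.derivative (minpoly K₀ y')) with hγ
  -- the place below
  obtain ⟨P, e, he⟩ := exists_isOver_below (K := K₀) Q
  set x'' : K₀ := ⟨x', IntermediateField.mem_adjoin_simple_self k x'⟩ with hx''
  have hxx : algebraMap K₀ K x'' = x' := rfl
  have hQx' : Q.1 x' ≤ 1 := by
    rw [hx', map_div₀]
    exact (div_le_one₀ (zero_lt_iff.2 ((Valuation.ne_zero_iff _).2 hu0))).2 (hQ0 1)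
  have hQy' : Q.1 y' ≤ 1 := by
    rw [hy', map_div₀]
    exact (div_le_one₀ (zero_lt_iff.2 ((Valuation.ne_zero_iff _).2 hu0))).2 (hQ0 2)
  have hPx'' : P.1 x'' ≤ 1 := (isOverWith_val_le_one_iff he x'').1 hQx'
  obtain ⟨a, ha⟩ := Groth.Agent.Lib.Helper68.FunFldRes.exists_const hK₀ P hPx''
  set t : K₀ := x'' - algebraMap k K₀ a with ht
  have htK : algebraMap K₀ K t = x' - algebraMap k K a := rfl
  have hdt : KaehlerDifferential.D k K (algebraMap K₀ K t) ≠ 0 := by
    rw [htK, map_sub, (KaehlerDifferential.D k K).map_algebraMap, sub_zero]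
    exact hdx'
  have ht0 : t ≠ 0 := by
    intro h0
    apply hdt
    rw [h0, map_zero, map_zero]
  have hgen : ∀ r : K₀, r ∈ IntermediateField.adjoin k ({x''} : Set K₀) := by
    intro r
    have := adjoin_gen_eq_top (k := k) x'
    rw [this]
    exact IntermediateField.mem_top
  obtain ⟨z₀, hz₀⟩ := P.2.2 (exp (-1 : ℤ))
  have htv : P.1 t = exp (-1 : ℤ) := val_sub_eq_of_mem_adjoin P ha ht0 (hgen z₀) hz₀
  obtain ⟨φP, hφP⟩ := Groth.Agent.Lib.Helper88.SV.exists_expansion hK₀ P
  obtain ⟨hvt, hot⟩ := ordDiff_uniformizer hφP htv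
  have hvt' : LocRes.vDiff ΦQ 1 (algebraMap K₀ K t) ≠ 0 :=
    vDiff_ne_zero hK hg hΦQ one_ne_zero hdt
  letI : Algebra P.O K := ((algebraMap K₀ K).comp P.O.subtype).toAlgebra
  haveI : IsScalarTower P.O K₀ K := IsScalarTower.of_algebraMap_eq (fun _ => rfl)
  -- integrality of `y'`
  have hyi : IsIntegral P.O y' := by
    obtain ⟨b, -, hint', -, -⟩ := integral_structure (K' := K) hK₀ P
    rw [hint', mem_Bp hK₀ P]
    rintro Q' ⟨e', he'⟩
    have h1 : Q'.1 x' ≤ 1 := (isOverWith_val_le_one_iff he' x'').2 hPx''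
    exact (hpole Q').trans (max_le le_rfl h1)
  have hDD := dedekind_different hK₀ hg₀ P Q e he hφP hΦQ t hvt hvt' y' htop hyi
  have hconv := dedekind_different_conv hK₀ hg₀ P Q e he hφP hΦQ t hvt hvt' y' htop hyi
  rw [← hγ] at hDD hconv
  -- the different exponent
  have hvx' : LocRes.vDiff ΦQ 1 x' ≠ 0 := vDiff_ne_zero hK hg hΦQ one_ne_zero hdx'
  have hdiffExp : LocRes.diffExp φP ΦQ e t = LocRes.ordDiff ΦQ 1 x' := by
    unfold LocRes.diffExp
    rw [hot, mul_zero, sub_zero]
    unfold LocRes.ordDiff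
    rw [vDiff_eq_of_smul_D_eq ΦQ (g := 1) (x := algebraMap K₀ K t) (g' := 1) (x' := x')]
    rw [htK, map_sub, (KaehlerDifferential.D k K).map_algebraMap, sub_zero]
  rw [hdiffExp] at hDD hconv
  -- the adjoint coefficient
  set cA : K := algebraMap k K A.det with hcA
  set w : K := (u 0)⁻¹ ^ ((d : ℤ) - 3) with hw
  have hcA0 : cA ≠ 0 := (_root_.map_ne_zero (algebraMap k K)).2 hA
  have hw0 : w ≠ 0 := zpow_ne_zero _ (inv_ne_zero hu0)
  have hg'0 : g' ≠ 0 := hfy'
  have h1 : LocRes.ordDiff ΦQ g₂⁻¹ x = LocRes.ordDiff ΦQ (cA * w * g'⁻¹) x' := by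
    unfold LocRes.ordDiff
    rw [vDiff_eq_of_smul_D_eq ΦQ hid]
  have h2 : LocRes.ordDiff ΦQ (cA * w * g'⁻¹) x' =
      Q.ord (cA * w * g'⁻¹) + LocRes.ordDiff ΦQ 1 x' := by
    have := ordDiff_mul_left hΦQ (a := cA * w * g'⁻¹) (u := 1) (v := x')
      (mul_ne_zero (mul_ne_zero hcA0 hw0) (inv_ne_zero hg'0)) hvx'
    rwa [mul_one] at this
  have h3 : Q.ord (cA * w * g'⁻¹) = -(((d : ℤ) - 3) * Q.ord (u 0)) - Q.ord g' := by
    rw [ord_mul Q (mul_ne_zero hcA0 hw0) (inv_ne_zero hg'0), ord_mul Q hcA0 hw0, hcA,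
      ord_algebraMap, zero_add, hw, ord_zpow, ord_inv, ord_inv]
    ring
  have hγ0 : γ ≠ 0 := by
    intro h0
    apply hg'0
    rw [hgamma, h0, mul_zero]
  have h4 : Q.ord g' = Q.ord γ := by
    rw [hgamma, ord_mul Q ((_root_.map_ne_zero (algebraMap k K)).2 hc0) hγ0, ord_algebraMap,
      zero_add]
  have h5 : mapDiv k ![(1 : K), x, y] Q = -Q.ord (u 0) := by
    rw [hM, Finsupp.sub_apply, div_apply hK]
    have h6 := exp_mapDiv_one hK x' y' Q
    have h7 : max 1 (max (Q.1 x') (Q.1 y')) = 1 := max_eq_left (max_le hQx' hQy')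
    rw [h7, ← exp_zero] at h6
    rw [exp_injective h6]
    ring
  have hΔ : ((d : ℤ) - 3) * mapDiv k ![(1 : K), x, y] Q - LocRes.ordDiff ΦQ g₂⁻¹ x =
      Q.ord γ - LocRes.ordDiff ΦQ 1 x' := by
    rw [h1, h2, h3, h4, h5]
    ring
  rw [hΔ]
  refine ⟨by linarith [hDD.1], ?_⟩
  -- `k[x', y'] ⊆ O_P[y']`
  have hsub : ∀ s ∈ Algebra.adjoin k ({x', y'} : Set K), s ∈ Algebra.adjoin P.O ({y'} : Set K) := by
    intro s hs
    induction hs using Algebra.adjoin_induction with
    | mem z hz =>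
      rcases hz with rfl | rfl
      · have : x' = algebraMap P.O K ⟨x'', hPx''⟩ := rfl
        rw [this]
        exact Subalgebra.algebraMap_mem _ _
      · exact Algebra.subset_adjoin rfl
    | algebraMap c =>
      have : algebraMap k K c = algebraMap P.O K (algebraMap k P.O c) := rfl
      rw [this]
      exact Subalgebra.algebraMap_mem _ _
    | add z w _ _ hz hw => exact Subalgebra.add_mem _ hz hw
    | mul z w _ _ hz hw => exact Subalgebra.mul_mem _ hz hw
  have hQaeval : ∀ q : Polynomial k, P.1 (Polynomial.aeval x'' q) = 1 →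
      Q.1 (Polynomial.aeval x' q) = 1 := by
    intro q hq
    have h8 : Polynomial.aeval x' q = algebraMap K₀ K (Polynomial.aeval x'' q) :=
      Polynomial.aeval_algHom_apply (IsScalarTower.toAlgHom k K₀ K) x'' q
    rw [h8, he, hq, one_pow]
  constructor
  · intro heq z hzQ
    have heq' : Q.ord γ = LocRes.ordDiff ΦQ 1 x' := by linarith
    obtain ⟨a', ha', b', hb', hQb', hzb'⟩ := hDD.2 heq' z hzQ
    obtain ⟨qa, hqa1, hqa⟩ := clear_denominators K₀ P x'' a ha hgen y' a' ha'
    obtain ⟨qb, hqb1, hqb⟩ := clear_denominators K₀ P x'' a ha hgen y' b' hb'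
    have hxmem : ∀ p : Polynomial k,
        Polynomial.aeval x' p ∈ Algebra.adjoin k ({x', y'} : Set K) := by
      intro p
      have h9 := Polynomial.aeval_mem_adjoin_singleton k x' (p := p)
      exact Algebra.adjoin_mono (by simp) h9
    refine ⟨Polynomial.aeval x' qb * (Polynomial.aeval x' qa * a'),
      Subalgebra.mul_mem _ (hxmem qb) hqa,
      Polynomial.aeval x' qa * (Polynomial.aeval x' qb * b'),
      Subalgebra.mul_mem _ (hxmem qa) hqb, ?_, ?_⟩
    · rw [map_mul, map_mul, hQaeval qa hqa1, hQaeval qb hqb1, hQb', one_mul, one_mul]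
    · rw [← hzb']
      ring
  · intro hloc
    have := hconv (fun z hzQ => by
      obtain ⟨a', ha', b', hb', hQb', hzb'⟩ := hloc z hzQ
      exact ⟨a', hsub a' ha', b', hsub b' hb', hQb', hzb'⟩)
    linarith

end Groth.Agent.Lib.Helper88.PC
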