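/-
The local ring of a projective map at a place: independence of the chosen least-order entry and
invariance under linear changes of the tuple.
Author: helper88
-/
import Groth.Prelude.Def_W4bk4goldsch45
import Mathlib

set_option autoImplicit false
set_option linter.unusedSectionVars false

namespace Groth.Agent.Lib.Helper88.PL

open FunFld WithZero

variable {k K : Type*} [Field k] [Field K] [Algebra k K]

/-- Transfer of local-ring membership: if all `φ i / ψ j'` are polynomials in the ratios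
`ψ i' / ψ j'`, where `ψ j'` has least order among the `ψ`'s and the same order as the least-order
entries of `φ`, then the local ring of `φ` at `P` is contained in that of `ψ` (presented through
the index `j'`). -/
theorem transfer {ι ι' : Type*} (P : Place k K) (φ : ι → K) (ψ : ι' → K) (j' : ι')
    (hj' : ψ j' ≠ 0)
    (hφ : ∀ i, φ i / ψ j' ∈ Algebra.adjoin k (Set.range fun i' => ψ i' / ψ j'))
    (hle : ∀ i, P.1 (φ i) ≤ P.1 (ψ j')) (hex : ∃ i, P.1 (φ i) = P.1 (ψ j'))
    {z : K} (hz : InLocRing φ P z) :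
    ∃ u ∈ Algebra.adjoin k (Set.range fun i' => ψ i' / ψ j'),
      ∃ w ∈ Algebra.adjoin k (Set.range fun i' => ψ i' / ψ j'), P.1 w = 1 ∧ z * w = u := by
  obtain ⟨j, hj0, hjmax, u, hu, w, hw, hPw, hzw⟩ := hz
  set B := Algebra.adjoin k (Set.range fun i' => ψ i' / ψ j') with hB
  set t : K := φ j / ψ j' with ht
  have htB : t ∈ B := hφ j
  have hPj : P.1 (φ j) = P.1 (ψ j') := by
    obtain ⟨i, hi⟩ := hex
    exact le_antisymm (hle j) (hi ▸ hjmax i)
  have hv0 : P.1 (ψ j') ≠ 0 := (Valuation.ne_zero_iff _).2 hj'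
  have hPt : P.1 t = 1 := by
    rw [ht, map_div₀, hPj, div_self hv0]
  have key : ∀ a ∈ Algebra.adjoin k (Set.range fun i => φ i / φ j), ∃ N : ℕ, t ^ N * a ∈ B := by
    intro a ha
    induction ha using Algebra.adjoin_induction with
    | mem x hx =>
      obtain ⟨i, rfl⟩ := hx
      refine ⟨1, ?_⟩
      have : t ^ 1 * (φ i / φ j) = φ i / ψ j' := by
        rw [ht, pow_one]
        field_simp
      rw [this]
      exact hφ i
    | algebraMap c =>
      exact ⟨0, by rw [pow_zero, one_mul]; exact Subalgebra.algebraMap_mem _ c⟩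
    | add x y _ _ hx hy =>
      obtain ⟨N, hN⟩ := hx
      obtain ⟨M, hM⟩ := hy
      refine ⟨N + M, ?_⟩
      have : t ^ (N + M) * (x + y) = t ^ M * (t ^ N * x) + t ^ N * (t ^ M * y) := by ring
      rw [this]
      exact Subalgebra.add_mem _ (Subalgebra.mul_mem _ (Subalgebra.pow_mem _ htB M) hN)
        (Subalgebra.mul_mem _ (Subalgebra.pow_mem _ htB N) hM)
    | mul x y _ _ hx hy =>
      obtain ⟨N, hN⟩ := hx
      obtain ⟨M, hM⟩ := hy
      refine ⟨N + M, ?_⟩
      have : t ^ (N + M) * (x * y) = (t ^ N * x) * (t ^ M * y) := by ring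
      rw [this]
      exact Subalgebra.mul_mem _ hN hM
  obtain ⟨N, hN⟩ := key u hu
  obtain ⟨M, hM⟩ := key w hw
  refine ⟨t ^ M * (t ^ N * u), Subalgebra.mul_mem _ (Subalgebra.pow_mem _ htB M) hN,
    t ^ N * (t ^ M * w), Subalgebra.mul_mem _ (Subalgebra.pow_mem _ htB N) hM, ?_, ?_⟩
  · rw [map_mul, map_mul, map_pow, map_pow, hPt, hPw, one_pow, one_pow, one_mul, one_mul]
  · rw [← hzw]
    ring

/-- Packaging: a presentation through a valid index gives membership of the local ring. -/
theorem inLocRing_of_presentation {ι' : Type*} (P : Place k K) (ψ : ι' → K) (j' : ι')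
    (hj' : ψ j' ≠ 0) (hmax : ∀ i', P.1 (ψ i') ≤ P.1 (ψ j')) {z : K}
    (h : ∃ u ∈ Algebra.adjoin k (Set.range fun i' => ψ i' / ψ j'),
      ∃ w ∈ Algebra.adjoin k (Set.range fun i' => ψ i' / ψ j'), P.1 w = 1 ∧ z * w = u) :
    InLocRing ψ P z :=
  ⟨j', hj', hmax, h⟩

/-- Valuation of a `k`-linear combination over a finite index type. -/
lemma val_sum_le {ι : Type*} [Fintype ι] (P : Place k K) (a : ι → k) (u : ι → K)
    (M : WithZero (Multiplicative ℤ)) (hM : ∀ j, P.1 (u j) ≤ M) :
    P.1 (∑ j, algebraMap k K (a j) * u j) ≤ M := by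
  apply Valuation.map_sum_le
  intro j _
  rw [map_mul]
  calc P.1 (algebraMap k K (a j)) * P.1 (u j) ≤ 1 * M := mul_le_mul' (P.2.1 (a j)) (hM j)
    _ = M := one_mul M

/-- A `k`-linear combination of the `ψ`'s divided by `ψ j'` is a polynomial in the ratios. -/
lemma sum_div_mem {ι' : Type*} [Fintype ι'] (ψ : ι' → K) (j' : ι') (a : ι' → k) :
    (∑ l, algebraMap k K (a l) * ψ l) / ψ j' ∈
      Algebra.adjoin k (Set.range fun i' => ψ i' / ψ j') := by
  rw [Finset.sum_div]
  apply Subalgebra.sum_mem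
  intro l _
  rw [mul_div_assoc]
  exact Subalgebra.mul_mem _ (Subalgebra.algebraMap_mem _ _) (Algebra.subset_adjoin ⟨l, rfl⟩)

end Groth.Agent.Lib.Helper88.PL
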