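/-
The adjoint coefficient of a plane model at a place: assembly from coordinates in general position.
Author: helper88
-/
import Groth.Agent.Lib.Helper88.PlaneCore2
import Groth.Agent.Lib.Helper88.PlaneLoc

set_option autoImplicit false
set_option linter.unusedSectionVars false
set_option linter.style.haveILetI false

namespace Groth.Agent.Lib.Helper88.PC

open FunFld WithZero MvPolynomial
open Groth.Agent.Lib.Helper88.FF Groth.Agent.Lib.Helper88.TG
  Groth.Agent.Lib.Helper88.PG Groth.Agent.Lib.Helper88.PH Groth.Agent.Lib.Helper88.PL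
  Groth.Agent.Lib.Helper44.FFExt

universe u v
variable {k : Type u} {K : Type v} [Field k] [Field K] [Algebra k K]

/-- Nonsingularity of `(1 : x : y)` at `Q` read in new projective coordinates `u` whose first
entry has least order at `Q`. -/
theorem isNonsingularAt_iff (x y : K) (Q : Place k K)
    (A : Matrix (Fin 3) (Fin 3) k) (hA : A.det ≠ 0) (u : Fin 3 → K)
    (hu : ∀ i, ∑ j, algebraMap k K (A i j) * u j = ![(1 : K), x, y] i) (hu0 : u 0 ≠ 0)
    (hQ0 : ∀ i, Q.1 (u i) ≤ Q.1 (u 0)) :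
    IsNonsingularAt ![(1 : K), x, y] Q ↔
      ∀ z : K, Q.1 z ≤ 1 → ∃ a ∈ Algebra.adjoin k ({u 1 / u 0, u 2 / u 0} : Set K),
        ∃ b ∈ Algebra.adjoin k ({u 1 / u 0, u 2 / u 0} : Set K), Q.1 b = 1 ∧ z * b = a := by
  classical
  set φ : Fin 3 → K := ![(1 : K), x, y] with hφ
  have hinv : ∀ j, ∑ i, algebraMap k K (A⁻¹ j i) * φ i = u j := fun j => inv_relation hA hu j
  -- a least-order index of `φ`
  obtain ⟨j₀, -, hj₀⟩ := Finset.exists_max_image Finset.univ (fun i => Q.1 (φ i))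
    Finset.univ_nonempty
  have hj₀' : ∀ i, Q.1 (φ i) ≤ Q.1 (φ j₀) := fun i => hj₀ i (Finset.mem_univ i)
  have hφj₀ : φ j₀ ≠ 0 := by
    intro h0
    have := hj₀' 0
    rw [h0, map_zero] at this
    have h1 : Q.1 (φ 0) = 1 := by
      show Q.1 (1 : K) = 1
      exact map_one _
    rw [h1] at this
    exact absurd this (not_le.2 zero_lt_one)
  have hle : ∀ i, Q.1 (φ i) ≤ Q.1 (u 0) := by
    intro i
    rw [← hu i]
    exact PL.val_sum_le Q (A i) u _ hQ0
  have hle' : Q.1 (u 0) ≤ Q.1 (φ j₀) := by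
    rw [← hinv 0]
    exact PL.val_sum_le Q (A⁻¹ 0) φ _ hj₀'
  have heq : Q.1 (φ j₀) = Q.1 (u 0) := le_antisymm (hle j₀) hle'
  have hadj : Algebra.adjoin k (Set.range fun i => u i / u 0) =
      Algebra.adjoin k ({u 1 / u 0, u 2 / u 0} : Set K) := by
    apply le_antisymm
    · apply Algebra.adjoin_le
      rintro _ ⟨i, rfl⟩
      fin_cases i
      · show u 0 / u 0 ∈ _
        rw [div_self hu0]
        exact Subalgebra.one_mem _
      · exact Algebra.subset_adjoin (by simp)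
      · exact Algebra.subset_adjoin (by simp)
    · apply Algebra.adjoin_le
      intro s hs
      rcases hs with rfl | rfl
      · exact Algebra.subset_adjoin ⟨1, rfl⟩
      · exact Algebra.subset_adjoin ⟨2, rfl⟩
  constructor
  · intro hns z hz
    have h1 := PL.transfer Q φ u 0 hu0 (fun i => by
      rw [← hu i]
      exact PL.sum_div_mem u 0 (A i)) hle ⟨j₀, heq⟩ (hns z hz)
    rw [hadj] at h1
    exact h1
  · intro hloc z hz
    have h1 : InLocRing u Q z := by
      apply PL.inLocRing_of_presentation Q u 0 hu0 hQ0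
      rw [hadj]
      exact hloc z hz
    have h2 := PL.transfer Q u φ j₀ hφj₀ (fun i => by
      rw [← hinv i]
      exact PL.sum_div_mem φ j₀ (A⁻¹ i)) (fun i => (hQ0 i).trans hle') ⟨0, heq.symm⟩ h1
    exact PL.inLocRing_of_presentation Q φ j₀ hφj₀ hj₀' h2

/-- **Assembly**: the statement of S12613 from coordinates in general position at `Q`. -/
theorem assemble [IsAlgClosed k] (hK : IsFunctionField k K) (x y : K)
    (hxy : IntermediateField.adjoin k ({x, y} : Set K) = ⊤)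
    (f : MvPolynomial (Fin 2) k) (hf : Irreducible f) (hfxy : aeval ![x, y] f = 0)
    (Q : Place k K) (ΦQ : K →ₐ[k] LaurentSeries k) (hΦQ : LocRes.IsExpansionAt Q.1 ΦQ)
    (hne : LocRes.vDiff ΦQ (aeval ![x, y] (pderiv 1 f))⁻¹ x ≠ 0)
    (A : Matrix (Fin 3) (Fin 3) k) (hA : A.det ≠ 0) (u : Fin 3 → K)
    (hu : ∀ i, ∑ j, algebraMap k K (A i j) * u j = ![(1 : K), x, y] i) (hu0 : u 0 ≠ 0)
    (hQ0 : ∀ i, Q.1 (u i) ≤ Q.1 (u 0))
    (hG : ∑ i, algebraMap k K (A i 2) * aeval ![(1 : K), x, y] (pderiv i (homog f)) ≠ 0)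
    (hpole : ∀ P : Place k K, P.1 (u 2 / u 0) ≤ max 1 (P.1 (u 1 / u 0))) :
    0 ≤ ((mapDiv k ![(1 : K), x, y]).deg - 3) * mapDiv k ![(1 : K), x, y] Q -
        LocRes.ordDiff ΦQ (aeval ![x, y] (pderiv 1 f))⁻¹ x ∧
    (((mapDiv k ![(1 : K), x, y]).deg - 3) * mapDiv k ![(1 : K), x, y] Q -
        LocRes.ordDiff ΦQ (aeval ![x, y] (pderiv 1 f))⁻¹ x = 0 ↔
      IsNonsingularAt ![(1 : K), x, y] Q) := by
  have hF := homog_isHomogeneous f
  have hd := deg_mapDiv_eq_totalDegree hK x y hxy f hf hfxy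
  have hFxy : aeval ![(1 : K), x, y] (homog f) = 0 := by rw [aeval_homog, hfxy]
  have hfy_eq : aeval ![(1 : K), x, y] (pderiv 2 (homog f)) = aeval ![x, y] (pderiv 1 f) :=
    aeval_pderiv_homog f x y
  have hfy : aeval ![x, y] (pderiv 1 f) ≠ 0 := by
    intro h0
    apply hne
    unfold LocRes.vDiff
    rw [h0, inv_zero, map_zero, zero_mul, map_zero]
  have hfy' : aeval ![(1 : K), u 1 / u 0, u 2 / u 0] (pderiv 2 (aeval (Lf A) (homog f))) ≠ 0 := by
    rw [pderiv_change A x y u hu hu0 hF]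
    exact mul_ne_zero (pow_ne_zero _ (inv_ne_zero hu0)) hG
  have hcore := core hK x y hxy (homog f) f.totalDegree hF hFxy hd Q ΦQ hΦQ
    (by rw [hfy_eq]; exact hfy) (by rw [hfy_eq]; exact hne) A hA u hu hu0 hQ0 hfy' hpole
  rw [hfy_eq, ← hd] at hcore
  rw [isNonsingularAt_iff x y Q A hA u hu hu0 hQ0]
  exact hcore

end Groth.Agent.Lib.Helper88.PC
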