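/-
The adjoint coefficient of a plane model at a place (S12613): choice of coordinates in general
position in the three affine charts.
Author: helper88
-/
import Groth.Agent.Lib.Helper88.PlaneAdj

set_option autoImplicit false
set_option linter.unusedSectionVars false
set_option linter.style.haveILetI false

namespace Groth.Agent.Lib.Helper88.PC

open FunFld WithZero MvPolynomial
open Groth.Agent.Lib.Helper88.FF Groth.Agent.Lib.Helper88.TG
  Groth.Agent.Lib.Helper88.PG Groth.Agent.Lib.Helper88.PH Groth.Agent.Lib.Helper88.PL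
  Groth.Agent.Lib.Helper44.FFExt Groth.Agent.Lib.Helper34.FunFldPlane
  Groth.Agent.Lib.Helper34.FunFldCond

universe u v
variable {k : Type u} {K : Type v} [Field k] [Field K] [Algebra k K]

/-- A nonzero affine-linear function of `c` vanishes for at most one `c`. -/
lemma exists_finset_avoid (ga gb : K) (h : ga ≠ 0 ∨ gb ≠ 0) :
    ∃ T : Finset k, ∀ c ∉ T, ga - algebraMap k K c * gb ≠ 0 := by
  classical
  by_cases hex : ∃ c₀ : k, ga - algebraMap k K c₀ * gb = 0
  · obtain ⟨c₀, hc₀⟩ := hex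
    refine ⟨{c₀}, fun c hc h0 => ?_⟩
    rw [Finset.mem_singleton] at hc
    have h1 : algebraMap k K (c - c₀) * gb = 0 := by
      rw [map_sub]
      linear_combination hc₀ - h0
    have h2 : algebraMap k K (c - c₀) ≠ 0 :=
      (_root_.map_ne_zero (algebraMap k K)).2 (sub_ne_zero.2 hc)
    have hgb : gb = 0 := (mul_eq_zero.1 h1).resolve_left h2
    rw [hgb, mul_zero, sub_zero] at hc₀
    rcases h with h | h
    · exact h hc₀
    · exact h hgb
  · exact ⟨∅, fun c _ h0 => hex ⟨c, h0⟩⟩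

/-- Poles of the second coordinate are bounded by those of a generic first coordinate. -/
lemma hpole_of_generic (hK : IsFunctionField k K) (X' Y' : K) (c : k)
    (hc : ∀ P : Place k K,
      (0 < mapDiv k ![(1 : K), X', Y'] P →
        P.1 (X' + c • Y') = exp (mapDiv k ![(1 : K), X', Y'] P)) ∧
      (mapDiv k ![(1 : K), X', Y'] P = 0 → P.1 (X' + c • Y') ≤ 1)) (P : Place k K) :
    P.1 Y' ≤ max 1 (P.1 (X' + c • Y')) := by
  have h1 : P.1 Y' ≤ exp (mapDiv k ![(1 : K), X', Y'] P) := y_mem_L hK X' Y' P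
  rcases (mapDiv_nonneg hK X' Y' P).lt_or_eq with hpos | h0
  · rw [← (hc P).1 hpos] at h1
    exact h1.trans (le_max_right _ _)
  · rw [← h0, exp_zero] at h1
    exact h1.trans (le_max_left _ _)


/-- One affine chart: a one-parameter family of coordinate changes, generic member. -/
theorem chart [IsAlgClosed k] (hK : IsFunctionField k K) (x y : K)
    (hxy : IntermediateField.adjoin k ({x, y} : Set K) = ⊤)
    (f : MvPolynomial (Fin 2) k) (hf : Irreducible f) (hfxy : aeval ![x, y] f = 0)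
    (Q : Place k K) (ΦQ : K →ₐ[k] LaurentSeries k) (hΦQ : LocRes.IsExpansionAt Q.1 ΦQ)
    (hne : LocRes.vDiff ΦQ (aeval ![x, y] (pderiv 1 f))⁻¹ x ≠ 0)
    (A : k → Matrix (Fin 3) (Fin 3) k) (u : k → Fin 3 → K) (X' Y' ga gb : K)
    (hgab : ga ≠ 0 ∨ gb ≠ 0)
    (hA : ∀ c, (A c).det ≠ 0)
    (hu : ∀ c i, ∑ j, algebraMap k K (A c i j) * u c j = ![(1 : K), x, y] i)
    (hu0 : ∀ c, u c 0 ≠ 0) (hQ0 : ∀ c i, Q.1 (u c i) ≤ Q.1 (u c 0))
    (hGsum : ∀ c, ∑ i, algebraMap k K (A c i 2) * aeval ![(1 : K), x, y] (pderiv i (homog f)) =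
      ga - algebraMap k K c * gb)
    (hu1 : ∀ c, u c 1 / u c 0 = X' + c • Y') (hu2 : ∀ c, u c 2 / u c 0 = Y') :
    0 ≤ ((mapDiv k ![(1 : K), x, y]).deg - 3) * mapDiv k ![(1 : K), x, y] Q -
        LocRes.ordDiff ΦQ (aeval ![x, y] (pderiv 1 f))⁻¹ x ∧
    (((mapDiv k ![(1 : K), x, y]).deg - 3) * mapDiv k ![(1 : K), x, y] Q -
        LocRes.ordDiff ΦQ (aeval ![x, y] (pderiv 1 f))⁻¹ x = 0 ↔
      IsNonsingularAt ![(1 : K), x, y] Q) := by
  obtain ⟨T, hT⟩ := exists_finset_avoid (k := k) ga gb hgab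
  obtain ⟨c, hcT, hc⟩ := exists_generic' hK X' Y' T
  exact assemble hK x y hxy f hf hfxy Q ΦQ hΦQ hne (A c) (hA c) (u c) (hu c) (hu0 c) (hQ0 c)
    (by rw [hGsum c]; exact hT c hcT)
    (fun P => by rw [hu1 c, hu2 c]; exact hpole_of_generic hK X' Y' c hc P)

/-- **S12613**: the adjoint coefficient is nonnegative and vanishes exactly at nonsingular
places. -/
theorem adjoint_coeff [IsAlgClosed k] (hK : IsFunctionField k K) (x y : K)
    (hxy : IntermediateField.adjoin k ({x, y} : Set K) = ⊤)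
    (f : MvPolynomial (Fin 2) k) (hf : Irreducible f) (hfxy : aeval ![x, y] f = 0)
    (Q : Place k K) (ΦQ : K →ₐ[k] LaurentSeries k) (hΦQ : LocRes.IsExpansionAt Q.1 ΦQ)
    (hne : LocRes.vDiff ΦQ (aeval ![x, y] (pderiv 1 f))⁻¹ x ≠ 0) :
    0 ≤ ((mapDiv k ![(1 : K), x, y]).deg - 3) * mapDiv k ![(1 : K), x, y] Q -
        LocRes.ordDiff ΦQ (aeval ![x, y] (pderiv 1 f))⁻¹ x ∧
    (((mapDiv k ![(1 : K), x, y]).deg - 3) * mapDiv k ![(1 : K), x, y] Q -
        LocRes.ordDiff ΦQ (aeval ![x, y] (pderiv 1 f))⁻¹ x = 0 ↔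
      IsNonsingularAt ![(1 : K), x, y] Q) := by
  classical
  set φ : Fin 3 → K := ![(1 : K), x, y] with hφ
  set g : Fin 3 → K := fun i => aeval ![(1 : K), x, y] (pderiv i (homog f)) with hg
  have hF := homog_isHomogeneous f
  have hFxy : aeval ![(1 : K), x, y] (homog f) = 0 := by rw [aeval_homog, hfxy]
  have hg2 : g 2 ≠ 0 := by
    show aeval ![(1 : K), x, y] (pderiv 2 (homog f)) ≠ 0
    rw [aeval_pderiv_homog]
    intro h0
    apply hne
    unfold LocRes.vDiff
    rw [h0, inv_zero, map_zero, zero_mul, map_zero]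
  have hEuler : g 0 + x * g 1 + y * g 2 = 0 := by
    have := congrArg (aeval ![(1 : K), x, y]) hF.sum_X_mul_pderiv
    simp only [map_add, map_mul, aeval_X, Fin.sum_univ_three, map_nsmul, hFxy, smul_zero] at this
    have h0 : (![(1 : K), x, y] : Fin 3 → K) 0 = 1 := rfl
    have h1 : (![(1 : K), x, y] : Fin 3 → K) 1 = x := rfl
    have h2 : (![(1 : K), x, y] : Fin 3 → K) 2 = y := rfl
    rw [h0, h1, h2, one_mul] at this
    exact this
  obtain ⟨j, -, hj⟩ := Finset.exists_max_image Finset.univ (fun i => Q.1 (φ i))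
    Finset.univ_nonempty
  have hj' : ∀ i, Q.1 (φ i) ≤ Q.1 (φ j) := fun i => hj i (Finset.mem_univ i)
  have hφj : φ j ≠ 0 := by
    intro h0
    have := hj' 0
    rw [h0, map_zero] at this
    have h1 : Q.1 (φ 0) = 1 := by
      show Q.1 (1 : K) = 1
      exact map_one _
    rw [h1] at this
    exact absurd this (not_le.2 zero_lt_one)
  have hsm : ∀ (c : k) (a b M : K), Q.1 a ≤ Q.1 M → Q.1 b ≤ Q.1 M → Q.1 (a + c • b) ≤ Q.1 M := by
    intro c a b M ha hb
    exact (Q.1.map_add _ _).trans (max_le ha ((val_smul_le Q c b).trans hb))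
  fin_cases j
  · -- the chart `X₀ ≠ 0`
    have h1 : ∀ i, Q.1 (φ i) ≤ Q.1 (1 : K) := hj'
    refine chart hK x y hxy f hf hfxy Q ΦQ hΦQ hne
      (fun c => !![1, 0, 0; 0, 1, -c; 0, 0, 1]) (fun c => ![1, x + c • y, y]) x y (g 2) (g 1)
      (Or.inl hg2) ?_ ?_ ?_ ?_ ?_ ?_ ?_
    · intro c
      simp [Matrix.det_fin_three]
    · intro c i
      fin_cases i
      · simp [Fin.sum_univ_three]
      · simp [Fin.sum_univ_three, Algebra.smul_def]
      · simp [Fin.sum_univ_three]
    · intro c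
      exact one_ne_zero
    · intro c i
      fin_cases i
      · exact le_rfl
      · exact hsm c x y 1 (h1 1) (h1 2)
      · exact h1 2
    · intro c
      simp only [Fin.sum_univ_three]
      simp [hg]
      ring
    · intro c
      simp
    · intro c
      simp
  · -- the chart `X₁ ≠ 0`
    have h1 : ∀ i, Q.1 (φ i) ≤ Q.1 x := hj'
    have hx0 : x ≠ 0 := hφj
    refine chart hK x y hxy f hf hfxy Q ΦQ hΦQ hne
      (fun c => !![0, 1, -c; 1, 0, 0; 0, 0, 1]) (fun c => ![x, 1 + c • y, y]) (1 / x) (y / x)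
      (g 2) (g 0) (Or.inl hg2) ?_ ?_ ?_ ?_ ?_ ?_ ?_
    · intro c
      simp [Matrix.det_fin_three]
    · intro c i
      fin_cases i
      · simp [Fin.sum_univ_three, Algebra.smul_def]
      · simp [Fin.sum_univ_three]
      · simp [Fin.sum_univ_three]
    · intro c
      exact hx0
    · intro c i
      fin_cases i
      · exact le_rfl
      · exact hsm c 1 y x (h1 0) (h1 2)
      · exact h1 2
    · intro c
      simp only [Fin.sum_univ_three]
      simp [hg]
      ring
    · intro c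
      simp [Algebra.smul_def]
      field_simp
    · intro c
      simp
  · -- the chart `X₂ ≠ 0`
    have h1 : ∀ i, Q.1 (φ i) ≤ Q.1 y := hj'
    have hy0 : y ≠ 0 := hφj
    have hgab : g 1 ≠ 0 ∨ g 0 ≠ 0 := by
      by_contra hcon
      rw [not_or, not_not, not_not] at hcon
      rw [hcon.1, hcon.2, mul_zero, zero_add, zero_add] at hEuler
      rcases mul_eq_zero.1 hEuler with h | h
      · exact hy0 h
      · exact hg2 h
    refine chart hK x y hxy f hf hfxy Q ΦQ hΦQ hne
      (fun c => !![0, 1, -c; 0, 0, 1; 1, 0, 0]) (fun c => ![y, 1 + c • x, x]) (1 / y) (x / y)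
      (g 1) (g 0) hgab ?_ ?_ ?_ ?_ ?_ ?_ ?_
    · intro c
      simp [Matrix.det_fin_three]
    · intro c i
      fin_cases i
      · simp [Fin.sum_univ_three, Algebra.smul_def]
      · simp [Fin.sum_univ_three]
      · simp [Fin.sum_univ_three]
    · intro c
      exact hy0
    · intro c i
      fin_cases i
      · exact le_rfl
      · exact hsm c 1 x y (h1 0) (h1 1)
      · exact h1 1
    · intro c
      simp only [Fin.sum_univ_three]
      simp [hg]
      ring
    · intro c
      simp [Algebra.smul_def]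
      field_simp
    · intro c
      simp

end Groth.Agent.Lib.Helper88.PC
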