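/-
The genus formula for plane models: `2g = (e - 1)(e - 2)` iff the model is nonsingular (S11059).
Author: helper88
-/
import Groth.Agent.Lib.Helper88.PlaneAdj2
import Groth.Agent.Lib.Helper88.FunFldWeil3

set_option autoImplicit false
set_option linter.unusedSectionVars false
set_option linter.style.haveILetI false

namespace Groth.Agent.Lib.Helper88.PC

open FunFld WithZero MvPolynomial
open Groth.Agent.Lib.Helper88.FF Groth.Agent.Lib.Helper88.TG
  Groth.Agent.Lib.Helper88.PG Groth.Agent.Lib.Helper88.PH Groth.Agent.Lib.Helper88.PL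
  Groth.Agent.Lib.Helper88.PR
  Groth.Agent.Lib.Helper44.FFExt Groth.Agent.Lib.Helper34.FunFldPlane
  Groth.Agent.Lib.Helper34.FunFldCond

universe u v
variable {k : Type u} {K : Type v} [Field k] [Field K] [Algebra k K]

/-- Two generators of a function field of one variable satisfy an irreducible relation. -/
theorem exists_irreducible_relation (hK : IsFunctionField k K) (x y : K) :
    ∃ f : MvPolynomial (Fin 2) k, Irreducible f ∧ aeval ![x, y] f = 0 := by
  classical
  -- a nonzero relation
  have hdep : ¬ AlgebraicIndependent k (![x, y] : Fin 2 → K) := by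
    intro hind
    have htr : Transcendental k x := hind.transcendental 0
    have hfin := finiteDimensional_adjoin_of_transcendental hK htr
    have h1 := hind.transcendental_adjoin (s := {(0 : Fin 2)}) (i := (1 : Fin 2)) (by simp)
    rw [Set.image_singleton] at h1
    rw [← IntermediateField.transcendental_adjoin_iff] at h1
    have e0 : (![x, y] : Fin 2 → K) 0 = x := rfl
    have e1 : (![x, y] : Fin 2 → K) 1 = y := rfl
    rw [e0, e1] at h1
    exact h1 (Algebra.IsAlgebraic.isAlgebraic y)
  rw [algebraicIndependent_iff_injective_aeval, injective_iff_map_eq_zero] at hdep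
  push Not at hdep
  obtain ⟨h, hh0, hhne⟩ := hdep
  -- `h` is not a unit
  have hnu : ¬ IsUnit h := by
    intro hu
    have := hu.map (aeval (![x, y] : Fin 2 → K))
    rw [hh0] at this
    exact not_isUnit_zero this
  -- an irreducible factor in the kernel
  set I : Ideal (MvPolynomial (Fin 2) k) := RingHom.ker (aeval (![x, y] : Fin 2 → K)) with hI
  haveI : I.IsPrime := RingHom.ker_isPrime _
  have hprod := UniqueFactorizationMonoid.factors_prod hhne
  have hmem : (UniqueFactorizationMonoid.factors h).prod ∈ I := by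
    obtain ⟨w, hw⟩ := hprod
    have h2 : h * ((w⁻¹ : (MvPolynomial (Fin 2) k)ˣ) : MvPolynomial (Fin 2) k) =
        (UniqueFactorizationMonoid.factors h).prod := by
      conv_lhs => rw [← hw]
      rw [mul_assoc, Units.mul_inv, mul_one]
    rw [← h2]
    exact I.mul_mem_right _ ((RingHom.mem_ker).2 hh0)
  obtain ⟨p, hp, hpI⟩ := (Ideal.IsPrime.multiset_prod_mem_iff_exists_mem ‹I.IsPrime› _).1 hmem
  exact ⟨p, UniqueFactorizationMonoid.irreducible_of_factor p hp, (RingHom.mem_ker).1 hpI⟩

/-- The degree of an integer multiple of a divisor. -/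
lemma deg_zsmul (n : ℤ) (D : Divisor k K) : (n • D).deg = n * D.deg := by
  unfold Divisor.deg
  rw [Finsupp.sum_smul_index (fun P => by simp), Finsupp.mul_sum]
  apply Finsupp.sum_congr
  intro P _
  ring


/-- Local rings of projective maps are invariant under invertible `k`-linear changes. -/
lemma inLocRing_linear {ι ι' : Type*} [Fintype ι] [Fintype ι'] [Nonempty ι'] (Q : Place k K)
    (φ : ι → K) (ψ : ι' → K) (B : ι → ι' → k)
    (hB : ∀ i, ∑ j, algebraMap k K (B i j) * ψ j = φ i) (B' : ι' → ι → k)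
    (hB' : ∀ j, ∑ i, algebraMap k K (B' j i) * φ i = ψ j) {z : K} (hz : InLocRing φ Q z) :
    InLocRing ψ Q z := by
  classical
  obtain ⟨j, hj0, hjmax, -⟩ := id hz
  obtain ⟨j', -, hj'⟩ := Finset.exists_max_image Finset.univ (fun i => Q.1 (ψ i))
    Finset.univ_nonempty
  have hj'max : ∀ i, Q.1 (ψ i) ≤ Q.1 (ψ j') := fun i => hj' i (Finset.mem_univ i)
  have hle : ∀ i, Q.1 (φ i) ≤ Q.1 (ψ j') := by
    intro i
    rw [← hB i]
    exact PL.val_sum_le Q (B i) ψ _ hj'max
  have hle' : Q.1 (ψ j') ≤ Q.1 (φ j) := by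
    rw [← hB' j']
    exact PL.val_sum_le Q (B' j') φ _ hjmax
  have hψ0 : ψ j' ≠ 0 := by
    intro h0
    have h1 := hle j
    rw [h0, map_zero] at h1
    exact hj0 ((map_eq_zero Q.1).1 (le_antisymm h1 zero_le))
  have h2 := PL.transfer Q φ ψ j' hψ0 (fun i => by
    rw [← hB i]
    exact PL.sum_div_mem ψ j' (B i)) hle ⟨j, le_antisymm (hle j) hle'⟩ hz
  exact PL.inLocRing_of_presentation Q ψ j' hψ0 hj'max h2

/-- Nonsingularity is invariant under the shear `(x, y) ↦ (x + cy, y)`. -/
lemma isNonsingularAt_shear (x y : K) (c : k) (Q : Place k K) :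
    IsNonsingularAt ![(1 : K), x + c • y, y] Q ↔ IsNonsingularAt ![(1 : K), x, y] Q := by
  have h1 : ∀ i, ∑ j, algebraMap k K ((!![1, 0, 0; 0, 1, c; 0, 0, 1] : Matrix (Fin 3) (Fin 3) k) i j) *
      (![(1 : K), x, y] : Fin 3 → K) j = (![(1 : K), x + c • y, y] : Fin 3 → K) i := by
    intro i
    fin_cases i
    · simp [Fin.sum_univ_three]
    · simp [Fin.sum_univ_three, Algebra.smul_def]
    · simp [Fin.sum_univ_three]
  have h2 : ∀ i, ∑ j, algebraMap k K ((!![1, 0, 0; 0, 1, -c; 0, 0, 1] : Matrix (Fin 3) (Fin 3) k) i j) *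
      (![(1 : K), x + c • y, y] : Fin 3 → K) j = (![(1 : K), x, y] : Fin 3 → K) i := by
    intro i
    fin_cases i
    · simp [Fin.sum_univ_three]
    · simp [Fin.sum_univ_three, Algebra.smul_def]
    · simp [Fin.sum_univ_three]
  constructor
  · intro h z hz
    exact inLocRing_linear Q _ _ _ h1 _ h2 (h z hz)
  · intro h z hz
    exact inLocRing_linear Q _ _ _ h2 _ h1 (h z hz)

/-- The divisor of the map is invariant under the shear. -/
lemma mapDiv_shear (hK : IsFunctionField k K) (x y : K) (c : k) :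
    mapDiv k ![(1 : K), x + c • y, y] = mapDiv k ![(1 : K), x, y] := by
  have hA : (!![1, 0, 0; 0, 1, -c; 0, 0, 1] : Matrix (Fin 3) (Fin 3) k).det ≠ 0 := by
    simp [Matrix.det_fin_three]
  have h2 : ∀ i, ∑ j, algebraMap k K ((!![1, 0, 0; 0, 1, -c; 0, 0, 1] : Matrix (Fin 3) (Fin 3) k) i j) *
      (![(1 : K), x + c • y, y] : Fin 3 → K) j = (![(1 : K), x, y] : Fin 3 → K) i := by
    intro i
    fin_cases i
    · simp [Fin.sum_univ_three]
    · simp [Fin.sum_univ_three, Algebra.smul_def]
    · simp [Fin.sum_univ_three]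
  have := mapDiv_change hK hA h2 (by simp)
  rw [this]
  have e1 : (FunFld.div k ((![(1 : K), x + c • y, y] : Fin 3 → K) 0)) = 0 := by
    show FunFld.div k (1 : K) = 0
    have : (1 : K) = algebraMap k K 1 := (map_one _).symm
    rw [this, div_algebraMap hK]
  rw [e1, sub_zero]
  simp

/-- A derivation vanishing on a generating set vanishes. -/
lemma derivation_eq_zero_on_adjoin_set {M : Type*} [AddCommGroup M] [Module K M] [Module k M]
    [IsScalarTower k K M] (D : Derivation k K M) (S : Set K) (hS : ∀ z ∈ S, D z = 0) :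
    ∀ w ∈ IntermediateField.adjoin k S, D w = 0 := by
  intro w hw
  induction hw using IntermediateField.adjoin_induction with
  | mem x hx => exact hS x hx
  | algebraMap c => exact D.map_algebraMap c
  | add x y _ _ hx hy => rw [map_add, hx, hy, add_zero]
  | inv x _ hx => rw [Derivation.leibniz_inv, hx, smul_zero]
  | mul x y _ _ hx hy => rw [D.leibniz, hx, hy, smul_zero, smul_zero, add_zero]

/-- For all but at most one `c`, the differential of `x + cy` is nonzero. -/
lemma exists_finset_avoid_D (hK : IsFunctionField k K) (x y : K)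
    (hxy : IntermediateField.adjoin k ({x, y} : Set K) = ⊤) :
    ∃ T : Finset k, ∀ c ∉ T, KaehlerDifferential.D k K (x + c • y) ≠ 0 := by
  classical
  have hnot : ¬ (KaehlerDifferential.D k K x = 0 ∧ KaehlerDifferential.D k K y = 0) := by
    rintro ⟨h1, h2⟩
    apply not_subsingleton_kaehler hK
    have hall : ∀ w : K, KaehlerDifferential.D k K w = 0 := by
      intro w
      apply derivation_eq_zero_on_adjoin_set (KaehlerDifferential.D k K) {x, y}
      · intro z hz
        rcases hz with rfl | rfl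
        · exact h1
        · exact h2
      · rw [hxy]
        exact IntermediateField.mem_top
    have htop := KaehlerDifferential.span_range_derivation k K
    have hbot : (⊤ : Submodule K (Ω[K⁄k])) = ⊥ := by
      rw [← htop, Submodule.span_eq_bot]
      rintro _ ⟨w, rfl⟩
      exact hall w
    constructor
    intro a b
    have ha : a ∈ (⊤ : Submodule K (Ω[K⁄k])) := trivial
    have hb : b ∈ (⊤ : Submodule K (Ω[K⁄k])) := trivial
    rw [hbot, Submodule.mem_bot] at ha hb
    rw [ha, hb]
  have hD : ∀ c : k, KaehlerDifferential.D k K (x + c • y) =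
      KaehlerDifferential.D k K x + c • KaehlerDifferential.D k K y := by
    intro c
    rw [map_add, Derivation.map_smul]
  by_cases hex : ∃ c₀ : k, KaehlerDifferential.D k K (x + c₀ • y) = 0
  · obtain ⟨c₀, hc₀⟩ := hex
    refine ⟨{c₀}, fun c hc h0 => ?_⟩
    rw [Finset.mem_singleton] at hc
    rw [hD] at hc₀ h0
    have h1 : (c - c₀) • KaehlerDifferential.D k K y = 0 := by
      rw [sub_smul]
      have := congrArg₂ (· - ·) h0 hc₀
      simpa using this
    have hy0 : KaehlerDifferential.D k K y = 0 :=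
      (smul_eq_zero.1 h1).resolve_left (sub_ne_zero.2 hc)
    rw [hy0, smul_zero, add_zero] at hc₀
    exact hnot ⟨hc₀, hy0⟩
  · exact ⟨∅, fun c _ h0 => hex ⟨c, h0⟩⟩


open Polynomial.Bivariate in
/-- After a generic shear with `dx₁ ≠ 0`, the `y`-derivative of the equation does not vanish on
the curve. -/
lemma pderiv_shear_ne_zero (hK : IsFunctionField k K) (hg : IsGeometric k K)
    (f : MvPolynomial (Fin 2) k) (hf : Irreducible f) (c : k)
    (hc : aeval (![-c, 1] : Fin 2 → k) (homogeneousComponent f.totalDegree f) ≠ 0)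
    (x₁ y : K) (hdx : KaehlerDifferential.D k K x₁ ≠ 0)
    (hfxy : aeval ![x₁ - c • y, y] f = 0) :
    aeval ![x₁, y] (pderiv 1 (shear c f)) ≠ 0 := by
  have htr : Transcendental k x₁ := by
    intro halg
    obtain ⟨a, rfl⟩ := hK.2 x₁ halg
    exact hdx ((KaehlerDifferential.D k K).map_algebraMap a)
  haveI hfin := finiteDimensional_adjoin_of_transcendental hK htr
  haveI hsep := isSeparable_of_D_ne_zero hK hg hdx
  obtain ⟨hmin, -⟩ := minpoly_shear f hf c hc x₁ y htr hfxy
  set K₀ := IntermediateField.adjoin k ({x₁} : Set K) with hK₀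
  set a := aeval (![-c, 1] : Fin 2 → k) (homogeneousComponent f.totalDegree f) with ha
  set p := (Polynomial.Bivariate.equivMvPolynomial k).symm (shear c f) with hp
  have hγ0 : Polynomial.aeval y (Polynomial.derivative (minpoly K₀ y)) ≠ 0 :=
    (Algebra.IsSeparable.isSeparable K₀ y).aeval_derivative_ne_zero (minpoly.aeval K₀ y)
  rw [hmin, Polynomial.derivative_map, aeval_map_ev, Polynomial.derivative_mul,
    Polynomial.derivative_C, zero_mul, zero_add, aevalAeval_eq, map_mul, map_mul] at hγ0
  have h1 : (Polynomial.Bivariate.equivMvPolynomial k) (Polynomial.derivative p) =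
      pderiv 1 (shear c f) := by
    rw [← Polynomial.Bivariate.pderiv_one_equivMvPolynomial, hp, AlgEquiv.apply_symm_apply]
  rw [h1] at hγ0
  exact right_ne_zero_of_mul hγ0

/-- **S11059**: `2g = (e - 1)(e - 2)` iff the plane model is nonsingular at every place. -/
theorem genus_formula [IsAlgClosed k] (hK : IsFunctionField k K) (x y : K)
    (hxy : IntermediateField.adjoin k ({x, y} : Set K) = ⊤) :
    2 * (genus k K : ℤ) =
        ((mapDiv k ![(1 : K), x, y]).deg - 1) * ((mapDiv k ![(1 : K), x, y]).deg - 2) ↔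
      ∀ P : Place k K, IsNonsingularAt ![(1 : K), x, y] P := by
  classical
  have hg : IsGeometric k K := isGeometric_of_isAlgClosed
  obtain ⟨f, hf, hfxy⟩ := exists_irreducible_relation hK x y
  obtain ⟨T₁, hT₁⟩ := finite_bad f hf.ne_zero
  obtain ⟨T₂, hT₂⟩ := exists_finset_avoid_D hK x y hxy
  have hinf : Infinite k := IsAlgClosed.instInfinite
  obtain ⟨c, hc⟩ := Infinite.exists_notMem_finset (T₁ ∪ T₂)
  rw [Finset.mem_union, not_or] at hc
  set x₁ : K := x + c • y with hx₁
  have hdx₁ : KaehlerDifferential.D k K x₁ ≠ 0 := hT₂ c hc.2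
  have hxx : x₁ - c • y = x := by rw [hx₁]; ring
  have hf₁ : Irreducible (shear c f) := (MulEquiv.irreducible_iff (shear c)).2 hf
  have hf₁xy : aeval ![x₁, y] (shear c f) = 0 := by rw [aeval_shear, hxx, hfxy]
  have hfy₁ : aeval ![x₁, y] (pderiv 1 (shear c f)) ≠ 0 :=
    pderiv_shear_ne_zero hK hg f hf c (hT₁ c hc.1) x₁ y hdx₁ (by rw [hxx]; exact hfxy)
  have hxy₁ : IntermediateField.adjoin k ({x₁, y} : Set K) = ⊤ := by
    rw [eq_top_iff, ← hxy]
    apply IntermediateField.adjoin_le_iff.2
    intro s hs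
    rcases hs with rfl | rfl
    · rw [← hxx]
      apply sub_mem
      · exact IntermediateField.subset_adjoin _ _ (by simp)
      · rw [Algebra.smul_def]
        exact mul_mem (IntermediateField.algebraMap_mem _ _)
          (IntermediateField.subset_adjoin _ _ (by simp))
    · exact IntermediateField.subset_adjoin _ _ (by simp)
  choose Φ hΦ using fun P : Place k K => Groth.Agent.Lib.Helper88.SV.exists_expansion hK P
  set fy : K := aeval ![x₁, y] (pderiv 1 (shear c f)) with hfy
  have hne : ∀ P, LocRes.vDiff (Φ P) fy⁻¹ x₁ ≠ 0 := fun P =>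
    vDiff_ne_zero hK hg (hΦ P) (inv_ne_zero hfy₁) hdx₁
  have hadj := fun P => adjoint_coeff hK x₁ y hxy₁ (shear c f) hf₁ hf₁xy P (Φ P) (hΦ P) (hne P)
  obtain ⟨hcan, hW⟩ := isCanonical_divDiff hK Φ hΦ (inv_ne_zero hfy₁) hdx₁
  have hWdeg := ((isCanonical_iff hK _).1 hcan).2
  have hM : mapDiv k ![(1 : K), x₁, y] = mapDiv k ![(1 : K), x, y] := mapDiv_shear hK x y c
  simp only [hM] at hadj
  set M := mapDiv k ![(1 : K), x, y] with hMdef
  set W := divDiff Φ fy⁻¹ x₁ with hWdef
  set Δ : Divisor k K := (M.deg - 3) • M - W with hΔ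
  have hΔapply : ∀ P, Δ P = (M.deg - 3) * M P - LocRes.ordDiff (Φ P) fy⁻¹ x₁ := by
    intro P
    rw [hΔ, Finsupp.sub_apply, Finsupp.smul_apply, hW P, smul_eq_mul]
  have hΔnonneg : 0 ≤ Δ := by
    intro P
    rw [Finsupp.zero_apply, hΔapply]
    exact (hadj P).1
  have hΔdeg : Δ.deg = (M.deg - 3) * M.deg - (2 * (genus k K : ℤ) - 2) := by
    rw [hΔ, deg_sub, deg_zsmul, hWdeg]
  constructor
  · intro h2g P
    have h0 : Δ.deg = 0 := by
      rw [hΔdeg]
      linear_combination (-1 : ℤ) * h2g
    have hΔ0 := eq_zero_of_nonneg_of_deg_eq_zero hK hΔnonneg h0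
    have h1 : Δ P = 0 := by rw [hΔ0, Finsupp.zero_apply]
    rw [hΔapply] at h1
    exact (isNonsingularAt_shear x y c P).1 ((hadj P).2.1 h1)
  · intro hns
    have hΔ0 : Δ = 0 := by
      ext P
      rw [Finsupp.zero_apply, hΔapply]
      exact (hadj P).2.2 ((isNonsingularAt_shear x y c P).2 (hns P))
    have h0 : Δ.deg = 0 := by rw [hΔ0, deg_zero]
    rw [hΔdeg] at h0
    linear_combination (-1 : ℤ) * h0


/-- **S11060**: the genus of a function field with a nonsingular plane model is triangular. -/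
theorem genus_triangular [IsAlgClosed k] (hK : IsFunctionField k K)
    (h : ∃ x y : K, IntermediateField.adjoin k ({x, y} : Set K) = ⊤ ∧
      ∀ P : Place k K, IsNonsingularAt ![(1 : K), x, y] P) :
    ∃ m : ℕ, 2 * genus k K = m * (m + 1) := by
  obtain ⟨x, y, hxy, hns⟩ := h
  have h2g := (genus_formula hK x y hxy).2 hns
  set e : ℤ := (mapDiv k ![(1 : K), x, y]).deg with he
  have hpos : 0 < e := deg_pos_of_nonneg_of_ne_zero hK
    (fun Q => by rw [Finsupp.zero_apply]; exact mapDiv_nonneg hK x y Q) (mapDiv_ne_zero hK x y hxy)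
  rcases (show e = 1 ∨ 2 ≤ e by omega) with h1 | h2
  · refine ⟨0, ?_⟩
    rw [h1] at h2g
    have : (2 * genus k K : ℤ) = 0 := by rw [h2g]; ring
    have h3 : 2 * genus k K = 0 := by exact_mod_cast this
    rw [h3]
  · refine ⟨(e - 2).toNat, ?_⟩
    have h3 : ((e - 2).toNat : ℤ) = e - 2 := Int.toNat_of_nonneg (by omega)
    have h4 : ((2 * genus k K : ℕ) : ℤ) = (((e - 2).toNat * ((e - 2).toNat + 1) : ℕ) : ℤ) := by
      push_cast
      rw [h3, h2g]
      ring
    exact_mod_cast h4

end Groth.Agent.Lib.Helper88.PC
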