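/-
The ideal of a plane curve is principal: relations between two generators `x, y` of a function
field are multiples of an irreducible one; the homogeneous ideal of the projective plane model is
generated by its homogenisation (S11073).
Author: helper88
-/
import Groth.Agent.Lib.Helper88.PlaneGenus
import Groth.Agent.Lib.Helper88.JacProj

set_option autoImplicit false
set_option linter.unusedSectionVars false

namespace Groth.Agent.Lib.Helper88.PK

open FunFld MvPolynomial
open Groth.Agent.Lib.Helper88.PG Groth.Agent.Lib.Helper88.PH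

variable {k K : Type*} [Field k] [Field K] [Algebra k K]

/-- **The affine ideal of a plane curve is principal**: every relation between `x` and `y` is a
multiple of the irreducible one. -/
theorem dvd_of_aeval_eq_zero [IsAlgClosed k] (hK : IsFunctionField k K) (x y : K)
    (hxy : IntermediateField.adjoin k ({x, y} : Set K) = ⊤)
    (f : MvPolynomial (Fin 2) k) (hf : Irreducible f) (hfxy : aeval ![x, y] f = 0)
    (g : MvPolynomial (Fin 2) k) (hg : aeval ![x, y] g = 0) : f ∣ g := by
  obtain ⟨T, hT⟩ := finite_bad f hf.ne_zero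
  obtain ⟨c, hcT, hc⟩ := exists_generic' hK x y T
  set x₁ : K := x + c • y with hx₁
  have htr : Transcendental k x₁ := transcendental_of_generic hK x y hxy x₁ hc
  have hxx : x₁ - c • y = x := by rw [hx₁]; ring
  obtain ⟨hmin, -⟩ := minpoly_shear f hf c (hT c hcT) x₁ y htr (by rw [hxx]; exact hfxy)
  set a := aeval (![-c, 1] : Fin 2 → k) (homogeneousComponent f.totalDegree f) with ha
  have ha0 : a ≠ 0 := hT c hcT
  obtain ⟨h1, h2⟩ := symm_shear_top c f
  set p := (Polynomial.Bivariate.equivMvPolynomial k).symm (shear c f) with hp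
  have hCa : (Polynomial.C a : Polynomial k) ≠ 0 := by
    rw [Ne, Polynomial.C_eq_zero]
    exact ha0
  have hdeg : p.natDegree = f.totalDegree :=
    Polynomial.natDegree_eq_of_le_of_coeff_ne_zero h1 (by rw [h2]; exact hCa)
  have hlead : p.leadingCoeff = Polynomial.C a := by
    rw [Polynomial.leadingCoeff, hdeg, h2]
  set p' := Polynomial.C (Polynomial.C a⁻¹) * p with hp'
  have hmonic : p'.Monic := by
    rw [Polynomial.Monic, hp', Polynomial.leadingCoeff_mul, Polynomial.leadingCoeff_C, hlead,
      ← Polynomial.C_mul, inv_mul_cancel₀ ha0, Polynomial.C_1]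
  set pg := (Polynomial.Bivariate.equivMvPolynomial k).symm (shear c g) with hpg
  have h0 : Polynomial.aeval y (pg.map (ev (k := k) x₁)) = 0 := by
    rw [aeval_map_ev, aevalAeval_eq, hpg, AlgEquiv.apply_symm_apply, aeval_shear, hxx]
    exact hg
  have hdvd : p'.map (ev (k := k) x₁) ∣ pg.map (ev (k := k) x₁) := by
    rw [← hmin]
    exact minpoly.dvd _ _ h0
  have hevinj : Function.Injective (ev (k := k) x₁) := by
    intro r s hrs
    have h3 : ∀ r : Polynomial k, algebraMap (IntermediateField.adjoin k ({x₁} : Set K)) K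
        (ev (k := k) x₁ r) = Polynomial.aeval x₁ r := by
      intro r
      show algebraMap _ K ((Polynomial.aeval (gen (k := k) x₁)) r) = Polynomial.aeval x₁ r
      rw [← Polynomial.aeval_algebraMap_apply]
      congr 1
    have h4 := congrArg (algebraMap (IntermediateField.adjoin k ({x₁} : Set K)) K) hrs
    rw [h3, h3] at h4
    exact (transcendental_iff_injective.1 htr) h4
  have hmod : pg %ₘ p' = 0 := by
    apply Polynomial.map_injective _ hevinj
    rw [Polynomial.map_modByMonic _ hmonic, Polynomial.map_zero,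
      Polynomial.modByMonic_eq_zero_iff_dvd (hmonic.map _)]
    exact hdvd
  have hdvd' : p' ∣ pg := (Polynomial.modByMonic_eq_zero_iff_dvd hmonic).1 hmod
  have hdvd'' : p ∣ pg := (Dvd.intro_left _ rfl : p ∣ p').trans hdvd'
  have hdvd3 : shear c f ∣ shear c g := by
    obtain ⟨s, hs⟩ := hdvd''
    refine ⟨Polynomial.Bivariate.equivMvPolynomial k s, ?_⟩
    have := congrArg (Polynomial.Bivariate.equivMvPolynomial k) hs
    rw [hpg, hp, AlgEquiv.apply_symm_apply, map_mul, AlgEquiv.apply_symm_apply] at this
    exact this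
  obtain ⟨s, hs⟩ := hdvd3
  refine ⟨(shear c).symm s, ?_⟩
  have := congrArg (shear c).symm hs
  rw [AlgEquiv.symm_apply_apply, map_mul, AlgEquiv.symm_apply_apply] at this
  exact this

section frac

variable (k)

/-- The fraction field of `k[X₀, X₁, X₂]`. -/
abbrev F3 := FractionRing (MvPolynomial (Fin 3) k)

variable {k}

/-- A ternary form is `X₀^m` times its dehomogenisation at `(X₁/X₀, X₂/X₀)`. -/
lemma hom_id {H : MvPolynomial (Fin 3) k} {m : ℕ} (hH : H.IsHomogeneous m) :
    algebraMap (MvPolynomial (Fin 3) k) (F3 k) H =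
      (algebraMap (MvPolynomial (Fin 3) k) (F3 k) (X 0)) ^ m *
        aeval ![algebraMap (MvPolynomial (Fin 3) k) (F3 k) (X 1) /
            algebraMap (MvPolynomial (Fin 3) k) (F3 k) (X 0),
          algebraMap (MvPolynomial (Fin 3) k) (F3 k) (X 2) /
            algebraMap (MvPolynomial (Fin 3) k) (F3 k) (X 0)]
          (aeval (![1, X 0, X 1] : Fin 3 → MvPolynomial (Fin 2) k) H) := by
  set c := algebraMap (MvPolynomial (Fin 3) k) (F3 k) (X 0) with hc
  set ξ := algebraMap (MvPolynomial (Fin 3) k) (F3 k) (X 1) / c with hξ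
  set η := algebraMap (MvPolynomial (Fin 3) k) (F3 k) (X 2) / c with hη
  have hc0 : c ≠ 0 := by
    rw [hc, Ne, map_eq_zero_iff _ (IsFractionRing.injective (MvPolynomial (Fin 3) k) (F3 k))]
    exact X_ne_zero 0
  have hcv : (fun i => c * (![1, ξ, η] : Fin 3 → F3 k) i) =
      fun i => algebraMap (MvPolynomial (Fin 3) k) (F3 k) (X i) := by
    funext i
    fin_cases i
    · simp [hc]
    · simp only [hξ]
      show c * (algebraMap (MvPolynomial (Fin 3) k) (F3 k) (X 1) / c) = _
      field_simp
      rfl
    · simp only [hη]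
      show c * (algebraMap (MvPolynomial (Fin 3) k) (F3 k) (X 2) / c) = _
      field_simp
      rfl
  have h1 : aeval (fun i => algebraMap (MvPolynomial (Fin 3) k) (F3 k) (X i)) H =
      algebraMap (MvPolynomial (Fin 3) k) (F3 k) H := by
    have := comp_aeval_apply (X : Fin 3 → MvPolynomial (Fin 3) k)
      (IsScalarTower.toAlgHom k (MvPolynomial (Fin 3) k) (F3 k)) H
    rw [aeval_X_left_apply] at this
    exact this.symm
  have h2 := Groth.Agent.Lib.Helper83.PlaneCoord.aeval_smul_of_isHomogeneous hH c
    (![1, ξ, η] : Fin 3 → F3 k)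
  rw [hcv, h1] at h2
  have h3 : aeval (![1, ξ, η] : Fin 3 → F3 k) H =
      aeval ![ξ, η] (aeval (![1, X 0, X 1] : Fin 3 → MvPolynomial (Fin 2) k) H) := by
    rw [comp_aeval_apply]
    have : (fun i => aeval ![ξ, η] ((![1, X 0, X 1] : Fin 3 → MvPolynomial (Fin 2) k) i)) =
        (![1, ξ, η] : Fin 3 → F3 k) := by
      funext i
      fin_cases i <;> simp
    rw [this]
  rw [h2, h3]

/-- Dehomogenisation is injective on forms. -/
lemma eq_zero_of_dehom {H : MvPolynomial (Fin 3) k} {m : ℕ} (hH : H.IsHomogeneous m)
    (h : aeval (![1, X 0, X 1] : Fin 3 → MvPolynomial (Fin 2) k) H = 0) : H = 0 := by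
  have := hom_id hH
  rw [h, map_zero, mul_zero] at this
  exact (map_eq_zero_iff _ (IsFractionRing.injective (MvPolynomial (Fin 3) k) (F3 k))).1 this

end frac

lemma dehom_homog (f : MvPolynomial (Fin 2) k) :
    aeval (![1, X 0, X 1] : Fin 3 → MvPolynomial (Fin 2) k) (homog f) = f := by
  rw [aeval_homog]
  have : (![X 0, X 1] : Fin 2 → MvPolynomial (Fin 2) k) = X := by
    funext j
    fin_cases j <;> rfl
  rw [this, aeval_X_left]
  rfl

lemma homog_ne_zero {f : MvPolynomial (Fin 2) k} (hf : f ≠ 0) : homog f ≠ 0 := by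
  intro h
  apply hf
  rw [← dehom_homog f, h, map_zero]

/-- The homogenisation is not killed by `X₀ = 0`. -/
lemma homog_at_zero_ne_zero {f : MvPolynomial (Fin 2) k} (hf : f ≠ 0) :
    aeval (![0, X 0, X 1] : Fin 3 → MvPolynomial (Fin 2) k) (homog f) ≠ 0 := by
  rw [aeval_homog_zero]
  have : (![X 0, X 1] : Fin 2 → MvPolynomial (Fin 2) k) = X := by
    funext j
    fin_cases j <;> rfl
  rw [this, aeval_X_left]
  exact homogeneousComponent_totalDegree_ne_zero hf

/-- **Forms vanishing on the curve are multiples of the homogenised equation.** -/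
theorem homog_dvd [IsAlgClosed k] (hK : IsFunctionField k K) (x y : K)
    (hxy : IntermediateField.adjoin k ({x, y} : Set K) = ⊤)
    (f : MvPolynomial (Fin 2) k) (hf : Irreducible f) (hfxy : aeval ![x, y] f = 0)
    {H : MvPolynomial (Fin 3) k} {m : ℕ} (hH : H.IsHomogeneous m)
    (hHxy : aeval ![(1 : K), x, y] H = 0) : homog f ∣ H := by
  by_cases hH0 : H = 0
  · rw [hH0]
    exact dvd_zero _
  set δH := aeval (![1, X 0, X 1] : Fin 3 → MvPolynomial (Fin 2) k) H with hδH
  have hδ : aeval ![x, y] δH = 0 := by
    rw [hδH, comp_aeval_apply]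
    have : (fun i => aeval ![x, y] ((![1, X 0, X 1] : Fin 3 → MvPolynomial (Fin 2) k) i)) =
        ![(1 : K), x, y] := by
      funext i
      fin_cases i <;> simp
    rw [this]
    exact hHxy
  obtain ⟨q, hq⟩ := dvd_of_aeval_eq_zero hK x y hxy f hf hfxy δH hδ
  have hδ0 : δH ≠ 0 := fun h => hH0 (eq_zero_of_dehom hH h)
  have hq0 : q ≠ 0 := by
    rintro rfl
    rw [mul_zero] at hq
    exact hδ0 hq
  have hfhom := homog_isHomogeneous f
  have hQhom := homog_isHomogeneous q
  set d := f.totalDegree with hd
  set e := q.totalDegree with he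
  have hid : X 0 ^ (d + e) * H = X 0 ^ m * (homog f * homog q) := by
    apply IsFractionRing.injective (MvPolynomial (Fin 3) k) (F3 k)
    rw [map_mul, map_mul, map_mul, map_pow, map_pow, hom_id hH, hom_id hfhom, hom_id hQhom,
      dehom_homog, dehom_homog, ← hδH, hq, map_mul]
    ring
  rcases le_or_gt (d + e) m with hle | hlt
  · have h1 : X 0 ^ (d + e) * H =
        X 0 ^ (d + e) * (X 0 ^ (m - (d + e)) * (homog f * homog q)) := by
      have hpow : (X 0 : MvPolynomial (Fin 3) k) ^ m = X 0 ^ (d + e) * X 0 ^ (m - (d + e)) := by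
        rw [← pow_add]
        congr 1
        omega
      rw [hid, hpow]
      ring
    have h2 := mul_left_cancel₀ (pow_ne_zero _ (X_ne_zero (0 : Fin 3))) h1
    rw [h2]
    exact Dvd.intro_left _ (by ring : X 0 ^ (m - (d + e)) * homog q * homog f = _)
  · exfalso
    have h1 : X 0 ^ m * (X 0 ^ (d + e - m) * H) = X 0 ^ m * (homog f * homog q) := by
      have hpow : (X 0 : MvPolynomial (Fin 3) k) ^ (d + e) = X 0 ^ m * X 0 ^ (d + e - m) := by
        rw [← pow_add]
        congr 1
        omega
      rw [← hid, hpow]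
      ring
    have h2 := mul_left_cancel₀ (pow_ne_zero _ (X_ne_zero (0 : Fin 3))) h1
    have h3 := congrArg (aeval (![0, X 0, X 1] : Fin 3 → MvPolynomial (Fin 2) k)) h2
    rw [map_mul, map_pow, aeval_X, map_mul] at h3
    have h4 : ((![0, X 0, X 1] : Fin 3 → MvPolynomial (Fin 2) k) 0) = 0 := rfl
    rw [h4, zero_pow (by omega), zero_mul] at h3
    exact mul_ne_zero (homog_at_zero_ne_zero hf.ne_zero) (homog_at_zero_ne_zero hq0) h3.symm

/-- **The ideal of a projective plane curve is principal** (S11073). -/
theorem ker_eq_span [IsAlgClosed k] (hK : IsFunctionField k K) (x y : K)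
    (hxy : IntermediateField.adjoin k ({x, y} : Set K) = ⊤) :
    ∃ f : MvPolynomial (Fin 3) k, Irreducible f ∧ f.IsHomogeneous f.totalDegree ∧
      RingHom.ker (MvPolynomial.aeval fun i => Polynomial.C (![(1 : K), x, y] i) * Polynomial.X) =
        Ideal.span {f} := by
  obtain ⟨f₀, hf, hfxy⟩ := Groth.Agent.Lib.Helper88.PC.exists_irreducible_relation hK x y
  set f := homog f₀ with hfdef
  have hf0 : f ≠ 0 := homog_ne_zero hf.ne_zero
  have hfhom : f.IsHomogeneous f₀.totalDegree := homog_isHomogeneous f₀
  have hker : RingHom.ker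
      (MvPolynomial.aeval fun i => Polynomial.C (![(1 : K), x, y] i) * Polynomial.X) =
        Ideal.span {f} := by
    apply le_antisymm
    · intro G hG
      rw [RingHom.mem_ker] at hG
      rw [Ideal.mem_span_singleton]
      have hsum : G = ∑ i ∈ Finset.range (G.totalDegree + 1), homogeneousComponent i G :=
        (sum_homogeneousComponent G).symm
      have h1 : (MvPolynomial.aeval fun i => Polynomial.C (![(1 : K), x, y] i) * Polynomial.X) G =
          ∑ i ∈ Finset.range (G.totalDegree + 1),
            Polynomial.C (aeval ![(1 : K), x, y] (homogeneousComponent i G)) * Polynomial.X ^ i := by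
        conv_lhs => rw [hsum]
        rw [map_sum]
        refine Finset.sum_congr rfl fun i _ => ?_
        exact Groth.Agent.Lib.Helper88.AJ.aeval_CX (homogeneousComponent_isHomogeneous i G) _
      have hcomp : ∀ m, aeval ![(1 : K), x, y] (homogeneousComponent m G) = 0 := by
        intro m
        by_cases hm : m ∈ Finset.range (G.totalDegree + 1)
        · have h2 := congrArg (fun p => Polynomial.coeff p m) (h1.symm.trans hG)
          simp only [Polynomial.finsetSum_coeff, Polynomial.coeff_C_mul, Polynomial.coeff_X_pow,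
            Polynomial.coeff_zero] at h2
          rw [Finset.sum_eq_single m] at h2
          · simpa using h2
          · intro b _ hb
            rw [if_neg (Ne.symm hb), mul_zero]
          · intro h
            exact absurd hm h
        · rw [Finset.mem_range, not_lt] at hm
          rw [homogeneousComponent_eq_zero _ _ (by omega), map_zero]
      rw [hsum]
      exact Finset.dvd_sum fun m _ =>
        homog_dvd hK x y hxy f₀ hf hfxy (homogeneousComponent_isHomogeneous m G) (hcomp m)
    · rw [Ideal.span_le, Set.singleton_subset_iff, SetLike.mem_coe, RingHom.mem_ker,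
        Groth.Agent.Lib.Helper88.AJ.aeval_CX hfhom, hfdef, aeval_homog, hfxy, map_zero, zero_mul]
  have hprime : (Ideal.span {f}).IsPrime := by
    rw [← hker]
    exact RingHom.ker_isPrime _
  have hp : Prime f := (Ideal.span_singleton_prime hf0).1 hprime
  refine ⟨f, hp.irreducible, ?_, hker⟩
  rw [hfhom.totalDegree hf0]
  exact hfhom

end Groth.Agent.Lib.Helper88.PK
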