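/-
Local intersection multiplicity on a plane curve: the sum of the orders of `g(x, y)` over the
places above a finite point `a` equals `dim_k A_a / (f, g)` (S11077).
Author: helper88
-/
import Groth.Agent.Lib.Helper88.IntMultA
import Groth.Agent.Lib.Helper88.PlaneKer
import Groth.Agent.S11075

set_option autoImplicit false
set_option linter.unusedSectionVars false
set_option linter.style.haveILetI false

namespace Groth.Agent.Lib.Helper88.IM

open FunFld WithZero MvPolynomial Groth.Agent.Lib.Helper88.FF Groth.Agent.Lib.Helper88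
  Groth.Agent.Lib.Helper88.AJ Groth.Agent.Lib.Helper34.FunFldLocRing
  Groth.Agent.Lib.Helper34.FunFldCond

variable {k K : Type*} [Field k] [Field K] [Algebra k K]

/-- The places over a finite point of the plane model `(1 : x : y)`. -/
lemma sameImage_iff (x y : K) (P Q : Place k K) (c : Fin 2 → k)
    (hc : ∀ i, P.1 (![x, y] i - algebraMap k K (c i)) < 1) :
    SameImage ![(1 : K), x, y] P Q ↔ ∀ i, Q.1 (![x, y] i - algebraMap k K (c i)) < 1 := by
  have hle : ∀ (R : Place k K), (∀ i, R.1 (![x, y] i - algebraMap k K (c i)) < 1) →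
      ∀ i, R.1 ((![(1 : K), x, y] : Fin 3 → K) i) ≤ R.1 ((![(1 : K), x, y] : Fin 3 → K) 0) := by
    intro R hR i
    have h1 : ∀ l, R.1 (![x, y] l) ≤ 1 := by
      intro l
      have : ![x, y] l = (![x, y] l - algebraMap k K (c l)) + algebraMap k K (c l) := by ring
      rw [this]
      exact (R.1.map_add _ _).trans (max_le (hR l).le (R.2.1 _))
    show R.1 _ ≤ R.1 (1 : K)
    rw [map_one]
    fin_cases i
    · show R.1 (1 : K) ≤ 1
      rw [map_one]
    · exact h1 0
    · exact h1 1
  constructor
  · intro h i
    have hloc : InLocRing ![(1 : K), x, y] P (![x, y] i - algebraMap k K (c i)) := by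
      refine ⟨0, one_ne_zero, hle P hc, ![x, y] i - algebraMap k K (c i), ?_, 1,
        Subalgebra.one_mem _, map_one _, mul_one _⟩
      refine Subalgebra.sub_mem _ ?_ (Subalgebra.algebraMap_mem _ _)
      fin_cases i
      · exact Algebra.subset_adjoin ⟨1, by simp⟩
      · exact Algebra.subset_adjoin ⟨2, by simp⟩
    exact ((Groth.Agent.S11078.forward _ P Q h _ hloc).2).2 (hc i)
  · intro h
    refine ⟨0, one_ne_zero, hle P hc, hle Q h, ?_⟩
    intro i
    fin_cases i
    · refine ⟨1, ?_, ?_⟩ <;> simp
    · refine ⟨c 0, ?_, ?_⟩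
      · simpa using hc 0
      · simpa using h 0
    · refine ⟨c 1, ?_, ?_⟩
      · simpa using hc 1
      · simpa using h 1

lemma finite_fibre (hK : IsFunctionField k K) (x y : K)
    (hxy : IntermediateField.adjoin k ({x, y} : Set K) = ⊤) (c : Fin 2 → k) :
    {Q : Place k K | ∀ i, Q.1 (![x, y] i - algebraMap k K (c i)) < 1}.Finite := by
  by_cases hx0 : x - algebraMap k K (c 0) = 0
  · by_cases hy0 : y - algebraMap k K (c 1) = 0
    · exfalso
      rw [sub_eq_zero] at hx0 hy0
      obtain ⟨⟨z, hz, -⟩, -⟩ := hK
      apply hz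
      have hzt : z ∈ IntermediateField.adjoin k ({x, y} : Set K) := by
        rw [hxy]
        exact IntermediateField.mem_top
      have hbot : IntermediateField.adjoin k ({x, y} : Set K) = ⊥ := by
        rw [IntermediateField.adjoin_eq_bot_iff]
        intro s hs
        rcases hs with h | h
        · rw [h, hx0]
          exact IntermediateField.algebraMap_mem _ _
        · rw [Set.mem_singleton_iff.1 h, hy0]
          exact IntermediateField.algebraMap_mem _ _
      rw [hbot, IntermediateField.mem_bot] at hzt
      obtain ⟨r, rfl⟩ := hzt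
      exact isAlgebraic_algebraMap r
    · refine (Groth.Agent.S11075.finite_lt_one hK hy0).subset ?_
      intro Q hQ
      exact hQ 1
  · refine (Groth.Agent.S11075.finite_lt_one hK hx0).subset ?_
    intro Q hQ
    exact hQ 0

lemma range_pair (x y : K) : Set.range (![x, y] : Fin 2 → K) = {x, y} := by
  ext z
  simp only [Set.mem_range, Fin.exists_fin_two, Set.mem_insert_iff, Set.mem_singleton_iff]
  constructor
  · rintro (h | h)
    · exact Or.inl h.symm
    · exact Or.inr h.symm
  · rintro (h | h)
    · exact Or.inl h.symm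
    · exact Or.inr h.symm

lemma adjoin_ratio_eq (x y : K) :
    Algebra.adjoin k (Set.range fun i => (![(1 : K), x, y] : Fin 3 → K) i /
      (![(1 : K), x, y] : Fin 3 → K) 0) = (aeval ![x, y] : MvPolynomial (Fin 2) k →ₐ[k] K).range := by
  rw [← Algebra.adjoin_range_eq_range_aeval]
  apply le_antisymm
  · rw [Algebra.adjoin_le_iff]
    rintro _ ⟨i, rfl⟩
    fin_cases i
    · show (1 : K) / 1 ∈ _
      rw [div_one]
      exact Subalgebra.one_mem _
    · show x / 1 ∈ _
      rw [div_one]
      exact Algebra.subset_adjoin ⟨0, rfl⟩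
    · show y / 1 ∈ _
      rw [div_one]
      exact Algebra.subset_adjoin ⟨1, rfl⟩
  · rw [Algebra.adjoin_le_iff]
    rintro _ ⟨i, rfl⟩
    fin_cases i
    · exact Algebra.subset_adjoin ⟨1, by simp⟩
    · exact Algebra.subset_adjoin ⟨2, by simp⟩

end Groth.Agent.Lib.Helper88.IM
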