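/-
Local intersection multiplicity on a plane curve (S11077): main argument.
Author: helper88
-/
import Groth.Agent.Lib.Helper88.IntMultB

set_option autoImplicit false
set_option linter.unusedSectionVars false
set_option linter.style.haveILetI false

namespace Groth.Agent.Lib.Helper88.IM

open FunFld WithZero MvPolynomial Groth.Agent.Lib.Helper88.FF Groth.Agent.Lib.Helper88
  Groth.Agent.Lib.Helper88.AJ Groth.Agent.Lib.Helper34.FunFldLocRing
  Groth.Agent.Lib.Helper34.FunFldCond

variable {k K : Type*} [Field k] [Field K] [Algebra k K]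

section evM

variable (x y : K) (M : Ideal (MvPolynomial (Fin 2) k)) [M.IsMaximal]
  (hu : ∀ v : M.primeCompl, IsUnit ((aeval ![x, y] : MvPolynomial (Fin 2) k →ₐ[k] K) v))

/-- Evaluation at `(x, y)` on the local ring of the plane at the point. -/
noncomputable def evM : Localization.AtPrime M →ₐ[k] K :=
  IsLocalization.liftAlgHom (M := M.primeCompl)
    (f := (aeval ![x, y] : MvPolynomial (Fin 2) k →ₐ[k] K)) hu

lemma evM_algebraMap (a : MvPolynomial (Fin 2) k) :
    evM x y M hu (algebraMap (MvPolynomial (Fin 2) k) (Localization.AtPrime M) a) =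
      aeval ![x, y] a := by
  rw [evM, IsLocalization.liftAlgHom_apply, IsLocalization.lift_eq]
  rfl

/-- Every element of the local ring is a fraction. -/
lemma evM_frac (s : Localization.AtPrime M) :
    ∃ (u v : MvPolynomial (Fin 2) k), v ∉ M ∧
      s * algebraMap (MvPolynomial (Fin 2) k) (Localization.AtPrime M) v =
        algebraMap (MvPolynomial (Fin 2) k) (Localization.AtPrime M) u ∧
      evM x y M hu s * aeval ![x, y] v = aeval ![x, y] u := by
  obtain ⟨⟨u, v⟩, huv⟩ := IsLocalization.surj M.primeCompl s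
  refine ⟨u, v, v.2, huv, ?_⟩
  have := congrArg (evM x y M hu) huv
  rw [map_mul, evM_algebraMap, evM_algebraMap] at this
  exact this

/-- The local ring of the curve at the point, as a `k`-subspace of `K`. -/
noncomputable def Rsub : Submodule k K := LinearMap.range (evM x y M hu).toLinearMap

/-- Its multiples of `gb`. -/
noncomputable def gRsub (gb : K) : Submodule k K :=
  Submodule.map (LinearMap.mulLeft k gb) (Rsub x y M hu)

lemma mem_Rsub {z : K} : z ∈ Rsub x y M hu ↔ ∃ s, evM x y M hu s = z := by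
  rw [Rsub, LinearMap.mem_range]
  rfl

lemma mem_gRsub {gb z : K} : z ∈ gRsub x y M hu gb ↔ ∃ s, gb * evM x y M hu s = z := by
  rw [gRsub, Submodule.mem_map]
  constructor
  · rintro ⟨r, hr, rfl⟩
    obtain ⟨s, rfl⟩ := (mem_Rsub x y M hu).1 hr
    exact ⟨s, rfl⟩
  · rintro ⟨s, rfl⟩
    exact ⟨_, (mem_Rsub x y M hu).2 ⟨s, rfl⟩, rfl⟩

end evM

section algebra

variable [IsAlgClosed k] (hK : IsFunctionField k K) (x y : K)
  (hxy : IntermediateField.adjoin k ({x, y} : Set K) = ⊤) (f g : MvPolynomial (Fin 2) k)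
  (hf : Irreducible f) (hfxy : aeval ![x, y] f = 0)
  (M : Ideal (MvPolynomial (Fin 2) k)) [M.IsMaximal]
  (hu : ∀ v : M.primeCompl, IsUnit ((aeval ![x, y] : MvPolynomial (Fin 2) k →ₐ[k] K) v))

include hK hxy hf hfxy in
/-- The kernel of the evaluation on the local ring is generated by `f`. -/
lemma ker_evM {s : Localization.AtPrime M} (hs : evM x y M hu s = 0) :
    ∃ s', s = algebraMap (MvPolynomial (Fin 2) k) (Localization.AtPrime M) f * s' := by
  obtain ⟨u, v, hv, huv, hev⟩ := evM_frac x y M hu s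
  rw [hs, zero_mul] at hev
  obtain ⟨q, hq⟩ := Groth.Agent.Lib.Helper88.PK.dvd_of_aeval_eq_zero hK x y hxy f hf hfxy u
    hev.symm
  have hvu : IsUnit (algebraMap (MvPolynomial (Fin 2) k) (Localization.AtPrime M) v) :=
    IsLocalization.map_units (Localization.AtPrime M) (⟨v, hv⟩ : M.primeCompl)
  obtain ⟨vi, hvi⟩ := hvu.exists_right_inv
  refine ⟨algebraMap (MvPolynomial (Fin 2) k) (Localization.AtPrime M) q * vi, ?_⟩
  have h1 : s = s * algebraMap (MvPolynomial (Fin 2) k) (Localization.AtPrime M) v * vi := by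
    rw [mul_assoc, hvi, mul_one]
  rw [h1, huv, hq, map_mul]
  ring

include hK hxy hf hfxy in
/-- `A_M / (f, g) ≅ R / g R`. -/
theorem finrank_quot_eq :
    Module.finrank k (Localization.AtPrime M ⧸
      Ideal.map (algebraMap (MvPolynomial (Fin 2) k) (Localization.AtPrime M))
        (Ideal.span {f, g})) =
    Module.finrank k (RelQuot (gRsub x y M hu (aeval ![x, y] g)) (Rsub x y M hu)) := by
  set AM := Localization.AtPrime M with hAM
  set aM := algebraMap (MvPolynomial (Fin 2) k) AM with haM
  set eM := evM x y M hu with heM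
  set gb : K := aeval ![x, y] g with hgb
  set I : Ideal AM := Ideal.map aM (Ideal.span {f, g}) with hI
  have hIspan : I = Ideal.span {aM f, aM g} := by
    rw [hI, Ideal.map_span, Set.image_pair]
  have hef : eM (aM f) = 0 := by
    rw [heM, haM, evM_algebraMap, hfxy]
  have heg : eM (aM g) = gb := by
    rw [heM, haM, evM_algebraMap]
  set Ψ : AM →ₗ[k] RelQuot (gRsub x y M hu gb) (Rsub x y M hu) :=
    (Submodule.mkQ _).comp (eM.toLinearMap.rangeRestrict) with hΨ
  have hΨsurj : Function.Surjective Ψ := by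
    rw [hΨ]
    exact (Submodule.mkQ_surjective _).comp (LinearMap.surjective_rangeRestrict _)
  have hΨker : LinearMap.ker Ψ = I.restrictScalars k := by
    ext s
    rw [LinearMap.mem_ker, Submodule.restrictScalars_mem]
    have h1 : Ψ s = 0 ↔ eM s ∈ gRsub x y M hu gb := by
      rw [hΨ, LinearMap.comp_apply, Submodule.mkQ_apply, Submodule.Quotient.mk_eq_zero,
        Submodule.mem_comap]
      rfl
    rw [h1, mem_gRsub, hIspan, Ideal.mem_span_pair]
    constructor
    · rintro ⟨s', hs'⟩
      have h2 : eM (s - aM g * s') = 0 := by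
        rw [map_sub, map_mul, heg, ← hs', sub_self]
      obtain ⟨s'', hs''⟩ := ker_evM hK x y hxy f hf hfxy M hu h2
      refine ⟨s'', s', ?_⟩
      have : s = aM f * s'' + aM g * s' := by
        rw [← hs'']
        ring
      rw [this]
      ring
    · rintro ⟨a, b, rfl⟩
      refine ⟨b, ?_⟩
      rw [map_add, map_mul, map_mul, hef, heg, mul_zero, zero_add, mul_comm]
  have e1 : (AM ⧸ I.restrictScalars k) ≃ₗ[k] AM ⧸ I :=
    Submodule.Quotient.restrictScalarsEquiv k I
  have e2 : (AM ⧸ LinearMap.ker Ψ) ≃ₗ[k] RelQuot (gRsub x y M hu gb) (Rsub x y M hu) :=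
    Ψ.quotKerEquivOfSurjective hΨsurj
  have e3 : (AM ⧸ LinearMap.ker Ψ) ≃ₗ[k] (AM ⧸ I.restrictScalars k) :=
    Submodule.quotEquivOfEq _ _ hΨker
  exact (e1.symm.trans (e3.symm.trans e2)).finrank_eq

end algebra

end Groth.Agent.Lib.Helper88.IM
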