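/-
Local intersection multiplicity on a plane curve (S11077): conductor and the final count.
Author: helper88
-/
import Groth.Agent.Lib.Helper88.IntMultC

set_option autoImplicit false
set_option linter.unusedSectionVars false
set_option linter.style.haveILetI false

namespace Groth.Agent.Lib.Helper88.IM

open FunFld WithZero MvPolynomial Groth.Agent.Lib.Helper88.FF Groth.Agent.Lib.Helper88
  Groth.Agent.Lib.Helper88.AJ Groth.Agent.Lib.Helper34.FunFldLocRing
  Groth.Agent.Lib.Helper34.FunFldCond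

variable {k K : Type*} [Field k] [Field K] [Algebra k K]

/-- Values of polynomials at places over the point. -/
lemma val_ev (x y : K) (c : Fin 2 → k) (Q : Place k K)
    (hQ : ∀ i, Q.1 (![x, y] i - algebraMap k K (c i)) < 1) (v : MvPolynomial (Fin 2) k) :
    Q.1 (aeval ![x, y] v) ≤ 1 ∧ (eval c v ≠ 0 → Q.1 (aeval ![x, y] v) = 1) := by
  have h1 := val_aeval_sub_lt Q ![x, y] c hQ v
  constructor
  · have e : aeval ![x, y] v = (aeval ![x, y] v - algebraMap k K (eval c v)) +
        algebraMap k K (eval c v) := by ring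
    rw [e]
    exact (Q.1.map_add _ _).trans (max_le h1.le (Q.2.1 _))
  · intro hne
    have h2 : Q.1 (algebraMap k K (eval c v)) = 1 := val_algebraMap Q hne
    have := Valuation.map_eq_of_sub_lt Q.1 (x := algebraMap k K (eval c v))
      (y := aeval ![x, y] v) (by rw [h2]; exact h1)
    rw [this, h2]

/-- **Conductor**: functions vanishing to high order at all places over the point are in the
local ring of the point. -/
lemma exists_cond [IsAlgClosed k] (hK : IsFunctionField k K) (x y : K)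
    (hxy : IntermediateField.adjoin k ({x, y} : Set K) = ⊤) (P : Place k K) (c : Fin 2 → k)
    (hc : ∀ i, P.1 (![x, y] i - algebraMap k K (c i)) < 1) (F : Finset (Place k K))
    (hF : ∀ Q, Q ∈ F ↔ ∀ i, Q.1 (![x, y] i - algebraMap k K (c i)) < 1) :
    ∃ N : ℕ, ∀ z : K, (∀ Q ∈ F, Q.1 z ≤ exp (-(N : ℤ))) →
      ∃ u v : MvPolynomial (Fin 2) k, eval c v ≠ 0 ∧ z * aeval ![x, y] v = aeval ![x, y] u := by
  classical
  have hfrac : IntermediateField.adjoin k (Set.range (![x, y] : Fin 2 → K)) = ⊤ := by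
    rw [range_pair]
    exact hxy
  obtain ⟨c', hcA, hc0, hcond⟩ := exists_conductor hK (![x, y] : Fin 2 → K) hfrac
  have hN : ∃ N : ℕ, ∀ Q ∈ F, exp (-(N : ℤ)) ≤ Q.1 c' := by
    choose e he using fun Q : Place k K => exists_le_exp_nat (Q.1 c')⁻¹
    refine ⟨F.sup e, fun Q hQ => ?_⟩
    have h0 : ((e Q : ℕ) : ℤ) ≤ ((F.sup e : ℕ) : ℤ) := by exact_mod_cast Finset.le_sup hQ
    have h1 : (Q.1 c')⁻¹ ≤ exp ((F.sup e : ℕ) : ℤ) := (he Q).trans (exp_le_exp.2 h0)
    have hQc : Q.1 c' ≠ 0 := (Valuation.ne_zero_iff _).2 hc0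
    rw [exp_neg]
    exact inv_le_of_inv_le₀ (zero_lt_iff.2 hQc) h1
  obtain ⟨N, hN⟩ := hN
  refine ⟨N, fun z hz => ?_⟩
  set φ : Fin 3 → K := ![(1 : K), x, y] with hφ
  have hPmax : ∀ i, P.1 (φ i) ≤ P.1 (φ 0) := by
    intro i
    show P.1 _ ≤ P.1 (1 : K)
    rw [map_one]
    fin_cases i
    · show P.1 (1 : K) ≤ 1
      rw [map_one]
    · show P.1 x ≤ 1
      have := (val_ev x y c P hc (X 0)).1
      simpa using this
    · show P.1 y ≤ 1
      have := (val_ev x y c P hc (X 1)).1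
      simpa using this
  have hyF : ∀ Q : Place k K, SameImage φ P Q → Q.1 (z / c') ≤ 1 := by
    intro Q hQ
    have hQF : Q ∈ F := (hF Q).2 ((sameImage_iff x y P Q c hc).1 hQ)
    have hQc : Q.1 c' ≠ 0 := (Valuation.ne_zero_iff _).2 hc0
    rw [map_div₀]
    exact (div_le_one₀ (zero_lt_iff.2 hQc)).2 ((hz Q hQF).trans (hN Q hQF))
  have hy : ∀ Q : Place k K, (∀ i, Q.1 (φ i) ≤ Q.1 (φ 0)) → 1 < Q.1 (z / c') →
      ¬ SameImage φ P Q := fun Q _ h1 h2 => absurd (hyF Q h2) (not_le.2 h1)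
  obtain ⟨w, hwA, hwP, hwB⟩ := exists_clear φ hK P 0 one_ne_zero hPmax (z / c') hy
  have hmem : c' * (w * (z / c')) ∈ Algebra.adjoin k (Set.range (![x, y] : Fin 2 → K)) := by
    apply hcond
    intro Q hQ
    apply hwB
    intro i
    show Q.1 _ ≤ Q.1 (1 : K)
    rw [map_one]
    fin_cases i
    · show Q.1 (1 : K) ≤ 1
      rw [map_one]
    · exact hQ 0
    · exact hQ 1
  rw [hφ, adjoin_ratio_eq] at hwA
  rw [Algebra.adjoin_range_eq_range_aeval] at hmem
  obtain ⟨v, hv⟩ := hwA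
  obtain ⟨u, hu⟩ := hmem
  have hv' : aeval ![x, y] v = w := hv
  have hu' : aeval ![x, y] u = c' * (w * (z / c')) := hu
  refine ⟨u, v, ?_, ?_⟩
  · apply eval_ne_zero_of_eq_one P ![x, y] c hc
    rw [hv']
    exact hwP
  · rw [hv', hu']
    field_simp

end Groth.Agent.Lib.Helper88.IM
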