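/-
Local intersection multiplicity on a plane curve (S11077): the theorem.
Author: helper88
-/
import Groth.Agent.Lib.Helper88.IntMultD

set_option autoImplicit false
set_option linter.unusedSectionVars false
set_option linter.style.haveILetI false

namespace Groth.Agent.Lib.Helper88.IM

open FunFld WithZero MvPolynomial Groth.Agent.Lib.Helper88.FF Groth.Agent.Lib.Helper88
  Groth.Agent.Lib.Helper88.AJ Groth.Agent.Lib.Helper34.FunFldLocRing
  Groth.Agent.Lib.Helper34.FunFldCond

variable {k K : Type*} [Field k] [Field K] [Algebra k K]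

/-- **Local intersection multiplicity** (S11077). -/
theorem int_mult [IsAlgClosed k] (hK : IsFunctionField k K) (x y : K)
    (hxy : IntermediateField.adjoin k ({x, y} : Set K) = ⊤) (f g : MvPolynomial (Fin 2) k)
    (hf : Irreducible f) (hfxy : aeval ![x, y] f = 0) (hgxy : aeval ![x, y] g ≠ 0)
    (P : Place k K) (c : Fin 2 → k)
    (hc : ∀ i, P.1 (![x, y] i - algebraMap k K (c i)) < 1)
    (M : Ideal (MvPolynomial (Fin 2) k)) [M.IsMaximal]
    (hM : M = Ideal.span {X 0 - C (c 0), X 1 - C (c 1)}) :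
    ∑ᶠ Q ∈ {Q : Place k K | SameImage ![(1 : K), x, y] P Q}, Q.ord (aeval ![x, y] g) =
      (Module.finrank k (Localization.AtPrime M ⧸
        Ideal.map (algebraMap (MvPolynomial (Fin 2) k) (Localization.AtPrime M))
          (Ideal.span {f, g})) : ℤ) := by
  classical
  set gb : K := aeval ![x, y] g with hgb
  -- the maximal ideal
  have hMIa : M = Ia c := by
    rw [hM, Ia]
    congr 1
    ext p
    simp only [Set.mem_insert_iff, Set.mem_singleton_iff, Set.mem_range, Fin.exists_fin_two]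
    constructor
    · rintro (h | h)
      · exact Or.inl h.symm
      · exact Or.inr h.symm
    · rintro (h | h)
      · exact Or.inl h.symm
      · exact Or.inr h.symm
  have hmemM : ∀ v : MvPolynomial (Fin 2) k, v ∈ M ↔ eval c v = 0 := by
    intro v
    rw [hMIa]
    constructor
    · exact eval_of_mem c
    · intro h
      have := (taylor_mem c v).2
      rwa [h, map_zero, sub_zero] at this
  -- the fibre
  have hset : {Q : Place k K | SameImage ![(1 : K), x, y] P Q} =
      {Q : Place k K | ∀ i, Q.1 (![x, y] i - algebraMap k K (c i)) < 1} := by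
    ext Q
    exact sameImage_iff x y P Q c hc
  have hfin := finite_fibre hK x y hxy c
  set F := hfin.toFinset with hFdef
  have hF : ∀ Q, Q ∈ F ↔ ∀ i, Q.1 (![x, y] i - algebraMap k K (c i)) < 1 := by
    intro Q
    rw [hFdef, Set.Finite.mem_toFinset]
    rfl
  have hPF : P ∈ F := (hF P).2 hc
  -- units
  have hu : ∀ v : M.primeCompl,
      IsUnit ((aeval ![x, y] : MvPolynomial (Fin 2) k →ₐ[k] K) v) := by
    intro v
    have hv : eval c (v : MvPolynomial (Fin 2) k) ≠ 0 := fun h => v.2 ((hmemM _).2 h)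
    have h1 := (val_ev x y c P hc v).2 hv
    apply isUnit_iff_ne_zero.2
    intro h0
    rw [h0, map_zero] at h1
    exact zero_ne_one h1
  set R := Rsub x y M hu with hR
  set gR := gRsub x y M hu gb with hgR
  have hmemR : ∀ z : K, z ∈ R ↔ ∃ u v : MvPolynomial (Fin 2) k, eval c v ≠ 0 ∧
      z * aeval ![x, y] v = aeval ![x, y] u := by
    intro z
    rw [hR, mem_Rsub]
    constructor
    · rintro ⟨s, rfl⟩
      obtain ⟨u, v, hv, -, hev⟩ := evM_frac x y M hu s
      exact ⟨u, v, fun h => hv ((hmemM v).2 h), hev⟩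
    · rintro ⟨u, v, hv, huv⟩
      have hvM : v ∈ M.primeCompl := fun h => hv ((hmemM v).1 h)
      refine ⟨IsLocalization.mk' (Localization.AtPrime M) u (⟨v, hvM⟩ : M.primeCompl), ?_⟩
      have h1 := IsLocalization.mk'_spec (Localization.AtPrime M) u (⟨v, hvM⟩ : M.primeCompl)
      have h2 := congrArg (evM x y M hu) h1
      rw [map_mul, evM_algebraMap, evM_algebraMap] at h2
      have hv0 : aeval ![x, y] v ≠ 0 := (hu ⟨v, hvM⟩).ne_zero
      exact mul_right_cancel₀ hv0 (h2.trans huv.symm)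
  -- orders of `gb`
  have hgb0 : gb ≠ 0 := hgxy
  set ng : Place k K → ℤ := fun Q => Q.ord gb with hng
  have hgbval : ∀ Q : Place k K, Q.1 gb = exp (-(ng Q)) := fun Q => val_eq_exp_neg_ord Q hgb0
  have hng0 : ∀ Q ∈ F, 0 ≤ ng Q := by
    intro Q hQ
    exact (val_le_one_iff Q hgb0).1 (val_ev x y c Q ((hF Q).1 hQ) g).1
  set Rt := LL F (fun _ => (0 : ℤ)) with hRt
  set gRt := LL F ng with hgRt
  have hRRt : R ≤ Rt := by
    intro z hz
    obtain ⟨u, v, hv, huv⟩ := (hmemR z).1 hz
    rw [hRt, mem_LL]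
    intro Q hQ
    have hQ' := (hF Q).1 hQ
    have h1 := (val_ev x y c Q hQ' v).2 hv
    have h2 := (val_ev x y c Q hQ' u).1
    rw [← huv, map_mul, h1, mul_one] at h2
    simpa using h2
  have hmul : ∀ (n : Place k K → ℤ) (z : K),
      gb * z ∈ LL F (fun Q => n Q + ng Q) ↔ z ∈ LL F n := by
    intro n z
    rw [mem_LL, mem_LL]
    refine forall_congr' fun Q => forall_congr' fun hQ => ?_
    rw [map_mul, hgbval Q]
    have e : exp (-(n Q + ng Q)) = exp (-(ng Q)) * exp (-(n Q)) := by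
      rw [← exp_add]
      congr 1
      ring
    rw [e]
    exact mul_le_mul_iff_right₀ (zero_lt_iff.2 exp_ne_zero)
  have hgRR : gR ≤ R := by
    intro z hz
    rw [hgR, mem_gRsub] at hz
    obtain ⟨s, rfl⟩ := hz
    rw [hR, mem_Rsub]
    refine ⟨algebraMap (MvPolynomial (Fin 2) k) (Localization.AtPrime M) g * s, ?_⟩
    rw [map_mul, evM_algebraMap]
  have hmemgR : ∀ z : K, z ∈ gR ↔ ∃ r ∈ R, gb * r = z := by
    intro z
    rw [hgR, mem_gRsub]
    constructor
    · rintro ⟨s, rfl⟩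
      exact ⟨_, (mem_Rsub x y M hu).2 ⟨s, rfl⟩, rfl⟩
    · rintro ⟨r, hr, rfl⟩
      obtain ⟨s, rfl⟩ := (mem_Rsub x y M hu).1 hr
      exact ⟨s, rfl⟩
  have hgRgRt : gR ≤ gRt := by
    intro z hz
    obtain ⟨r, hr, rfl⟩ := (hmemgR z).1 hz
    have := (hmul (fun _ => 0) r).2 (hRRt hr)
    simpa using this
  have hgRtRt : gRt ≤ Rt := LL_mono hng0
  -- conductor
  obtain ⟨N, hN⟩ := exists_cond hK x y hxy P c hc F hF
  set Cn := LL F (fun Q => (N : ℤ) + ng Q) with hCn
  have hCgR : Cn ≤ gR := by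
    intro z hz
    rw [hmemgR]
    refine ⟨z / gb, ?_, by field_simp⟩
    have h1 : gb * (z / gb) = z := by field_simp
    have h2 : z / gb ∈ LL F (fun _ => (N : ℤ)) := by
      rw [← hmul, h1]
      exact hz
    rw [hmemR]
    exact hN _ (fun Q hQ => (mem_LL.1 h2) Q hQ)
  -- finiteness
  have hCRt : ∀ Q ∈ F, (0 : ℤ) ≤ (N : ℤ) + ng Q := by
    intro Q hQ
    have := hng0 Q hQ
    positivity
  have hT1 : ∃ T : ℕ, ∑ Q ∈ F, (((N : ℤ) + ng Q) - 0) = (T : ℤ) := by
    refine ⟨(∑ Q ∈ F, (((N : ℤ) + ng Q) - 0)).toNat, (Int.toNat_of_nonneg ?_).symm⟩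
    apply Finset.sum_nonneg
    intro Q hQ
    have := hCRt Q hQ
    omega
  obtain ⟨T1, hT1⟩ := hT1
  obtain ⟨hfinC, -⟩ := finrank_LL hK F T1 (fun _ => 0) (fun Q => (N : ℤ) + ng Q) hCRt hT1
  haveI : FiniteDimensional k (RelQuot Cn Rt) := hfinC
  haveI hfin1 : FiniteDimensional k (RelQuot gR Rt) :=
    relQuot_finite_of_surjective (A := Cn) (B := Rt) (C := gR) (D := Rt) le_rfl
      (fun b _ hb => hCgR hb) (fun d hd => ⟨d, hd, by simp⟩)
  -- towers
  have hRgRt : gR ≤ Rt := hgRR.trans hRRt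
  have ht1 := relQuot_tower_finrank (A := gR) (B := R) (C := Rt) hgRR hRRt
  have ht2 := relQuot_tower_finrank (A := gR) (B := gRt) (C := Rt) hgRgRt hgRtRt
  -- multiplication by `gb`
  have hmaps : ∀ z ∈ Rt, (LinearMap.mulLeft k gb) z ∈ gRt := by
    intro z hz
    have := (hmul (fun _ => 0) z).2 hz
    simpa using this
  set ψ : ↥Rt →ₗ[k] RelQuot gR gRt :=
    (Submodule.mkQ _).comp ((LinearMap.mulLeft k gb).restrict hmaps) with hψ
  have hψsurj : Function.Surjective ψ := by
    intro q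
    obtain ⟨⟨w, hw⟩, rfl⟩ := Submodule.mkQ_surjective _ q
    have h1 : gb * (w / gb) = w := by field_simp
    have hw' : w / gb ∈ Rt := by
      have : gb * (w / gb) ∈ LL F (fun Q => (fun _ => (0 : ℤ)) Q + ng Q) := by
        rw [h1]
        simpa using hw
      exact (hmul (fun _ => 0) (w / gb)).1 this
    refine ⟨⟨w / gb, hw'⟩, ?_⟩
    rw [hψ, LinearMap.comp_apply]
    congr 1
    apply Subtype.ext
    exact h1
  have hψker : ∀ b : ↥Rt, ψ b = 0 ↔ (b : K) ∈ R := by
    intro b
    rw [hψ, LinearMap.comp_apply, Submodule.mkQ_apply, Submodule.Quotient.mk_eq_zero,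
      Submodule.mem_comap]
    show gb * (b : K) ∈ gR ↔ _
    rw [hmemgR]
    constructor
    · rintro ⟨r, hr, hrb⟩
      have := mul_left_cancel₀ hgb0 hrb
      rw [← this]
      exact hr
    · intro hb
      exact ⟨b, hb, rfl⟩
  have eiso := relQuotEquivOfSurjective (A := R) (B := Rt) ψ hψsurj hψker
  have hiso : Module.finrank k (RelQuot R Rt) = Module.finrank k (RelQuot gR gRt) :=
    eiso.finrank_eq
  -- the normalisation count
  have hT2 : ∃ T : ℕ, ∑ Q ∈ F, (ng Q - 0) = (T : ℤ) := by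
    refine ⟨(∑ Q ∈ F, (ng Q - 0)).toNat, (Int.toNat_of_nonneg ?_).symm⟩
    apply Finset.sum_nonneg
    intro Q hQ
    have := hng0 Q hQ
    omega
  obtain ⟨T2, hT2⟩ := hT2
  obtain ⟨-, hcount⟩ := finrank_LL hK F T2 (fun _ => 0) ng hng0 hT2
  have hmain : Module.finrank k (RelQuot gR R) = T2 := by
    have h3 : Module.finrank k (RelQuot gRt Rt) = T2 := hcount
    omega
  rw [finrank_quot_eq hK x y hxy f g hf hfxy M hu, hmain, ← hT2]
  rw [finsum_mem_congr hset (fun Q _ => rfl), finsum_mem_eq_finite_toFinset_sum _ hfin]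
  refine Finset.sum_congr rfl fun Q _ => ?_
  simp [hng]

end Groth.Agent.Lib.Helper88.IM
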