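import Groth.Agent.Lib.Helper16.Kun3
import Groth.Agent.Lib.Helper25.TensorFin

/-!
# Top-degree Künneth formula for tensor products of bounded above complexes of modules

If `P` vanishes above `a` and `F` vanishes above `b`, then
`H^{a+b}(P ⊗ F) ≃ H^a(P) ⊗ H^b(F)` (right exactness of the tensor product).
-/

set_option autoImplicit false
universe u

namespace Groth.Agent.Lib.Helper88.Inv1

open CategoryTheory CategoryTheory.Limits MonoidalCategory HomologicalComplex TensorProduct
open Groth.Agent.Lib.Helper25.TensorCx Groth.Agent.Lib.Helper16.Kun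

variable {R : Type u} [CommRing R]

section Top

variable (K : Cx R) (a : ℤ) (hd : K.d a (a + 1) = 0)

/-- cycles = everything in the top degree -/
noncomputable def cycEquiv : K.cycles a ≃ₗ[R] K.X a :=
  LinearEquiv.ofBijective (K.iCycles a).hom (iCycles_bijective_of_d_eq_zero K a hd)

theorem cycEquiv_apply (z : K.cycles a) : cycEquiv K a hd z = K.iCycles a z := rfl

/-- the quotient map onto the top cohomology -/
noncomputable def topQ : K.X a →ₗ[R] K.homology a :=
  (K.homologyπ a).hom ∘ₗ (cycEquiv K a hd).symm.toLinearMap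

theorem topQ_iCycles (z : K.cycles a) : topQ K a hd (K.iCycles a z) = K.homologyπ a z := by
  change K.homologyπ a ((cycEquiv K a hd).symm (K.iCycles a z)) = _
  rw [← cycEquiv_apply K a hd z, LinearEquiv.symm_apply_apply]

theorem topQ_surjective : Function.Surjective (topQ K a hd) := by
  intro c
  obtain ⟨z, rfl⟩ := homologyπ_surjective K a c
  exact ⟨K.iCycles a z, topQ_iCycles K a hd z⟩

theorem topQ_d (a₀ : ℤ) (x : K.X a₀) : topQ K a hd (K.d a₀ a x) = 0 := by
  rw [← toCycles_i_apply K a₀ a x, topQ_iCycles, homologyπ_toCycles_apply]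

theorem exact_d_topQ (a₀ : ℤ) (h : a₀ + 1 = a) :
    Function.Exact (K.d a₀ a).hom (topQ K a hd) := by
  intro x
  constructor
  · intro hx
    obtain ⟨z, rfl⟩ : ∃ z, K.iCycles a z = x := ⟨(cycEquiv K a hd).symm x, by
      rw [← cycEquiv_apply K a hd, LinearEquiv.apply_symm_apply]⟩
    rw [topQ_iCycles] at hx
    obtain ⟨y, rfl⟩ := exists_toCycles_of_homologyπ_eq_zero K a₀ a h z hx
    exact ⟨y, (toCycles_i_apply K a₀ a y).symm⟩
  · rintro ⟨y, rfl⟩
    exact topQ_d K a hd a₀ y

theorem topQ_natural {K K' : Cx R} (φ : K ⟶ K') (a : ℤ) (hd : K.d a (a + 1) = 0)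
    (hd' : K'.d a (a + 1) = 0) (x : K.X a) :
    homologyMap φ a (topQ K a hd x) = topQ K' a hd' (φ.f a x) := by
  obtain ⟨z, rfl⟩ : ∃ z, K.iCycles a z = x := ⟨(cycEquiv K a hd).symm x, by
    rw [← cycEquiv_apply K a hd, LinearEquiv.apply_symm_apply]⟩
  rw [topQ_iCycles, homologyMap_homologyπ_apply, ← cyclesMap_i_apply, topQ_iCycles]

end Top

section Generic

variable {X Y Z : Type*} [AddCommGroup X] [AddCommGroup Y] [AddCommGroup Z]
  [Module R X] [Module R Y] [Module R Z]

/-- two quotients with the same kernel are isomorphic -/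
noncomputable def equivOfKerEq (f : X →ₗ[R] Y) (g : X →ₗ[R] Z) (hf : Function.Surjective f)
    (hg : Function.Surjective g) (h : LinearMap.ker f = LinearMap.ker g) : Y ≃ₗ[R] Z :=
  (f.quotKerEquivOfSurjective hf).symm ≪≫ₗ Submodule.quotEquivOfEq _ _ h ≪≫ₗ
    g.quotKerEquivOfSurjective hg

end Generic

section Kunneth

variable (P F : Cx R) (a b n : ℤ) (h : a + b = n)
  (hP : ∀ i, a < i → IsZero (P.X i)) (hF : ∀ i, b < i → IsZero (F.X i))

theorem d_eq_zero_of_vanishes (K : Cx R) (a : ℤ) (hK : ∀ i, a < i → IsZero (K.X i)) :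
    K.d a (a + 1) = 0 := (hK (a + 1) (by omega)).eq_of_tgt _ _

include hP hF h in
theorem tensor_d_eq_zero : (P ⊗ F : Cx R).d n (n + 1) = 0 :=
  (Groth.Agent.Lib.Helper25.TensorFin.isZero_tensor_above P F a b hP hF (n + 1)
    (by omega)).eq_of_tgt _ _

/-- the map `(P ⊗ F)^n → H^a(P) ⊗ H^b(F)` -/
noncomputable def psi : (P ⊗ F : Cx R).X n →ₗ[R] (P.homology a) ⊗[R] (F.homology b) :=
  TensorProduct.map (topQ P a (d_eq_zero_of_vanishes P a hP))
    (topQ F b (d_eq_zero_of_vanishes F b hF)) ∘ₗ comp P F a b n h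

theorem psi_surjective : Function.Surjective (psi P F a b n h hP hF) := by
  intro t
  obtain ⟨s, rfl⟩ := TensorProduct.map_surjective
    (topQ_surjective P a (d_eq_zero_of_vanishes P a hP))
    (topQ_surjective F b (d_eq_zero_of_vanishes F b hF)) t
  exact ⟨inc P F a b n h s, by
    change TensorProduct.map _ _ (comp P F a b n h (inc P F a b n h s)) = _
    rw [comp_inc_self]⟩

theorem psi_d (n₀ : ℤ) (hn : n₀ + 1 = n) (z : (P ⊗ F : Cx R).X n₀) :
    psi P F a b n h hP hF ((P ⊗ F : Cx R).d n₀ n z) = 0 := by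
  change TensorProduct.map _ _ (comp P F a b n h ((P ⊗ F : Cx R).d n₀ n z)) = 0
  rw [comp_d P F (a - 1) a (b - 1) b n₀ n (by omega) (by omega) hn h z, map_add,
    map_zsmul_unit, LinearMap.map_rTensor, LinearMap.map_lTensor]
  have h1 : (topQ P a (d_eq_zero_of_vanishes P a hP)) ∘ₗ (P.d (a - 1) a).hom = 0 := by
    ext x
    exact topQ_d P a _ (a - 1) x
  have h2 : (topQ F b (d_eq_zero_of_vanishes F b hF)) ∘ₗ (F.d (b - 1) b).hom = 0 := by
    ext x
    exact topQ_d F b _ (b - 1) x
  rw [h1, h2, TensorProduct.map_zero_left, TensorProduct.map_zero_right]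
  simp

theorem ker_psi (n₀ : ℤ) (hn : n₀ + 1 = n) :
    LinearMap.ker (psi P F a b n h hP hF) = LinearMap.range ((P ⊗ F : Cx R).d n₀ n).hom := by
  apply le_antisymm
  · intro x hx
    have hx' : comp P F a b n h x ∈ LinearMap.ker (TensorProduct.map
        (topQ P a (d_eq_zero_of_vanishes P a hP)) (topQ F b (d_eq_zero_of_vanishes F b hF))) := hx
    rw [TensorProduct.map_ker (exact_d_topQ P a _ (a - 1) (by omega))
      (topQ_surjective P a _) (exact_d_topQ F b _ (b - 1) (by omega))
      (topQ_surjective F b _), Submodule.mem_sup] at hx'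
    obtain ⟨u, ⟨t1, rfl⟩, v, ⟨t2, rfl⟩, huv⟩ := hx'
    refine ⟨(a.negOnePow : ℤˣ) • inc P F a (b - 1) n₀ (by omega) t1 +
      inc P F (a - 1) b n₀ (by omega) t2, ?_⟩
    apply ext_comp
    intro p q hpq
    by_cases hp : p = a
    · subst hp
      obtain rfl : q = b := by omega
      have e1 : comp P F (p - 1) q n₀ (by omega) ((p.negOnePow : ℤˣ) •
          inc P F p (q - 1) n₀ (by omega) t1 + inc P F (p - 1) q n₀ (by omega) t2) = t2 := by
        rw [map_add, map_zsmul_unit, comp_inc_self,
          comp_inc_ne P F (p - 1) q p (q - 1) n₀ (by omega) (by omega) (by omega), smul_zero,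
          zero_add]
      have e2 : comp P F p (q - 1) n₀ (by omega) ((p.negOnePow : ℤˣ) •
          inc P F p (q - 1) n₀ (by omega) t1 + inc P F (p - 1) q n₀ (by omega) t2) =
          (p.negOnePow : ℤˣ) • t1 := by
        rw [map_add, map_zsmul_unit, comp_inc_self,
          comp_inc_ne P F p (q - 1) (p - 1) q n₀ (by omega) (by omega) (by omega), add_zero]
      change comp P F p q n hpq ((P ⊗ F : Cx R).d n₀ n _) = _
      rw [comp_d P F (p - 1) p (q - 1) q n₀ n (by omega) (by omega) hn hpq, ← huv, e1, e2,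
        map_zsmul_unit, smul_smul, ← Int.negOnePow_add,
        Int.negOnePow_even _ ⟨p, rfl⟩, one_smul]
      exact add_comm _ _
    · have : Subsingleton (TensorProduct R (P.X p) (F.X q)) := by
        by_cases hpa : a < p
        · have := ModuleCat.subsingleton_of_isZero (hP p hpa)
          infer_instance
        · have := ModuleCat.subsingleton_of_isZero (hF q (by omega))
          infer_instance
      exact Subsingleton.elim _ _
  · rintro x ⟨z, rfl⟩
    exact psi_d P F a b n h hP hF n₀ hn z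

include h hP hF in
/-- **Top-degree Künneth formula.** -/
theorem nonempty_kunnethTop :
    Nonempty ((P ⊗ F : Cx R).homology n ≃ₗ[R] (P.homology a) ⊗[R] (F.homology b)) := by
  have hd := tensor_d_eq_zero P F a b n h hP hF
  refine ⟨equivOfKerEq (topQ (P ⊗ F : Cx R) n hd) (psi P F a b n h hP hF)
    (topQ_surjective _ n hd) (psi_surjective P F a b n h hP hF) ?_⟩
  rw [ker_psi P F a b n h hP hF (n - 1) (by omega)]
  exact (exact_d_topQ (P ⊗ F : Cx R) n hd (n - 1) (by omega)).linearMap_ker_eq

end Kunneth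

end Groth.Agent.Lib.Helper88.Inv1
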