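import Groth.Agent.Lib.Helper88.Inv1
import Groth.Agent.Lib.Helper25.KFlatQis
import Groth.Agent.Lib.Helper43.FreeRes
import Groth.Agent.Lib.Helper84.DRingPC
import Mathlib.RingTheory.PicardGroup
import Mathlib.RingTheory.LocalRing.Module

/-!
# Invertible objects over a local ring: algebra lemmas and the chain level splitting argument
-/

set_option autoImplicit false
universe u

namespace Groth.Agent.Lib.Helper88.Inv2

open CategoryTheory CategoryTheory.Limits MonoidalCategory HomologicalComplex TensorProduct
open Groth.Agent.Lib.Helper25.TensorCx Groth.Agent.Lib.Helper25.KFlat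
open Groth.Agent.Lib.Helper88.Inv1

attribute [local instance] HasDerivedCategory.standard

section Algebra

variable {A : Type u} [CommRing A]

/-- Nakayama: over a local ring the tensor product of nonzero finite modules is nonzero. -/
theorem nontrivial_tensor [IsLocalRing A] (M N : Type u) [AddCommGroup M] [Module A M]
    [AddCommGroup N] [Module A N] [Module.Finite A M] [Module.Finite A N] [Nontrivial M]
    [Nontrivial N] : Nontrivial (M ⊗[A] N) := by
  by_contra hc
  rw [not_nontrivial_iff_subsingleton] at hc
  let k := IsLocalRing.ResidueField A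
  have e := TensorProduct.AlgebraTensorModule.distribBaseChange A k M N
  have h2 : Nontrivial (k ⊗[A] M) := by
    rw [← not_subsingleton_iff_nontrivial, IsLocalRing.subsingleton_tensorProduct]
    exact not_subsingleton M
  have h3 : Nontrivial (k ⊗[A] N) := by
    rw [← not_subsingleton_iff_nontrivial, IsLocalRing.subsingleton_tensorProduct]
    exact not_subsingleton N
  have h4 : Nontrivial ((k ⊗[A] M) ⊗[k] (k ⊗[A] N)) :=
    (Module.FaithfullyFlat.nontrivial_tensorProduct_iff_right k (k ⊗[A] M)).2 h3
  have h5 : Subsingleton (k ⊗[A] (M ⊗[A] N)) := inferInstance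
  exact not_subsingleton _ (e.symm.toEquiv.subsingleton)

/-- an invertible module over a local ring is free of rank one -/
theorem nonempty_equiv_of_tensor_equiv [IsLocalRing A] (M N : Type u) [AddCommGroup M]
    [Module A M] [AddCommGroup N] [Module A N] (e : M ⊗[A] N ≃ₗ[A] A) :
    Nonempty (M ≃ₗ[A] A) := by
  haveI : Module.Invertible A M := Module.Invertible.left e
  haveI : Module.Free A M := Module.free_of_flat_of_isLocalRing
  exact Module.Invertible.free_iff_linearEquiv.1 inferInstance

theorem nonempty_equiv_of_tensor_equiv' [IsLocalRing A] (M N : Type u) [AddCommGroup M]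
    [Module A M] [AddCommGroup N] [Module A N] (e : M ⊗[A] N ≃ₗ[A] A) :
    Nonempty (N ≃ₗ[A] A) :=
  nonempty_equiv_of_tensor_equiv N M (TensorProduct.comm A N M ≪≫ₗ e)

/-- a split injection between free modules of rank one is bijective -/
theorem bijective_of_comp_eq_id {M M' : Type u} [AddCommGroup M] [Module A M] [AddCommGroup M']
    [Module A M'] (eM : M ≃ₗ[A] A) (eM' : M' ≃ₗ[A] A) (ι : M →ₗ[A] M') (r : M' →ₗ[A] M)
    (h : ∀ x, r (ι x) = x) : Function.Bijective ι := by
  haveI : Module.Invertible A M := Module.Invertible.congr eM.symm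
  haveI : Module.Invertible A M' := Module.Invertible.congr eM'.symm
  have hr : Function.Bijective r :=
    Module.Invertible.bijective_of_surjective (fun x => ⟨ι x, h x⟩)
  refine ⟨fun x y hxy => ?_, fun y => ⟨r y, hr.1 ?_⟩⟩
  · rw [← h x, ← h y, hxy]
  · rw [h]

end Algebra

end Groth.Agent.Lib.Helper88.Inv2
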