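import Groth.Agent.Lib.Helper88.Inv2

/-!
# Invertible objects over a local ring: chain level arguments

* `acyclic_of_acyclic_tensor`: tensoring with a K-flat bounded above complex whose top cohomology
  is free of rank one detects acyclicity of cohomologically bounded above complexes.
* `exists_quasiIso_single`: the splitting argument.
-/

set_option autoImplicit false
universe u

namespace Groth.Agent.Lib.Helper88.Inv3

open CategoryTheory CategoryTheory.Limits MonoidalCategory HomologicalComplex TensorProduct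
open Groth.Agent.Lib.Helper25 Groth.Agent.Lib.Helper25.TensorCx Groth.Agent.Lib.Helper25.KFlat
open Groth.Agent.Lib.Helper88.Inv1 Groth.Agent.Lib.Helper88.Inv2

attribute [local instance] HasDerivedCategory.standard

variable {A : Type u} [CommRing A]

section Detect

variable (F : Cx A) (b : ℤ) (hF : ∀ i, b < i → IsZero (F.X i)) (hFK : IsKFlat F)
  (eF : F.homology b ≃ₗ[A] A)

include hF hFK eF in
theorem isZero_top_of_acyclic_tensor (C : Cx A) (a : ℤ)
    (hC : ∀ i, a < i → IsZero (C.homology i)) (hCF : KFlat.Acyclic (C ⊗ F : Cx A)) :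
    IsZero (C.homology a) := by
  obtain ⟨C', α, hC'v, -, hα⟩ := Groth.Agent.Lib.Helper43.FreeRes.exists_free_resolution C a
    (fun i hi => (hC i hi).of_iso ((DerivedCategory.homologyFunctorFactors _ i).app C))
  have hαq : QuasiIso α := (DerivedCategory.isIso_Q_map_iff_quasiIso (C := ModuleCat.{u} A) α).1 hα
  have hq : QuasiIso (α ▷ F) := quasiIso_whiskerRight_of_isKFlat F hFK α hαq
  have hz : IsZero ((C' ⊗ F : Cx A).homology (a + b)) :=
    (hCF (a + b)).of_iso (asIso (homologyMap (α ▷ F) (a + b)))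
  obtain ⟨e⟩ := nonempty_kunnethTop C' F a b (a + b) rfl hC'v hF
  have hs : Subsingleton ((C' ⊗ F : Cx A).homology (a + b)) :=
    ModuleCat.subsingleton_of_isZero hz
  have e2 : C'.homology a ≃ₗ[A] (C' ⊗ F : Cx A).homology (a + b) :=
    (TensorProduct.rid A _).symm ≪≫ₗ
      TensorProduct.congr (LinearEquiv.refl A _) eF.symm ≪≫ₗ e.symm
  have hs' : Subsingleton (C'.homology a) := e2.toEquiv.subsingleton
  have hz' : IsZero (C'.homology a) := ModuleCat.isZero_of_subsingleton _
  exact hz'.of_iso (asIso (homologyMap α a)).symm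

include hF hFK eF in
theorem acyclic_of_acyclic_tensor (C : Cx A) (c : ℤ)
    (hC : ∀ i, c < i → IsZero (C.homology i)) (hCF : KFlat.Acyclic (C ⊗ F : Cx A)) : KFlat.Acyclic C := by
  have key : ∀ k : ℕ, ∀ i : ℤ, c - k < i → IsZero (C.homology i) := by
    intro k
    induction k with
    | zero =>
      intro i hi
      exact hC i (by simpa using hi)
    | succ k ih =>
      intro i hi
      by_cases h : c - k < i
      · exact ih i h
      · obtain rfl : i = c - k := by push_cast at hi; omega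
        exact isZero_top_of_acyclic_tensor F b hF hFK eF C _ ih hCF
  intro i
  exact key (c - i + 1).toNat i (by
    have := Int.self_le_toNat (c - i + 1)
    omega)

end Detect

section Split

variable (P F : Cx A) (a b : ℤ) (hab : a + b = 0)
  (hP : ∀ i, a < i → IsZero (P.X i)) (hF : ∀ i, b < i → IsZero (F.X i)) (hFK : IsKFlat F)
  (eP : P.homology a ≃ₗ[A] A) (eF : F.homology b ≃ₗ[A] A)
  (hPF : ∀ n : ℤ, n ≠ 0 → IsZero ((P ⊗ F : Cx A).homology n))

/-- `A` placed in degree `a` -/
noncomputable abbrev sgl (a : ℤ) : Cx A :=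
  (HomologicalComplex.single (ModuleCat.{u} A) (ComplexShape.up ℤ) a).obj (ModuleCat.of A A)

theorem sgl_vanishes (a : ℤ) : ∀ i, a < i → IsZero ((sgl (A := A) a).X i) := fun i hi =>
  isZero_single_obj_X _ _ _ _ (by omega)

theorem isIso_of_isZero {C : Type*} [Category C] [HasZeroMorphisms C] {X Y : C} (f : X ⟶ Y)
    (hX : IsZero X) (hY : IsZero Y) : IsIso f :=
  ⟨⟨0, hX.eq_of_src _ _, hY.eq_of_src _ _⟩⟩

include hab hP hF hFK eP eF hPF in
theorem exists_quasiIso_single : ∃ σ : sgl (A := A) a ⟶ P, QuasiIso σ := by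
  have hPd := d_eq_zero_of_vanishes P a hP
  obtain ⟨x₀, hx₀⟩ := topQ_surjective P a hPd (eP.symm 1)
  let s : ModuleCat.of A A ⟶ P.X a := ModuleCat.ofHom (LinearMap.toSpanSingleton A (P.X a) x₀)
  let r : P.X a ⟶ ModuleCat.of A A := ModuleCat.ofHom (eP.toLinearMap ∘ₗ topQ P a hPd)
  have hsr : s ≫ r = 𝟙 _ := by
    apply ModuleCat.hom_ext
    apply LinearMap.ext_ring
    change eP (topQ P a hPd ((1 : A) • x₀)) = (1 : A)
    rw [one_smul, hx₀, LinearEquiv.apply_symm_apply]
  let σ : sgl (A := A) a ⟶ P := mkHomFromSingle s (fun k hk => by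
    have hk' : a + 1 = k := hk
    exact (hP k (by omega)).eq_of_tgt _ _)
  let ρ : P ⟶ sgl (A := A) a := mkHomToSingle r (fun i hi => by
    apply ModuleCat.hom_ext
    apply LinearMap.ext
    intro x
    change eP (topQ P a hPd (P.d i a x)) = 0
    rw [topQ_d, map_zero])
  have hσρ : σ ≫ ρ = 𝟙 _ := by
    apply from_single_hom_ext
    rw [HomologicalComplex.comp_f, mkHomFromSingle_f, mkHomToSingle_f, Category.assoc,
      reassoc_of% hsr, Iso.hom_inv_id]
    rfl
  have hcomp : (σ ▷ F) ≫ (ρ ▷ F) = 𝟙 (sgl (A := A) a ⊗ F : Cx A) := by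
    rw [← MonoidalCategory.comp_whiskerRight, hσρ, MonoidalCategory.id_whiskerRight]
  have hH : ∀ n : ℤ, homologyMap (σ ▷ F) n ≫ homologyMap (ρ ▷ F) n = 𝟙 _ := by
    intro n
    rw [← homologyMap_comp, hcomp, homologyMap_id]
  have hiso : ∀ n : ℤ, IsIso (homologyMap (σ ▷ F) n) := by
    intro n
    by_cases hn : n = 0
    · subst hn
      obtain ⟨e1⟩ := nonempty_kunnethTop (sgl (A := A) a) F a b 0 hab (sgl_vanishes a) hF
      obtain ⟨e2⟩ := nonempty_kunnethTop P F a b 0 hab hP hF
      let eS : (sgl (A := A) a).homology a ≃ₗ[A] A :=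
        (singleObjHomologySelfIso (ComplexShape.up ℤ) a (ModuleCat.of A A)).toLinearEquiv
      let f1 : (sgl (A := A) a ⊗ F : Cx A).homology 0 ≃ₗ[A] A :=
        e1 ≪≫ₗ TensorProduct.congr eS eF ≪≫ₗ TensorProduct.lid A A
      let f2 : (P ⊗ F : Cx A).homology 0 ≃ₗ[A] A :=
        e2 ≪≫ₗ TensorProduct.congr eP eF ≪≫ₗ TensorProduct.lid A A
      have hb := bijective_of_comp_eq_id f1 f2 (homologyMap (σ ▷ F) 0).hom
        (homologyMap (ρ ▷ F) 0).hom (fun x => by
          have := congrArg (fun f => f x) (congrArg ModuleCat.Hom.hom (hH 0))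
          exact this)
      exact (ConcreteCategory.isIso_iff_bijective _).2 hb
    · have hz : IsZero ((sgl (A := A) a ⊗ F : Cx A).homology n) := by
        rw [IsZero.iff_id_eq_zero, ← hH n, (hPF n hn).eq_of_tgt (homologyMap (σ ▷ F) n) 0,
          zero_comp]
      exact isIso_of_isZero _ hz (hPF n hn)
  have hq : QuasiIso (σ ▷ F) := ⟨fun n => (quasiIsoAt_iff_isIso_homologyMap _ n).2 (hiso n)⟩
  have hcone : KFlat.Acyclic (CochainComplex.mappingCone σ ⊗ F : Cx A) :=
    acyclic_of_iso (Helper98.KoszulTensor.coneTensorIso σ F).symm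
      ((quasiIso_iff_acyclic_mappingCone (σ ▷ F)).1 hq)
  have hv : DRing.VanishesAbove (CochainComplex.mappingCone σ) (max a a) :=
    Groth.Agent.Lib.Helper84.DRingPC.vanishesAbove_mappingCone σ a a (sgl_vanishes a) hP
  have hb : ∀ i, a < i → IsZero ((CochainComplex.mappingCone σ).homology i) := by
    intro i hi
    rw [← HomologicalComplex.exactAt_iff_isZero_homology]
    exact ShortComplex.exact_of_isZero_X₂ _ (hv i (by simpa using hi))
  have hac := acyclic_of_acyclic_tensor F b hF hFK eF (CochainComplex.mappingCone σ) a hb hcone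
  exact ⟨σ, (quasiIso_iff_acyclic_mappingCone σ).2 hac⟩

end Split

end Groth.Agent.Lib.Helper88.Inv3
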