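import Groth.Agent.Lib.Helper88.Inv3
import Groth.Agent.Lib.Helper25.LTensorCxCompute
import Groth.Prelude.Def_Wider

/-!
# Invertible objects of `D(A)` for a Noetherian local ring `A`
-/

set_option autoImplicit false
universe u

namespace Groth.Agent.Lib.Helper88.Inv4

open CategoryTheory CategoryTheory.Limits MonoidalCategory HomologicalComplex TensorProduct
open Groth.Agent.Lib.Helper25 Groth.Agent.Lib.Helper25.TensorCx Groth.Agent.Lib.Helper25.KFlat
open Groth.Agent.Lib.Helper88.Inv1 Groth.Agent.Lib.Helper88.Inv2 Groth.Agent.Lib.Helper88.Inv3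
open DerivedCategory

attribute [local instance] HasDerivedCategory.standard

variable {A : Type u} [CommRing A]

/-- cohomology of `Q K` -/
noncomputable def homIso (K : Cx A) (i : ℤ) :
    (DerivedCategory.homologyFunctor (ModuleCat.{u} A) i).obj (Q.obj K) ≅ K.homology i :=
  (DerivedCategory.homologyFunctorFactors _ i).app K

/-- `A[-a]` as a shift of `A[0]` -/
noncomputable def sglIso (a : ℤ) : Q.obj (sgl (A := A) a) ≅ (Dual.inD A A)⟦(-a)⟧ :=
  ((DerivedCategory.singleFunctorIsoCompQ (ModuleCat.{u} A) a).app (ModuleCat.of A A)).symm ≪≫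
    (((DerivedCategory.singleFunctors (ModuleCat.{u} A)).shiftIso (-a) a 0 (by omega)).app
      (ModuleCat.of A A)).symm

theorem isZero_homology_inD (n : ℤ) (hn : n ≠ 0) :
    IsZero ((DerivedCategory.homologyFunctor (ModuleCat.{u} A) n).obj (Dual.inD A A)) := by
  have e : Dual.inD A A ≅ Q.obj (sgl (A := A) 0) :=
    (DerivedCategory.singleFunctorIsoCompQ (ModuleCat.{u} A) 0).app (ModuleCat.of A A)
  refine IsZero.of_iso ?_ ((DerivedCategory.homologyFunctor _ n).mapIso e ≪≫ homIso _ n)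
  exact isZero_single_obj_homology _ _ _ _ hn

theorem nonempty_homology_inD :
    Nonempty ((DerivedCategory.homologyFunctor (ModuleCat.{u} A) 0).obj (Dual.inD A A) ≃ₗ[A] A) := by
  have e : Dual.inD A A ≅ Q.obj (sgl (A := A) 0) :=
    (DerivedCategory.singleFunctorIsoCompQ (ModuleCat.{u} A) 0).app (ModuleCat.of A A)
  exact ⟨((DerivedCategory.homologyFunctor _ 0).mapIso e ≪≫ homIso _ 0 ≪≫
    singleObjHomologySelfIso (ComplexShape.up ℤ) 0 (ModuleCat.of A A)).toLinearEquiv⟩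

/-- existence of the top nonvanishing degree -/
theorem exists_top (X : Dual.D A) (b : ℤ) (hb : ∀ i : ℤ, b < i → Subsingleton (Dual.HD A X i))
    (hne : ∃ i : ℤ, Nontrivial (Dual.HD A X i)) :
    ∃ a : ℤ, Nontrivial (Dual.HD A X a) ∧ ∀ i : ℤ, a < i → Subsingleton (Dual.HD A X i) := by
  classical
  obtain ⟨a, ha, hmax⟩ := Int.exists_greatest_of_bdd (P := fun i => Nontrivial (Dual.HD A X i))
    ⟨b, fun z hz => by
      by_contra hlt
      have := hb z (by omega)
      exact not_subsingleton _ this⟩ hne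
  refine ⟨a, ha, fun i hi => ?_⟩
  rw [← not_nontrivial_iff_subsingleton]
  intro hn
  have := hmax i hn
  omega

section Main

variable (E : Cx A) [DRing.HasLTensorCx A E]

theorem tensor_iso (X : Dual.D A) (P F : Cx A) (eP : Q.obj P ≅ X) (eF : Q.obj F ≅ Q.obj E)
    (hFK : IsKFlat F) : Nonempty ((DRing.LTensorCx A E).obj X ≅ Q.obj (P ⊗ F : Cx A)) := by
  obtain ⟨t⟩ := LTensorCxCompute.nonempty_iso_of_iso E P hFK eF
  exact ⟨(DRing.LTensorCx A E).mapIso eP.symm ≪≫ t⟩

theorem free_rep (X : Dual.D A) (a : ℤ) (ha : ∀ i : ℤ, a < i → Subsingleton (Dual.HD A X i)) :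
    ∃ P : Cx A, (∀ i, a < i → IsZero (P.X i)) ∧ IsKFlat P ∧ Nonempty (Q.obj P ≅ X) := by
  obtain ⟨P, h1, h2, ⟨e⟩⟩ := Groth.Agent.Lib.Helper43.FreeRes.exists_free_representative X a
    (fun i hi => by
      have := ha i hi
      exact ModuleCat.isZero_of_subsingleton _)
  refine ⟨P, h1, isKFlat_of_boundedAbove_of_flat P a h1 (fun q => ?_), ⟨e⟩⟩
  have := h2 q
  infer_instance

variable [IsLocalRing A]

include E in
theorem main (L : Dual.D A)
    (hLfin : ∀ i : ℤ, Module.Finite A (Dual.HD A L i))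
    (hLbdd : ∃ b : ℤ, ∀ i : ℤ, b < i → Subsingleton (Dual.HD A L i))
    (hEfin : ∀ i : ℤ, Module.Finite A (Dual.HD A (DRing.toD E) i))
    (hEbdd : ∃ b : ℤ, ∀ i : ℤ, b < i → Subsingleton (Dual.HD A (DRing.toD E) i))
    (h : Nonempty ((DRing.LTensorCx A E).obj L ≅ Dual.inD A A)) :
    ∃ n : ℤ, Nonempty (L ≅ (Dual.inD A A)⟦n⟧) ∧
      Nonempty (DRing.toD E ≅ (Dual.inD A A)⟦(-n)⟧) := by
  obtain ⟨bL, hbL⟩ := hLbdd
  obtain ⟨bE, hbE⟩ := hEbdd
  obtain ⟨e⟩ := h
  obtain ⟨e0⟩ := nonempty_homology_inD (A := A)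
  -- nonvanishing
  have hne : (∃ i : ℤ, Nontrivial (Dual.HD A L i)) ∧
      ∃ i : ℤ, Nontrivial (Dual.HD A (DRing.toD E) i) := by
    obtain ⟨P, hP, hPK, ⟨eP⟩⟩ := free_rep L bL hbL
    obtain ⟨F, hF, hFK, ⟨eF⟩⟩ := free_rep (DRing.toD E) bE hbE
    obtain ⟨t⟩ := tensor_iso E L P F eP eF hFK
    have hnz : ¬ IsZero ((P ⊗ F : Cx A).homology 0) := by
      intro hz
      have e1 : (P ⊗ F : Cx A).homology 0 ≃ₗ[A] A :=
        ((homIso _ 0).symm ≪≫ (DerivedCategory.homologyFunctor _ 0).mapIso (t.symm ≪≫ e)).toLinearEquiv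
          ≪≫ₗ e0
      have := ModuleCat.subsingleton_of_isZero hz
      exact not_subsingleton A e1.symm.toEquiv.subsingleton
    constructor
    · by_contra hcon
      push Not at hcon
      apply hnz
      apply hFK P
      intro i
      have h1 : Subsingleton (Dual.HD A L i) := hcon i
      have h2 : IsZero ((DerivedCategory.homologyFunctor (ModuleCat.{u} A) i).obj L) :=
        ModuleCat.isZero_of_subsingleton _
      exact h2.of_iso ((homIso P i).symm ≪≫ (DerivedCategory.homologyFunctor _ i).mapIso eP)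
    · by_contra hcon
      push Not at hcon
      apply hnz
      apply acyclic_tensor_left_of_isKFlat P hPK F
      intro i
      have h1 : Subsingleton (Dual.HD A (DRing.toD E) i) := hcon i
      have h2 : IsZero ((DerivedCategory.homologyFunctor (ModuleCat.{u} A) i).obj (DRing.toD E)) :=
        ModuleCat.isZero_of_subsingleton _
      exact h2.of_iso ((homIso F i).symm ≪≫ (DerivedCategory.homologyFunctor _ i).mapIso eF)
  obtain ⟨a, haN, haS⟩ := exists_top L bL hbL hne.1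
  obtain ⟨b, hbN, hbS⟩ := exists_top (DRing.toD E) bE hbE hne.2
  obtain ⟨P, hP, hPK, ⟨eP⟩⟩ := free_rep L a haS
  obtain ⟨F, hF, hFK, ⟨eF⟩⟩ := free_rep (DRing.toD E) b hbS
  obtain ⟨t⟩ := tensor_iso E L P F eP eF hFK
  -- cohomology of P ⊗ F
  have hPF : ∀ n : ℤ, n ≠ 0 → IsZero ((P ⊗ F : Cx A).homology n) := fun n hn =>
    (isZero_homology_inD n hn).of_iso
      ((homIso _ n).symm ≪≫ (DerivedCategory.homologyFunctor _ n).mapIso (t.symm ≪≫ e))
  have ePF : (P ⊗ F : Cx A).homology 0 ≃ₗ[A] A :=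
    ((homIso _ 0).symm ≪≫ (DerivedCategory.homologyFunctor _ 0).mapIso (t.symm ≪≫ e)).toLinearEquiv
      ≪≫ₗ e0
  let eHP : P.homology a ≃ₗ[A] Dual.HD A L a :=
    ((homIso P a).symm ≪≫ (DerivedCategory.homologyFunctor _ a).mapIso eP).toLinearEquiv
  let eHF : F.homology b ≃ₗ[A] Dual.HD A (DRing.toD E) b :=
    ((homIso F b).symm ≪≫ (DerivedCategory.homologyFunctor _ b).mapIso eF).toLinearEquiv
  have : Module.Finite A (P.homology a) := by
    have := hLfin a
    exact Module.Finite.equiv eHP.symm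
  have : Module.Finite A (F.homology b) := by
    have := hEfin b
    exact Module.Finite.equiv eHF.symm
  have : Nontrivial (P.homology a) := eHP.toEquiv.nontrivial
  have : Nontrivial (F.homology b) := eHF.toEquiv.nontrivial
  obtain ⟨k⟩ := nonempty_kunnethTop P F a b (a + b) rfl hP hF
  have hab : a + b = 0 := by
    by_contra hab
    have hs := ModuleCat.subsingleton_of_isZero (hPF (a + b) hab)
    have hn : Nontrivial ((P.homology a) ⊗[A] (F.homology b)) := nontrivial_tensor _ _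
    exact not_subsingleton _ k.symm.toEquiv.subsingleton
  obtain ⟨k0⟩ := nonempty_kunnethTop P F a b 0 hab hP hF
  obtain ⟨eP1⟩ := nonempty_equiv_of_tensor_equiv _ _ (k0.symm ≪≫ₗ ePF)
  obtain ⟨eF1⟩ := nonempty_equiv_of_tensor_equiv' _ _ (k0.symm ≪≫ₗ ePF)
  obtain ⟨σ, hσ⟩ := exists_quasiIso_single P F a b hab hP hF hFK eP1 eF1 hPF
  have hFP : ∀ n : ℤ, n ≠ 0 → IsZero ((F ⊗ P : Cx A).homology n) := fun n hn =>
    (hPF n hn).of_iso ((HomologicalComplex.homologyFunctor _ _ n).mapIso (braid F P))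
  obtain ⟨σ', hσ'⟩ := exists_quasiIso_single F P b a (by omega) hF hP hPK eF1 eP1 hFP
  have : IsIso (Q.map σ) := (DerivedCategory.isIso_Q_map_iff_quasiIso (C := ModuleCat.{u} A) σ).2 hσ
  have : IsIso (Q.map σ') :=
    (DerivedCategory.isIso_Q_map_iff_quasiIso (C := ModuleCat.{u} A) σ').2 hσ'
  obtain rfl : b = -a := by omega
  exact ⟨-a, ⟨eP.symm ≪≫ (asIso (Q.map σ)).symm ≪≫ sglIso a⟩,
    ⟨eF.symm ≪≫ (asIso (Q.map σ')).symm ≪≫ sglIso (-a)⟩⟩

end Main

end Groth.Agent.Lib.Helper88.Inv4
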