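/-
Normalization of canonical ideals: every nonzero finitely generated `O`-submodule of `K` can be
scaled to lie between `O` and the normalization; consequently `ω : ω = O` for every canonical
ideal.
Author: helper88
-/
import Groth.Agent.Lib.Helper88.ExtDual

set_option autoImplicit false
set_option linter.style.haveILetI false

namespace Groth.Agent.Lib.Helper88.CanDual

open CategoryTheory Abelian IsLocalRing

universe u

variable {O : Type u} [CommRing O] [IsDomain O] [IsNoetherianRing O] [IsLocalRing O]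
  {K : Type u} [Field K] [Algebra O K] [IsFractionRing O K]
  (hdim : ringKrullDim O = 1) (hfin : Module.Finite O ↥(integralClosure O K))

/-- The normalization as a submodule. -/
local notation "Õs" => Subalgebra.toSubmodule (integralClosure O K)

include hdim hfin in
/-- Scaling a nonzero finitely generated submodule between `O` and the normalization. -/
theorem exists_normalize [Infinite (ResidueField O)] (ω : Submodule O K) (hω0 : ω ≠ ⊥)
    (hωfg : ω.FG) : ∃ u : K, u ≠ 0 ∧ (1 : Submodule O K) ≤ sc u ω ∧ sc u ω ≤ Õs := by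
  classical
  have hPID : IsPrincipalIdealRing ↥(integralClosure O K) := Helper71.TFCurv.isPID K hdim hfin
  have hfinP := Helper71.TFCurv.finite_primes_B K hdim hfin
  obtain ⟨z₀, hz₀, hz₀0⟩ := (Submodule.ne_bot_iff _).1 hω0
  obtain ⟨d₀, hd₀, hd₀ω⟩ := exists_smul_mem (I := (1 : Submodule O K)) (J := ω) one_ne hωfg
  -- the scaled copy of `ω` inside `B`
  let ι : ↥(integralClosure O K) →ₗ[O] K := (integralClosure O K).val.toLinearMap
  have hι : ∀ b, ι b = (b : K) := fun b => rfl
  let T : Submodule O ↥(integralClosure O K) := Submodule.comap ι (sc (algebraMap O K d₀) ω)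
  have hTmem : ∀ b : ↥(integralClosure O K), b ∈ T ↔ ∃ z ∈ ω, algebraMap O K d₀ * z = (b : K) :=
    fun b => Iff.rfl
  -- every element of `d₀ ω` comes from `B`
  have hlift : ∀ z ∈ ω, ∃ b : ↥(integralClosure O K), b ∈ T ∧ (b : K) = algebraMap O K d₀ * z := by
    intro z hz
    obtain ⟨a, ha⟩ := Submodule.mem_one.1 (hd₀ω z hz)
    refine ⟨algebraMap O ↥(integralClosure O K) a, ?_, ?_⟩
    · rw [hTmem]
      refine ⟨z, hz, ?_⟩
      rw [← Algebra.smul_def, ← ha]
      rfl
    · rw [← Algebra.smul_def, ← ha]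
      rfl
  obtain ⟨y, hy⟩ : ∃ y : ↥(integralClosure O K),
      Ideal.span (T : Set ↥(integralClosure O K)) = Ideal.span {y} :=
    (IsPrincipalIdealRing.principal _).principal
  have hTy : ∀ t ∈ T, ∃ s : ↥(integralClosure O K), t = y * s := by
    intro t ht
    have h1 : t ∈ Ideal.span (T : Set ↥(integralClosure O K)) := Ideal.subset_span ht
    rw [hy, Ideal.mem_span_singleton'] at h1
    obtain ⟨s, hs⟩ := h1
    exact ⟨s, by rw [← hs, mul_comm]⟩
  have hy0 : y ≠ 0 := by
    rintro rfl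
    obtain ⟨b, hbT, hb⟩ := hlift z₀ hz₀
    obtain ⟨s, hs⟩ := hTy b hbT
    rw [zero_mul] at hs
    rw [hs] at hb
    have h2 : algebraMap O K d₀ * z₀ = 0 := hb.symm
    rcases mul_eq_zero.1 h2 with h3 | h3
    · exact algebraMap_ne_zero' hd₀ h3
    · exact hz₀0 h3
  let T' : Submodule O ↥(integralClosure O K) :=
    Submodule.comap (LinearMap.mulLeft O y) T
  have hT'mem : ∀ s, s ∈ T' ↔ y * s ∈ T := fun s => Iff.rfl
  have hS : ∀ P ∈ hfinP.toFinset.filter (fun P => P.IsMaximal), ∃ s ∈ T', s ∉ P := by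
    intro P hP
    have hPmax : P.IsMaximal := (Finset.mem_filter.1 hP).2
    by_contra hcon
    push Not at hcon
    -- `span T ⊆ y P`
    have hsub : Ideal.span (T : Set ↥(integralClosure O K)) ≤ Ideal.span {y} * P := by
      rw [Ideal.span_le]
      intro t ht
      obtain ⟨s, rfl⟩ := hTy t ht
      exact Ideal.mul_mem_mul (Ideal.mem_span_singleton_self y) (hcon s ((hT'mem s).2 ht))
    have hyin : y ∈ Ideal.span {y} * P := hsub (by rw [hy]; exact Ideal.mem_span_singleton_self y)
    rw [Ideal.mem_span_singleton_mul] at hyin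
    obtain ⟨p, hp, hyp⟩ := hyin
    have hp1 : p = 1 := by
      have : y * p = y * 1 := by rw [hyp, mul_one]
      exact mul_left_cancel₀ hy0 this
    rw [hp1] at hp
    exact hPmax.ne_top ((Ideal.eq_top_iff_one P).2 hp)
  obtain ⟨s, hsT', hsP⟩ := Helper71.TFCurv.avoid T' _ hS
  have hsu : IsUnit s := by
    by_contra hnu
    obtain ⟨P, hPmax, hP⟩ := exists_max_ideal_of_mem_nonunits hnu
    exact hsP P (Finset.mem_filter.2 ⟨hfinP.mem_toFinset.2 hPmax.isPrime, hPmax⟩) hP
  obtain ⟨sinv, hsinv⟩ := hsu.exists_right_inv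
  -- the generator
  obtain ⟨g, hgω, hg⟩ := (hTmem (y * s)).1 ((hT'mem s).1 hsT')
  have hd₀K : algebraMap O K d₀ ≠ 0 := algebraMap_ne_zero' hd₀
  have hyK : (y : K) ≠ 0 := fun h => hy0 (Subtype.ext h)
  have hsK : (s : K) * (sinv : K) = 1 := congrArg Subtype.val hsinv
  have hsK0 : (s : K) ≠ 0 := left_ne_zero_of_mul_eq_one hsK
  have hg' : algebraMap O K d₀ * g = (y : K) * (s : K) := hg
  have hg0 : g ≠ 0 := by
    rintro rfl
    rw [mul_zero] at hg'
    exact mul_ne_zero hyK hsK0 hg'.symm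
  refine ⟨g⁻¹, inv_ne_zero hg0, ?_, ?_⟩
  · rw [Submodule.one_le, mem_sc]
    exact ⟨g, hgω, inv_mul_cancel₀ hg0⟩
  · rintro _ ⟨z, hz, rfl⟩
    obtain ⟨b, hbT, hb⟩ := hlift z hz
    obtain ⟨c, hc⟩ := hTy b hbT
    have hcK : algebraMap O K d₀ * z = (y : K) * (c : K) := by
      rw [← hb, hc]
      rfl
    have hval : g⁻¹ * z = ((c * sinv : ↥(integralClosure O K)) : K) := by
      have h1 : z = (y : K) * (c : K) / algebraMap O K d₀ := by
        rw [eq_div_iff hd₀K, mul_comm]
        exact hcK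
      have h2 : g = (y : K) * (s : K) / algebraMap O K d₀ := by
        rw [eq_div_iff hd₀K, mul_comm]
        exact hg'
      have h3 : ((c * sinv : ↥(integralClosure O K)) : K) = (c : K) * (sinv : K) := rfl
      have h4 : (sinv : K) = (s : K)⁻¹ := eq_inv_of_mul_eq_one_right hsK
      rw [h3, h4, h1, h2]
      field_simp
    show g⁻¹ * z ∈ Õs
    rw [hval]
    exact (c * sinv).2

include hdim hfin in
/-- `ω : ω = O` for every canonical ideal. -/
theorem div_self_eq_one' [Infinite (ResidueField O)] (ω : Submodule O K) (hω0 : ω ≠ ⊥)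
    (hωfg : ω.FG) (hωinj : HasInjectiveDimensionLT (ModuleCat.of O ↥ω) 2) : ω / ω = 1 := by
  obtain ⟨u, hu, h1, h2⟩ := exists_normalize hdim hfin ω hω0 hωfg
  have hinjmul : Function.Injective (LinearMap.mulLeft O u : K →ₗ[O] K) :=
    fun a b h => mul_left_cancel₀ hu h
  let e : ↥ω ≃ₗ[O] ↥(sc u ω) := Submodule.equivMapOfInjective _ hinjmul ω
  haveI : HasInjectiveDimensionLT (ModuleCat.of O ↥ω) 2 := hωinj
  have hinj' : HasInjectiveDimensionLT (ModuleCat.of O ↥(sc u ω)) 2 :=
    hasInjectiveDimensionLT_of_iso e.toModuleIso 2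
  haveI : Module.Finite O ↥(sc u ω) := Module.Finite.iff_fg.2 (hωfg.map _)
  have h3 := div_self_eq_one hdim hfin (sc u ω) h1 h2 hinj'
  rw [← h3]
  ext x
  rw [Submodule.mem_div_iff_forall_mul_mem, Submodule.mem_div_iff_forall_mul_mem]
  constructor
  · rintro h _ ⟨y, hy, rfl⟩
    refine ⟨x * y, h y hy, ?_⟩
    show u * (x * y) = x * (u * y)
    ring
  · intro h y hy
    obtain ⟨y', hy', hyy'⟩ := h (u * y) ⟨y, hy, rfl⟩
    have hyy'' : u * y' = x * (u * y) := hyy'
    have : y' = x * y := mul_left_cancel₀ hu (by rw [hyy'']; ring)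
    rw [← this]
    exact hy'

include hdim hfin in
/-- **Self-duality of `Ext`** under the canonical duality. -/
theorem ext_self_dual [Infinite (ResidueField O)] (ω : Submodule O K) (hω0 : ω ≠ ⊥)
    (hωfg : ω.FG) (hωinj : HasInjectiveDimensionLT (ModuleCat.of O ↥ω) 2)
    (M : Type u) [AddCommGroup M] [Module O M] [Module.Finite O M] [NoZeroSMulDivisors O M]
    (i : ℕ) :
    Nonempty (Ext (ModuleCat.of O M) (ModuleCat.of O M) i ≃+
      Ext (ModuleCat.of O (M →ₗ[O] ↥ω)) (ModuleCat.of O (M →ₗ[O] ↥ω)) i) := by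
  obtain ⟨x, hx, hx0⟩ := Helper71.TFCurv.exists_mem_max_ne_zero hdim
  haveI : Module.Finite O ↥ω := Module.Finite.iff_fg.2 hωfg
  have hEnd := div_self_eq_one' hdim hfin ω hω0 hωfg hωinj
  have hω0' : ∃ y ∈ ω, y ≠ 0 := (Submodule.ne_bot_iff _).1 hω0
  have hN := ev_bijective hdim hfin ω hω0' hωinj hEnd (M := M)
  have hxR : IsSMulRegular O x := fun a b h => mul_left_cancel₀ hx0 h
  have hxM : IsSMulRegular M x := fun a b h => smul_right_injective M hx0 h
  exact ext_duality ↥ω hωinj hx hxR (regular_of_le ω hx0) M hN i M hxM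

end Groth.Agent.Lib.Helper88.CanDual
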