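/-
Dual lattices in `K^n` over a one-dimensional Gorenstein local domain, and the embedding of
torsion-free modules between `C^n` and `O^n`.
Author: helper88
-/
import Groth.Agent.Lib.Helper88.Normalize
import Groth.Agent.Lib.Helper34.TFLattice

set_option autoImplicit false
set_option linter.style.haveILetI false

namespace Groth.Agent.Lib.Helper88.CanDual

open CategoryTheory Abelian IsLocalRing Function

universe u

section MainPrime

open Groth.Agent.Lib.Helper34.LatticeBasis Groth.Agent.Lib.Helper34.TFLattice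

/-- Variant of `TFLattice.main` starting from a lattice embedding. -/
theorem lattice_main (O : Type u) [CommRing O] [IsDomain O] [IsNoetherianRing O] [IsLocalRing O]
    (hdim : ringKrullDim O = 1) [Infinite (IsLocalRing.ResidueField O)] (K : Type u) [Field K]
    [Algebra O K] [IsFractionRing O K] (hfin : Module.Finite O ↥(integralClosure O K))
    (M : Type u) [AddCommGroup M] [Module O M] (n : ℕ)
    (j : M →ₗ[O] (Fin n → ↥(integralClosure O K))) (hj : Injective j) (d : O) (hd0 : d ≠ 0)
    (hd : ∀ p : Fin n → ↥(integralClosure O K), ∃ m : M, j m = d • p) :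
    ∃ M' : Submodule O (Fin n → K),
      Submodule.pi Set.univ (fun _ : Fin n => (1 : Submodule O K)) ≤ M' ∧
      M' ≤ Submodule.pi Set.univ
        (fun _ : Fin n => (Subalgebra.toSubmodule (integralClosure O K))) ∧
      Nonempty (M ≃ₗ[O] ↥M') := by
  classical
  have hPID : IsPrincipalIdealRing ↥(integralClosure O K) := Helper71.TFCurv.isPID K hdim hfin
  have hfinP := Helper71.TFCurv.finite_primes_B K hdim hfin
  have hinj : Injective (algebraMap O ↥(integralClosure O K)) := by
    intro x y hxy
    apply IsFractionRing.injective O K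
    exact congrArg (fun b : ↥(integralClosure O K) => (b : K)) hxy
  have hdB : algebraMap O ↥(integralClosure O K) d ≠ 0 := by
    intro h; exact hd0 (hinj (by rw [h, map_zero]))
  obtain ⟨j', hj', hspan⟩ := exists_spanning j hj (algebraMap O ↥(integralClosure O K) d) hdB
    (fun p => by
      obtain ⟨m, hm⟩ := hd p
      exact ⟨m, by rw [hm, algebraMap_smul]⟩)
  -- the tuple with unit determinant
  obtain ⟨w, hw⟩ := exists_tuple j' hspan (hfinP.toFinset.filter (fun P => P.IsMaximal))
    (fun q hq => (Finset.mem_filter.mp hq).2.ne_top)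
  obtain ⟨A, hAdef⟩ : ∃ A : Matrix (Fin n) (Fin n) ↥(integralClosure O K),
      A = Matrix.of (fun i => j' (w i)) := ⟨_, rfl⟩
  have hArow : ∀ i, A i = j' (w i) := fun i => by rw [hAdef]; rfl
  have hA : IsUnit A.det := by
    by_contra hnu
    obtain ⟨P, hPmax, hP⟩ := exists_max_ideal_of_mem_nonunits hnu
    refine hw P (Finset.mem_filter.mpr ⟨hfinP.mem_toFinset.mpr hPmax.isPrime, hPmax⟩) ?_
    rw [hAdef] at hP
    exact hP
  -- the renormalizing map
  let T : (Fin n → ↥(integralClosure O K)) →ₗ[↥(integralClosure O K)]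
      (Fin n → ↥(integralClosure O K)) := Matrix.vecMulLinear A⁻¹
  have hTrow : ∀ i, T (j' (w i)) = Pi.single i 1 := by
    intro i
    change Matrix.vecMul (j' (w i)) A⁻¹ = _
    rw [← hArow, ← Matrix.mul_apply_eq_vecMul, Matrix.mul_nonsing_inv A hA]
    ext k
    simp [Matrix.one_apply, Pi.single_apply, eq_comm]
  have hTinj : Injective T := by
    intro x y hxy
    change Matrix.vecMul x A⁻¹ = Matrix.vecMul y A⁻¹ at hxy
    have := congrArg (fun v => Matrix.vecMul v A) hxy
    simp only [Matrix.vecMul_vecMul, Matrix.nonsing_inv_mul A hA, Matrix.vecMul_one] at this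
    exact this
  let ι : (Fin n → ↥(integralClosure O K)) →ₗ[O] (Fin n → K) :=
    ((integralClosure O K).val.toLinearMap).compLeft (Fin n)
  have hιapp : ∀ p i, ι p i = ((p i : ↥(integralClosure O K)) : K) := fun p i => rfl
  have hιinj : Injective ι := by
    intro p p' h
    funext i
    exact Subtype.ext (congrFun h i)
  let Ψ : M →ₗ[O] (Fin n → K) := ι ∘ₗ (T.restrictScalars O) ∘ₗ j'
  have hΨapp : ∀ m, Ψ m = ι (T (j' m)) := fun m => rfl
  have hΨinj : Injective Ψ := by
    intro m m' h
    rw [hΨapp, hΨapp] at h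
    exact hj' (hTinj (hιinj h))
  have hΨw : ∀ i k, Ψ (w i) k = if k = i then 1 else 0 := by
    intro i k
    rw [hΨapp, hTrow, hιapp, Pi.single_apply]
    split_ifs <;> simp
  refine ⟨LinearMap.range Ψ, ?_, ?_, ⟨LinearEquiv.ofInjective Ψ hΨinj⟩⟩
  · intro x hx
    rw [Submodule.mem_pi] at hx
    have hx' : ∀ i : Fin n, ∃ a : O, algebraMap O K a = x i := fun i =>
      Submodule.mem_one.mp (hx i (Set.mem_univ i))
    choose a ha using hx'
    refine ⟨∑ i, a i • w i, ?_⟩
    funext k
    rw [map_sum, Finset.sum_apply]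
    simp only [map_smul, Pi.smul_apply, hΨw]
    rw [Finset.sum_eq_single k]
    · rw [if_pos rfl, Algebra.smul_def, mul_one, ha]
    · intro i _ hik
      rw [if_neg (Ne.symm hik), smul_zero]
    · intro h; exact absurd (Finset.mem_univ k) h
  · rintro _ ⟨m, rfl⟩
    rw [Submodule.mem_pi]
    intro i _
    rw [hΨapp, hιapp]
    exact (T (j' m) i).2

end MainPrime


section DualLattice

variable {O : Type u} [CommRing O] [IsDomain O] {K : Type u} [Field K] [Algebra O K]
  [IsFractionRing O K] {n : ℕ}

/-- The normalization as a submodule. -/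
local notation "Õs" => Subalgebra.toSubmodule (integralClosure O K)

/-- The dot product on `K^n`. -/
noncomputable def dot (v w : Fin n → K) : K := ∑ i, v i * w i

omit [IsDomain O] [IsFractionRing O K] in
lemma dot_add_right (v w w' : Fin n → K) : dot v (w + w') = dot v w + dot v w' := by
  unfold dot
  rw [← Finset.sum_add_distrib]
  refine Finset.sum_congr rfl fun i _ => ?_
  rw [Pi.add_apply, mul_add]

omit [IsDomain O] [IsFractionRing O K] in
lemma dot_add_left (v v' w : Fin n → K) : dot (v + v') w = dot v w + dot v' w := by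
  unfold dot
  rw [← Finset.sum_add_distrib]
  refine Finset.sum_congr rfl fun i _ => ?_
  rw [Pi.add_apply, add_mul]

omit [IsDomain O] [IsFractionRing O K] in
lemma dot_smul_right (a : O) (v w : Fin n → K) : dot v (a • w) = a • dot v w := by
  unfold dot
  rw [Finset.smul_sum]
  refine Finset.sum_congr rfl fun i _ => ?_
  rw [Pi.smul_apply, mul_smul_comm]

omit [IsDomain O] [IsFractionRing O K] in
lemma dot_smul_left (a : O) (v w : Fin n → K) : dot (a • v) w = a • dot v w := by
  unfold dot
  rw [Finset.smul_sum]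
  refine Finset.sum_congr rfl fun i _ => ?_
  rw [Pi.smul_apply, smul_mul_assoc]

omit [IsDomain O] [IsFractionRing O K] in
lemma dot_zero_left (w : Fin n → K) : dot (0 : Fin n → K) w = 0 := by
  unfold dot
  refine Finset.sum_eq_zero fun i _ => ?_
  rw [Pi.zero_apply, zero_mul]

lemma dot_single_right (v : Fin n → K) (i : Fin n) : dot v (Pi.single i 1) = v i := by
  classical
  unfold dot
  rw [Finset.sum_eq_single i]
  · rw [Pi.single_eq_same, mul_one]
  · intro k _ hk
    rw [Pi.single_eq_of_ne hk, mul_zero]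
  · intro h
    exact absurd (Finset.mem_univ i) h

/-- The dual lattice. -/
noncomputable def dualLat (L : Submodule O (Fin n → K)) : Submodule O (Fin n → K) where
  carrier := {v | ∀ w ∈ L, dot v w ∈ (1 : Submodule O K)}
  add_mem' := by
    intro v v' hv hv' w hw
    rw [dot_add_left]
    exact Submodule.add_mem _ (hv w hw) (hv' w hw)
  zero_mem' := by
    intro w _
    rw [dot_zero_left]
    exact Submodule.zero_mem _
  smul_mem' := by
    intro a v hv w hw
    rw [dot_smul_left]
    exact Submodule.smul_mem _ a (hv w hw)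

omit [IsDomain O] [IsFractionRing O K] in
lemma mem_dualLat {L : Submodule O (Fin n → K)} {v : Fin n → K} :
    v ∈ dualLat L ↔ ∀ w ∈ L, dot v w ∈ (1 : Submodule O K) := Iff.rfl

omit [IsDomain O] [IsFractionRing O K] in
lemma single_mem_of_one_le {L : Submodule O (Fin n → K)}
    (h1 : Submodule.pi Set.univ (fun _ : Fin n => (1 : Submodule O K)) ≤ L) (i : Fin n) :
    (Pi.single i 1 : Fin n → K) ∈ L := by
  classical
  apply h1
  rw [Submodule.mem_pi]
  intro k _
  rcases eq_or_ne k i with rfl | hk
  · rw [Pi.single_eq_same]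
    exact Submodule.one_le.1 le_rfl
  · rw [Pi.single_eq_of_ne hk]
    exact Submodule.zero_mem _

omit [IsDomain O] [IsFractionRing O K] in
lemma dualLat_le_one {L : Submodule O (Fin n → K)}
    (h1 : Submodule.pi Set.univ (fun _ : Fin n => (1 : Submodule O K)) ≤ L) :
    dualLat L ≤ Submodule.pi Set.univ (fun _ : Fin n => (1 : Submodule O K)) := by
  intro v hv
  rw [Submodule.mem_pi]
  intro i _
  have := hv _ (single_mem_of_one_le h1 i)
  rwa [dot_single_right] at this

omit [IsDomain O] [IsFractionRing O K] in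
/-- Elements of the conductor multiply the normalization into `O`. -/
lemma cond_mul_mem {z b : K}
    (hz : z ∈ (((1 : Submodule O K).colon (Õs : Submodule O K)) • (1 : Submodule O K)))
    (hb : b ∈ (Õs : Submodule O K)) : z * b ∈ (1 : Submodule O K) := by
  refine Submodule.smul_induction_on hz ?_ ?_
  · intro c hc y hy
    obtain ⟨a, rfl⟩ := Submodule.mem_one.1 hy
    have h1 : c • b ∈ (1 : Submodule O K) := Submodule.mem_colon.1 hc b hb
    have : c • algebraMap O K a * b = a • (c • b) := by
      rw [Algebra.smul_def, Algebra.smul_def, Algebra.smul_def]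
      ring
    rw [this]
    exact Submodule.smul_mem _ a h1
  · intro y y' hy hy'
    rw [add_mul]
    exact Submodule.add_mem _ hy hy'

omit [IsDomain O] [IsFractionRing O K] in
lemma cond_le_dualLat {L : Submodule O (Fin n → K)}
    (h2 : L ≤ Submodule.pi Set.univ (fun _ : Fin n => (Õs : Submodule O K))) :
    Submodule.pi Set.univ (fun _ : Fin n =>
      (((1 : Submodule O K).colon (Õs : Submodule O K)) • (1 : Submodule O K))) ≤ dualLat L := by
  intro v hv w hw
  rw [Submodule.mem_pi] at hv
  have hw' := h2 hw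
  rw [Submodule.mem_pi] at hw'
  unfold dot
  refine Submodule.sum_mem _ fun i _ => ?_
  exact cond_mul_mem (hv i (Set.mem_univ i)) (hw' i (Set.mem_univ i))

/-- The pairing map `L^∨ → Hom(L, O)`. -/
noncomputable def dualLatHom (L : Submodule O (Fin n → K)) :
    ↥(dualLat L) →ₗ[O] (↥L →ₗ[O] ↥(1 : Submodule O K)) where
  toFun v :=
    { toFun := fun w => ⟨dot (v : Fin n → K) (w : Fin n → K), v.2 w w.2⟩
      map_add' := fun _ _ => Subtype.ext (dot_add_right _ _ _)
      map_smul' := fun a _ => Subtype.ext (dot_smul_right a _ _) }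
  map_add' _ _ := LinearMap.ext fun _ => Subtype.ext (dot_add_left _ _ _)
  map_smul' a _ := LinearMap.ext fun _ => Subtype.ext (dot_smul_left a _ _)

omit [IsDomain O] [IsFractionRing O K] in
lemma dualLatHom_apply (L : Submodule O (Fin n → K)) (v : ↥(dualLat L)) (w : ↥L) :
    ((dualLatHom L v w : ↥(1 : Submodule O K)) : K) = dot (v : Fin n → K) (w : Fin n → K) := rfl

omit [IsDomain O] [IsFractionRing O K] in
lemma dualLatHom_injective {L : Submodule O (Fin n → K)}
    (h1 : Submodule.pi Set.univ (fun _ : Fin n => (1 : Submodule O K)) ≤ L) :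
    Function.Injective (dualLatHom L) := by
  intro v v' h
  apply Subtype.ext
  funext i
  have h2 := congrArg (fun φ : ↥L →ₗ[O] ↥(1 : Submodule O K) =>
    ((φ ⟨Pi.single i 1, single_mem_of_one_le h1 i⟩ : ↥(1 : Submodule O K)) : K)) h
  simp only [dualLatHom_apply, dot_single_right] at h2
  exact h2

omit [IsDomain O] in
lemma dualLatHom_surjective {L : Submodule O (Fin n → K)}
    (h1 : Submodule.pi Set.univ (fun _ : Fin n => (1 : Submodule O K)) ≤ L)
    (h2 : L ≤ Submodule.pi Set.univ (fun _ : Fin n => (Õs : Submodule O K)))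
    {d₀ : O} (hd₀ : d₀ ≠ 0) (hd₀N : ∀ z ∈ (Õs : Submodule O K), d₀ • z ∈ (1 : Submodule O K)) :
    Function.Surjective (dualLatHom L) := by
  classical
  intro φ
  let e : Fin n → ↥L := fun i => ⟨Pi.single i 1, single_mem_of_one_le h1 i⟩
  let v : Fin n → K := fun i => ((φ (e i) : ↥(1 : Submodule O K)) : K)
  have key : ∀ w : ↥L, dot v (w : Fin n → K) = ((φ w : ↥(1 : Submodule O K)) : K) := by
    intro w
    have hw' := h2 w.2
    rw [Submodule.mem_pi] at hw'
    have hex : ∀ i : Fin n, ∃ a : O, algebraMap O K a = d₀ • (w : Fin n → K) i := fun i =>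
      Submodule.mem_one.1 (hd₀N _ (hw' i (Set.mem_univ i)))
    choose a ha using hex
    have hsum : d₀ • w = ∑ i, a i • e i := by
      apply Subtype.ext
      funext k
      rw [Submodule.coe_sum, Finset.sum_apply]
      show d₀ • (w : Fin n → K) k = ∑ i, (a i • (Pi.single i (1 : K) : Fin n → K)) k
      rw [Finset.sum_eq_single k]
      · rw [Pi.smul_apply, Pi.single_eq_same, ← ha, Algebra.smul_def, mul_one]
      · intro i _ hik
        rw [Pi.smul_apply, Pi.single_eq_of_ne (Ne.symm hik), smul_zero]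
      · intro h
        exact absurd (Finset.mem_univ k) h
    have h3 : d₀ • ((φ w : ↥(1 : Submodule O K)) : K) = ∑ i, a i • v i := by
      have h4 : φ (d₀ • w) = ∑ i, a i • φ (e i) := by
        rw [hsum, map_sum]
        refine Finset.sum_congr rfl fun i _ => ?_
        rw [map_smul]
      have h5 := congrArg (fun y : ↥(1 : Submodule O K) => (y : K)) h4
      simp only [map_smul, Submodule.coe_smul, Submodule.coe_sum] at h5
      exact h5
    have h6 : ∑ i, a i • v i = d₀ • dot v (w : Fin n → K) := by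
      unfold dot
      rw [Finset.smul_sum]
      refine Finset.sum_congr rfl fun i _ => ?_
      rw [Algebra.smul_def, ha, mul_comm, mul_smul_comm]
    rw [h6, Algebra.smul_def, Algebra.smul_def] at h3
    exact (mul_left_cancel₀ (algebraMap_ne_zero' hd₀) h3).symm
  have hv : v ∈ dualLat L := by
    intro w hw
    rw [key ⟨w, hw⟩]
    exact (φ ⟨w, hw⟩).2
  refine ⟨⟨v, hv⟩, ?_⟩
  refine LinearMap.ext fun w => Subtype.ext ?_
  rw [dualLatHom_apply]
  exact key w

/-- `L^∨ ≃ Hom(L, O)`. -/
noncomputable def dualLatEquiv {L : Submodule O (Fin n → K)}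
    (h1 : Submodule.pi Set.univ (fun _ : Fin n => (1 : Submodule O K)) ≤ L)
    (h2 : L ≤ Submodule.pi Set.univ (fun _ : Fin n => (Õs : Submodule O K)))
    {d₀ : O} (hd₀ : d₀ ≠ 0) (hd₀N : ∀ z ∈ (Õs : Submodule O K), d₀ • z ∈ (1 : Submodule O K)) :
    ↥(dualLat L) ≃ₗ[O] (↥L →ₗ[O] ↥(1 : Submodule O K)) :=
  LinearEquiv.ofBijective (dualLatHom L)
    ⟨dualLatHom_injective h1, dualLatHom_surjective h1 h2 hd₀ hd₀N⟩

end DualLattice


section Final

variable {O : Type u} [CommRing O] [IsDomain O] [IsNoetherianRing O] [IsLocalRing O]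
  {K : Type u} [Field K] [Algebra O K] [IsFractionRing O K]
  (hdim : ringKrullDim O = 1) (hfin : Module.Finite O ↥(integralClosure O K))

/-- The normalization as a submodule. -/
local notation "Õs" => Subalgebra.toSubmodule (integralClosure O K)

include hdim hfin in
/-- The dual lattice of a lattice between `O^n` and `Õ^n` is again isomorphic to such a
lattice. -/
theorem dualLat_lattice [Infinite (ResidueField O)] {n : ℕ} {L : Submodule O (Fin n → K)}
    (hL1 : Submodule.pi Set.univ (fun _ : Fin n => (1 : Submodule O K)) ≤ L)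
    (hL2 : L ≤ Submodule.pi Set.univ (fun _ : Fin n => (Õs : Submodule O K)))
    {d₀ : O} (hd₀ : d₀ ≠ 0) (hd₀N : ∀ z ∈ (Õs : Submodule O K), d₀ • z ∈ (1 : Submodule O K)) :
    ∃ P₁ : Submodule O (Fin n → K),
      Submodule.pi Set.univ (fun _ : Fin n => (1 : Submodule O K)) ≤ P₁ ∧
      P₁ ≤ Submodule.pi Set.univ (fun _ : Fin n => (Õs : Submodule O K)) ∧
      Nonempty (↥(dualLat L) ≃ₗ[O] ↥P₁) := by
  have hP1 : dualLat L ≤ Submodule.pi Set.univ (fun _ : Fin n => (1 : Submodule O K)) :=
    dualLat_le_one hL1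
  have hP1' : ∀ (v : ↥(dualLat L)) (i : Fin n),
      (v : Fin n → K) i ∈ (Õs : Submodule O K) := by
    intro v i
    have := hP1 v.2
    rw [Submodule.mem_pi] at this
    exact one_le_normal (this i (Set.mem_univ i))
  let jP : ↥(dualLat L) →ₗ[O] (Fin n → ↥(integralClosure O K)) :=
    { toFun := fun v i => ⟨(v : Fin n → K) i, hP1' v i⟩
      map_add' := fun _ _ => rfl
      map_smul' := fun _ _ => rfl }
  have hjP : Function.Injective jP := by
    intro v v' h
    apply Subtype.ext
    funext i
    exact congrArg (fun p : Fin n → ↥(integralClosure O K) => ((p i : ↥(integralClosure O K)) : K)) h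
  have hdP : ∀ p : Fin n → ↥(integralClosure O K), ∃ v : ↥(dualLat L), jP v = d₀ • p := by
    intro p
    have hv : (fun i => d₀ • ((p i : ↥(integralClosure O K)) : K)) ∈ dualLat L := by
      intro w hw
      have hw' := hL2 hw
      rw [Submodule.mem_pi] at hw'
      have h1 : dot (fun i => d₀ • ((p i : ↥(integralClosure O K)) : K)) w =
          d₀ • ∑ i, ((p i : ↥(integralClosure O K)) : K) * w i := by
        unfold dot
        rw [Finset.smul_sum]
        refine Finset.sum_congr rfl fun i _ => ?_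
        rw [smul_mul_assoc]
      rw [h1]
      refine hd₀N _ (Submodule.sum_mem _ fun i _ => ?_)
      exact (integralClosure O K).mul_mem (p i).2 (hw' i (Set.mem_univ i))
    refine ⟨⟨_, hv⟩, ?_⟩
    funext i
    apply Subtype.ext
    rfl
  exact lattice_main O hdim K hfin ↥(dualLat L) n jP hjP d₀ hd₀ hdP

include hdim hfin in
/-- **Torsion-free modules between `C^n` and `O^n`** over a Gorenstein ring. -/
theorem exists_between_cond_and_free [Infinite (ResidueField O)]
    (hGor : HasInjectiveDimensionLT (ModuleCat.of O ↥(1 : Submodule O K)) 2)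
    (M : Type u) [AddCommGroup M] [Module O M] [Module.Finite O M] [NoZeroSMulDivisors O M]
    (n : ℕ) (hn : Module.finrank K (TensorProduct O K M) = n) :
    ∃ M'' : Submodule O (Fin n → K),
      Submodule.pi Set.univ (fun _ : Fin n =>
        (((1 : Submodule O K).colon (Õs : Submodule O K)) • (1 : Submodule O K))) ≤ M'' ∧
      M'' ≤ Submodule.pi Set.univ (fun _ : Fin n => (1 : Submodule O K)) ∧
      Nonempty (M ≃ₗ[O] ↥M'') := by
  obtain ⟨j, hj, d, hd0, hd⟩ := Helper71.TFCurv.exists_lattice (M := M) K hfin n hn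
  obtain ⟨L, hL1, hL2, ⟨eL⟩⟩ := lattice_main O hdim K hfin M n j hj d hd0 hd
  obtain ⟨d₀, hd₀, hd₀N⟩ := exists_smul_mem (I := (1 : Submodule O K))
    (J := (Õs : Submodule O K)) one_ne (normal_fg (K := K) hfin)
  obtain ⟨P₁, hP₁1, hP₁2, ⟨eP⟩⟩ := dualLat_lattice hdim hfin hL1 hL2 hd₀ hd₀N
  refine ⟨dualLat P₁, cond_le_dualLat hP₁2, dualLat_le_one hP₁1, ?_⟩
  haveI : Module.Finite O ↥(1 : Submodule O K) := Module.Finite.equiv (oneEquiv (O := O) (K := K))
  have hrefl : Function.Bijective (ev O ↥(1 : Submodule O K) M) :=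
    ev_bijective hdim hfin (1 : Submodule O K) one_ne hGor (div_one' _)
  let E1 := dualLatEquiv hP₁1 hP₁2 hd₀ hd₀N
  let E2 : (↥P₁ →ₗ[O] ↥(1 : Submodule O K)) ≃ₗ[O] (↥(dualLat L) →ₗ[O] ↥(1 : Submodule O K)) :=
    LinearEquiv.congrLeft ↥(1 : Submodule O K) O eP.symm
  let E3 : (↥(dualLat L) →ₗ[O] ↥(1 : Submodule O K)) ≃ₗ[O]
      ((↥L →ₗ[O] ↥(1 : Submodule O K)) →ₗ[O] ↥(1 : Submodule O K)) :=
    LinearEquiv.congrLeft ↥(1 : Submodule O K) O (dualLatEquiv hL1 hL2 hd₀ hd₀N)
  let E4 : ((↥L →ₗ[O] ↥(1 : Submodule O K)) →ₗ[O] ↥(1 : Submodule O K)) ≃ₗ[O]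
      ((M →ₗ[O] ↥(1 : Submodule O K)) →ₗ[O] ↥(1 : Submodule O K)) :=
    LinearEquiv.congrLeft ↥(1 : Submodule O K) O
      (LinearEquiv.congrLeft ↥(1 : Submodule O K) O eL.symm)
  let E5 := LinearEquiv.ofBijective (ev O ↥(1 : Submodule O K) M) hrefl
  exact ⟨((((E1.trans E2).trans E3).trans E4).trans E5.symm).symm⟩

end Final

end Groth.Agent.Lib.Helper88.CanDual
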