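/-
Relative lengths of submodules; simple modules over the normalization have length one over the
base when the residue field is algebraically closed; intermediate submodules of prescribed
colength.
Author: helper88
-/
import Groth.Agent.Lib.Helper88.Lattice1

set_option autoImplicit false
set_option linter.style.haveILetI false

namespace Groth.Agent.Lib.Helper88.CanDual

open IsLocalRing Function

universe u

section RlMore

variable {O : Type*} [CommRing O] {E : Type*} [AddCommGroup E] [Module O E]
  {E' : Type*} [AddCommGroup E'] [Module O E']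

theorem rl_top (A : Submodule O E) : rl A ⊤ = Module.length O (E ⧸ A) := by
  unfold rl
  have hmap : Submodule.map ((Submodule.topEquiv : ↥(⊤ : Submodule O E) ≃ₗ[O] E) :
      ↥(⊤ : Submodule O E) →ₗ[O] E) (Submodule.comap (⊤ : Submodule O E).subtype A) = A := by
    ext y
    rw [Submodule.mem_map]
    constructor
    · rintro ⟨z, hz, rfl⟩
      exact hz
    · intro hy
      exact ⟨⟨y, trivial⟩, hy, rfl⟩
  exact (Submodule.Quotient.equiv _ _ Submodule.topEquiv hmap).length_eq

theorem rl_self (A : Submodule O E) : rl A A = 0 := rl_eq_zero_iff.2 le_rfl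

theorem rl_map_injective (f : E →ₗ[O] E') (hf : Injective f) (A B : Submodule O E) :
    rl (A.map f) (B.map f) = rl A B := by
  unfold rl
  set e := Submodule.equivMapOfInjective f hf B with he
  have hmap : Submodule.map (e : ↥B →ₗ[O] ↥(B.map f)) (Submodule.comap B.subtype A) =
      Submodule.comap (B.map f).subtype (A.map f) := by
    ext y
    rw [Submodule.mem_map, Submodule.mem_comap]
    constructor
    · rintro ⟨z, hz, rfl⟩
      exact ⟨z, hz, rfl⟩
    · rintro ⟨a, ha, hay⟩
      obtain ⟨b, hb, hby⟩ := y.2
      have hab : a = b := hf (hay.trans hby.symm)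
      subst hab
      exact ⟨⟨a, hb⟩, ha, Subtype.ext hby⟩
  exact (Submodule.Quotient.equiv _ _ e hmap).length_eq.symm

/-- Transport of relative length along an equivalence onto a submodule. -/
theorem rl_equiv_top (T : Submodule O E) (g : E' ≃ₗ[O] ↥T) (A : Submodule O E) :
    rl A T = Module.length O (E' ⧸ Submodule.comap (T.subtype ∘ₗ g.toLinearMap) A) := by
  unfold rl
  have hmap : Submodule.map (g : E' →ₗ[O] ↥T)
      (Submodule.comap (T.subtype ∘ₗ g.toLinearMap) A) = Submodule.comap T.subtype A := by
    ext y
    rw [Submodule.mem_map, Submodule.mem_comap]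
    constructor
    · rintro ⟨z, hz, rfl⟩
      exact hz
    · intro hy
      refine ⟨g.symm y, ?_, g.apply_symm_apply y⟩
      rw [Submodule.mem_comap]
      show T.subtype (g (g.symm y)) ∈ A
      rw [g.apply_symm_apply]
      exact hy
  exact (Submodule.Quotient.equiv _ _ g hmap).length_eq.symm

theorem length_quot_anti {A A' : Submodule O E} (h : A ≤ A') :
    Module.length O (E ⧸ A') ≤ Module.length O (E ⧸ A) :=
  Module.length_le_of_surjective (Submodule.factor h) (Submodule.factor_surjective h)

end RlMore

section Residue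

variable {O : Type u} [CommRing O] [IsLocalRing O] [IsAlgClosed (ResidueField O)]
  {B : Type u} [CommRing B] [Algebra O B] [Algebra.IsIntegral O B]

/-- The residue fields of an integral extension of a local ring with algebraically closed residue
field are trivial extensions. -/
theorem exists_sub_mem_of_isMaximal (𝔫 : Ideal B) [h𝔫 : 𝔫.IsMaximal] (b : B) :
    ∃ a : O, b - algebraMap O B a ∈ 𝔫 := by
  have hmax : (𝔫.under O).IsMaximal := Ideal.isMaximal_comap_of_isIntegral_of_isMaximal 𝔫
  have hlo : 𝔫.LiesOver (maximalIdeal O) := ⟨(IsLocalRing.eq_maximalIdeal hmax).symm⟩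
  letI : Field (O ⧸ maximalIdeal O) := Ideal.Quotient.field (maximalIdeal O)
  haveI : IsAlgClosed (O ⧸ maximalIdeal O) := ‹IsAlgClosed (ResidueField O)›
  haveI : IsDomain (B ⧸ 𝔫) := Ideal.Quotient.isDomain 𝔫
  have hsurj : Function.Surjective (algebraMap (O ⧸ maximalIdeal O) (B ⧸ 𝔫)) :=
    (IsAlgClosed.algebraMap_bijective_of_isIntegral (k := O ⧸ maximalIdeal O)
      (K := B ⧸ 𝔫)).2
  obtain ⟨a', ha'⟩ := hsurj (Ideal.Quotient.mk 𝔫 b)
  obtain ⟨a, rfl⟩ := Ideal.Quotient.mk_surjective a'
  refine ⟨a, ?_⟩
  rw [← Ideal.Quotient.eq]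
  exact ha'.symm

end Residue

section Between

variable {O : Type*} [CommRing O] {B : Type*} [CommRing B] [Algebra O B]
  {E : Type*} [AddCommGroup E] [Module O E] [Module B E] [IsScalarTower O B E]
  (hS : ∀ 𝔫 : Ideal B, 𝔫.IsMaximal → ∀ b : B, ∃ a : O, b - algebraMap O B a ∈ 𝔫)

include hS in
/-- A covering pair of `B`-submodules has relative `O`-length one. -/
theorem rl_covBy {T' T : Submodule B E} (hcov : T' ⋖ T) :
    rl (T'.restrictScalars O) (T.restrictScalars O) = 1 := by
  unfold rl
  rw [Module.length_eq_one_iff, isSimpleModule_iff_isCoatom]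
  have hlt : T' < T := hcov.lt
  obtain ⟨t₀, ht₀T, ht₀T'⟩ := SetLike.exists_of_lt hlt
  constructor
  · intro htop
    have : (⟨t₀, ht₀T⟩ : ↥(T.restrictScalars O)) ∈
        Submodule.comap (T.restrictScalars O).subtype (T'.restrictScalars O) := by
      rw [htop]
      trivial
    exact ht₀T' this
  · intro X hX
    obtain ⟨u, huX, huT'⟩ := SetLike.exists_of_lt hX
    have huT' : (u : E) ∉ T' := huT'
    -- the sup is everything
    have hsup : T' ⊔ Submodule.span B {(u : E)} = T := by
      have h1 : T' < T' ⊔ Submodule.span B {(u : E)} := by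
        refine lt_of_le_of_ne le_sup_left ?_
        intro h
        apply huT'
        rw [h]
        exact Submodule.mem_sup_right (Submodule.mem_span_singleton_self _)
      have h2 : T' ⊔ Submodule.span B {(u : E)} ≤ T :=
        sup_le hlt.le ((Submodule.span_singleton_le_iff_mem _ _).2 u.2)
      rcases eq_or_lt_of_le h2 with h3 | h3
      · exact h3
      · exact absurd h3 (hcov.2 h1)
    -- the ideal of `b` with `b u ∈ T'`
    let 𝔫 : Ideal B := Submodule.comap (LinearMap.toSpanSingleton B E (u : E)) T'
    have h𝔫mem : ∀ b : B, b ∈ 𝔫 ↔ b • (u : E) ∈ T' := fun b => Iff.rfl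
    have h𝔫max : 𝔫.IsMaximal := by
      rw [Ideal.isMaximal_iff]
      refine ⟨?_, ?_⟩
      · rw [h𝔫mem, one_smul]
        exact huT'
      · intro J x hJ hx hxJ
        rw [h𝔫mem] at hx
        have hsup' : T' ⊔ Submodule.span B {x • (u : E)} = T := by
          have h1 : T' < T' ⊔ Submodule.span B {x • (u : E)} := by
            refine lt_of_le_of_ne le_sup_left ?_
            intro h
            apply hx
            rw [h]
            exact Submodule.mem_sup_right (Submodule.mem_span_singleton_self _)
          have h2 : T' ⊔ Submodule.span B {x • (u : E)} ≤ T :=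
            sup_le hlt.le ((Submodule.span_singleton_le_iff_mem _ _).2 (T.smul_mem x u.2))
          rcases eq_or_lt_of_le h2 with h3 | h3
          · exact h3
          · exact absurd h3 (hcov.2 h1)
        have hu : (u : E) ∈ T' ⊔ Submodule.span B {x • (u : E)} := by
          rw [hsup']
          exact u.2
        obtain ⟨t', ht', z, hz, htz⟩ := Submodule.mem_sup.1 hu
        obtain ⟨c, rfl⟩ := Submodule.mem_span_singleton.1 hz
        have e1 : (1 - c * x) • (u : E) = t' := by
          rw [sub_smul, one_smul, mul_smul]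
          exact sub_eq_of_eq_add htz.symm
        have h1 : (1 - c * x) ∈ 𝔫 := by
          rw [h𝔫mem, e1]
          exact ht'
        have h2 : c * x ∈ J := J.mul_mem_left c hxJ
        have h3 : (1 - c * x) + c * x ∈ J := J.add_mem (hJ h1) h2
        rwa [sub_add_cancel] at h3
    rw [eq_top_iff]
    intro t _
    have ht : (t : E) ∈ T' ⊔ Submodule.span B {(u : E)} := by
      rw [hsup]
      exact t.2
    obtain ⟨t', ht', z, hz, htz⟩ := Submodule.mem_sup.1 ht
    obtain ⟨b, rfl⟩ := Submodule.mem_span_singleton.1 hz
    obtain ⟨a, ha⟩ := hS 𝔫 h𝔫max b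
    rw [h𝔫mem, sub_smul, algebraMap_smul] at ha
    -- `t = (t' + (b u - a u)) + a u`
    have hmem : (t' + (b • (u : E) - a • (u : E))) ∈ T' := T'.add_mem ht' ha
    have hmemT : (t' + (b • (u : E) - a • (u : E))) ∈ T := hlt.le hmem
    have h1 : (⟨_, hmemT⟩ : ↥(T.restrictScalars O)) ∈ X := hX.le hmem
    have h2 : a • u ∈ X := X.smul_mem a huX
    have h3 : t = ⟨_, hmemT⟩ + a • u := by
      apply Subtype.ext
      show (t : E) = (t' + (b • (u : E) - a • (u : E))) + a • (u : E)
      rw [← htz]
      abel
    rw [h3]
    exact X.add_mem h1 h2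

include hS in
/-- Intermediate `B`-submodules of every relative `O`-colength. -/
theorem exists_between [IsNoetherian B E] {U V : Submodule B E} (hUV : U ≤ V) :
    ∀ e : ℕ, (e : ℕ∞) ≤ rl (U.restrictScalars O) (V.restrictScalars O) →
      ∃ T : Submodule B E, U ≤ T ∧ T ≤ V ∧
        rl (T.restrictScalars O) (V.restrictScalars O) = e := by
  intro e
  induction e with
  | zero =>
    intro _
    exact ⟨V, hUV, le_rfl, by rw [Nat.cast_zero]; exact rl_self _⟩
  | succ e ih =>
    intro he
    have he' : (e : ℕ∞) ≤ rl (U.restrictScalars O) (V.restrictScalars O) :=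
      le_trans (by exact_mod_cast Nat.le_succ e) he
    obtain ⟨T, hUT, hTV, hT⟩ := ih he'
    have hadd := rl_add (O := O) (A := U.restrictScalars O) (B := T.restrictScalars O)
      (C := V.restrictScalars O) hUT hTV
    have hne : U ≠ T := by
      rintro rfl
      rw [hT] at he
      have : ((e + 1 : ℕ) : ℕ∞) ≤ (e : ℕ∞) := he
      have h2 : e + 1 ≤ e := by exact_mod_cast this
      omega
    have hlt : U < T := lt_of_le_of_ne hUT hne
    -- a maximal submodule below `T` containing `U`
    have hwf : WellFounded ((· > ·) : Submodule B E → Submodule B E → Prop) :=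
      (inferInstance : WellFoundedGT (Submodule B E)).wf
    obtain ⟨T', ⟨hUT', hT'T⟩, hmax⟩ := hwf.has_min {X : Submodule B E | U ≤ X ∧ X < T}
      ⟨U, le_rfl, hlt⟩
    have hcov : T' ⋖ T := by
      refine ⟨hT'T, ?_⟩
      intro Y hY hYT
      exact hmax Y ⟨le_trans hUT' hY.le, hYT⟩ hY
    refine ⟨T', hUT', le_trans hT'T.le hTV, ?_⟩
    have hadd' := rl_add (O := O) (A := T'.restrictScalars O) (B := T.restrictScalars O)
      (C := V.restrictScalars O) hT'T.le hTV
    rw [hadd', rl_covBy hS hcov, hT]
    push_cast
    rw [add_comm]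

end Between

end Groth.Agent.Lib.Helper88.CanDual
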