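/-
Free sublattices over a semilocal principal ideal domain and unimodular renormalization.
Author: helper88
-/
import Groth.Agent.Lib.Helper88.Lattice2

set_option autoImplicit false
set_option linter.style.haveILetI false

namespace Groth.Agent.Lib.Helper88.CanDual

open IsLocalRing Function

universe u

section Full

variable {B : Type u} [CommRing B] [IsDomain B] [IsPrincipalIdealRing B] {n : ℕ}

/-- A full-rank submodule of `B^n` over a PID is free of rank `n`. -/
theorem nonempty_equiv_of_full (N : Submodule B (Fin n → B)) (d : B) (hd0 : d ≠ 0)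
    (hd : ∀ p : Fin n → B, d • p ∈ N) : Nonempty (↥N ≃ₗ[B] (Fin n → B)) := by
  classical
  obtain ⟨k, β⟩ := Submodule.basisOfPid (Pi.basisFun B (Fin n)) N
  have hfinN : Module.Finite B N := Module.Finite.of_basis β
  have hk : k = n := by
    have h1 : Module.finrank B N = k := by
      rw [Module.finrank_eq_card_basis β, Fintype.card_fin]
    have h2 : Module.finrank B N ≤ n := by
      have := Submodule.finrank_le N
      rwa [Module.finrank_fin_fun] at this
    have h3 : n ≤ Module.finrank B N := by
      let f : (Fin n → B) →ₗ[B] N :=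
        { toFun := fun p => ⟨d • p, hd p⟩
          map_add' := fun p p' => by
            apply Subtype.ext
            simp [smul_add]
          map_smul' := fun b p => by
            apply Subtype.ext
            simp [smul_comm d b p] }
      have hf : Injective f := by
        intro p p' hpp
        have h : d • p = d • p' := congrArg Subtype.val hpp
        funext i
        have hi := congrFun h i
        simp only [Pi.smul_apply, smul_eq_mul] at hi
        exact mul_left_cancel₀ hd0 hi
      have := LinearMap.finrank_le_finrank_of_injective hf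
      rwa [Module.finrank_fin_fun] at this
    omega
  subst hk
  exact ⟨β.equivFun⟩

end Full


section Unimodular

open Groth.Agent.Lib.Helper34.LatticeBasis

variable {O : Type u} [CommRing O] [IsLocalRing O] [Infinite (IsLocalRing.ResidueField O)]
  {B : Type u} [CommRing B] [IsDomain B] [IsPrincipalIdealRing B] [Algebra O B] {n : ℕ}

/-- A lattice whose `B`-span has full rank contains, after a `B`-linear identification of the
span with `B^n`, the standard basis. -/
theorem exists_unimodular (hfinP : {P : Ideal B | P.IsPrime}.Finite)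
    (L : Submodule O (Fin n → B)) (d : B) (hd0 : d ≠ 0)
    (hd : ∀ p : Fin n → B, d • p ∈ Submodule.span B (L : Set (Fin n → B))) :
    ∃ Φ : ↥(Submodule.span B (L : Set (Fin n → B))) ≃ₗ[B] (Fin n → B),
      ∀ i : Fin n, ∃ m : ↥L, Φ ⟨(m : Fin n → B), Submodule.subset_span m.2⟩ = Pi.single i 1 := by
  classical
  obtain ⟨g⟩ := nonempty_equiv_of_full (Submodule.span B (L : Set (Fin n → B))) d hd0 hd
  -- the renormalized embedding
  let j' : ↥L →ₗ[O] (Fin n → B) :=
    { toFun := fun m => g ⟨(m : Fin n → B), Submodule.subset_span m.2⟩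
      map_add' := fun m m' => by
        have : (⟨((m + m' : ↥L) : Fin n → B), Submodule.subset_span (m + m').2⟩ :
            ↥(Submodule.span B (L : Set (Fin n → B)))) =
            ⟨(m : Fin n → B), Submodule.subset_span m.2⟩ +
              ⟨(m' : Fin n → B), Submodule.subset_span m'.2⟩ := rfl
        rw [this, map_add]
      map_smul' := fun a m => by
        have : (⟨((a • m : ↥L) : Fin n → B), Submodule.subset_span (a • m).2⟩ :
            ↥(Submodule.span B (L : Set (Fin n → B)))) =
            algebraMap O B a • ⟨(m : Fin n → B), Submodule.subset_span m.2⟩ := by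
          apply Subtype.ext
          show a • (m : Fin n → B) = algebraMap O B a • (m : Fin n → B)
          rw [algebraMap_smul]
        rw [this, map_smul, algebraMap_smul]
        rfl }
  have hj'app : ∀ m : ↥L, j' m = g ⟨(m : Fin n → B), Submodule.subset_span m.2⟩ := fun m => rfl
  have hspan : Submodule.span B (Set.range j') = ⊤ := by
    rw [eq_top_iff]
    intro p _
    have key : ∀ (x : Fin n → B) (hx : x ∈ Submodule.span B (L : Set (Fin n → B))),
        g ⟨x, hx⟩ ∈ Submodule.span B (Set.range j') := by
      intro x hx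
      refine Submodule.span_induction
        (p := fun x hx => g ⟨x, hx⟩ ∈ Submodule.span B (Set.range j')) ?_ ?_ ?_ ?_ hx
      · intro y hy
        exact Submodule.subset_span ⟨⟨y, hy⟩, rfl⟩
      · have : (⟨0, Submodule.zero_mem _⟩ : ↥(Submodule.span B (L : Set (Fin n → B)))) = 0 := rfl
        rw [this, map_zero]
        exact Submodule.zero_mem _
      · intro x y hx hy hx' hy'
        have : (⟨x + y, Submodule.add_mem _ hx hy⟩ :
            ↥(Submodule.span B (L : Set (Fin n → B)))) = ⟨x, hx⟩ + ⟨y, hy⟩ := rfl
        rw [this, map_add]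
        exact Submodule.add_mem _ hx' hy'
      · intro a x hx hx'
        have : (⟨a • x, Submodule.smul_mem _ a hx⟩ :
            ↥(Submodule.span B (L : Set (Fin n → B)))) = a • ⟨x, hx⟩ := rfl
        rw [this, map_smul]
        exact Submodule.smul_mem _ a hx'
    have := key _ (g.symm p).2
    have e : (⟨((g.symm p : ↥(Submodule.span B (L : Set (Fin n → B)))) : Fin n → B),
        (g.symm p).2⟩ : ↥(Submodule.span B (L : Set (Fin n → B)))) = g.symm p := rfl
    rw [e, LinearEquiv.apply_symm_apply] at this
    exact this
  obtain ⟨w, hw⟩ := exists_tuple j' hspan (hfinP.toFinset.filter (fun P => P.IsMaximal))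
    (fun q hq => (Finset.mem_filter.mp hq).2.ne_top)
  obtain ⟨A, hAdef⟩ : ∃ A : Matrix (Fin n) (Fin n) B,
      A = Matrix.of (fun i => j' (w i)) := ⟨_, rfl⟩
  have hArow : ∀ i, A i = j' (w i) := fun i => by rw [hAdef]; rfl
  have hA : IsUnit A.det := by
    by_contra hnu
    obtain ⟨P, hPmax, hP⟩ := exists_max_ideal_of_mem_nonunits hnu
    refine hw P (Finset.mem_filter.mpr ⟨hfinP.mem_toFinset.mpr hPmax.isPrime, hPmax⟩) ?_
    rw [hAdef] at hP
    exact hP
  let T : (Fin n → B) →ₗ[B] (Fin n → B) := Matrix.vecMulLinear A⁻¹
  let T' : (Fin n → B) →ₗ[B] (Fin n → B) := Matrix.vecMulLinear A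
  have hTT' : T ∘ₗ T' = LinearMap.id := by
    refine LinearMap.ext fun x => ?_
    show Matrix.vecMul (Matrix.vecMul x A) A⁻¹ = x
    rw [Matrix.vecMul_vecMul, Matrix.mul_nonsing_inv A hA, Matrix.vecMul_one]
  have hT'T : T' ∘ₗ T = LinearMap.id := by
    refine LinearMap.ext fun x => ?_
    show Matrix.vecMul (Matrix.vecMul x A⁻¹) A = x
    rw [Matrix.vecMul_vecMul, Matrix.nonsing_inv_mul A hA, Matrix.vecMul_one]
  let Te : (Fin n → B) ≃ₗ[B] (Fin n → B) := LinearEquiv.ofLinearMap T T' hTT' hT'T
  have hTrow : ∀ i, T (j' (w i)) = Pi.single i 1 := by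
    intro i
    change Matrix.vecMul (j' (w i)) A⁻¹ = _
    rw [← hArow, ← Matrix.mul_apply_eq_vecMul, Matrix.mul_nonsing_inv A hA]
    ext k
    simp [Matrix.one_apply, Pi.single_apply, eq_comm]
  refine ⟨g.trans Te, fun i => ⟨w i, ?_⟩⟩
  show T (g ⟨((w i : ↥L) : Fin n → B), Submodule.subset_span (w i).2⟩) = Pi.single i 1
  rw [← hj'app]
  exact hTrow i

end Unimodular

end Groth.Agent.Lib.Helper88.CanDual
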