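/-
Balanced embeddings of torsion-free modules over a one-dimensional Gorenstein local domain:
`C^n ⊆ M' ⊆ Õ^n` with `ℓ(M'/C^n) = n ℓ(O/C)`.
Author: helper88
-/
import Groth.Agent.Lib.Helper88.Lattice3

set_option autoImplicit false
set_option linter.style.haveILetI false

namespace Groth.Agent.Lib.Helper88.CanDual

open IsLocalRing Function

universe u

section Cond

variable {O : Type u} [CommRing O] {K : Type u} [Field K] [Algebra O K]

/-- The normalization as a submodule. -/
local notation "Õs" => Subalgebra.toSubmodule (integralClosure O K)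

/-- The conductor inside `K`. -/
local notation "Cs" =>
  ((Submodule.colon (1 : Submodule O K) (Subalgebra.toSubmodule (integralClosure O K))) •
    (1 : Submodule O K))

lemma exists_of_mem_Cs {z : K} (hz : z ∈ Cs) :
    ∃ a ∈ (1 : Submodule O K).colon (Õs : Submodule O K), algebraMap O K a = z := by
  refine Submodule.smul_induction_on hz ?_ ?_
  · intro c hc y hy
    obtain ⟨a, rfl⟩ := Submodule.mem_one.1 hy
    refine ⟨c * a, Ideal.mul_mem_right _ _ hc, ?_⟩
    rw [map_mul, Algebra.smul_def]
  · rintro y y' ⟨a, ha, rfl⟩ ⟨a', ha', rfl⟩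
    exact ⟨a + a', Ideal.add_mem _ ha ha', map_add _ _ _⟩

lemma mem_Cs_iff {z : K} : z ∈ Cs ↔ ∀ y ∈ (Õs : Submodule O K), z * y ∈ (1 : Submodule O K) := by
  constructor
  · intro hz y hy
    exact cond_mul_mem hz hy
  · intro h
    have h1 := h 1 (integralClosure O K).one_mem
    rw [mul_one] at h1
    obtain ⟨a, rfl⟩ := Submodule.mem_one.1 h1
    have ha : a ∈ (1 : Submodule O K).colon (Õs : Submodule O K) := by
      rw [Submodule.mem_colon]
      intro y hy
      rw [Algebra.smul_def]
      exact h y hy
    have h2 : a • (1 : K) ∈ Cs := Submodule.smul_mem_smul ha (Submodule.one_le.1 le_rfl)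
    have e : a • (1 : K) = algebraMap O K a := by rw [Algebra.smul_def, mul_one]
    rwa [e] at h2

lemma Cs_mul_mem {z y : K} (hz : z ∈ Cs) (hy : y ∈ (Õs : Submodule O K)) : z * y ∈ Cs := by
  rw [mem_Cs_iff] at hz ⊢
  intro y' hy'
  rw [mul_assoc]
  exact hz _ ((integralClosure O K).mul_mem hy hy')

lemma Cs_le_one : (Cs : Submodule O K) ≤ 1 := by
  intro z hz
  obtain ⟨a, -, rfl⟩ := exists_of_mem_Cs hz
  exact Submodule.mem_one.2 ⟨a, rfl⟩

/-- `ℓ(O^n / C^n) = n ℓ(O / C)`. -/
theorem rl_cond_free [IsDomain O] [IsFractionRing O K] (n : ℕ) :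
    rl (Submodule.pi Set.univ (fun _ : Fin n => (Cs : Submodule O K)))
      (Submodule.pi Set.univ (fun _ : Fin n => (1 : Submodule O K))) =
    (n : ℕ∞) * Module.length O (O ⧸ (1 : Submodule O K).colon (Õs : Submodule O K)) := by
  classical
  let f : (Fin n → O) →ₗ[O] (Fin n → K) := (Algebra.linearMap O K).compLeft (Fin n)
  have hfapp : ∀ a i, f a i = algebraMap O K (a i) := fun a i => rfl
  have hf : Injective f := by
    intro a a' h
    funext i
    exact IsFractionRing.injective O K (congrFun h i)
  let A : Submodule O (Fin n → O) := Submodule.pi Set.univ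
    (fun _ : Fin n => (Submodule.colon (1 : Submodule O K) (Õs : Submodule O K) : Submodule O O))
  have hA : A.map f = Submodule.pi Set.univ (fun _ : Fin n => (Cs : Submodule O K)) := by
    ext v
    rw [Submodule.mem_map, Submodule.mem_pi]
    constructor
    · rintro ⟨a, ha, rfl⟩ i _
      rw [Submodule.mem_pi] at ha
      rw [hfapp]
      have h2 : a i • (1 : K) ∈ Cs :=
        Submodule.smul_mem_smul (ha i (Set.mem_univ i)) (Submodule.one_le.1 le_rfl)
      have e : a i • (1 : K) = algebraMap O K (a i) := by rw [Algebra.smul_def, mul_one]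
      rwa [e] at h2
    · intro hv
      have hex : ∀ i : Fin n, ∃ a ∈ Submodule.colon (1 : Submodule O K) (Õs : Submodule O K),
          algebraMap O K a = v i := fun i => exists_of_mem_Cs (hv i (Set.mem_univ i))
      choose a ha ha' using hex
      refine ⟨a, ?_, funext ha'⟩
      rw [Submodule.mem_pi]
      intro i _
      exact ha i
  have hT : (⊤ : Submodule O (Fin n → O)).map f =
      Submodule.pi Set.univ (fun _ : Fin n => (1 : Submodule O K)) := by
    ext v
    rw [Submodule.mem_map, Submodule.mem_pi]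
    constructor
    · rintro ⟨a, -, rfl⟩ i _
      exact Submodule.mem_one.2 ⟨a i, rfl⟩
    · intro hv
      have hex : ∀ i : Fin n, ∃ a : O, algebraMap O K a = v i := fun i =>
        Submodule.mem_one.1 (hv i (Set.mem_univ i))
      choose a ha using hex
      exact ⟨a, trivial, funext ha⟩
  rw [← hA, ← hT, rl_map_injective f hf, rl_top, (Submodule.quotientPi _).length_eq,
    Module.length_pi]
  simp

end Cond


section Iota

variable {O : Type u} [CommRing O] {K : Type u} [Field K] [Algebra O K]

/-- The inclusion `Õ^n → K^n`. -/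
noncomputable def iotaN (n : ℕ) : (Fin n → ↥(integralClosure O K)) →ₗ[O] (Fin n → K) :=
  ((integralClosure O K).val.toLinearMap).compLeft (Fin n)

lemma iotaN_apply {n : ℕ} (p : Fin n → ↥(integralClosure O K)) (i : Fin n) :
    iotaN (O := O) (K := K) n p i = ((p i : ↥(integralClosure O K)) : K) := rfl

lemma iotaN_injective (n : ℕ) : Injective (iotaN (O := O) (K := K) n) := by
  intro p p' h
  funext i
  exact Subtype.ext (congrFun h i)

lemma range_iotaN (n : ℕ) : LinearMap.range (iotaN (O := O) (K := K) n) =
    Submodule.pi Set.univ (fun _ : Fin n => Subalgebra.toSubmodule (integralClosure O K)) := by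
  ext v
  rw [LinearMap.mem_range, Submodule.mem_pi]
  constructor
  · rintro ⟨p, rfl⟩ i _
    exact (p i).2
  · intro hv
    exact ⟨fun i => ⟨v i, hv i (Set.mem_univ i)⟩, rfl⟩

lemma map_comap_iotaN {n : ℕ} {X : Submodule O (Fin n → K)}
    (hX : X ≤ Submodule.pi Set.univ
      (fun _ : Fin n => Subalgebra.toSubmodule (integralClosure O K))) :
    (X.comap (iotaN n)).map (iotaN n) = X := by
  rw [Submodule.map_comap_eq, range_iotaN]
  exact inf_eq_right.2 hX

end Iota


section Assembly

variable {O : Type u} [CommRing O] [IsDomain O] [IsNoetherianRing O] [IsLocalRing O]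
  {K : Type u} [Field K] [Algebra O K] [IsFractionRing O K]
  (hdim : ringKrullDim O = 1) (hfin : Module.Finite O ↥(integralClosure O K))

/-- The normalization as a submodule. -/
local notation "Õs" => Subalgebra.toSubmodule (integralClosure O K)

/-- The conductor inside `K`. -/
local notation "Cs" =>
  ((Submodule.colon (1 : Submodule O K) (Subalgebra.toSubmodule (integralClosure O K))) •
    (1 : Submodule O K))

include hdim hfin in
/-- Rebalancing a lattice between `C^n` and `O^n`. -/
theorem exists_balanced_of_lattice [IsAlgClosed (ResidueField O)] {n : ℕ}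
    (Lk : Submodule O (Fin n → K))
    (hLk1 : Submodule.pi Set.univ (fun _ : Fin n => (Cs : Submodule O K)) ≤ Lk)
    (hLk2 : Lk ≤ Submodule.pi Set.univ (fun _ : Fin n => (1 : Submodule O K))) :
    ∃ M' : Submodule O (Fin n → K),
      Submodule.pi Set.univ (fun _ : Fin n => (Cs : Submodule O K)) ≤ M' ∧
      M' ≤ Submodule.pi Set.univ (fun _ : Fin n => (Õs : Submodule O K)) ∧
      Nonempty (↥Lk ≃ₗ[O] ↥M') ∧
      rl (Submodule.pi Set.univ (fun _ : Fin n => (Cs : Submodule O K))) M' =
        (n : ℕ∞) * Module.length O (O ⧸ Submodule.colon (1 : Submodule O K)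
          (Õs : Submodule O K)) := by
  classical
  haveI : Infinite (ResidueField O) := inferInstance
  have hPID : IsPrincipalIdealRing ↥(integralClosure O K) := Helper71.TFCurv.isPID K hdim hfin
  have hfinP := Helper71.TFCurv.finite_primes_B K hdim hfin
  obtain ⟨x, hx, hx0⟩ := Helper71.TFCurv.exists_mem_max_ne_zero hdim
  set ι := iotaN (O := O) (K := K) n with hι
  have hιinj : Injective ι := iotaN_injective (O := O) (K := K) n
  have h1N : Submodule.pi Set.univ (fun _ : Fin n => (1 : Submodule O K)) ≤
      Submodule.pi Set.univ (fun _ : Fin n => (Õs : Submodule O K)) :=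
    Submodule.pi_mono (fun _ _ => one_le_normal)
  have hCs1 : Submodule.pi Set.univ (fun _ : Fin n => (Cs : Submodule O K)) ≤
      Submodule.pi Set.univ (fun _ : Fin n => (1 : Submodule O K)) :=
    Submodule.pi_mono (fun _ _ => Cs_le_one)
  set L : Submodule O (Fin n → ↥(integralClosure O K)) := Lk.comap ι with hL
  set Obn : Submodule O (Fin n → ↥(integralClosure O K)) :=
    (Submodule.pi Set.univ (fun _ : Fin n => (1 : Submodule O K))).comap ι with hObn
  set Cbn : Submodule O (Fin n → ↥(integralClosure O K)) :=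
    (Submodule.pi Set.univ (fun _ : Fin n => (Cs : Submodule O K))).comap ι with hCbn
  have hCL : Cbn ≤ L := Submodule.comap_mono hLk1
  have hLO : L ≤ Obn := Submodule.comap_mono hLk2
  have hCO : Cbn ≤ Obn := Submodule.comap_mono hCs1
  have hmapL : L.map ι = Lk := map_comap_iotaN (hLk2.trans h1N)
  have hmapO : Obn.map ι = Submodule.pi Set.univ (fun _ : Fin n => (1 : Submodule O K)) :=
    map_comap_iotaN h1N
  have hmapC : Cbn.map ι = Submodule.pi Set.univ (fun _ : Fin n => (Cs : Submodule O K)) :=
    map_comap_iotaN (hCs1.trans h1N)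
  -- an element of the conductor
  obtain ⟨c, hc0, hcN⟩ := exists_smul_mem (I := (1 : Submodule O K))
    (J := (Õs : Submodule O K)) one_ne (normal_fg (K := K) hfin)
  have hcE : ∀ p : Fin n → ↥(integralClosure O K), c • p ∈ Cbn := by
    intro p
    show ι (c • p) ∈ Submodule.pi Set.univ (fun _ : Fin n => (Cs : Submodule O K))
    rw [Submodule.mem_pi]
    intro i _
    show c • ((p i : ↥(integralClosure O K)) : K) ∈ Cs
    rw [mem_Cs_iff]
    intro y hy
    rw [smul_mul_assoc]
    exact hcN _ ((integralClosure O K).mul_mem (p i).2 hy)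
  set cB : ↥(integralClosure O K) := algebraMap O ↥(integralClosure O K) c with hcB
  have hcB0 : cB ≠ 0 := by
    intro h
    have h2 : algebraMap O K c = 0 := congrArg Subtype.val h
    exact algebraMap_ne_zero' hc0 h2
  -- the `B`-span of `L`
  set LB : Submodule ↥(integralClosure O K) (Fin n → ↥(integralClosure O K)) :=
    Submodule.span ↥(integralClosure O K) (L : Set (Fin n → ↥(integralClosure O K))) with hLB
  have hLLB : L ≤ LB.restrictScalars O := fun p hp => Submodule.subset_span hp
  have hfull : ∀ p : Fin n → ↥(integralClosure O K), cB • p ∈ LB := by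
    intro p
    rw [hcB, algebraMap_smul]
    exact Submodule.subset_span (hCL (hcE p))
  obtain ⟨Φ, hΦ⟩ := exists_unimodular hfinP L cB hcB0 hfull
  -- finiteness
  haveI : Module.Finite O ↥(integralClosure O K) := hfin
  have hfinC : rl Cbn ⊤ ≠ ⊤ := by
    rw [rl_top]
    refine Helper71.TFCurv.length_ne_top_of_torsion (Helper71.TFCurv.dimLEOne hdim) (x * c)
      (mul_ne_zero hx0 hc0) (Ideal.mul_mem_right _ _ hx) ?_
    intro q
    obtain ⟨p, rfl⟩ := Submodule.Quotient.mk_surjective _ q
    rw [← Submodule.Quotient.mk_smul, Submodule.Quotient.mk_eq_zero, mul_smul]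
    exact Cbn.smul_mem x (hcE p)
  -- the O-linear version of `Φ`
  let ΦO : ↥(LB.restrictScalars O) ≃ₗ[O] (Fin n → ↥(integralClosure O K)) :=
    { toFun := fun y => Φ ⟨y.1, y.2⟩
      invFun := fun p => ⟨(Φ.symm p).1, (Φ.symm p).2⟩
      map_add' := fun y y' => by
        have : (⟨(y + y').1, (y + y').2⟩ : ↥LB) = ⟨y.1, y.2⟩ + ⟨y'.1, y'.2⟩ := rfl
        rw [this, map_add]
      map_smul' := fun a y => by
        have : (⟨(a • y).1, (a • y).2⟩ : ↥LB) =
            algebraMap O ↥(integralClosure O K) a • ⟨y.1, y.2⟩ := by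
          apply Subtype.ext
          show a • (y.1 : Fin n → ↥(integralClosure O K)) = _
          rw [← algebraMap_smul ↥(integralClosure O K) a (y.1 : Fin n → ↥(integralClosure O K))]
          rfl
        rw [this, map_smul, algebraMap_smul]
        rfl
      left_inv := fun y => by
        apply Subtype.ext
        show ((Φ.symm (Φ ⟨y.1, y.2⟩) : ↥LB) : Fin n → ↥(integralClosure O K)) = y.1
        rw [Φ.symm_apply_apply]
      right_inv := fun p => by
        show Φ ⟨(Φ.symm p).1, (Φ.symm p).2⟩ = p
        exact Φ.apply_symm_apply p }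
  have hC1 : rl L (LB.restrictScalars O) ≤ rl Obn ⊤ := by
    rw [rl_top]
    have h1 : rl L (LB.restrictScalars O) = Module.length O
        ((Fin n → ↥(integralClosure O K)) ⧸ Submodule.map
          (ΦO : ↥(LB.restrictScalars O) →ₗ[O] (Fin n → ↥(integralClosure O K)))
          (Submodule.comap (LB.restrictScalars O).subtype L)) :=
      (Submodule.Quotient.equiv (Submodule.comap (LB.restrictScalars O).subtype L) _ ΦO
        rfl).length_eq
    rw [h1]
    apply length_quot_anti
    intro p hp
    have hp' : ∀ i : Fin n, ∃ a : O, algebraMap O K a = ((p i : ↥(integralClosure O K)) : K) := by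
      intro i
      have : ι p ∈ Submodule.pi Set.univ (fun _ : Fin n => (1 : Submodule O K)) := hp
      rw [Submodule.mem_pi] at this
      exact Submodule.mem_one.1 (this i (Set.mem_univ i))
    choose a ha using hp'
    have hsum : p = ∑ i, a i • (Pi.single i 1 : Fin n → ↥(integralClosure O K)) := by
      funext k
      rw [Finset.sum_apply, Finset.sum_eq_single k]
      · rw [Pi.smul_apply, Pi.single_eq_same]
        apply Subtype.ext
        rw [← ha]
        show _ = a k • (1 : K)
        rw [Algebra.smul_def, mul_one]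
      · intro i _ hik
        rw [Pi.smul_apply, Pi.single_eq_of_ne (Ne.symm hik), smul_zero]
      · intro h
        exact absurd (Finset.mem_univ k) h
    rw [hsum]
    refine Submodule.sum_mem _ fun i _ => Submodule.smul_mem _ _ ?_
    obtain ⟨m, hm⟩ := hΦ i
    exact ⟨⟨(m : Fin n → ↥(integralClosure O K)), Submodule.subset_span m.2⟩, m.2, hm⟩
  -- length bookkeeping
  have hA1 : rl L ⊤ = rl L (LB.restrictScalars O) + rl (LB.restrictScalars O) ⊤ :=
    rl_add hLLB le_top
  have hA2 : rl L ⊤ = rl L Obn + rl Obn ⊤ := rl_add hLO le_top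
  have hCC : rl Cbn ⊤ = rl Cbn L + rl L ⊤ := rl_add hCL le_top
  have hLtop : rl L ⊤ ≠ ⊤ := by
    intro h
    rw [h, add_top] at hCC
    exact hfinC hCC
  have hOtop : rl Obn ⊤ ≠ ⊤ := by
    intro h
    rw [h, add_top] at hA2
    exact hLtop hA2
  have hLO' : rl L Obn ≠ ⊤ := by
    intro h
    rw [h, top_add] at hA2
    exact hLtop hA2
  obtain ⟨e, he⟩ := ENat.ne_top_iff_exists.1 hLO'
  obtain ⟨xo, hxo⟩ := ENat.ne_top_iff_exists.1 hOtop
  have hstar : (e : ℕ∞) ≤ rl (LB.restrictScalars O) ⊤ := by
    rcases eq_or_ne (rl (LB.restrictScalars O) ⊤) ⊤ with h | h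
    · rw [h]
      exact le_top
    · obtain ⟨z, hz⟩ := ENat.ne_top_iff_exists.1 h
      have hy : rl L (LB.restrictScalars O) ≠ ⊤ := by
        intro h'
        rw [h', top_add] at hA1
        exact hLtop hA1
      obtain ⟨y, hy'⟩ := ENat.ne_top_iff_exists.1 hy
      rw [← hy', ← hxo] at hC1
      rw [hA2, ← he, ← hxo, ← hy', ← hz] at hA1
      have h1 : e + xo = y + z := by exact_mod_cast hA1
      have h2 : y ≤ xo := by exact_mod_cast hC1
      rw [← hz]
      have : e ≤ z := by omega
      exact_mod_cast this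
  -- the intermediate `B`-lattice
  have hS : ∀ 𝔫 : Ideal ↥(integralClosure O K), 𝔫.IsMaximal →
      ∀ b : ↥(integralClosure O K), ∃ a : O, b - algebraMap O ↥(integralClosure O K) a ∈ 𝔫 :=
    fun 𝔫 h𝔫 b => exists_sub_mem_of_isMaximal (O := O) 𝔫 b
  haveI : IsNoetherianRing ↥(integralClosure O K) := inferInstance
  obtain ⟨T, hLBT, -, hT⟩ := exists_between (O := O) hS
    (U := LB) (V := ⊤) le_top e (by rw [Submodule.restrictScalars_top]; exact hstar)
  rw [Submodule.restrictScalars_top] at hT
  have hLT : L ≤ T.restrictScalars O := fun p hp => hLBT (hLLB hp)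
  have hA3 : rl L ⊤ = rl L (T.restrictScalars O) + rl (T.restrictScalars O) ⊤ :=
    rl_add hLT le_top
  have hLTeq : rl L (T.restrictScalars O) = rl Obn ⊤ := by
    rw [hA2, hT, ← he, ← hxo] at hA3
    rcases eq_or_ne (rl L (T.restrictScalars O)) ⊤ with h | h
    · rw [h, top_add] at hA3
      exact absurd hA3 (by exact_mod_cast ENat.natCast_ne_top (e + xo))
    · obtain ⟨y, hy'⟩ := ENat.ne_top_iff_exists.1 h
      rw [← hy'] at hA3
      have h1 : e + xo = y + e := by exact_mod_cast hA3
      rw [← hy', ← hxo]
      have : y = xo := by omega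
      exact_mod_cast this
  -- `T` is free
  have hfullT : ∀ p : Fin n → ↥(integralClosure O K), cB • p ∈ T := fun p => hLBT (hfull p)
  obtain ⟨gT⟩ := nonempty_equiv_of_full T cB hcB0 hfullT
  let g : (Fin n → ↥(integralClosure O K)) ≃ₗ[O] ↥(T.restrictScalars O) :=
    { toFun := fun p => ⟨(gT.symm p).1, (gT.symm p).2⟩
      invFun := fun y => gT ⟨y.1, y.2⟩
      map_add' := fun p p' => by
        apply Subtype.ext
        show ((gT.symm (p + p') : ↥T) : Fin n → ↥(integralClosure O K)) =
          ((gT.symm p : ↥T) : Fin n → ↥(integralClosure O K)) + (gT.symm p' : ↥T)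
        rw [map_add]
        rfl
      map_smul' := fun a p => by
        apply Subtype.ext
        show ((gT.symm (a • p) : ↥T) : Fin n → ↥(integralClosure O K)) =
          a • ((gT.symm p : ↥T) : Fin n → ↥(integralClosure O K))
        rw [← algebraMap_smul ↥(integralClosure O K) a p, map_smul,
          ← algebraMap_smul ↥(integralClosure O K) a
            ((gT.symm p : ↥T) : Fin n → ↥(integralClosure O K))]
        rfl
      left_inv := fun p => by
        show gT ⟨(gT.symm p).1, (gT.symm p).2⟩ = p
        exact gT.apply_symm_apply p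
      right_inv := fun y => by
        apply Subtype.ext
        show ((gT.symm (gT ⟨y.1, y.2⟩) : ↥T) : Fin n → ↥(integralClosure O K)) = y.1
        rw [gT.symm_apply_apply] }
  have hgapp : ∀ p, ((g p : ↥(T.restrictScalars O)) : Fin n → ↥(integralClosure O K)) =
      ((gT.symm p : ↥T) : Fin n → ↥(integralClosure O K)) := fun p => rfl
  set M'B : Submodule O (Fin n → ↥(integralClosure O K)) :=
    Submodule.comap ((T.restrictScalars O).subtype ∘ₗ g.toLinearMap) L with hM'B
  have hM'Bmem : ∀ p, p ∈ M'B ↔
      ((gT.symm p : ↥T) : Fin n → ↥(integralClosure O K)) ∈ L := fun p => Iff.rfl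
  have hiii : rl L (T.restrictScalars O) =
      Module.length O ((Fin n → ↥(integralClosure O K)) ⧸ M'B) :=
    rl_equiv_top (T.restrictScalars O) g L
  have hM'top : rl M'B ⊤ = rl Obn ⊤ := by
    rw [rl_top, ← hiii, hLTeq]
  -- `C^n ⊆ M'`
  have hCM : Cbn ≤ M'B := by
    intro p hp
    have hp' : ∀ i : Fin n, ((p i : ↥(integralClosure O K)) : K) ∈ Cs := by
      intro i
      have : ι p ∈ Submodule.pi Set.univ (fun _ : Fin n => (Cs : Submodule O K)) := hp
      rw [Submodule.mem_pi] at this
      exact this i (Set.mem_univ i)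
    rw [hM'Bmem]
    apply hCL
    have hp_sum : p = ∑ i, p i • (Pi.single i 1 : Fin n → ↥(integralClosure O K)) := by
      funext k
      rw [Finset.sum_apply, Finset.sum_eq_single k]
      · rw [Pi.smul_apply, Pi.single_eq_same, smul_eq_mul, mul_one]
      · intro i _ hik
        rw [Pi.smul_apply, Pi.single_eq_of_ne (Ne.symm hik), smul_zero]
      · intro h
        exact absurd (Finset.mem_univ k) h
    have hval : ((gT.symm p : ↥T) : Fin n → ↥(integralClosure O K)) =
        ∑ i, p i • ((gT.symm (Pi.single i 1) : ↥T) : Fin n → ↥(integralClosure O K)) := by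
      conv_lhs => rw [hp_sum]
      rw [map_sum, Submodule.coe_sum]
      refine Finset.sum_congr rfl fun i _ => ?_
      rw [map_smul]
      rfl
    rw [hval]
    refine Cbn.sum_mem fun i _ => ?_
    show ι (p i • ((gT.symm (Pi.single i 1) : ↥T) : Fin n → ↥(integralClosure O K))) ∈
      Submodule.pi Set.univ (fun _ : Fin n => (Cs : Submodule O K))
    rw [Submodule.mem_pi]
    intro k _
    exact Cs_mul_mem (hp' i)
      (((gT.symm (Pi.single i 1) : ↥T) : Fin n → ↥(integralClosure O K)) k).2
  have hB1 : rl Cbn ⊤ = rl Cbn M'B + rl M'B ⊤ := rl_add hCM le_top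
  have hB2 : rl Cbn ⊤ = rl Cbn Obn + rl Obn ⊤ := rl_add hCO le_top
  have hfinal : rl Cbn M'B = rl Cbn Obn := by
    rw [hM'top, hB2] at hB1
    exact (ENat.add_left_injective_of_ne_top hOtop hB1).symm
  -- back to `K^n`
  refine ⟨M'B.map ι, ?_, ?_, ?_, ?_⟩
  · rw [← hmapC]
    exact Submodule.map_mono hCM
  · rw [← range_iotaN]
    exact LinearMap.map_le_range
  · let e1 : ↥L ≃ₗ[O] ↥Lk :=
      (Submodule.equivMapOfInjective ι hιinj L).trans (LinearEquiv.ofEq _ _ hmapL)
    let e2 : ↥M'B ≃ₗ[O] ↥L :=
      { toFun := fun p => ⟨((g p.1 : ↥(T.restrictScalars O)) : Fin n → ↥(integralClosure O K)),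
          p.2⟩
        invFun := fun w => ⟨g.symm ⟨w.1, hLT w.2⟩, by
          show ((g (g.symm ⟨w.1, hLT w.2⟩) : ↥(T.restrictScalars O)) :
            Fin n → ↥(integralClosure O K)) ∈ L
          rw [g.apply_symm_apply]
          exact w.2⟩
        map_add' := fun p p' => by
          apply Subtype.ext
          show ((g (p.1 + p'.1) : ↥(T.restrictScalars O)) : Fin n → ↥(integralClosure O K)) = _
          rw [map_add]
          rfl
        map_smul' := fun a p => by
          apply Subtype.ext
          show ((g (a • p.1) : ↥(T.restrictScalars O)) : Fin n → ↥(integralClosure O K)) = _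
          rw [map_smul]
          rfl
        left_inv := fun p => by
          apply Subtype.ext
          show g.symm ⟨((g p.1 : ↥(T.restrictScalars O)) :
            Fin n → ↥(integralClosure O K)), _⟩ = p.1
          exact g.symm_apply_apply p.1
        right_inv := fun w => by
          apply Subtype.ext
          show ((g (g.symm ⟨w.1, hLT w.2⟩) : ↥(T.restrictScalars O)) :
            Fin n → ↥(integralClosure O K)) = w.1
          rw [g.apply_symm_apply] }
    let e3 : ↥M'B ≃ₗ[O] ↥(M'B.map ι) := Submodule.equivMapOfInjective ι hιinj M'B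
    exact ⟨e1.symm.trans (e2.symm.trans e3)⟩
  · rw [← hmapC, rl_map_injective ι hιinj, hfinal, ← rl_map_injective ι hιinj, hmapC, hmapO]
    exact rl_cond_free n

include hdim hfin in
/-- **Balanced embeddings** of torsion-free modules over a Gorenstein curve singularity. -/
theorem exists_balanced [IsAlgClosed (ResidueField O)]
    (hGor : CategoryTheory.HasInjectiveDimensionLT (ModuleCat.of O ↥(1 : Submodule O K)) 2)
    (M : Type u) [AddCommGroup M] [Module O M] [Module.Finite O M] [NoZeroSMulDivisors O M]
    (n : ℕ) (hn : Module.finrank K (TensorProduct O K M) = n) :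
    ∃ M' : Submodule O (Fin n → K),
      Submodule.pi Set.univ (fun _ : Fin n => (Cs : Submodule O K)) ≤ M' ∧
      M' ≤ Submodule.pi Set.univ (fun _ : Fin n => (Õs : Submodule O K)) ∧
      Nonempty (M ≃ₗ[O] ↥M') ∧
      Module.length O (↥M' ⧸ Submodule.comap M'.subtype
        (Submodule.pi Set.univ (fun _ : Fin n => (Cs : Submodule O K)))) =
        (n : ℕ∞) * Module.length O (O ⧸ Submodule.colon (1 : Submodule O K)
          (Õs : Submodule O K)) := by
  haveI : Infinite (ResidueField O) := inferInstance
  obtain ⟨Lk, hLk1, hLk2, ⟨eL⟩⟩ := exists_between_cond_and_free hdim hfin hGor M n hn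
  obtain ⟨M', h1, h2, ⟨e⟩, h3⟩ := exists_balanced_of_lattice hdim hfin Lk hLk1 hLk2
  exact ⟨M', h1, h2, ⟨eL.trans e⟩, h3⟩

end Assembly

end Groth.Agent.Lib.Helper88.CanDual
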