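/-
The local trace formula for residues over a complete discretely valued field `K((X))`.
Part 1: places from expansions; the trace formula for Tate residues relative to a free lattice.
Author: helper88
-/
import Groth.Agent.Lib.Helper88.TraceRes3

set_option autoImplicit false
set_option linter.unusedSectionVars false

namespace Groth.Agent.Lib.Helper88.TR

open FunFld WithZero LaurentSeries PowerSeries
open Groth.Agent.Lib.Helper88.FRT Groth.Agent.Lib.Helper88.TL Groth.Agent.Lib.Helper88.FF
  Groth.Agent.Lib.Helper88.TG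

universe u v w

section placeOf

variable {k : Type u} {K : Type v} [Field k] [Field K] [Algebra k K]
variable {F₀ : Type w} [Field F₀] [Algebra k F₀]

lemma val_C_le_one (a : F₀) : Valued.v (HahnSeries.C a : F₀⸨X⸩) ≤ (1 : ℤᵐ⁰) := by
  rw [LaurentSeries.val_le_one_iff_eq_coe]
  exact ⟨PowerSeries.C a, by simp⟩

/-- The place defined by a valuation with an expansion. -/
def placeOfExp (w : Valuation K ℤᵐ⁰) (ψ : K →ₐ[k] F₀⸨X⸩) (hψ : LocRes.IsExpansionAt w ψ) :
    Place k K :=
  ⟨w, fun c => by
      rw [← hψ.1, LocRes.map_algebraMap]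
      exact val_C_le_one _, by
      obtain ⟨t, ht⟩ := hψ.2.2
      intro γ
      rcases eq_or_ne γ 0 with rfl | hγ
      · exact ⟨0, map_zero _⟩
      · refine ⟨t ^ (-log γ), ?_⟩
        rw [map_zpow₀, ht, ← exp_zsmul]
        conv_rhs => rw [← exp_log hγ]
        congr 1
        simp⟩

@[simp] lemma placeOfExp_val (w : Valuation K ℤᵐ⁰) (ψ : K →ₐ[k] F₀⸨X⸩)
    (hψ : LocRes.IsExpansionAt w ψ) : (placeOfExp w ψ hψ).1 = w := rfl

end placeOf

section basis

variable {k : Type u} {K K' : Type v} [Field k] [Field K] [Field K'] [Algebra k K]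
  [Algebra K K'] [Algebra k K'] [IsScalarTower k K K'] [FiniteDimensional K K']

/-- **The trace formula for Tate residues relative to a free lattice**: for a `K`-basis `B` of `K'`
and the lattice `Λ = ⊕ O_P b_i`. -/
theorem tres_trace_basis (P : Place k K) {n : ℕ} (B : Module.Basis (Fin n) K K')
    (Λ : Submodule k K') (hΛ : ∀ z, z ∈ Λ ↔ ∀ r, P.1 (B.repr z r) ≤ 1)
    (hAP : ∀ u : K, AlmostPres (ball P 0).subtype (mulK k u))
    (π₀ : K →ₗ[k] ball P 0) (hπ₀ : ∀ a : ball P 0, π₀ a = a)
    (π₁ : K' →ₗ[k] Λ) (hπ₁ : ∀ a : Λ, π₁ a = a) (y : K') (x : K) :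
    tres (ball P 0).subtype π₀ (mulK k (Algebra.trace K K' y)) (mulK k x) =
      tres Λ.subtype π₁ (mulK k y) (mulK k (algebraMap K K' x)) := by
  classical
  set m := Algebra.leftMulMatrix B y with hm
  have htr : Algebra.trace K K' y = ∑ r, m r r := by
    rw [Algebra.trace_eq_matrix_trace B]
    rfl
  rw [htr, mulK_sum, tres_sum_left _ _ _ _ _ hπ₀ (fun j _ => mulK_comm _ _) (fun j _ => hAP _)
    (hAP x)]
  rw [← tres_block (ball P 0).subtype π₀ hπ₀ (fun r s => mulK k (m r s)) (mulK k x)
    (fun r s => mulK_comm _ _) (fun r s => hAP _) (hAP x)]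
  let ι : K' →ₗ[k] (Fin n → K) := (B.equivFun.toLinearMap).restrictScalars k
  have hιa : ∀ z r, ι z r = B.repr z r := fun z r => rfl
  have hιinj : Function.Injective ι := B.equivFun.injective
  apply tres_restrict ι (cdiag (ball P 0).subtype) Λ.subtype hιinj (cdiag π₀)
    (fun a => funext fun r => hπ₀ (a r)) π₁ hπ₁
  · intro z
    rw [mem_range_cdiag_subtype, Submodule.range_subtype, hΛ]
    constructor
    · intro h r
      have := h r
      rwa [mem_ball, exp_zero, hιa] at this
    · intro h r
      rw [mem_ball, exp_zero, hιa]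
      exact h r
  · intro v
    refine ⟨B.equivFun.symm v, 0, ?_⟩
    rw [map_zero, add_zero]
    exact (B.equivFun.apply_symm_apply v).symm
  · apply LinearMap.ext
    intro a
    funext r
    simp only [LinearMap.comp_apply, blockOp_apply, cdiag_apply, mulK_apply, Finset.mul_sum]
    apply Finset.sum_congr rfl
    intro s _
    exact mul_left_comm _ _ _
  · intro z
    funext r
    rw [blockOp_apply, hιa, mulK_apply]
    have := congrFun (Algebra.leftMulMatrix_mulVec_repr B y z) r
    rw [← this]
    rfl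
  · intro z
    funext r
    rw [cdiag_apply, hιa, hιa, mulK_apply, mulK_apply, ← Algebra.smul_def, map_smul]
    rfl
  · exact almostPres_blockOp _ π₀ hπ₀ _ fun r s => hAP _
  · exact almostPres_cdiag _ π₀ hπ₀ (hAP x)

end basis

end Groth.Agent.Lib.Helper88.TR
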