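/-
The local trace formula for residues over a complete discretely valued field `K((X))`.
Part 2: the valuation ring of a finite extension is finitely generated (successive approximation).
Author: helper88
-/
import Groth.Agent.Lib.Helper88.LocalTrace
import Groth.Agent.Lib.Helper88.ResRows

set_option autoImplicit false
set_option linter.unusedSectionVars false

namespace Groth.Agent.Lib.Helper88.TR

open FunFld WithZero LaurentSeries PowerSeries
open Groth.Agent.Lib.Helper88.FRT Groth.Agent.Lib.Helper88.TL Groth.Agent.Lib.Helper88.FF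
  Groth.Agent.Lib.Helper88.TG

universe u v

variable {K L : Type u} {F E : Type v} [Field K] [Field L] [Field F] [Field E]
  [Algebra K F] [Algebra F E] [Algebra K E] [IsScalarTower K F E]
  [Algebra K L] [Algebra L E] [IsScalarTower K L E]

/-- An `L`-algebra expansion as a `K`-algebra expansion. -/
noncomputable def restrictExp (ψ : E →ₐ[L] L⸨X⸩) : E →ₐ[K] L⸨X⸩ :=
  { ψ.toRingHom with
    commutes' := fun c => by
      show ψ (algebraMap K E c) = algebraMap K L⸨X⸩ c
      rw [IsScalarTower.algebraMap_apply K L E, LocRes.map_algebraMap ψ,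
        HahnSeries.algebraMap_apply', PowerSeries.algebraMap_apply, HahnSeries.ofPowerSeries_C]
      rfl }

@[simp] lemma restrictExp_apply (ψ : E →ₐ[L] L⸨X⸩) (z : E) :
    restrictExp (K := K) ψ z = ψ z := rfl

lemma isExpansionAt_restrictExp {w : Valuation E ℤᵐ⁰} {ψ : E →ₐ[L] L⸨X⸩}
    (hψ : LocRes.IsExpansionAt w ψ) : LocRes.IsExpansionAt w (restrictExp (K := K) ψ) := hψ

end Groth.Agent.Lib.Helper88.TR

namespace Groth.Agent.Lib.Helper88.TR

open FunFld WithZero LaurentSeries PowerSeries
open Groth.Agent.Lib.Helper88.FRT Groth.Agent.Lib.Helper88.TL Groth.Agent.Lib.Helper88.FF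
  Groth.Agent.Lib.Helper88.TG

universe u v

variable {K L : Type u} {F E : Type v} [Field K] [Field L] [Field F] [Field E]
  [Algebra K F] [Algebra F E] [Algebra K E] [IsScalarTower K F E]
  [Algebra K L] [Algebra L E] [IsScalarTower K L E]

section bounded

variable [FiniteDimensional K L]

/-- **Finite generation of the valuation ring over a complete base** (in the form used here): the
elements of the valuation ring of `w` are `O_v`-combinations of finitely many of them. -/
theorem exists_fg_gens (v : Valuation F ℤᵐ⁰) (w : Valuation E ℤᵐ⁰) (e : ℕ) (he : 0 < e)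
    (hvw : ∀ a : F, w (algebraMap F E a) = v a ^ e)
    (φ : F →ₐ[K] K⸨X⸩) (hφ : LocRes.IsExpansionAt v φ) (hφs : Function.Surjective φ)
    (ψ : E →ₐ[L] L⸨X⸩) (hψ : LocRes.IsExpansionAt w ψ) :
    ∃ (r : ℕ) (u : Fin r → E), ∀ z : E, w z ≤ 1 →
      ∃ C : Fin r → F, (∀ i, v (C i) ≤ 1) ∧ z = ∑ i, algebraMap F E (C i) * u i := by
  classical
  obtain ⟨t, ht⟩ := hφs (HahnSeries.single 1 1)
  have hvt : v t = exp (-1 : ℤ) := by
    rw [← hφ.1, ht]
    exact val_eq_exp_neg_of_coeff (m := 1)
      (fun n hn => HahnSeries.coeff_single_of_ne (by omega)) (by simp)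
  set t' : E := algebraMap F E t with ht'
  have hwt : w t' = exp (-(e : ℤ)) := by
    rw [ht', hvw, hvt, ← exp_nsmul]
    congr 1
    simp
  have ht'0 : t' ≠ 0 := by
    intro h
    rw [h, map_zero] at hwt
    exact exp_ne_zero hwt.symm
  set ψK : E →ₐ[K] L⸨X⸩ := restrictExp (K := K) ψ with hψKdef
  have hψK : LocRes.IsExpansionAt w ψK := isExpansionAt_restrictExp hψ
  set Q : Place K E := placeOfExp w ψK hψK with hQ
  set O : Submodule K E := ball Q 0 with hO
  have hmemO : ∀ z : E, z ∈ O ↔ w z ≤ 1 := fun z => by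
    rw [hO, mem_ball, exp_zero]
    rfl
  -- the first `e` coefficients
  let ρ : E →ₗ[K] (Fin e → L) :=
    { toFun := fun z i => (ψ z).coeff (i : ℤ)
      map_add' := fun a b => by
        funext i
        simp only [map_add, HahnSeries.coeff_add, Pi.add_apply]
      map_smul' := fun c a => by
        funext i
        have h1 : ψ (c • a) = c • ψ a := exp_smul ψK c a
        simp only [RingHom.id_apply, Pi.smul_apply]
        rw [h1, HahnSeries.coeff_smul] }
  have hρ : ∀ z i, ρ z i = (ψ z).coeff (i : ℤ) := fun z i => rfl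
  have hker : ∀ z : E, w z ≤ 1 → ρ z = 0 → w z ≤ exp (-(e : ℤ)) := by
    intro z hz h0
    rw [← hψ.1, LaurentSeries.valuation_le_iff_coeff_lt_eq_zero]
    intro n hn
    by_cases hn0 : n < 0
    · have h1 : Valued.v (ψ z) ≤ exp (-(0 : ℤ)) := by
        rw [neg_zero, exp_zero, hψ.1]
        exact hz
      exact LaurentSeries.coeff_zero_of_lt_valuation L h1 hn0
    · have hn1 : n.toNat < e := by omega
      have := congrFun h0 ⟨n.toNat, hn1⟩
      rw [hρ] at this
      simp only [Pi.zero_apply] at this
      rwa [show ((n.toNat : ℕ) : ℤ) = n by omega] at this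
  -- the section
  set ρO : O →ₗ[K] (Fin e → L) := ρ ∘ₗ O.subtype with hρO
  obtain ⟨σ, hσ⟩ := LinearMap.exists_rightInverse_of_surjective ρO.rangeRestrict
    (LinearMap.range_rangeRestrict _)
  have hσ' : ∀ x : LinearMap.range ρO, ρ (σ x : E) = (x : Fin e → L) := by
    intro x
    have := LinearMap.congr_fun hσ x
    simp only [LinearMap.comp_apply, LinearMap.id_apply] at this
    have h2 := congrArg Subtype.val this
    exact h2
  set s : O →ₗ[K] O := σ ∘ₗ ρO.rangeRestrict with hs
  have hρs : ∀ z : O, ρ ((z : E) - (s z : E)) = 0 := by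
    intro z
    rw [map_sub, hs, LinearMap.comp_apply, hσ']
    exact sub_self _
  have hws : ∀ z : O, w ((z : E) - (s z : E)) ≤ exp (-(e : ℤ)) := by
    intro z
    apply hker _ _ (hρs z)
    exact (hmemO _).1 (O.sub_mem z.2 (s z).2)
  let q : O →ₗ[K] O := LinearMap.codRestrict O
    ((LinearMap.mulLeft K t'⁻¹) ∘ₗ (O.subtype ∘ₗ (LinearMap.id - s)))
    (fun z => by
      rw [hmemO]
      show w (t'⁻¹ * ((z : E) - (s z : E))) ≤ 1
      rw [map_mul, map_inv₀, hwt]
      calc (exp (-(e : ℤ)))⁻¹ * w ((z : E) - (s z : E))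
          ≤ (exp (-(e : ℤ)))⁻¹ * exp (-(e : ℤ)) := mul_le_mul' le_rfl (hws z)
        _ = 1 := by rw [← exp_neg, ← exp_add, neg_neg, add_neg_cancel, exp_zero])
  have hq : ∀ z : O, (z : E) = (s z : E) + t' * (q z : E) := by
    intro z
    show (z : E) = (s z : E) + t' * (t'⁻¹ * ((z : E) - (s z : E)))
    rw [← mul_assoc, mul_inv_cancel₀ ht'0, one_mul]
    abel
  -- basis of the range
  set β := Module.finBasis K (LinearMap.range ρO) with hβ
  set r := Module.finrank K (LinearMap.range ρO) with hr
  let u : Fin r → E := fun i => (σ (β i) : E)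
  let c : Fin r → O →ₗ[K] K := fun i => (β.coord i) ∘ₗ ρO.rangeRestrict
  have hu : ∀ i, w (u i) ≤ 1 := fun i => (hmemO _).1 (σ (β i)).2
  have hsu : ∀ z : O, (s z : E) = ∑ i, algebraMap K E (c i z) * u i := by
    intro z
    have h1 : ρO.rangeRestrict z = ∑ i, c i z • β i := (β.sum_repr _).symm
    have h2 : s z = ∑ i, c i z • σ (β i) := by
      rw [hs, LinearMap.comp_apply, h1, map_sum]
      apply Finset.sum_congr rfl
      intro i _
      rw [map_smul]
    rw [h2]
    simp only [Submodule.coe_sum, Submodule.coe_smul, Algebra.smul_def]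
    rfl
  -- the coefficient power series
  let G : O → Fin r → K⟦X⟧ := fun z i => PowerSeries.mk fun j => c i (q^[j] z)
  have hG : ∀ z i, G z i = PowerSeries.C (c i z) + PowerSeries.X * G (q z) i := by
    intro z i
    ext n
    cases n with
    | zero => simp [G]
    | succ n =>
      simp only [G, PowerSeries.coeff_mk, map_add, PowerSeries.coeff_succ_X_mul]
      rw [PowerSeries.coeff_C, if_neg (by omega), zero_add, Function.iterate_succ_apply]
  choose Cf hCf using fun (z : O) (i : Fin r) => hφs ((G z i : K⟦X⟧) : K⸨X⸩)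
  have hvC : ∀ z i, v (Cf z i) ≤ 1 := by
    intro z i
    rw [← hφ.1, hCf, LaurentSeries.val_le_one_iff_eq_coe]
    exact ⟨_, rfl⟩
  have hCrec : ∀ z i, Cf z i = algebraMap K F (c i z) + t * Cf (q z) i := by
    intro z i
    apply φ.toRingHom.injective
    show φ (Cf z i) = φ (algebraMap K F (c i z) + t * Cf (q z) i)
    rw [map_add, map_mul, hCf, hCf, ht, LocRes.map_algebraMap, hG z i, PowerSeries.coe_add,
      PowerSeries.coe_mul, PowerSeries.coe_C, PowerSeries.coe_X]
    rfl
  let Y : O → E := fun z => ∑ i, algebraMap F E (Cf z i) * u i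
  have hY : ∀ z : O, Y z = (s z : E) + t' * Y (q z) := by
    intro z
    show ∑ i, algebraMap F E (Cf z i) * u i = (s z : E) + t' * ∑ i, algebraMap F E (Cf (q z) i) * u i
    rw [hsu, Finset.mul_sum, ← Finset.sum_add_distrib]
    apply Finset.sum_congr rfl
    intro i _
    rw [hCrec z i, map_add, map_mul, ← IsScalarTower.algebraMap_apply K F E]
    ring
  have hYO : ∀ z : O, w (Y z) ≤ 1 := by
    intro z
    apply Valuation.map_sum_le
    intro i _
    rw [map_mul, hvw]
    exact mul_le_one' (pow_le_one' (hvC z i) e) (hu i)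
  have hD : ∀ z : O, (z : E) - Y z = t' * ((q z : E) - Y (q z)) := by
    intro z
    conv_lhs => rw [hq z, hY z]
    ring
  have hDpow : ∀ (J : ℕ) (z : O), (z : E) - Y z = t' ^ J * ((q^[J] z : E) - Y (q^[J] z)) := by
    intro J
    induction J with
    | zero => intro z; simp
    | succ J ih =>
      intro z
      rw [hD z, ih (q z), pow_succ, Function.iterate_succ_apply]
      ring
  have hzero : ∀ z : O, (z : E) - Y z = 0 := by
    intro z
    by_contra hne
    have hw0 : w ((z : E) - Y z) ≠ 0 := (map_ne_zero w).2 hne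
    set m : ℤ := log (w ((z : E) - Y z)) with hm
    have hwm : w ((z : E) - Y z) = exp m := (exp_log hw0).symm
    set J : ℕ := (-m).toNat + 1 with hJ
    have h1 : w ((z : E) - Y z) ≤ exp (-((e : ℤ) * J)) := by
      rw [hDpow J z, map_mul, map_pow, hwt]
      have h2 : w ((q^[J] z : E) - Y (q^[J] z)) ≤ 1 :=
        (Valuation.map_sub _ _ _).trans (max_le ((hmemO _).1 (q^[J] z).2) (hYO _))
      calc exp (-(e : ℤ)) ^ J * w ((q^[J] z : E) - Y (q^[J] z)) ≤ exp (-(e : ℤ)) ^ J * 1 :=
            mul_le_mul' le_rfl h2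
        _ = exp (-((e : ℤ) * J)) := by
            rw [mul_one, ← exp_nsmul]
            congr 1
            simp only [nsmul_eq_mul]
            ring
    rw [hwm, exp_le_exp] at h1
    have h3 : (J : ℤ) ≤ (e : ℤ) * J := by
      have he' : (1 : ℤ) ≤ e := by exact_mod_cast he
      nlinarith [Int.natCast_nonneg J]
    have h4 : -m < (J : ℤ) := by
      rw [hJ]
      have := Int.self_le_toNat (-m)
      push_cast
      omega
    omega
  refine ⟨r, u, fun z hz => ?_⟩
  have hzO : z ∈ O := (hmemO z).2 hz
  refine ⟨Cf ⟨z, hzO⟩, hvC _, ?_⟩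
  have := hzero ⟨z, hzO⟩
  rw [sub_eq_zero] at this
  exact this

end bounded

end Groth.Agent.Lib.Helper88.TR
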