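/-
The local trace formula for residues over a complete discretely valued field `K((X))`.
Part 3: assembly.
Author: helper88
-/
import Groth.Agent.Lib.Helper88.LocalTrace2
import Groth.Agent.Lib.Helper34.FunFldNonsing2

set_option autoImplicit false
set_option linter.unusedSectionVars false
set_option linter.style.haveILetI false

namespace Groth.Agent.Lib.Helper88.TR

open FunFld WithZero LaurentSeries PowerSeries
open Groth.Agent.Lib.Helper88.FRT Groth.Agent.Lib.Helper88.TL Groth.Agent.Lib.Helper88.FF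
  Groth.Agent.Lib.Helper88.TG

universe u v

variable {K L : Type u} {F E : Type v} [Field K] [Field L] [Field F] [Field E]
  [Algebra K F] [Algebra F E] [Algebra K E] [IsScalarTower K F E] [FiniteDimensional F E]
  [Algebra K L] [Algebra L E] [IsScalarTower K L E] [FiniteDimensional K L]

/-- **The local trace formula for residues.** -/
theorem local_trace (v : Valuation F ℤᵐ⁰) (w : Valuation E ℤᵐ⁰) [v.HasExtension w]
    (φ : F →ₐ[K] K⸨X⸩) (hφ : LocRes.IsExpansionAt v φ) (hφs : Function.Surjective φ)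
    (ψ : E →ₐ[L] L⸨X⸩) (hψ : LocRes.IsExpansionAt w ψ) (x : F) (y : E) :
    Algebra.trace K L (LocRes.resExp ψ y (algebraMap F E x)) =
      LocRes.resExp φ (Algebra.trace F E y) x := by
  classical
  set ψK : E →ₐ[K] L⸨X⸩ := restrictExp (K := K) ψ with hψKdef
  have hψK : LocRes.IsExpansionAt w ψK := isExpansionAt_restrictExp hψ
  set Q : Place K E := placeOfExp w ψK hψK with hQ
  set P : Place K F := placeOfExp v φ hφ with hP
  haveI : P.1.HasExtension Q.1 := ‹v.HasExtension w›
  obtain ⟨e, he⟩ := Groth.Agent.Lib.Helper34.FunFldNonsing2.isOver_of_hasExtension P Q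
  have he0 : 0 < e := Groth.Agent.Lib.Helper44.FFExt.isOverWith_pos he
  have hvw : ∀ a : F, w (algebraMap F E a) = v a ^ e := he
  -- both sides as Tate residues
  have hL : Algebra.trace K L (LocRes.resExp ψ y (algebraMap F E x)) =
      LocRes.locRes ψK y (algebraMap F E x) := rfl
  have hR : LocRes.resExp φ (Algebra.trace F E y) x =
      LocRes.locRes φ (Algebra.trace F E y) x := by
    unfold LocRes.locRes
    rw [Algebra.trace_self_apply]
  rw [hL, hR, locRes_eq_tres Q hψK (projS _) (projS_apply _),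
    locRes_eq_tres P hφ (projS _) (projS_apply _)]
  -- a basis inside the valuation ring
  set n := Module.finrank F E with hn
  set B₀ := Module.finBasis F E with hB₀
  obtain ⟨t, ht⟩ := hφ.2.2
  have ht0 : t ≠ 0 := by
    intro h
    rw [h, map_zero] at ht
    exact exp_ne_zero ht.symm
  obtain ⟨bnd, hbnd⟩ := Finset.exists_le (Finset.univ.image fun r => w (B₀ r))
  set N₀ : ℕ := (log bnd).toNat with hN₀
  have hbnd' : ∀ r, w (B₀ r) ≤ exp (N₀ : ℤ) := by
    intro r
    have h1 : w (B₀ r) ≤ bnd := hbnd _ (Finset.mem_image.2 ⟨r, Finset.mem_univ _, rfl⟩)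
    refine h1.trans (le_exp_log.trans (exp_le_exp.2 ?_))
    exact Int.self_le_toNat _
  set B : Module.Basis (Fin n) F E :=
    B₀.isUnitSMul (w := fun _ => t ^ N₀) (fun _ => (IsUnit.mk0 _ (pow_ne_zero _ ht0))) with hB
  have hBr : ∀ r, B r = algebraMap F E (t ^ N₀) * B₀ r := by
    intro r
    rw [hB, Module.Basis.isUnitSMul_apply, Algebra.smul_def]
  have hwB : ∀ r, w (B r) ≤ 1 := by
    intro r
    rw [hBr, map_mul, hvw, map_pow, ht]
    have h1 : (exp (-1 : ℤ) ^ N₀) ^ e ≤ exp (-(N₀ : ℤ)) := by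
      rw [← exp_nsmul, ← exp_nsmul, exp_le_exp]
      simp only [nsmul_eq_mul]
      have he' : (1 : ℤ) ≤ e := by exact_mod_cast he0
      nlinarith [Int.natCast_nonneg N₀]
    calc (exp (-1 : ℤ) ^ N₀) ^ e * w (B₀ r) ≤ exp (-(N₀ : ℤ)) * exp (N₀ : ℤ) :=
          mul_le_mul' h1 (hbnd' r)
      _ = 1 := by rw [← exp_add, neg_add_cancel, exp_zero]
  -- the lattice
  let ι : E →ₗ[K] (Fin n → F) := (B.equivFun.toLinearMap).restrictScalars K
  let Ψ : (Fin n → F) →ₗ[K] E := (B.equivFun.symm.toLinearMap).restrictScalars K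
  have hιΨ : ∀ c, ι (Ψ c) = c := fun c => B.equivFun.apply_symm_apply c
  have hΨι : ∀ z, Ψ (ι z) = z := fun z => B.equivFun.symm_apply_apply z
  have hΨ : ∀ c : Fin n → F, Ψ c = ∑ r, algebraMap F E (c r) * B r := by
    intro c
    show B.equivFun.symm c = _
    rw [Module.Basis.equivFun_symm_apply]
    apply Finset.sum_congr rfl
    intro r _
    rw [Algebra.smul_def]
  set Λ : Submodule K E := Submodule.comap ι
    (Submodule.pi Set.univ fun _ : Fin n => ball P 0) with hΛdef
  have hΛ : ∀ z, z ∈ Λ ↔ ∀ r, P.1 (B.repr z r) ≤ 1 := by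
    intro z
    rw [hΛdef, Submodule.mem_comap, Submodule.mem_pi]
    constructor
    · intro h r
      have := h r (Set.mem_univ r)
      rwa [mem_ball, exp_zero] at this
    · intro h r _
      rw [mem_ball, exp_zero]
      exact h r
  have hwalg : ∀ a : F, v a ≤ 1 → w (algebraMap F E a) ≤ 1 := by
    intro a ha
    rw [hvw]
    exact pow_le_one' ha e
  have hΛO : ∀ z ∈ Λ, w z ≤ 1 := by
    intro z hz
    rw [hΛ] at hz
    rw [← hΨι z, hΨ]
    apply Valuation.map_sum_le
    intro r _
    rw [map_mul]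
    exact mul_le_one' (hwalg _ (hz r)) (hwB r)
  rw [tres_trace_basis P B Λ hΛ (almostPres_mulK P hφ) (projS _) (projS_apply _) (projS Λ)
    (projS_apply Λ) y x]
  -- boundedness of the coordinates on the valuation ring
  obtain ⟨r₁, u, hgen⟩ := exists_fg_gens v w e he0 hvw φ hφ hφs ψ hψ
  obtain ⟨bnd₂, hbnd₂⟩ := Finset.exists_le
    ((Finset.univ ×ˢ Finset.univ).image fun p : Fin r₁ × Fin n => v (B.repr (u p.1) p.2))
  set N : ℕ := (log bnd₂).toNat with hN
  have hbound : ∀ z : E, w z ≤ 1 → ∀ r, v (B.repr z r) ≤ exp (N : ℤ) := by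
    intro z hz r
    obtain ⟨C, hC, hzC⟩ := hgen z hz
    have h1 : B.repr z r = ∑ i, C i * B.repr (u i) r := by
      rw [hzC, map_sum, Finsupp.coe_finset_sum, Finset.sum_apply]
      apply Finset.sum_congr rfl
      intro i _
      rw [← Algebra.smul_def, map_smul, Finsupp.smul_apply, smul_eq_mul]
    rw [h1]
    apply Valuation.map_sum_le
    intro i _
    rw [map_mul]
    have h2 : v (B.repr (u i) r) ≤ bnd₂ :=
      hbnd₂ _ (Finset.mem_image.2 ⟨(i, r), Finset.mem_product.2
        ⟨Finset.mem_univ _, Finset.mem_univ _⟩, rfl⟩)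
    have h3 : bnd₂ ≤ exp (N : ℤ) := le_exp_log.trans (exp_le_exp.2 (Int.self_le_toNat _))
    calc v (C i) * v (B.repr (u i) r) ≤ 1 * exp (N : ℤ) := mul_le_mul' (hC i) (h2.trans h3)
      _ = exp (N : ℤ) := one_mul _
  -- the finite-dimensional complement
  obtain ⟨W, hW, hWle⟩ := almostPres_mulK P hφ ((t ^ N)⁻¹)
  have hballN : ∀ a : F, v a ≤ exp (N : ℤ) → ∃ a₀ : F, v a₀ ≤ 1 ∧ ∃ w₀ ∈ W, a = a₀ + w₀ := by
    intro a ha
    have h1 : t ^ N * a ∈ ball P 0 := by
      rw [mem_ball, exp_zero]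
      show v (t ^ N * a) ≤ 1
      rw [map_mul, map_pow, ht]
      calc exp (-1 : ℤ) ^ N * v a ≤ exp (-1 : ℤ) ^ N * exp (N : ℤ) := mul_le_mul' le_rfl ha
        _ = 1 := by
            rw [← exp_nsmul, ← exp_add, ← exp_zero]
            congr 1
            simp
    have h2 := hWle ⟨t ^ N * a, h1⟩
    rw [Submodule.subtype_apply, mulK_apply, ← mul_assoc, inv_mul_cancel₀ (pow_ne_zero _ ht0),
      one_mul] at h2
    obtain ⟨a₀, ha₀, w₀, hw₀, hsum⟩ := Submodule.mem_sup.1 h2
    rw [Submodule.range_subtype, mem_ball, exp_zero] at ha₀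
    exact ⟨a₀, ha₀, w₀, hw₀, hsum.symm⟩
  haveI : FiniteDimensional K W := hW
  set H : Submodule K E := LinearMap.range (Ψ ∘ₗ cdiag (J := Fin n) W.subtype) with hH
  have hHfd : FiniteDimensional K H := inferInstance
  have hle : LinearMap.range Λ.subtype ≤ LinearMap.range (ball Q 0).subtype := by
    rw [Submodule.range_subtype, Submodule.range_subtype]
    intro z hz
    rw [mem_ball, exp_zero]
    exact hΛO z hz
  have hsup : LinearMap.range (ball Q 0).subtype ≤ LinearMap.range Λ.subtype ⊔ H := by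
    rw [Submodule.range_subtype, Submodule.range_subtype]
    intro z hz
    rw [mem_ball, exp_zero] at hz
    have hz' : w z ≤ 1 := hz
    choose a₀ ha₀ w₀ hw₀ hsum using fun r => hballN (B.repr z r) (hbound z hz' r)
    have e1 : z = Ψ a₀ + Ψ w₀ := by
      rw [← map_add, ← hΨι z]
      congr 1
      funext r
      exact hsum r
    rw [e1]
    refine Submodule.add_mem_sup ?_ ?_
    · rw [hΛ]
      intro r
      have : B.repr (Ψ a₀) r = a₀ r := congrFun (hιΨ a₀) r
      rw [this]
      exact ha₀ r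
    · exact ⟨fun r => ⟨w₀ r, hw₀ r⟩, rfl⟩
  exact tres_eq_of_le _ _ (projS_apply _) _ _ (projS_apply Λ) hle H hsup (mulK_comm _ _)
    (almostPres_of_le (almostPres_mulK Q hψK y) hle H hsup)
    (almostPres_of_le (almostPres_mulK Q hψK _) hle H hsup)

end Groth.Agent.Lib.Helper88.TR
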