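import Mathlib
import Groth.Agent.Lib.Helper73.DimFT.Catenary

set_option autoImplicit false

universe u

open TensorProduct

namespace Groth.Agent.Lib.Helper88.MovDK

theorem exists_ne_zero_mem_ker {k : Type u} [Field k] {r : ℕ} (R : Type u) [CommRing R]
    [Algebra k R] [Algebra.FiniteType k R] (hdim : ringKrullDim R < (r : WithBot ℕ∞))
    (φ : MvPolynomial (Fin r) k →ₐ[k] R) :
    ∃ h : MvPolynomial (Fin r) k, h ≠ 0 ∧ φ h = 0 := by
  by_contra hcon
  push_neg at hcon
  -- the multiplicative set of images of nonzero polynomials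
  let S : Submonoid R := (nonZeroDivisors (MvPolynomial (Fin r) k)).map φ.toRingHom.toMonoidHom
  have hdisj : Disjoint ((⊥ : Ideal R) : Set R) S := by
    rw [Set.disjoint_left]
    rintro x hx ⟨h, hh, rfl⟩
    have hx0 : φ h = 0 := by simpa using hx
    exact hcon h (nonZeroDivisors.ne_zero hh) hx0
  obtain ⟨q, hq, -, hqS⟩ := Ideal.exists_le_prime_disjoint (⊥ : Ideal R) S hdisj
  haveI := hq
  -- the composite P → R/q is injective
  let ψ : MvPolynomial (Fin r) k →ₐ[k] (R ⧸ q) := (Ideal.Quotient.mkₐ k q).comp φ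
  have hψ : Function.Injective ψ := by
    rw [injective_iff_map_eq_zero]
    intro h hh
    by_contra hne
    have h1 : φ h ∈ q := by
      rw [← Ideal.Quotient.eq_zero_iff_mem]
      exact hh
    exact Set.disjoint_left.mp hqS h1 ⟨h, mem_nonZeroDivisors_of_ne_zero hne, rfl⟩
  -- dimension of R/q
  obtain ⟨d, hd⟩ := Groth.Agent.Lib.Helper73.exists_nat_ringKrullDim_eq k (R ⧸ q)
  have htr := Groth.Agent.Lib.Helper73.trdeg_eq_of_ringKrullDim_eq k (A := R ⧸ q)
    (FractionRing (R ⧸ q)) d hd
  -- algebraic independence of the images of the variables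
  have hind : AlgebraicIndependent k
      (fun i : Fin r => algebraMap (R ⧸ q) (FractionRing (R ⧸ q)) (ψ (MvPolynomial.X i))) := by
    rw [algebraicIndependent_iff_injective_aeval]
    have : (MvPolynomial.aeval
        (fun i : Fin r => algebraMap (R ⧸ q) (FractionRing (R ⧸ q)) (ψ (MvPolynomial.X i))) :
        MvPolynomial (Fin r) k →ₐ[k] FractionRing (R ⧸ q)) =
        (IsScalarTower.toAlgHom k (R ⧸ q) (FractionRing (R ⧸ q))).comp ψ := by
      apply MvPolynomial.algHom_ext
      intro i
      simp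
    rw [this]
    exact (IsFractionRing.injective (R ⧸ q) (FractionRing (R ⧸ q))).comp hψ
  have hle := hind.lift_cardinalMk_le_trdeg
  rw [htr] at hle
  have hrd : r ≤ d := by
    simpa using hle
  have h2 : ringKrullDim (R ⧸ q) ≤ ringKrullDim R :=
    ringKrullDim_le_of_surjective (Ideal.Quotient.mk q) Ideal.Quotient.mk_surjective
  rw [hd] at h2
  have h3 : ((d : ℕ) : WithBot ℕ∞) < (r : WithBot ℕ∞) := lt_of_le_of_lt h2 hdim
  have h4 : d < r := by exact_mod_cast h3
  omega

end Groth.Agent.Lib.Helper88.MovDK
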