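import Mathlib

set_option autoImplicit false

universe u

open TensorProduct

namespace Groth.Agent.Lib.Helper88.MovDT

theorem ringKrullDim_tensor_le {k : Type u} [Field k] (A E : Type u) [CommRing A] [Algebra k A]
    [CommRing E] [Algebra k E] [Module.Finite k E] :
    ringKrullDim (A ⊗[k] E) ≤ ringKrullDim A := by
  haveI : Algebra.IsIntegral k E := Algebra.IsIntegral.of_finite k E
  haveI : Algebra.IsIntegral A (A ⊗[k] E) := inferInstance
  refine Order.krullDim_le_of_strictMono (PrimeSpectrum.comap (algebraMap A (A ⊗[k] E))) ?_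
  intro p q hpq
  rw [← PrimeSpectrum.asIdeal_lt_asIdeal] at hpq ⊢
  exact Ideal.IsIntegral.comap_lt_comap hpq

end Groth.Agent.Lib.Helper88.MovDT
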