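/-
The homogeneous ideal of a plane curve given by a birational projective map `φ : Fin 3 → K` is
generated by any irreducible form vanishing on it.
Author: helper88
-/
import Groth.Agent.Lib.Helper88.PlaneKer

set_option autoImplicit false
set_option linter.unusedSectionVars false

namespace Groth.Agent.Lib.Helper88.PK

open FunFld MvPolynomial

variable {k K : Type*} [Field k] [Field K] [Algebra k K]

lemma adjoin_pair_eq_top (φ : Fin 3 → K) (h0 : φ 0 ≠ 0)
    (hbir : IntermediateField.adjoin k (Set.range fun i => φ i / φ 0) = ⊤) :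
    IntermediateField.adjoin k ({φ 1 / φ 0, φ 2 / φ 0} : Set K) = ⊤ := by
  rw [eq_top_iff, ← hbir]
  apply IntermediateField.adjoin_le_iff.2
  rintro _ ⟨i, rfl⟩
  fin_cases i
  · show φ 0 / φ 0 ∈ _
    rw [div_self h0]
    exact one_mem _
  · exact IntermediateField.subset_adjoin k _ (by simp)
  · exact IntermediateField.subset_adjoin k _ (by simp)

/-- Every form vanishing at `φ` is a multiple of the irreducible form `f`. -/
theorem dvd_of_form [IsAlgClosed k] (hK : IsFunctionField k K) (φ : Fin 3 → K)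
    (h0 : φ 0 ≠ 0)
    (hbir : IntermediateField.adjoin k (Set.range fun i => φ i / φ 0) = ⊤)
    (f : MvPolynomial (Fin 3) k) (hf : Irreducible f) (hhom : f.IsHomogeneous f.totalDegree)
    (hfφ : aeval φ f = 0) (G : MvPolynomial (Fin 3) k) (m : ℕ) (hG : G.IsHomogeneous m)
    (hGφ : aeval φ G = 0) : f ∣ G := by
  set x := φ 1 / φ 0 with hx
  set y := φ 2 / φ 0 with hy
  have hxy := adjoin_pair_eq_top φ h0 hbir
  obtain ⟨f₀, hf₀irr, -, hker⟩ := ker_eq_span hK x y hxy
  have h1xy : (![(1 : K), x, y] : Fin 3 → K) = fun i => φ i / φ 0 := by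
    funext i
    fin_cases i
    · show (1 : K) = φ 0 / φ 0
      rw [div_self h0]
    · rfl
    · rfl
  have hmem : ∀ (H : MvPolynomial (Fin 3) k) (n : ℕ), H.IsHomogeneous n → aeval φ H = 0 →
      f₀ ∣ H := by
    intro H n hH hHφ
    rw [← Ideal.mem_span_singleton, ← hker, RingHom.mem_ker,
      Groth.Agent.Lib.Helper88.AJ.aeval_CX_eq_zero_iff hH, h1xy,
      Groth.Agent.Lib.Helper88.AJ.aeval_div hH φ (φ 0) h0]
    exact hHφ
  have h1 : f₀ ∣ f := hmem f _ hhom hfφ
  have h2 : f ∣ f₀ := hf₀irr.dvd_symm hf h1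
  exact h2.trans (hmem G m hG hGφ)

end Groth.Agent.Lib.Helper88.PK
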