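import Groth.Agent.Lib.Helper55.ProSys

/-!
# helper88: toolkit for pro-isomorphisms of ℕ-indexed inverse systems
-/

set_option autoImplicit false
universe v u v' u'

open CategoryTheory CategoryTheory.Limits Opposite

namespace Groth.Agent.Lib.Helper88.Pro1

open Groth.Agent.Lib.Helper55.ProSys

variable {C : Type u} [Category.{v} C] {D : Type u'} [Category.{v'} D]

@[reassoc]
lemma tr_nat {X Y : ARSys.PS C} (a : X ⟶ Y) {n m : ℕ} (h : n ≤ m) :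
    ARSys.tr X h ≫ a.app (op n) = a.app (op m) ≫ ARSys.tr Y h :=
  a.naturality _

theorem PI_comp {X Y Z : ARSys.PS C} (a : X ⟶ Y) (b : Y ⟶ Z) (ha : DerCA.IsProIso a)
    (hb : DerCA.IsProIso b) : DerCA.IsProIso (a ≫ b) := by
  intro n
  obtain ⟨m, hm, c, hc1, hc2⟩ := ha n
  obtain ⟨l, hl, d, hd1, hd2⟩ := hb m
  refine ⟨l, hm.trans hl, d ≫ c, ?_, ?_⟩
  · rw [NatTrans.comp_app, Category.assoc, reassoc_of% hd1, ← tr_nat_assoc a hl, hc1, tr_comp]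
  · rw [NatTrans.comp_app, Category.assoc, reassoc_of% hc2, tr_nat b hm, reassoc_of% hd2, tr_comp]

theorem PI_of_isIso {X Y : ARSys.PS C} (a : X ⟶ Y) (h : ∀ n : ℕ, IsIso (a.app (op n))) :
    DerCA.IsProIso a := by
  intro n
  have := h n
  refine ⟨n, le_refl n, inv (a.app (op n)), ?_, ?_⟩
  · rw [IsIso.hom_inv_id, tr_refl]
  · rw [IsIso.inv_hom_id, tr_refl]

theorem PI_of_comp_left {X Y Z : ARSys.PS C} (a : X ⟶ Y) (b : Y ⟶ Z) (ha : DerCA.IsProIso a)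
    (hab : DerCA.IsProIso (a ≫ b)) : DerCA.IsProIso b := by
  intro n
  obtain ⟨m₁, h₁, c, hc1, hc2⟩ := hab n
  obtain ⟨m₂, h₂, d, hd1, hd2⟩ := ha m₁
  rw [NatTrans.comp_app] at hc1 hc2
  refine ⟨m₂, h₁.trans h₂, ARSys.tr Z h₂ ≫ c ≫ a.app (op n), ?_, ?_⟩
  · have e1 : b.app (op m₂) ≫ ARSys.tr Z h₂ = ARSys.tr Y h₂ ≫ b.app (op m₁) := (tr_nat b h₂).symm
    rw [reassoc_of% e1, ← hd2]
    simp only [Category.assoc]
    rw [reassoc_of% hc1, tr_nat a h₁, reassoc_of% hd2, tr_comp]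
  · simp only [Category.assoc]
    rw [hc2, tr_comp]

theorem PI_of_comp_right {X Y Z : ARSys.PS C} (a : X ⟶ Y) (b : Y ⟶ Z) (hb : DerCA.IsProIso b)
    (hab : DerCA.IsProIso (a ≫ b)) : DerCA.IsProIso a := by
  intro n
  obtain ⟨m₁, h₁, d, hd1, hd2⟩ := hb n
  obtain ⟨m, h, c, hc1, hc2⟩ := hab m₁
  rw [NatTrans.comp_app] at hc1 hc2
  rw [Category.assoc] at hc1
  refine ⟨m, h₁.trans h, b.app (op m) ≫ c ≫ ARSys.tr X h₁, ?_, ?_⟩
  · rw [reassoc_of% hc1, tr_comp]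
  · simp only [Category.assoc]
    rw [tr_nat a h₁, ← hd1]
    rw [reassoc_of% hc2, ← tr_nat_assoc b h, hd1, tr_comp]

theorem PI_whiskerRight {X Y : ARSys.PS C} (a : X ⟶ Y) (F : C ⥤ D) (ha : DerCA.IsProIso a) :
    DerCA.IsProIso (Functor.whiskerRight a F) := by
  intro n
  obtain ⟨m, hm, c, hc1, hc2⟩ := ha n
  refine ⟨m, hm, F.map c, ?_, ?_⟩
  · change F.map _ ≫ F.map c = F.map _
    rw [← F.map_comp, hc1]
  · change F.map c ≫ F.map _ = F.map _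
    rw [← F.map_comp, hc2]

/-- invariance under isomorphism of arrows -/
theorem PI_of_arrow_iso {X Y X' Y' : ARSys.PS C} (a : X ⟶ Y) (a' : X' ⟶ Y') (ex : X ≅ X')
    (ey : Y ≅ Y') (comm : a ≫ ey.hom = ex.hom ≫ a') (ha : DerCA.IsProIso a) :
    DerCA.IsProIso a' := by
  have h1 : DerCA.IsProIso (ex.inv ≫ a ≫ ey.hom) :=
    PI_comp _ _ (PI_of_isIso _ (fun n => inferInstance))
      (PI_comp _ _ ha (PI_of_isIso _ (fun n => inferInstance)))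
  have h2 : ex.inv ≫ a ≫ ey.hom = a' := by rw [comm, Iso.inv_hom_id_assoc]
  rwa [h2] at h1

/-- a levelwise map of systems with componentwise equalities -/
theorem PI_of_arrow_iso' {X Y X' Y' : ARSys.PS C} (a : X ⟶ Y) (a' : X' ⟶ Y') (ex : X ≅ X')
    (ey : Y ≅ Y') (comm : a ≫ ey.hom = ex.hom ≫ a') (ha : DerCA.IsProIso a') :
    DerCA.IsProIso a := by
  refine PI_of_arrow_iso a' a ex.symm ey.symm ?_ ha
  change a' ≫ ey.inv = ex.inv ≫ a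
  rw [← cancel_mono ey.hom, Category.assoc, Category.assoc, Iso.inv_hom_id, Category.comp_id, comm,
    Iso.inv_hom_id_assoc]

section Diag

variable {X Y Z : ℕᵒᵖ × ℕᵒᵖ ⥤ D} (u : X ⟶ Y) (v : Y ⟶ Z)

/-- the diagonal lemma -/
theorem PI_diag
    (h1 : ∀ p : ℕ, DerCA.IsProIso (Functor.whiskerLeft (Prod.sectR (op p) ℕᵒᵖ) u))
    (h2 : ∀ q : ℕ, DerCA.IsProIso (Functor.whiskerLeft (Prod.sectL ℕᵒᵖ (op q)) v)) :
    DerCA.IsProIso (Functor.whiskerLeft (Functor.diag ℕᵒᵖ) (u ≫ v)) := by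
  intro n
  obtain ⟨m₂, hm₂, (b₂ : Y.obj (op n, op m₂) ⟶ X.obj (op n, op n)), hb21, hb22⟩ := h1 n n
  obtain ⟨m₁, hm₁, (b₁ : Z.obj (op m₁, op m₂) ⟶ Y.obj (op n, op m₂)), hb11, hb12⟩ := h2 m₂ n
  have hm1 : m₁ ≤ max m₁ m₂ := le_max_left _ _
  have hm2 : m₂ ≤ max m₁ m₂ := le_max_right _ _
  have hn : n ≤ max m₁ m₂ := hm₁.trans hm1
  let t : (op (max m₁ m₂), op (max m₁ m₂)) ⟶ ((op m₁, op m₂) : ℕᵒᵖ × ℕᵒᵖ) :=
    Prod.mkHom (homOfLE hm1).op (homOfLE hm2).op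
  let t₁ : ((op m₁, op m₂) : ℕᵒᵖ × ℕᵒᵖ) ⟶ (op n, op m₂) :=
    Prod.mkHom (homOfLE hm₁).op (𝟙 _)
  let t₂ : ((op n, op m₂) : ℕᵒᵖ × ℕᵒᵖ) ⟶ (op n, op n) :=
    Prod.mkHom (𝟙 _) (homOfLE hm₂).op
  let tt : ((op (max m₁ m₂), op (max m₁ m₂)) : ℕᵒᵖ × ℕᵒᵖ) ⟶ (op n, op n) :=
    Prod.mkHom (homOfLE hn).op (homOfLE hn).op
  have htt : t ≫ t₁ ≫ t₂ = tt := by
    apply Prod.hom_ext <;> exact Subsingleton.elim _ _
  have e21 : u.app (op n, op m₂) ≫ b₂ = X.map t₂ := hb21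
  have e22 : b₂ ≫ u.app (op n, op n) = Y.map t₂ := hb22
  have e11 : v.app (op m₁, op m₂) ≫ b₁ = Y.map t₁ := hb11
  have e12 : b₁ ≫ v.app (op n, op m₂) = Z.map t₁ := hb12
  refine ⟨max m₁ m₂, hn, Z.map t ≫ b₁ ≫ b₂, ?_, ?_⟩
  · change (u ≫ v).app (op (max m₁ m₂), op (max m₁ m₂)) ≫ Z.map t ≫ b₁ ≫ b₂ = X.map tt
    rw [NatTrans.comp_app, Category.assoc, ← v.naturality_assoc t, ← u.naturality_assoc t,
      reassoc_of% e11, ← u.naturality_assoc t₁, e21, ← htt, X.map_comp, X.map_comp]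
  · change (Z.map t ≫ b₁ ≫ b₂) ≫ (u ≫ v).app (op n, op n) = Z.map tt
    rw [NatTrans.comp_app]
    simp only [Category.assoc]
    rw [reassoc_of% e22, v.naturality t₂, reassoc_of% e12, ← htt, Z.map_comp, Z.map_comp]

end Diag

end Groth.Agent.Lib.Helper88.Pro1
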