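import Groth.Agent.Lib.Helper88.Pro9

/-!
# helper88: `K ⊗^L A/I^{n+1} → K ⊗ A/I^{n+1}` is a pro-isomorphism for bounded `K` with finite terms
-/

set_option autoImplicit false
set_option maxHeartbeats 1000000
universe u

open CategoryTheory CategoryTheory.Limits Opposite CochainComplex HomComplex MonoidalCategory TensorProduct

attribute [local instance] HasDerivedCategory.standard

namespace Groth.Agent.Lib.Helper88.Pro10

open Groth.Agent.Lib.Helper55.ProSys Groth.Agent.Lib.Helper88.Pro1 Groth.Agent.Lib.Helper88.Pro2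
  Groth.Agent.Lib.Helper88.Pro3 Groth.Agent.Lib.Helper88.Pro4 Groth.Agent.Lib.Helper88.Pro5
  Groth.Agent.Lib.Helper88.Pro6 Groth.Agent.Lib.Helper88.Pro7 Groth.Agent.Lib.Helper88.Pro8
  Groth.Agent.Lib.Helper88.Pro9
open Groth.Agent.Lib.Helper25.TensorCx

variable {A : Type u} [CommRing A]

section General

variable {C : Type*} [Category C] {D : Type*} [Category D]

theorem PI_of_natIso {F G : C ⥤ D} (e : F ≅ G) {W W' : ℕᵒᵖ ⥤ C} (w : W ⟶ W')
    (h : DerCA.IsProIso (Functor.whiskerRight w F)) : DerCA.IsProIso (Functor.whiskerRight w G) := by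
  refine PI_of_arrow_iso _ _ (Functor.isoWhiskerLeft W e) (Functor.isoWhiskerLeft W' e) ?_ h
  ext n
  exact e.hom.naturality (w.app n)

end General

/-- the braiding as an isomorphism of functors -/
noncomputable def braidIso (K : DRing.Cx A) :
    tensorRight K ≅ tensorLeft K :=
  NatIso.ofComponents (fun X => DTen.braidCx X K) (by
    intro X Y f
    have := DTen.braidCx_naturality f (𝟙 K)
    rw [MonoidalCategory.tensorHom_id, MonoidalCategory.id_tensorHom] at this
    exact this)

lemma BF_unit : BF 0 0 (𝟙_ (DRing.Cx A)) := by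
  refine ⟨fun i => ?_, fun i hi => ?_⟩
  · by_cases hi : i = 0
    · subst hi
      exact Module.Finite.equiv
        (HomologicalComplex.singleObjXSelf (ComplexShape.up ℤ) 0
          (𝟙_ (ModuleCat.{u} A))).symm.toLinearEquiv
    · haveI : Subsingleton ((𝟙_ (DRing.Cx A)).X i) := ⟨fun x y => by
        rw [unit_eq_zero i hi x, unit_eq_zero i hi y]⟩
      haveI : Finite ((𝟙_ (DRing.Cx A)).X i) := Finite.of_subsingleton
      exact Module.Finite.of_finite
  · have hi' : i ≠ 0 := by omega
    exact ⟨fun x y => by rw [unit_eq_zero i hi' x, unit_eq_zero i hi' y]⟩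

theorem main [IsNoetherianRing A] [DTen.HasLTen A] [DTen.KFlatComputes A] (I : Ideal A)
    (K : DRing.Cx A) (a b : ℤ) (hK : DRing.VanishesOutside K a b)
    (hKf : ∀ i : ℤ, Module.Finite A (K.X i)) :
    DerCA.IsProIso (Functor.whiskerLeft
      (CohIII.adicSystem I (ModuleCat.of A A) ⋙
        HomologicalComplex.single (ModuleCat.{u} A) (ComplexShape.up ℤ) 0)
      (DTen.εLeft A K)) := by
  -- generators
  obtain ⟨s, hs⟩ := (isNoetherianRing_iff_ideal_fg A).1 inferInstance I
  let l : List A := s.toList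
  have hset : {x | x ∈ l} = (s : Set A) := by
    ext x
    exact Finset.mem_toList
  have hI : Ideal.span {x | x ∈ l} = I := by rw [hset, hs]
  have hl : ∀ f ∈ l, f ∈ I := by
    intro f hf
    rw [← hI]
    exact Ideal.subset_span hf
  have hKBF : BF a b K :=
    ⟨hKf, fun i hi => ModuleCat.subsingleton_of_isZero (hK i hi)⟩
  -- the K-flat system and the comparison
  let κ : Ls l ⟶ Ssys I := as l ≫ cmp I l hl
  have hcmp : DerCA.IsProIso (cmp I l hl) := PI_cmp I l hl hI
  -- Claim C
  have hC : DerCA.IsProIso (Functor.whiskerRight κ (tensorLeft K ⋙ DerivedCategory.Q)) := by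
    dsimp only [κ]
    rw [Functor.whiskerRight_comp]
    refine PI_comp _ _ ?_ (PI_whiskerRight _ _ hcmp)
    exact PI_of_natIso (Functor.isoWhiskerRight (braidIso K) DerivedCategory.Q) (as l)
      (main_ind l K a b hKBF)
  -- Claim A
  have hA : DerCA.IsProIso (Functor.whiskerRight κ DerivedCategory.Q) := by
    dsimp only [κ]
    rw [Functor.whiskerRight_comp]
    refine PI_comp _ _ ?_ (PI_whiskerRight _ _ hcmp)
    exact PI_of_natIso (Functor.isoWhiskerRight (rightUnitorNatIso (DRing.Cx A)) DerivedCategory.Q ≪≫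
      Functor.leftUnitor DerivedCategory.Q) (as l) (main_ind l (𝟙_ _) 0 0 BF_unit)
  -- the derived tensor functor
  let Φ : DerivedCategory (ModuleCat.{u} A) ⥤ DerivedCategory (ModuleCat.{u} A) :=
    (DTen.LTen A).obj (DerivedCategory.Q.obj K)
  have h1 : DerCA.IsProIso (Functor.whiskerRight κ (DerivedCategory.Q ⋙ Φ)) :=
    PI_whiskerRight _ Φ hA
  have h2 : DerCA.IsProIso (Functor.whiskerLeft (Ls l) (DTen.εLeft A K)) := by
    refine PI_of_isIso _ (fun n => ?_)
    exact DTen.KFlatComputes.isIso_counit K ((Ls l).obj (op n)) (Or.inr (isKFlat_Ls l (op n)))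
  have hsq : Functor.whiskerRight κ (DerivedCategory.Q ⋙ Φ) ≫
      Functor.whiskerLeft (Ssys I) (DTen.εLeft A K) =
      Functor.whiskerLeft (Ls l) (DTen.εLeft A K) ≫
        Functor.whiskerRight κ (tensorLeft K ⋙ DerivedCategory.Q) := by
    ext n
    exact (DTen.εLeft A K).naturality (κ.app n)
  have h3 : DerCA.IsProIso (Functor.whiskerRight κ (DerivedCategory.Q ⋙ Φ) ≫
      Functor.whiskerLeft (Ssys I) (DTen.εLeft A K)) := by
    rw [hsq]
    exact PI_comp _ _ h2 hC
  exact PI_of_comp_left _ _ h1 h3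

end Groth.Agent.Lib.Helper88.Pro10
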