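import Mathlib
import Groth.Prelude.Def_DTen
import Groth.Agent.Lib.Helper88.Pro1

/-!
# helper88: the single generator step — `cone(f^{n+1} : E → E) → E / f^{n+1} E` is a pro-isomorphism
-/

set_option autoImplicit false
universe u

open CategoryTheory CategoryTheory.Limits Opposite CochainComplex HomComplex

attribute [local instance] HasDerivedCategory.standard

namespace Groth.Agent.Lib.Helper88.Pro2

open Groth.Agent.Lib.Helper55.ProSys Groth.Agent.Lib.Helper88.Pro1

variable {A : Type u} [CommRing A]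

section ConeTools

variable {C : Type*} [Category C] [Preadditive C] [HasBinaryBiproducts C]
  {F G K : CochainComplex C ℤ} (φ : F ⟶ G)

lemma cone_hom_ext (u v : mappingCone φ ⟶ K)
    (h1 : ∀ (i j : ℤ) (hij : i + (-1) = j), (mappingCone.inl φ).v i j hij ≫ u.f j =
      (mappingCone.inl φ).v i j hij ≫ v.f j)
    (h2 : mappingCone.inr φ ≫ u = mappingCone.inr φ ≫ v) : u = v := by
  ext i : 1
  apply mappingCone.ext_from φ (i + 1) i rfl
  · exact h1 (i + 1) i (by omega)
  · exact HomologicalComplex.congr_hom h2 i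

lemma map_congr' {F₁ G₁ F₂ G₂ : CochainComplex C ℤ} (φ₁ : F₁ ⟶ G₁) (φ₂ : F₂ ⟶ G₂)
    (a a' : F₁ ⟶ F₂) (b b' : G₁ ⟶ G₂) (comm : φ₁ ≫ b = a ≫ φ₂) (ha : a = a') (hb : b = b') :
    mappingCone.map φ₁ φ₂ a b comm = mappingCone.map φ₁ φ₂ a' b' (by rw [← ha, ← hb, comm]) := by
  subst ha hb
  rfl

end ConeTools

/-- transition maps between cones of scalars -/
noncomputable def cnTr (E : DRing.Cx A) (g h k : A) (hk : g = k * h) :
    mappingCone (g • 𝟙 E) ⟶ mappingCone (h • 𝟙 E) :=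
  mappingCone.map (g • 𝟙 E) (h • 𝟙 E) (k • 𝟙 E) (𝟙 E) (by
    rw [Category.comp_id, Linear.smul_comp, Category.id_comp, smul_smul, hk])

/-- the subcomplex `g E` -/
noncomputable def sub (g : A) (E : DRing.Cx A) : DRing.Cx A where
  X q := ModuleCat.of A ↥(LinearMap.range (g • (LinearMap.id : E.X q →ₗ[A] E.X q)))
  d q q' := ModuleCat.ofHom (LinearMap.restrict (E.d q q').hom (fun x hx => by
    obtain ⟨y, rfl⟩ := hx
    exact ⟨(E.d q q').hom y, by simp⟩))
  shape q q' h := by
    ext x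
    simp [E.shape q q' h]
  d_comp_d' q q' q'' _ _ := by
    ext x
    have := congrArg (fun φ => φ.hom x.1) (E.d_comp_d q q' q'')
    simp only [ModuleCat.hom_comp, LinearMap.comp_apply, ModuleCat.hom_zero,
      LinearMap.zero_apply] at this
    simpa using this

noncomputable def subι (g : A) (E : DRing.Cx A) : sub g E ⟶ E where
  f q := ModuleCat.ofHom (Submodule.subtype _)
  comm' q q' _ := by
    ext x
    rfl

noncomputable def toSub (g : A) (E : DRing.Cx A) : E ⟶ sub g E where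
  f q := ModuleCat.ofHom (LinearMap.rangeRestrict (g • (LinearMap.id : E.X q →ₗ[A] E.X q)))
  comm' q q' _ := by
    ext x
    apply Subtype.ext
    change (E.d q q').hom (g • x) = g • (E.d q q').hom x
    rw [map_smul]

lemma toSub_ι (g : A) (E : DRing.Cx A) : toSub g E ≫ subι g E = g • 𝟙 E := by
  ext q x
  rfl

instance (g : A) (E : DRing.Cx A) : Epi (toSub g E) :=
  HomologicalComplex.epi_of_epi_f _ (fun i => (ModuleCat.epi_iff_surjective _).2
    (LinearMap.surjective_rangeRestrict _))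

lemma toSub_apply_eq_zero (g : A) (E : DRing.Cx A) (i : ℤ) (y : E.X i)
    (h : ((toSub g E).f i).hom y = 0) : g • y = 0 := by
  have := congrArg Subtype.val h
  exact this

theorem single_gen (f : A) (E : DRing.Cx A) (c : ℕ)
    (hc : ∀ (i : ℤ) (x : E.X i) (k : ℕ), f ^ k • x = 0 → f ^ c • x = 0)
    {X Y : ℕᵒᵖ ⥤ DRing.Cx A} (a : X ⟶ Y)
    (θ : ∀ n : ℕ, X.obj (op n) ≅ mappingCone (f ^ (n + 1) • 𝟙 E))
    (π : ∀ n : ℕ, E ⟶ Y.obj (op n))
    (h1 : ∀ (n k : ℕ), ARSys.tr X (Nat.le_add_right n k) ≫ (θ n).hom =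
      (θ (n + k)).hom ≫ cnTr E (f ^ (n + k + 1)) (f ^ (n + 1)) (f ^ k) (by
        rw [← pow_add]; congr 1; omega))
    (h2a : ∀ n, mappingCone.inr _ ≫ (θ n).inv ≫ a.app (op n) = π n)
    (h2b : ∀ (n : ℕ) (i j : ℤ) (hij : i + (-1) = j),
      (mappingCone.inl (f ^ (n + 1) • 𝟙 E)).v i j hij ≫ ((θ n).inv ≫ a.app (op n)).f j = 0)
    (h3 : ∀ (n m : ℕ) (h : n ≤ m), π m ≫ ARSys.tr Y h = π n)
    (h4 : ∀ (n : ℕ) (i : ℤ), Function.Surjective ((π n).f i).hom ∧
      ∀ x : E.X i, ((π n).f i).hom x = 0 ↔ ∃ y : E.X i, x = f ^ (n + 1) • y) :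
    DerCA.IsProIso (Functor.whiskerRight a DerivedCategory.Q) := by
  intro n
  have hnm : n ≤ n + c := Nat.le_add_right n c
  set g : A := f ^ (n + c + 1) with hg
  let ι := subι g E
  let e := toSub g E
  have heι : e ≫ ι = g • 𝟙 E := toSub_ι g E
  have hgπ : (g • 𝟙 E) ≫ π (n + c) = 0 := by
    ext i x
    exact ((h4 (n + c) i).2 (g • x)).2 ⟨x, rfl⟩
  have hιπ : ι ≫ π (n + c) = 0 := by
    rw [← cancel_epi e, ← Category.assoc, heι, hgπ, comp_zero]
  let Sc : ShortComplex (DRing.Cx A) := ShortComplex.mk ι (π (n + c)) hιπ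
  have hSc : Sc.ShortExact := by
    apply HomologicalComplex.shortExact_of_degreewise_shortExact
    intro i
    refine { exact := ?_, mono_f := ?_, epi_g := ?_ }
    · rw [ShortComplex.moduleCat_exact_iff]
      intro x hx
      obtain ⟨y, rfl⟩ := ((h4 (n + c) i).2 x).1 hx
      exact ⟨⟨g • y, ⟨y, rfl⟩⟩, rfl⟩
    · exact (ModuleCat.mono_iff_injective _).2 Subtype.val_injective
    · exact (ModuleCat.epi_iff_surjective _).2 (h4 (n + c) i).1
  let q : mappingCone ι ⟶ Y.obj (op (n + c)) := mappingCone.descShortComplex Sc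
  haveI : QuasiIso q := mappingCone.quasiIso_descShortComplex hSc
  have hker : kernel.ι e ≫ (f ^ c • 𝟙 E) = 0 := by
    ext i x
    have h0 : ((kernel.ι e ≫ e).f i).hom x = 0 := by
      rw [kernel.condition]
      rfl
    have h1 : g • (((kernel.ι e).f i).hom x) = 0 := by
      apply toSub_apply_eq_zero g E i
      exact h0
    have h2 := hc i _ _ h1
    exact h2
  let δ : sub g E ⟶ E := Abelian.epiDesc e (f ^ c • 𝟙 E) hker
  have heδ : e ≫ δ = f ^ c • 𝟙 E := Abelian.comp_epiDesc _ _ _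
  have hδ : δ ≫ (f ^ (n + 1) • 𝟙 E) = ι := by
    rw [← cancel_epi e, reassoc_of% heδ, heι, Linear.smul_comp, Category.id_comp, smul_smul, hg,
      ← pow_add]
    congr 2
    omega
  let dv : mappingCone ι ⟶ mappingCone (f ^ (n + 1) • 𝟙 E) :=
    mappingCone.map ι (f ^ (n + 1) • 𝟙 E) δ (𝟙 E) (by rw [Category.comp_id, hδ])
  let p : mappingCone (g • 𝟙 E) ⟶ mappingCone ι :=
    mappingCone.map (g • 𝟙 E) ι e (𝟙 E) (by rw [Category.comp_id, heι])
  have hq_inl : ∀ (i j : ℤ) (hij : i + (-1) = j), (mappingCone.inl ι).v i j hij ≫ q.f j = 0 :=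
    fun i j hij => mappingCone.inl_v_descShortComplex_f Sc i j hij
  have hq_inr : mappingCone.inr ι ≫ q = π (n + c) := mappingCone.inr_descShortComplex Sc
  have hp_inl : ∀ (i j : ℤ) (hij : i + (-1) = j), (mappingCone.inl (g • 𝟙 E)).v i j hij ≫ p.f j =
      e.f i ≫ (mappingCone.inl ι).v i j hij := by
    intro i j hij
    simp [p, mappingCone.map]
  have hp_inr : mappingCone.inr (g • 𝟙 E) ≫ p = mappingCone.inr ι := by
    simp [p, mappingCone.map]
  have hdv_inl : ∀ (i j : ℤ) (hij : i + (-1) = j), (mappingCone.inl ι).v i j hij ≫ dv.f j =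
      δ.f i ≫ (mappingCone.inl (f ^ (n + 1) • 𝟙 E)).v i j hij := by
    intro i j hij
    simp [dv, mappingCone.map]
  have hdv_inr : mappingCone.inr ι ≫ dv = mappingCone.inr (f ^ (n + 1) • 𝟙 E) := by
    simp [dv, mappingCone.map]
  have hpq : p ≫ q = (θ (n + c)).inv ≫ a.app (op (n + c)) := by
    apply cone_hom_ext
    · intro i j hij
      rw [h2b (n + c) i j hij, HomologicalComplex.comp_f, reassoc_of% (hp_inl i j hij),
        hq_inl i j hij, comp_zero]
    · rw [h2a (n + c), reassoc_of% hp_inr, hq_inr]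
  have hpdv : p ≫ dv = cnTr E g (f ^ (n + 1)) (f ^ c) (by
      rw [hg, ← pow_add]; congr 1; omega) := by
    dsimp only [p, dv, cnTr]
    rw [← mappingCone.map_comp]
    exact map_congr' _ _ _ _ _ _ _ heδ (Category.comp_id _)
  have hdvq : dv ≫ (θ n).inv ≫ a.app (op n) = q ≫ ARSys.tr Y hnm := by
    apply cone_hom_ext
    · intro i j hij
      rw [HomologicalComplex.comp_f, reassoc_of% (hdv_inl i j hij), h2b n i j hij, comp_zero,
        HomologicalComplex.comp_f, reassoc_of% (hq_inl i j hij), zero_comp]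
    · rw [reassoc_of% hdv_inr, h2a n, reassoc_of% hq_inr, h3 n (n + c) hnm]
  haveI : IsIso (DerivedCategory.Q.map q) := by
    rw [DerivedCategory.isIso_Q_map_iff_quasiIso]
    infer_instance
  refine ⟨n + c, hnm, inv (DerivedCategory.Q.map q) ≫ DerivedCategory.Q.map (dv ≫ (θ n).inv), ?_, ?_⟩
  · have ha : a.app (op (n + c)) = (θ (n + c)).hom ≫ p ≫ q := by
      rw [hpq, Iso.hom_inv_id_assoc]
    change DerivedCategory.Q.map (a.app (op (n + c))) ≫ _ = DerivedCategory.Q.map (ARSys.tr X hnm)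
    rw [ha, Functor.map_comp, Functor.map_comp, Category.assoc, Category.assoc,
      IsIso.hom_inv_id_assoc, ← Functor.map_comp, ← Functor.map_comp]
    congr 1
    rw [reassoc_of% hpdv, ← reassoc_of% (h1 n c), Iso.hom_inv_id, Category.comp_id]
  · change (inv (DerivedCategory.Q.map q) ≫ DerivedCategory.Q.map (dv ≫ (θ n).inv)) ≫
      DerivedCategory.Q.map (a.app (op n)) = DerivedCategory.Q.map (ARSys.tr Y hnm)
    rw [Category.assoc, ← Functor.map_comp, Category.assoc, hdvq, Functor.map_comp,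
      IsIso.inv_hom_id_assoc]

end Groth.Agent.Lib.Helper88.Pro2
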