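import Groth.Agent.Lib.Helper88.Pro2
import Groth.Agent.Lib.Helper98.KoszulTensor
import Groth.Agent.Lib.Helper25.SingleTensor
import Groth.Agent.Lib.Helper25.TensorAssoc

/-!
# helper88: Koszul systems `Kos1(f^{n+1})`, quotient systems `A/f^{n+1}`, and the single generator
step in tensor form
-/

set_option autoImplicit false
universe u

open CategoryTheory CategoryTheory.Limits Opposite CochainComplex HomComplex MonoidalCategory

attribute [local instance] HasDerivedCategory.standard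

namespace Groth.Agent.Lib.Helper88.Pro3

open Groth.Agent.Lib.Helper55.ProSys Groth.Agent.Lib.Helper88.Pro1 Groth.Agent.Lib.Helper88.Pro2
open Helper98.KoszulTensor

variable {A : Type u} [CommRing A]

section CnTr

variable (E : DRing.Cx A)

lemma cnTr_congr (g h k k' : A) (hk : g = k * h) (hkk : k = k') :
    cnTr E g h k hk = cnTr E g h k' (by rw [← hkk, hk]) := by
  subst hkk
  rfl

lemma cnTr_one (g : A) : cnTr E g g 1 (one_mul g).symm = 𝟙 _ := by
  unfold cnTr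
  rw [map_congr' _ _ _ (𝟙 E) _ (𝟙 E) _ (one_smul A _) rfl]
  exact mappingCone.map_id _

lemma cnTr_comp (g h l k₁ k₂ : A) (h₁ : g = k₁ * h) (h₂ : h = k₂ * l) :
    cnTr E g h k₁ h₁ ≫ cnTr E h l k₂ h₂ = cnTr E g l (k₁ * k₂) (by rw [h₁, h₂, mul_assoc]) := by
  unfold cnTr
  rw [← mappingCone.map_comp]
  refine map_congr' _ _ _ _ _ _ _ ?_ (Category.comp_id _)
  rw [Linear.smul_comp, Linear.comp_smul, Category.comp_id, smul_smul, mul_comm]

lemma inl_cnTr (g h k : A) (hk : g = k * h) (i j : ℤ) (hij : i + (-1) = j) :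
    (mappingCone.inl (g • 𝟙 E)).v i j hij ≫ (cnTr E g h k hk).f j =
      (k • 𝟙 E).f i ≫ (mappingCone.inl (h • 𝟙 E)).v i j hij := by
  simp [cnTr, mappingCone.map]

lemma inr_cnTr (g h k : A) (hk : g = k * h) :
    mappingCone.inr (g • 𝟙 E) ≫ cnTr E g h k hk = mappingCone.inr (h • 𝟙 E) := by
  simp [cnTr, mappingCone.map]

end CnTr

section Theta

/-- `cone(g • 𝟙 K) ⊗ L ≅ cone(g • 𝟙 (K ⊗ L))`, with explicit inverse -/
noncomputable def θ' (g : A) (K L : DRing.Cx A) :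
    (mappingCone (g • 𝟙 K) ⊗ L : DRing.Cx A) ≅ mappingCone (g • 𝟙 (K ⊗ L)) :=
  isoCone (g • 𝟙 (K ⊗ L)) (wr (mappingCone.inl (g • 𝟙 K)) L) (mappingCone.inr (g • 𝟙 K) ▷ L)
    (Cocycle.mk (wr (mappingCone.fst (g • 𝟙 K)).1 L) 2 (by omega) (by
      rw [δ_wr _ _ _ (by omega), Cocycle.δ_eq_zero, wr_zero]))
    (wr (mappingCone.snd (g • 𝟙 K)) L)
    (by
      change (wr (mappingCone.inl (g • 𝟙 K)) L).comp (wr (mappingCone.fst (g • 𝟙 K)).1 L) _ = _
      rw [← wr_comp, mappingCone.inl_fst, wr_ofHom, id_whiskerRight])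
    (by rw [← wr_comp, mappingCone.inl_snd, wr_zero])
    (by
      change (Cochain.ofHom (mappingCone.inr (g • 𝟙 K) ▷ L)).comp
        (wr (mappingCone.fst (g • 𝟙 K)).1 L) _ = _
      rw [← wr_ofHom, ← wr_comp, mappingCone.inr_fst, wr_zero])
    (by rw [← wr_ofHom, ← wr_comp, mappingCone.inr_snd, wr_ofHom, id_whiskerRight])
    (by
      change (wr (mappingCone.fst (g • 𝟙 K)).1 L).comp (wr (mappingCone.inl (g • 𝟙 K)) L) _ + _ = _
      rw [← wr_ofHom, ← wr_comp, ← wr_comp, ← wr_add, mappingCone.id, wr_ofHom, id_whiskerRight])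
    (by rw [δ_wr _ _ _ (by omega), mappingCone.δ_inl, wr_ofHom, MonoidalCategory.comp_whiskerRight,
      smul_id_whiskerRight])
    (by
      change _ = -(wr (mappingCone.fst (g • 𝟙 K)).1 L).comp _ _
      rw [δ_wr _ _ _ (by omega), mappingCone.δ_snd, wr_neg, wr_comp, wr_ofHom,
        smul_id_whiskerRight])

lemma θ'_inv (g : A) (K L : DRing.Cx A) :
    (θ' g K L).inv = mappingCone.desc (g • 𝟙 (K ⊗ L)) (wr (mappingCone.inl (g • 𝟙 K)) L)
      (mappingCone.inr (g • 𝟙 K) ▷ L) (by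
        rw [δ_wr _ _ _ (by omega), mappingCone.δ_inl, wr_ofHom, MonoidalCategory.comp_whiskerRight,
          smul_id_whiskerRight]) := rfl

/-- the one-generator Koszul complex -/
noncomputable abbrev kos1 (g : A) : DRing.Cx A := mappingCone (g • 𝟙 (𝟙_ (DRing.Cx A)))

/-- `Kos1(g) ⊗ E ≅ cone(g • 𝟙 E)` -/
noncomputable def θ (g : A) (E : DRing.Cx A) : (kos1 g ⊗ E : DRing.Cx A) ≅ mappingCone (g • 𝟙 E) :=
  θ' g (𝟙_ _) E ≪≫ coneSmulIso g (λ_ E)

lemma inr_θ_inv (g : A) (E : DRing.Cx A) :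
    mappingCone.inr (g • 𝟙 E) ≫ (θ g E).inv =
      (λ_ E).inv ≫ (mappingCone.inr (g • 𝟙 (𝟙_ (DRing.Cx A))) ▷ E) := by
  have h1 : mappingCone.inr (g • 𝟙 E) ≫ (coneSmulIso g (λ_ E)).inv =
      (λ_ E).inv ≫ mappingCone.inr (g • 𝟙 (𝟙_ (DRing.Cx A) ⊗ E)) := by
    simp [coneSmulIso, mappingCone.map]
  change mappingCone.inr (g • 𝟙 E) ≫ (coneSmulIso g (λ_ E)).inv ≫ (θ' g (𝟙_ _) E).inv = _
  rw [reassoc_of% h1, θ'_inv, mappingCone.inr_desc]

lemma inl_θ_inv (g : A) (E : DRing.Cx A) (i j : ℤ) (hij : i + (-1) = j) :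
    (mappingCone.inl (g • 𝟙 E)).v i j hij ≫ (θ g E).inv.f j =
      (λ_ E).inv.f i ≫ (wr (mappingCone.inl (g • 𝟙 (𝟙_ (DRing.Cx A)))) E).v i j hij := by
  have h1 : (mappingCone.inl (g • 𝟙 E)).v i j hij ≫ (coneSmulIso g (λ_ E)).inv.f j =
      (λ_ E).inv.f i ≫ (mappingCone.inl (g • 𝟙 (𝟙_ (DRing.Cx A) ⊗ E))).v i j hij := by
    simp [coneSmulIso, mappingCone.map]
  change (mappingCone.inl (g • 𝟙 E)).v i j hij ≫
    ((coneSmulIso g (λ_ E)).inv ≫ (θ' g (𝟙_ _) E).inv).f j = _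
  rw [HomologicalComplex.comp_f, reassoc_of% h1, θ'_inv, mappingCone.inl_v_desc_f]

/-- `wr` and postcomposition with a whiskered morphism, in components -/
lemma wr_v_comp_whiskerRight {K M N : DRing.Cx A} {n : ℤ} (α : Cochain K M n) (φ : M ⟶ N)
    (L : DRing.Cx A) (i j : ℤ) (hij : i + n = j) :
    (wr α L).v i j hij ≫ (φ ▷ L).f j = (wr (α.comp (Cochain.ofHom φ) (add_zero n)) L).v i j hij := by
  rw [wr_comp, wr_ofHom, Cochain.comp_zero_cochain_v, Cochain.ofHom_v]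

end Theta

section Systems

/-- the Koszul system `n ↦ Kos1(f^{n+1})` -/
noncomputable def Gs (f : A) : ℕᵒᵖ ⥤ DRing.Cx A where
  obj n := kos1 (f ^ (n.unop + 1))
  map {n m} h := cnTr (𝟙_ (DRing.Cx A)) (f ^ (n.unop + 1)) (f ^ (m.unop + 1))
    (f ^ (n.unop - m.unop)) (by
    have : m.unop ≤ n.unop := leOfHom h.unop
    rw [← pow_add]; congr 1; omega)
  map_id n := by
    rw [cnTr_congr _ _ _ _ 1 _ (by simp)]
    exact cnTr_one _ _
  map_comp {n m l} h₁ h₂ := by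
    have e1 : m.unop ≤ n.unop := leOfHom h₁.unop
    have e2 : l.unop ≤ m.unop := leOfHom h₂.unop
    rw [cnTr_comp]
    refine cnTr_congr _ _ _ _ _ _ ?_
    rw [← pow_add]; congr 1; omega

lemma tr_Gs (f : A) (n k : ℕ) :
    ARSys.tr (Gs f) (Nat.le_add_right n k) =
      cnTr (𝟙_ (DRing.Cx A)) (f ^ (n + k + 1)) (f ^ (n + 1)) (f ^ k)
        (by rw [← pow_add]; congr 1; omega) := by
  have h0 : f ^ (n + k + 1) = f ^ (n + k - n) * f ^ (n + 1) := by
    rw [← pow_add]; congr 1; omega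
  change cnTr (𝟙_ (DRing.Cx A)) (f ^ (n + k + 1)) (f ^ (n + 1)) (f ^ (n + k - n)) h0 = _
  refine cnTr_congr _ _ _ _ _ _ ?_
  congr 1; omega

/-- the quotient module `A/g` -/
noncomputable abbrev qm (g : A) : ModuleCat.{u} A := ModuleCat.of A (A ⧸ Ideal.span {g})

lemma span_pow_le (f : A) {n m : ℕ} (h : m ≤ n) :
    Ideal.span {f ^ (n + 1)} ≤ Ideal.span {f ^ (m + 1)} :=
  Ideal.span_singleton_le_span_singleton.2 (pow_dvd_pow f (by omega))

noncomputable def Hm (f : A) : ℕᵒᵖ ⥤ ModuleCat.{u} A where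
  obj n := qm (f ^ (n.unop + 1))
  map {n m} h := ModuleCat.ofHom (Submodule.factor (span_pow_le f (leOfHom h.unop)))
  map_id n := by
    refine ModuleCat.hom_ext (LinearMap.ext fun x => ?_)
    obtain ⟨y, rfl⟩ := Submodule.Quotient.mk_surjective _ x
    rfl
  map_comp {n m l} h₁ h₂ := by
    refine ModuleCat.hom_ext (LinearMap.ext fun x => ?_)
    obtain ⟨y, rfl⟩ := Submodule.Quotient.mk_surjective _ x
    rfl

noncomputable abbrev sg : ModuleCat.{u} A ⥤ DRing.Cx A :=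
  HomologicalComplex.single (ModuleCat.{u} A) (ComplexShape.up ℤ) 0

noncomputable def Hs (f : A) : ℕᵒᵖ ⥤ DRing.Cx A := Hm f ⋙ sg

/-- the projection `A[0] → (A/g)[0]` -/
noncomputable def η (g : A) : 𝟙_ (DRing.Cx A) ⟶ sg.obj (qm g) :=
  sg.map (ModuleCat.ofHom (Submodule.mkQ (Ideal.span {g})))

lemma smul_η (g : A) : (g • 𝟙 (𝟙_ (DRing.Cx A))) ≫ η g = 0 := by
  rw [Linear.smul_comp, Category.id_comp]
  apply HomologicalComplex.from_single_hom_ext
  rw [HomologicalComplex.smul_f_apply, HomologicalComplex.zero_f]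
  unfold η
  rw [HomologicalComplex.single_map_f_self]
  have h0 : g • (ModuleCat.ofHom (Submodule.mkQ (Ideal.span {g})) :
      𝟙_ (ModuleCat.{u} A) ⟶ qm g) = 0 := by
    refine ModuleCat.hom_ext (LinearMap.ext fun x => ?_)
    change g • (Submodule.Quotient.mk x : A ⧸ Ideal.span {g}) = 0
    rw [← Submodule.Quotient.mk_smul, Submodule.Quotient.mk_eq_zero]
    exact Ideal.mul_mem_right _ _ (Ideal.mem_span_singleton_self g)
  rw [← Linear.comp_smul, ← Linear.smul_comp, h0, zero_comp, comp_zero]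

/-- the augmentation `Kos1(g) → (A/g)[0]` -/
noncomputable def α (g : A) : kos1 g ⟶ sg.obj (qm g) :=
  mappingCone.desc _ 0 (η g) (by rw [δ_zero, smul_η, Cochain.ofHom_zero])

lemma inr_α (g : A) : mappingCone.inr _ ≫ α g = η g := mappingCone.inr_desc _ _ _ _

lemma inl_α (g : A) : (mappingCone.inl (g • 𝟙 (𝟙_ (DRing.Cx A)))).comp (Cochain.ofHom (α g))
    (add_zero _) = 0 := mappingCone.inl_desc _ _ _ _

lemma η_factor (f : A) {n m : ℕ} (h : m ≤ n) :
    η (f ^ (n + 1)) ≫ sg.map (ModuleCat.ofHom (Submodule.factor (span_pow_le f h))) =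
      η (f ^ (m + 1)) := by
  unfold η
  rw [← Functor.map_comp]
  congr 1

noncomputable def αs (f : A) : Gs f ⟶ Hs f where
  app n := α (f ^ (n.unop + 1))
  naturality {n m} h := by
    have e1 : m.unop ≤ n.unop := leOfHom h.unop
    have hk : f ^ (n.unop + 1) = f ^ (n.unop - m.unop) * f ^ (m.unop + 1) := by
      rw [← pow_add]; congr 1; omega
    apply cone_hom_ext
    · intro i j hij
      change _ ≫ (cnTr _ _ _ _ hk ≫ α _).f j = _ ≫ (α _ ≫ _).f j
      rw [HomologicalComplex.comp_f, HomologicalComplex.comp_f, reassoc_of% (inl_cnTr _ _ _ _ _ i j hij)]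
      have h1 := Cochain.congr_v (inl_α (f ^ (m.unop + 1))) i j hij
      have h2 := Cochain.congr_v (inl_α (f ^ (n.unop + 1))) i j hij
      rw [Cochain.comp_zero_cochain_v, Cochain.ofHom_v, Cochain.zero_v] at h1 h2
      rw [h1, reassoc_of% h2, comp_zero, zero_comp]
    · change _ ≫ cnTr _ _ _ _ hk ≫ α _ = _ ≫ α _ ≫ _
      rw [reassoc_of% (inr_cnTr _ _ _ _ _), inr_α, reassoc_of% (inr_α _)]
      exact (η_factor f e1).symm

end Systems

end Groth.Agent.Lib.Helper88.Pro3
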