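import Groth.Agent.Lib.Helper88.Pro3

/-!
# helper88: the single generator step in tensor form
-/

set_option autoImplicit false
universe u

open CategoryTheory CategoryTheory.Limits Opposite CochainComplex HomComplex MonoidalCategory TensorProduct

attribute [local instance] HasDerivedCategory.standard

namespace Groth.Agent.Lib.Helper88.Pro4

open Groth.Agent.Lib.Helper55.ProSys Groth.Agent.Lib.Helper88.Pro1 Groth.Agent.Lib.Helper88.Pro2
  Groth.Agent.Lib.Helper88.Pro3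
open Helper98.KoszulTensor
open Groth.Agent.Lib.Helper25.TensorCx Groth.Agent.Lib.Helper25.SingleTensor

variable {A : Type u} [CommRing A]

lemma θ_natural (g h k : A) (hk : g = k * h) (E : DRing.Cx A) :
    (θ g E).inv ≫ (cnTr (𝟙_ (DRing.Cx A)) g h k hk ▷ E) = cnTr E g h k hk ≫ (θ h E).inv := by
  apply cone_hom_ext
  · intro i j hij
    rw [HomologicalComplex.comp_f, HomologicalComplex.comp_f, reassoc_of% (inl_θ_inv g E i j hij),
      reassoc_of% (inl_cnTr E g h k hk i j hij), inl_θ_inv h E i j hij,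
      wr_v_comp_whiskerRight]
    have hc : (mappingCone.inl (g • 𝟙 (𝟙_ (DRing.Cx A)))).comp
        (Cochain.ofHom (cnTr (𝟙_ (DRing.Cx A)) g h k hk)) (add_zero _) =
        (Cochain.ofHom (k • 𝟙 (𝟙_ (DRing.Cx A)))).comp
          (mappingCone.inl (h • 𝟙 (𝟙_ (DRing.Cx A)))) (zero_add _) := by
      refine Cochain.ext _ _ (fun p q hpq => ?_)
      rw [Cochain.comp_zero_cochain_v, Cochain.ofHom_v, Cochain.zero_cochain_comp_v,
        Cochain.ofHom_v]
      exact inl_cnTr _ g h k hk p q hpq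
    rw [hc, wr_comp, wr_ofHom, Cochain.zero_cochain_comp_v, Cochain.ofHom_v, smul_id_whiskerRight]
    have hs : (λ_ E).inv ≫ (k • 𝟙 (𝟙_ (DRing.Cx A) ⊗ E)) = (k • 𝟙 E) ≫ (λ_ E).inv := by
      rw [Linear.comp_smul, Linear.smul_comp, Category.comp_id, Category.id_comp]
    have hs' := HomologicalComplex.congr_hom hs i
    rw [HomologicalComplex.comp_f, HomologicalComplex.comp_f] at hs'
    rw [reassoc_of% hs']
  · rw [reassoc_of% (inr_θ_inv g E), ← MonoidalCategory.comp_whiskerRight, inr_cnTr,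
      reassoc_of% (inr_cnTr E g h k hk), inr_θ_inv]

/-- the projection `E → (A/g)[0] ⊗ E` -/
noncomputable def πq (g : A) (E : DRing.Cx A) : E ⟶ (sg.obj (qm g) ⊗ E : DRing.Cx A) :=
  (λ_ E).inv ≫ (η g ▷ E)

lemma η_unitElt (g : A) :
    (η g).f 0 (unitElt A) =
      (HomologicalComplex.singleObjXSelf (ComplexShape.up ℤ) 0 (qm g)).inv
        (Ideal.Quotient.mk (Ideal.span {g}) 1) := by
  unfold η unitElt
  rw [HomologicalComplex.single_map_f_self]
  have h1 : (HomologicalComplex.singleObjXSelf (ComplexShape.up ℤ) 0 (𝟙_ (ModuleCat.{u} A))).hom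
      ((HomologicalComplex.singleObjXSelf (ComplexShape.up ℤ) 0 (𝟙_ (ModuleCat.{u} A))).inv (1 : A)) =
      (1 : A) := by
    change ((HomologicalComplex.singleObjXSelf (ComplexShape.up ℤ) 0 (𝟙_ (ModuleCat.{u} A))).inv ≫
      (HomologicalComplex.singleObjXSelf (ComplexShape.up ℤ) 0 (𝟙_ (ModuleCat.{u} A))).hom) (1 : A) = 1
    rw [Iso.inv_hom_id]
    rfl
  change (HomologicalComplex.singleObjXSelf (ComplexShape.up ℤ) 0 (qm g)).inv
    ((ModuleCat.ofHom (Submodule.mkQ (Ideal.span {g})))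
      ((HomologicalComplex.singleObjXSelf (ComplexShape.up ℤ) 0 (𝟙_ (ModuleCat.{u} A))).hom
        ((HomologicalComplex.singleObjXSelf (ComplexShape.up ℤ) 0 (𝟙_ (ModuleCat.{u} A))).inv (1 : A)))) = _
  rw [h1]
  rfl

lemma πq_apply (g : A) (E : DRing.Cx A) (i : ℤ) (x : E.X i) :
    (πq g E).f i x = inS (qm g) E i ((Ideal.Quotient.mk (Ideal.span {g}) 1) ⊗ₜ[A] x) := by
  change (η g ▷ E).f i ((λ_ E).inv.f i x) = _
  rw [leftUnitor_inv_f_apply, whiskerRight_tm, inS_tmul, η_unitElt]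

lemma πq_surjective (g : A) (E : DRing.Cx A) (i : ℤ) : Function.Surjective ((πq g E).f i).hom := by
  intro y
  obtain ⟨t, rfl⟩ : ∃ t, inS (qm g) E i t = y := ⟨outS (qm g) E i y, inS_outS _ _ _ _⟩
  obtain ⟨x, rfl⟩ : ∃ x : E.X i, (Ideal.Quotient.mk (Ideal.span {g}) 1) ⊗ₜ[A] x = t := by
    obtain ⟨x, hx⟩ := Submodule.Quotient.mk_surjective _
      (TensorProduct.quotTensorEquivQuotSMul (E.X i) (Ideal.span {g}) t)
    refine ⟨x, ?_⟩
    apply (TensorProduct.quotTensorEquivQuotSMul (E.X i) (Ideal.span {g})).injective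
    rw [← hx, map_one, TensorProduct.quotTensorEquivQuotSMul_mk_one_tmul]
  exact ⟨x, πq_apply g E i x⟩

lemma πq_eq_zero_iff (g : A) (E : DRing.Cx A) (i : ℤ) (x : E.X i) :
    ((πq g E).f i).hom x = 0 ↔ ∃ y : E.X i, x = g • y := by
  have h0 : ((πq g E).f i).hom x = inS (qm g) E i
      ((Ideal.Quotient.mk (Ideal.span {g}) 1) ⊗ₜ[A] x) := πq_apply g E i x
  rw [h0]
  have h1 : inS (qm g) E i ((Ideal.Quotient.mk (Ideal.span {g}) 1) ⊗ₜ[A] x) = 0 ↔
      (Ideal.Quotient.mk (Ideal.span {g}) 1) ⊗ₜ[A] x = 0 := by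
    constructor
    · intro h
      have := congrArg (outS (qm g) E i) h
      rwa [outS_inS, map_zero] at this
    · intro h
      rw [h, map_zero]
  rw [h1, ← (TensorProduct.quotTensorEquivQuotSMul (E.X i) (Ideal.span {g})).map_eq_zero_iff,
    map_one, TensorProduct.quotTensorEquivQuotSMul_mk_one_tmul, Submodule.Quotient.mk_eq_zero,
    Submodule.ideal_span_singleton_smul, Submodule.mem_smul_pointwise_iff_exists]
  constructor
  · rintro ⟨y, -, hy⟩
    exact ⟨y, hy.symm⟩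
  · rintro ⟨y, hy⟩
    exact ⟨y, trivial, hy.symm⟩

theorem single_gen_tensor (f : A) (E : DRing.Cx A) (c : ℕ)
    (hc : ∀ (i : ℤ) (x : E.X i) (k : ℕ), f ^ k • x = 0 → f ^ c • x = 0) :
    DerCA.IsProIso (Functor.whiskerRight (Functor.whiskerRight (αs f) (tensorRight E))
      DerivedCategory.Q) := by
  refine single_gen f E c hc (Functor.whiskerRight (αs f) (tensorRight E))
    (fun n => θ (f ^ (n + 1)) E) (fun n => πq (f ^ (n + 1)) E) ?_ ?_ ?_ ?_ ?_
  · intro n k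
    have hk : f ^ (n + k + 1) = f ^ k * f ^ (n + 1) := by rw [← pow_add]; congr 1; omega
    have key := θ_natural (f ^ (n + k + 1)) (f ^ (n + 1)) (f ^ k) hk E
    refine Eq.trans (congrArg (fun t => (t ▷ E) ≫ (θ (f ^ (n + 1)) E).hom) (tr_Gs f n k)) ?_
    change ((cnTr (𝟙_ (DRing.Cx A)) (f ^ (n + k + 1)) (f ^ (n + 1)) (f ^ k) hk ▷ E :
      (kos1 (f ^ (n + k + 1)) ⊗ E : DRing.Cx A) ⟶ kos1 (f ^ (n + 1)) ⊗ E)) ≫
        (θ (f ^ (n + 1)) E).hom = (θ (f ^ (n + k + 1)) E).hom ≫ cnTr E _ _ _ hk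
    rw [← Iso.inv_comp_eq, reassoc_of% key, Iso.inv_hom_id, Category.comp_id]
  · intro n
    change _ ≫ _ ≫ (α (f ^ (n + 1)) ▷ E) = _
    rw [reassoc_of% (inr_θ_inv _ E), ← MonoidalCategory.comp_whiskerRight, inr_α]
    rfl
  · intro n i j hij
    change _ ≫ ((θ (f ^ (n + 1)) E).inv ≫ (α (f ^ (n + 1)) ▷ E)).f j = 0
    rw [HomologicalComplex.comp_f, reassoc_of% (inl_θ_inv _ E i j hij), wr_v_comp_whiskerRight,
      inl_α, wr_zero, Cochain.zero_v, comp_zero]
  · intro n m h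
    change ((λ_ E).inv ≫ (η (f ^ (m + 1)) ▷ E)) ≫
      (sg.map (ModuleCat.ofHom (Submodule.factor (span_pow_le f h))) ▷ E) = _
    rw [Category.assoc, ← MonoidalCategory.comp_whiskerRight, η_factor f h]
    rfl
  · intro n i
    exact ⟨πq_surjective _ E i, fun x => πq_eq_zero_iff _ E i x⟩

end Groth.Agent.Lib.Helper88.Pro4
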