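import Groth.Agent.Lib.Helper88.Pro4
import Groth.Agent.Lib.Helper25.KFlatFactor
import Groth.Agent.Lib.Helper25.LTenCompute
import Groth.Agent.Lib.Helper25.KFlatQis

/-!
# helper88: descent of K-flat tensoring to `D(A)`, torsion bounds, bounded finite complexes
-/

set_option autoImplicit false
universe u

open CategoryTheory CategoryTheory.Limits Opposite CochainComplex HomComplex MonoidalCategory TensorProduct

attribute [local instance] HasDerivedCategory.standard

namespace Groth.Agent.Lib.Helper88.Pro5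

open Groth.Agent.Lib.Helper55.ProSys Groth.Agent.Lib.Helper88.Pro1 Groth.Agent.Lib.Helper88.Pro2
  Groth.Agent.Lib.Helper88.Pro3 Groth.Agent.Lib.Helper88.Pro4
open Groth.Agent.Lib.Helper25.TensorCx Groth.Agent.Lib.Helper25.SingleTensor

variable {A : Type u} [CommRing A]

section Descent

variable (P : DRing.Cx A) (hP : Groth.Agent.Lib.Helper25.KFlat.IsKFlat P)

include hP in
lemma inverts_tensorLeft :
    (HomologicalComplex.quasiIso (ModuleCat.{u} A) (ComplexShape.up ℤ)).IsInvertedBy
      (tensorLeft P ⋙ DerivedCategory.Q) := by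
  intro X Y f hf
  have hf' : QuasiIso f := hf
  have := Groth.Agent.Lib.Helper25.KFlat.quasiIso_whiskerLeft_of_isKFlat P hP f hf'
  change IsIso (DerivedCategory.Q.map (P ◁ f))
  rw [DerivedCategory.isIso_Q_map_iff_quasiIso]
  exact this

include hP in
theorem PI_tensorLeft {W W' : ℕᵒᵖ ⥤ DRing.Cx A} (w : W ⟶ W')
    (h : DerCA.IsProIso (Functor.whiskerRight w DerivedCategory.Q)) :
    DerCA.IsProIso (Functor.whiskerRight w (tensorLeft P ⋙ DerivedCategory.Q)) := by
  let G : DerivedCategory (ModuleCat.{u} A) ⥤ DerivedCategory (ModuleCat.{u} A) :=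
    Localization.lift (tensorLeft P ⋙ DerivedCategory.Q) (inverts_tensorLeft P hP) DerivedCategory.Q
  let fac : DerivedCategory.Q ⋙ G ≅ tensorLeft P ⋙ DerivedCategory.Q :=
    Localization.fac _ (inverts_tensorLeft P hP) DerivedCategory.Q
  have h1 : DerCA.IsProIso (Functor.whiskerRight (Functor.whiskerRight w DerivedCategory.Q) G) :=
    PI_whiskerRight _ G h
  refine PI_of_arrow_iso (Functor.whiskerRight (Functor.whiskerRight w DerivedCategory.Q) G)
    (Functor.whiskerRight w (tensorLeft P ⋙ DerivedCategory.Q))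
    (Functor.isoWhiskerLeft W fac) (Functor.isoWhiskerLeft W' fac) ?_ h1
  ext n
  exact fac.hom.naturality (w.app n)

end Descent

section Torsion

lemma exists_torsion_bound_module [IsNoetherianRing A] (f : A) (M : Type u) [AddCommGroup M]
    [Module A M] [Module.Finite A M] :
    ∃ c : ℕ, ∀ (x : M) (k : ℕ), f ^ k • x = 0 → f ^ c • x = 0 := by
  haveI : IsNoetherian A M := isNoetherian_of_isNoetherianRing_of_finite A M
  let N : ℕ →o Submodule A M :=
    ⟨fun k => LinearMap.ker (f ^ k • (LinearMap.id : M →ₗ[A] M)), by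
      intro k l hkl x hx
      rw [LinearMap.mem_ker, LinearMap.smul_apply, LinearMap.id_apply] at hx ⊢
      obtain ⟨d, rfl⟩ := Nat.exists_eq_add_of_le hkl
      rw [pow_add, mul_comm, mul_smul, hx, smul_zero]⟩
  obtain ⟨n, hn⟩ := monotone_stabilizes_iff_noetherian.2 inferInstance N
  refine ⟨n, fun x k hx => ?_⟩
  have hxk : x ∈ N k := by
    change x ∈ LinearMap.ker (f ^ k • (LinearMap.id : M →ₗ[A] M))
    rw [LinearMap.mem_ker, LinearMap.smul_apply, LinearMap.id_apply]
    exact hx
  have hxn : x ∈ N n := by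
    rcases le_total n k with h | h
    · rw [hn k h]
      exact hxk
    · exact N.monotone h hxk
  change x ∈ LinearMap.ker (f ^ n • (LinearMap.id : M →ₗ[A] M)) at hxn
  rw [LinearMap.mem_ker, LinearMap.smul_apply, LinearMap.id_apply] at hxn
  exact hxn

/-- bounded complexes with finite terms -/
structure BF (a b : ℤ) (E : DRing.Cx A) : Prop where
  fin : ∀ i : ℤ, Module.Finite A (E.X i)
  van : ∀ i : ℤ, (i < a ∨ b < i) → Subsingleton (E.X i)

lemma exists_torsion_bound [IsNoetherianRing A] (f : A) (E : DRing.Cx A) (a b : ℤ)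
    (hE : BF a b E) :
    ∃ c : ℕ, ∀ (i : ℤ) (x : E.X i) (k : ℕ), f ^ k • x = 0 → f ^ c • x = 0 := by
  have h1 : ∀ i : ℤ, ∃ c : ℕ, ∀ (x : E.X i) (k : ℕ), f ^ k • x = 0 → f ^ c • x = 0 := by
    intro i
    haveI := hE.fin i
    exact exists_torsion_bound_module f (E.X i)
  choose c hc using h1
  refine ⟨(Finset.Icc a b).sup c, fun i x k hx => ?_⟩
  by_cases hi : i ∈ Finset.Icc a b
  · have hle : c i ≤ (Finset.Icc a b).sup c := Finset.le_sup hi
    obtain ⟨d, hd⟩ := Nat.exists_eq_add_of_le hle
    rw [hd, pow_add, mul_comm, mul_smul, hc i x k hx, smul_zero]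
  · rw [Finset.mem_Icc, not_and_or, not_le, not_le] at hi
    haveI := hE.van i hi
    rw [Subsingleton.elim x 0, smul_zero]

lemma BF.of_iso {a b : ℤ} {E E' : DRing.Cx A} (e : E ≅ E') (h : BF a b E) : BF a b E' := by
  have eq : ∀ i : ℤ, E.X i ≃ₗ[A] E'.X i := fun i =>
    ((HomologicalComplex.eval _ _ i).mapIso e).toLinearEquiv
  refine ⟨fun i => ?_, fun i hi => ?_⟩
  · haveI := h.fin i
    exact Module.Finite.equiv (eq i)
  · haveI := h.van i hi
    exact (eq i).symm.toEquiv.subsingleton

lemma BF.sgl_tensor {a b : ℤ} {E : DRing.Cx A} (M : ModuleCat.{u} A) [Module.Finite A M]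
    (h : BF a b E) : BF a b (sg.obj M ⊗ E : DRing.Cx A) := by
  refine ⟨fun i => ?_, fun i hi => ?_⟩
  · haveI := h.fin i
    exact Module.Finite.equiv (equivS M E i)
  · haveI := h.van i hi
    haveI : Subsingleton (M ⊗[A] (E.X i)) := by
      refine ⟨fun s t => ?_⟩
      have hz : ∀ t : M ⊗[A] (E.X i), t = 0 := by
        intro t
        induction t using TensorProduct.induction_on with
        | zero => rfl
        | tmul m x => rw [Subsingleton.elim x 0, TensorProduct.tmul_zero]
        | add x y hx hy => rw [hx, hy, add_zero]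
      rw [hz s, hz t]
    exact (equivS M E i).symm.toEquiv.subsingleton

end Torsion

end Groth.Agent.Lib.Helper88.Pro5
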