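import Groth.Agent.Lib.Helper88.Pro5

/-!
# helper88: the Koszul system of a list of elements and the induction on generators
-/

set_option autoImplicit false
universe u

open CategoryTheory CategoryTheory.Limits Opposite CochainComplex HomComplex MonoidalCategory TensorProduct

attribute [local instance] HasDerivedCategory.standard

namespace Groth.Agent.Lib.Helper88.Pro6

open Groth.Agent.Lib.Helper55.ProSys Groth.Agent.Lib.Helper88.Pro1 Groth.Agent.Lib.Helper88.Pro2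
  Groth.Agent.Lib.Helper88.Pro3 Groth.Agent.Lib.Helper88.Pro4 Groth.Agent.Lib.Helper88.Pro5

variable {A : Type u} [CommRing A]

/-- the Koszul system of a list -/
noncomputable def Ls : List A → (ℕᵒᵖ ⥤ DRing.Cx A)
  | [] => (Functor.const _).obj (𝟙_ (DRing.Cx A))
  | f :: l => (Gs f).prod' (Ls l) ⋙ tensor (DRing.Cx A)

/-- the iterated quotient system of a list -/
noncomputable def Cs : List A → (ℕᵒᵖ ⥤ DRing.Cx A)
  | [] => (Functor.const _).obj (𝟙_ (DRing.Cx A))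
  | f :: l => (Hs f).prod' (Cs l) ⋙ tensor (DRing.Cx A)

/-- the augmentation -/
noncomputable def as : (l : List A) → (Ls l ⟶ Cs l)
  | [] => 𝟙 _
  | f :: l => Functor.whiskerRight (NatTrans.prod' (αs f) (as l)) (tensor (DRing.Cx A))

lemma isKFlat_unit : Groth.Agent.Lib.Helper25.KFlat.IsKFlat (𝟙_ (DRing.Cx A)) :=
  fun M hM => Groth.Agent.Lib.Helper25.KFlat.acyclic_of_iso (ρ_ M).symm hM

lemma isKFlat_kos1 (g : A) : Groth.Agent.Lib.Helper25.KFlat.IsKFlat (kos1 g) :=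
  Groth.Agent.Lib.Helper25.KFlat.isKFlat_mappingCone _ isKFlat_unit isKFlat_unit

lemma isKFlat_Ls (l : List A) (n : ℕᵒᵖ) : Groth.Agent.Lib.Helper25.KFlat.IsKFlat ((Ls l).obj n) := by
  induction l with
  | nil => exact isKFlat_unit
  | cons f l ih =>
    exact Groth.Agent.Lib.Helper25.LTenCompute.isKFlat_tensor (isKFlat_kos1 _) ih

instance (g : A) : Module.Finite A (qm g) :=
  inferInstanceAs (Module.Finite A (A ⧸ Ideal.span {g}))

lemma BF_Cs (l : List A) (K : DRing.Cx A) (a b : ℤ) (hK : BF a b K) (q : ℕᵒᵖ) :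
    BF a b ((Cs l).obj q ⊗ K : DRing.Cx A) := by
  induction l with
  | nil => exact hK.of_iso (λ_ K).symm
  | cons f l ih =>
    have h1 : BF a b (sg.obj (qm (f ^ (q.unop + 1))) ⊗ ((Cs l).obj q ⊗ K) : DRing.Cx A) :=
      ih.sgl_tensor _
    exact h1.of_iso (α_ _ _ _).symm

section Step

variable (P P' : ℕᵒᵖ ⥤ DRing.Cx A) (φ : P ⟶ P') (W W' : ℕᵒᵖ ⥤ DRing.Cx A) (w : W ⟶ W')

/-- `(X, Y) ↦ Q(X ⊗ Y)` -/
noncomputable abbrev T : DRing.Cx A × DRing.Cx A ⥤ DerivedCategory (ModuleCat.{u} A) :=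
  tensor (DRing.Cx A) ⋙ DerivedCategory.Q

noncomputable def sectRIso (p : ℕᵒᵖ) :
    Prod.sectR p ℕᵒᵖ ⋙ (P.prod W ⋙ T) ≅ W ⋙ tensorLeft (P.obj p) ⋙ DerivedCategory.Q :=
  NatIso.ofComponents (fun _ => Iso.refl _) (by
    intro q q' g
    change DerivedCategory.Q.map (P.map (𝟙 p) ⊗ₘ W.map g) ≫ 𝟙 _ =
      𝟙 _ ≫ DerivedCategory.Q.map (P.obj p ◁ W.map g)
    rw [Category.comp_id, Category.id_comp, P.map_id, MonoidalCategory.id_tensorHom])

noncomputable def sectLIso (q : ℕᵒᵖ) :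
    Prod.sectL ℕᵒᵖ q ⋙ (P.prod W ⋙ T) ≅ P ⋙ tensorRight (W.obj q) ⋙ DerivedCategory.Q :=
  NatIso.ofComponents (fun _ => Iso.refl _) (by
    intro p p' g
    change DerivedCategory.Q.map (P.map g ⊗ₘ W.map (𝟙 q)) ≫ 𝟙 _ =
      𝟙 _ ≫ DerivedCategory.Q.map (P.map g ▷ W.obj q)
    rw [Category.comp_id, Category.id_comp, W.map_id, MonoidalCategory.tensorHom_id])

noncomputable def diagIso (K : DRing.Cx A) :
    Functor.diag ℕᵒᵖ ⋙ (P.prod (W ⋙ tensorRight K) ⋙ T) ≅
      (P.prod' W ⋙ tensor (DRing.Cx A)) ⋙ tensorRight K ⋙ DerivedCategory.Q :=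
  NatIso.ofComponents (fun n => DerivedCategory.Q.mapIso (α_ (P.obj n) (W.obj n) K).symm) (by
    intro n m g
    change DerivedCategory.Q.map (P.map g ⊗ₘ (W.map g ▷ K)) ≫
      DerivedCategory.Q.map (α_ (P.obj m) (W.obj m) K).inv =
      DerivedCategory.Q.map (α_ (P.obj n) (W.obj n) K).inv ≫
        DerivedCategory.Q.map ((P.map g ⊗ₘ W.map g) ▷ K)
    rw [← Functor.map_comp, ← Functor.map_comp]
    congr 1
    rw [← MonoidalCategory.tensorHom_id, ← MonoidalCategory.tensorHom_id,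
      MonoidalCategory.associator_inv_naturality])

end Step

end Groth.Agent.Lib.Helper88.Pro6
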