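import Groth.Agent.Lib.Helper88.Pro6

/-!
# helper88: the induction on generators
-/

set_option autoImplicit false
universe u

open CategoryTheory CategoryTheory.Limits Opposite CochainComplex HomComplex MonoidalCategory TensorProduct

attribute [local instance] HasDerivedCategory.standard

namespace Groth.Agent.Lib.Helper88.Pro7

open Groth.Agent.Lib.Helper55.ProSys Groth.Agent.Lib.Helper88.Pro1 Groth.Agent.Lib.Helper88.Pro2
  Groth.Agent.Lib.Helper88.Pro3 Groth.Agent.Lib.Helper88.Pro4 Groth.Agent.Lib.Helper88.Pro5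
  Groth.Agent.Lib.Helper88.Pro6

variable {A : Type u} [CommRing A]

theorem main_ind [IsNoetherianRing A] (l : List A) : ∀ (K : DRing.Cx A) (a b : ℤ), BF a b K →
    DerCA.IsProIso (Functor.whiskerRight (Functor.whiskerRight (as l) (tensorRight K))
      DerivedCategory.Q) := by
  induction l with
  | nil =>
    intro K a b hK
    refine PI_of_isIso _ (fun n => ?_)
    change IsIso (DerivedCategory.Q.map ((𝟙 (𝟙_ (DRing.Cx A))) ▷ K))
    rw [MonoidalCategory.id_whiskerRight]
    infer_instance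
  | cons f l ih =>
    intro K a b hK
    have IH := ih K a b hK
    let W : ℕᵒᵖ ⥤ DRing.Cx A := Ls l ⋙ tensorRight K
    let W' : ℕᵒᵖ ⥤ DRing.Cx A := Cs l ⋙ tensorRight K
    let w : W ⟶ W' := Functor.whiskerRight (as l) (tensorRight K)
    let u : (Gs f).prod W ⋙ T ⟶ (Gs f).prod W' ⋙ T :=
      Functor.whiskerRight (NatTrans.prod (𝟙 (Gs f)) w) T
    let v : (Gs f).prod W' ⋙ T ⟶ (Hs f).prod W' ⋙ T :=
      Functor.whiskerRight (NatTrans.prod (αs f) (𝟙 W')) T
    have h1 : ∀ p : ℕ, DerCA.IsProIso (Functor.whiskerLeft (Prod.sectR (op p) ℕᵒᵖ) u) := by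
      intro p
      have h0 := PI_tensorLeft ((Gs f).obj (op p)) (isKFlat_kos1 _) w IH
      refine PI_of_arrow_iso' _ _ (sectRIso (Gs f) W (op p)) (sectRIso (Gs f) W' (op p)) ?_ h0
      ext q
      change DerivedCategory.Q.map (NatTrans.app (𝟙 (Gs f)) (op p) ⊗ₘ w.app q) ≫ 𝟙 _ =
        𝟙 _ ≫ DerivedCategory.Q.map (_ ◁ w.app q)
      rw [Category.comp_id, Category.id_comp, NatTrans.id_app, MonoidalCategory.id_tensorHom]
    have h2 : ∀ q : ℕ, DerCA.IsProIso (Functor.whiskerLeft (Prod.sectL ℕᵒᵖ (op q)) v) := by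
      intro q
      have hE : BF a b (W'.obj (op q)) := BF_Cs l K a b hK (op q)
      obtain ⟨c, hc⟩ := exists_torsion_bound f (W'.obj (op q)) a b hE
      have h0 := single_gen_tensor f (W'.obj (op q)) c hc
      refine PI_of_arrow_iso' _ _ (sectLIso (Gs f) W' (op q)) (sectLIso (Hs f) W' (op q)) ?_ h0
      ext p
      change DerivedCategory.Q.map ((αs f).app p ⊗ₘ NatTrans.app (𝟙 W') (op q)) ≫ 𝟙 _ =
        𝟙 _ ≫ DerivedCategory.Q.map ((αs f).app p ▷ _)
      rw [Category.comp_id, Category.id_comp, NatTrans.id_app, MonoidalCategory.tensorHom_id]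
    have h3 := PI_diag u v h1 h2
    refine PI_of_arrow_iso _ _ (diagIso (Gs f) (Ls l) K) (diagIso (Hs f) (Cs l) K) ?_ h3
    ext n
    change (DerivedCategory.Q.map (NatTrans.app (𝟙 (Gs f)) n ⊗ₘ w.app n) ≫
      DerivedCategory.Q.map ((αs f).app n ⊗ₘ NatTrans.app (𝟙 W') n)) ≫
        DerivedCategory.Q.map (α_ _ _ _).inv =
      DerivedCategory.Q.map (α_ _ _ _).inv ≫
        DerivedCategory.Q.map (((αs f).app n ⊗ₘ (as l).app n) ▷ K)
    rw [← Functor.map_comp, ← Functor.map_comp, ← Functor.map_comp]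
    congr 1
    rw [NatTrans.id_app, NatTrans.id_app, MonoidalCategory.tensorHom_comp_tensorHom, Category.id_comp,
      Category.comp_id, ← MonoidalCategory.tensorHom_id]
    have hw : w.app n = (as l).app n ⊗ₘ 𝟙 K := (MonoidalCategory.tensorHom_id _ _).symm
    rw [hw, MonoidalCategory.associator_inv_naturality]

end Groth.Agent.Lib.Helper88.Pro7
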