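import Groth.Agent.Lib.Helper88.Pro7

/-!
# helper88: comparison of the iterated quotient system with the adic system
-/

set_option autoImplicit false
set_option maxHeartbeats 1000000
universe u

open CategoryTheory CategoryTheory.Limits Opposite CochainComplex HomComplex MonoidalCategory TensorProduct

attribute [local instance] HasDerivedCategory.standard

namespace Groth.Agent.Lib.Helper88.Pro8

open Groth.Agent.Lib.Helper55.ProSys Groth.Agent.Lib.Helper88.Pro1 Groth.Agent.Lib.Helper88.Pro2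
  Groth.Agent.Lib.Helper88.Pro3 Groth.Agent.Lib.Helper88.Pro4 Groth.Agent.Lib.Helper88.Pro5
  Groth.Agent.Lib.Helper88.Pro6
open Groth.Agent.Lib.Helper25.TensorCx

section LemmaQ

variable {𝒜 : Type*} [Category 𝒜] [Abelian 𝒜]

theorem PI_of_quotients (K : 𝒜) (T U : ℕᵒᵖ ⥤ 𝒜) (πT : ∀ n : ℕ, K ⟶ T.obj (op n))
    (πU : ∀ n : ℕ, K ⟶ U.obj (op n)) (hTe : ∀ n, Epi (πT n)) (hUe : ∀ n, Epi (πU n))
    (hT : ∀ (n m : ℕ) (h : n ≤ m), πT m ≫ ARSys.tr T h = πT n)
    (hU : ∀ (n m : ℕ) (h : n ≤ m), πU m ≫ ARSys.tr U h = πU n)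
    (a : T ⟶ U) (ha : ∀ n, πT n ≫ a.app (op n) = πU n)
    (hker : ∀ n : ℕ, ∃ m : ℕ, n ≤ m ∧ kernel.ι (πU m) ≫ πT n = 0) : DerCA.IsProIso a := by
  intro n
  obtain ⟨m, hnm, hk⟩ := hker n
  haveI := hUe m
  haveI := hTe m
  refine ⟨m, hnm, Abelian.epiDesc (πU m) (πT n) hk, ?_, ?_⟩
  · rw [← cancel_epi (πT m), reassoc_of% (ha m), Abelian.comp_epiDesc, hT n m hnm]
  · rw [← cancel_epi (πU m), Abelian.comp_epiDesc_assoc, ha n, hU n m hnm]

end LemmaQ

variable {A : Type u} [CommRing A]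

/-- the ideal `(f^{n+1} : f ∈ l)` -/
noncomputable def Jl : List A → ℕ → Ideal A
  | [], _ => ⊥
  | f :: l, n => Ideal.span {f ^ (n + 1)} ⊔ Jl l n

lemma Jl_le (I : Ideal A) (l : List A) (hl : ∀ f ∈ l, f ∈ I) (n : ℕ) : Jl l n ≤ I ^ (n + 1) := by
  induction l with
  | nil => exact bot_le
  | cons f l ih =>
    refine sup_le ?_ (ih (fun g hg => hl g (List.mem_cons_of_mem _ hg)))
    rw [Ideal.span_singleton_le_iff_mem]
    exact Ideal.pow_mem_pow (hl f List.mem_cons_self) _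

lemma pow_mem_Jl (l : List A) (n : ℕ) (f : A) (hf : f ∈ l) : f ^ (n + 1) ∈ Jl l n := by
  induction l with
  | nil => simp at hf
  | cons g l ih =>
    rcases List.mem_cons.1 hf with rfl | h
    · exact Ideal.mem_sup_left (Ideal.mem_span_singleton_self _)
    · exact Ideal.mem_sup_right (ih h)

lemma exists_pow_le_Jl [IsNoetherianRing A] (l : List A) (n : ℕ) :
    ∃ k : ℕ, (Ideal.span {x | x ∈ l}) ^ k ≤ Jl l n := by
  apply Ideal.exists_pow_le_of_le_radical_of_fg
  · rw [Ideal.span_le]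
    intro f hf
    exact ⟨n + 1, pow_mem_Jl l n f hf⟩
  · exact (isNoetherianRing_iff_ideal_fg A).1 inferInstance _

lemma πq_natural (f : A) {n m : ℕ} (h : m ≤ n) {C C' : DRing.Cx A} (c : C ⟶ C') :
    πq (f ^ (n + 1)) C ≫
      (sg.map (ModuleCat.ofHom (Submodule.factor (span_pow_le f h))) ⊗ₘ c) =
      c ≫ πq (f ^ (m + 1)) C' := by
  unfold πq
  rw [Category.assoc, MonoidalCategory.tensorHom_def, ← MonoidalCategory.comp_whiskerRight_assoc,
    η_factor f h, ← MonoidalCategory.whisker_exchange,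
    MonoidalCategory.leftUnitor_inv_naturality_assoc]

/-- the projections `A[0] → C^l_n` -/
noncomputable def πTs : (l : List A) → ((Functor.const ℕᵒᵖ).obj (𝟙_ (DRing.Cx A)) ⟶ Cs l)
  | [] => 𝟙 _
  | f :: l =>
    { app := fun n => (πTs l).app n ≫ πq (f ^ (n.unop + 1)) ((Cs l).obj n)
      naturality := by
        intro n m g
        have h0 : (πTs l).app m = (πTs l).app n ≫ (Cs l).map g :=
          (Category.id_comp _).symm.trans ((πTs l).naturality g)
        have h1 := πq_natural f (leOfHom g.unop) ((Cs l).map g)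
        refine (Category.id_comp _).trans ?_
        refine (congrArg (fun t => t ≫ πq (f ^ (m.unop + 1)) ((Cs l).obj m)) h0).trans ?_
        refine (Category.assoc _ _ _).trans ?_
        refine (congrArg (fun t => (πTs l).app n ≫ t) h1.symm).trans ?_
        exact (Category.assoc _ _ _).symm }

lemma πTs_cons_app (f : A) (l : List A) (n : ℕᵒᵖ) :
    (πTs (f :: l)).app n = (πTs l).app n ≫ πq (f ^ (n.unop + 1)) ((Cs l).obj n) := rfl

lemma πTs_surjective (l : List A) (n : ℕᵒᵖ) (i : ℤ) :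
    Function.Surjective (((πTs l).app n).f i).hom := by
  induction l with
  | nil => exact fun y => ⟨y, rfl⟩
  | cons f l ih =>
    intro y
    obtain ⟨z, hz⟩ := πq_surjective (f ^ (n.unop + 1)) ((Cs l).obj n) i y
    obtain ⟨x, hx⟩ := ih z
    refine ⟨x, ?_⟩
    rw [πTs_cons_app]
    change ((πq _ _).f i).hom ((((πTs l).app n).f i).hom x) = y
    rw [hx, hz]

lemma πTs_eq_zero_iff (l : List A) (n : ℕᵒᵖ) (i : ℤ) (x : (𝟙_ (DRing.Cx A)).X i) :
    (((πTs l).app n).f i).hom x = 0 ↔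
      x ∈ Jl l n.unop • (⊤ : Submodule A ((𝟙_ (DRing.Cx A)).X i)) := by
  induction l generalizing x with
  | nil =>
    change x = 0 ↔ x ∈ (⊥ : Ideal A) • (⊤ : Submodule A ((𝟙_ (DRing.Cx A)).X i))
    rw [Submodule.bot_smul, Submodule.mem_bot]
  | cons f l ih =>
    rw [πTs_cons_app]
    change ((πq _ _).f i).hom ((((πTs l).app n).f i).hom x) = 0 ↔ _
    rw [πq_eq_zero_iff]
    change _ ↔ x ∈ (Ideal.span {f ^ (n.unop + 1)} ⊔ Jl l n.unop) • _
    rw [Submodule.sup_smul, Submodule.mem_sup]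
    constructor
    · rintro ⟨y, hy⟩
      obtain ⟨(z : (𝟙_ (DRing.Cx A)).X i), rfl⟩ := πTs_surjective l n i y
      refine ⟨f ^ (n.unop + 1) • z, ?_, x - f ^ (n.unop + 1) • z, ?_, by abel⟩
      · exact Submodule.smul_mem_smul (Ideal.mem_span_singleton_self _) trivial
      · rw [← ih, map_sub, map_smul, hy, sub_self]
    · rintro ⟨u, hu, v, hv, rfl⟩
      rw [Submodule.ideal_span_singleton_smul, Submodule.mem_smul_pointwise_iff_exists] at hu
      obtain ⟨z, -, rfl⟩ := hu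
      refine ⟨(((πTs l).app n).f i).hom z, ?_⟩
      rw [map_add, map_smul, (ih v).2 hv, add_zero]

end Groth.Agent.Lib.Helper88.Pro8
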