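import Groth.Agent.Lib.Helper88.Pro8
import Groth.Prelude.Def_ega3

/-!
# helper88: comparison of the iterated quotient system with the adic system (II)
-/

set_option autoImplicit false
set_option maxHeartbeats 1000000
universe u

open CategoryTheory CategoryTheory.Limits Opposite CochainComplex HomComplex MonoidalCategory TensorProduct

attribute [local instance] HasDerivedCategory.standard

namespace Groth.Agent.Lib.Helper88.Pro9

open Groth.Agent.Lib.Helper55.ProSys Groth.Agent.Lib.Helper88.Pro1 Groth.Agent.Lib.Helper88.Pro2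
  Groth.Agent.Lib.Helper88.Pro3 Groth.Agent.Lib.Helper88.Pro4 Groth.Agent.Lib.Helper88.Pro5
  Groth.Agent.Lib.Helper88.Pro6 Groth.Agent.Lib.Helper88.Pro8
open Groth.Agent.Lib.Helper25.TensorCx

variable {A : Type u} [CommRing A] (I : Ideal A)

/-- the adic system of complexes -/
noncomputable abbrev Ssys : ℕᵒᵖ ⥤ DRing.Cx A := CohIII.adicSystem I (ModuleCat.of A A) ⋙ sg

lemma adic_step (n : ℕ) :
    (CohIII.adicSystem I (ModuleCat.of A A)).map (homOfLE (n.le_add_right 1)).op =
      ModuleCat.ofHom (Submodule.factor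
        (Submodule.smul_mono_left (Ideal.pow_le_pow_right (Nat.le_succ (n + 1))))) := by
  unfold CohIII.adicSystem
  exact Functor.ofOpSequence_map_homOfLE_succ _ n

noncomputable def πUm :
    (Functor.const ℕᵒᵖ).obj (ModuleCat.of A A) ⟶ CohIII.adicSystem I (ModuleCat.of A A) :=
  NatTrans.ofOpSequence
    (fun n => ModuleCat.ofHom (Submodule.mkQ (I ^ (n + 1) • (⊤ : Submodule A A))))
    (fun n => by
      refine (Category.id_comp _).trans ?_
      rw [adic_step]
      rfl)

/-- the projections `A[0] → (A/I^{n+1})[0]` -/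
noncomputable def πU (n : ℕᵒᵖ) : 𝟙_ (DRing.Cx A) ⟶ (Ssys I).obj n := sg.map ((πUm I).app n)

lemma πU_natural {n m : ℕᵒᵖ} (g : n ⟶ m) : πU I n ≫ (Ssys I).map g = πU I m := by
  unfold πU
  change sg.map _ ≫ sg.map _ = _
  rw [← Functor.map_comp, ← (πUm I).naturality g]
  congr 1

lemma mem_smul_top_self (J : Ideal A) (a : A) : a ∈ J • (⊤ : Submodule A A) ↔ a ∈ J := by
  constructor
  · intro h
    refine Submodule.smul_induction_on h (fun r hr z _ => ?_) (fun x y hx hy => J.add_mem hx hy)
    exact J.mul_mem_right _ hr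
  · intro h
    have : a • (1 : A) ∈ J • (⊤ : Submodule A A) := Submodule.smul_mem_smul h trivial
    have e : a • (1 : A) = a := by rw [smul_eq_mul, mul_one]
    rwa [e] at this

lemma mem_smul_top_unit (J : Ideal A) (x : (𝟙_ (DRing.Cx A)).X 0) :
    x ∈ J • (⊤ : Submodule A ((𝟙_ (DRing.Cx A)).X 0)) ↔ unitCoord A x ∈ J := by
  constructor
  · intro h
    refine Submodule.smul_induction_on h (fun r hr z _ => ?_) (fun x y hx hy => ?_)
    · rw [map_smul]
      exact J.mul_mem_right _ hr
    · rw [map_add]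
      exact J.add_mem hx hy
  · intro h
    rw [← unitCoord_smul_unitElt x]
    exact Submodule.smul_mem_smul h trivial

lemma πU_apply (n : ℕ) (x : (𝟙_ (DRing.Cx A)).X 0) :
    ((πU I (op n)).f 0).hom x =
      (HomologicalComplex.singleObjXSelf (ComplexShape.up ℤ) 0
        ((CohIII.adicSystem I (ModuleCat.of A A)).obj (op n))).inv
        (Submodule.Quotient.mk (unitCoord A x)) := by
  unfold πU
  rw [HomologicalComplex.single_map_f_self]
  rfl

lemma singleObjXSelf_inv_eq_zero (M : ModuleCat.{u} A) (y : M)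
    (h : (HomologicalComplex.singleObjXSelf (ComplexShape.up ℤ) 0 M).inv y = 0) : y = 0 := by
  have h1 : (HomologicalComplex.singleObjXSelf (ComplexShape.up ℤ) 0 M).hom
      ((HomologicalComplex.singleObjXSelf (ComplexShape.up ℤ) 0 M).inv y) = y := by
    change ((HomologicalComplex.singleObjXSelf (ComplexShape.up ℤ) 0 M).inv ≫
      (HomologicalComplex.singleObjXSelf (ComplexShape.up ℤ) 0 M).hom) y = y
    rw [Iso.inv_hom_id]
    rfl
  rw [← h1, h, map_zero]

lemma πU_eq_zero_iff (n : ℕ) (x : (𝟙_ (DRing.Cx A)).X 0) :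
    ((πU I (op n)).f 0).hom x = 0 ↔ unitCoord A x ∈ I ^ (n + 1) := by
  rw [πU_apply]
  constructor
  · intro h
    have h1 : (Submodule.Quotient.mk (unitCoord A x) :
        A ⧸ (I ^ (n + 1) • (⊤ : Submodule A A))) = 0 := singleObjXSelf_inv_eq_zero _ _ h
    rw [Submodule.Quotient.mk_eq_zero] at h1
    exact (mem_smul_top_self _ _).1 h1
  · intro h
    have h1 : (Submodule.Quotient.mk (unitCoord A x) :
        A ⧸ (I ^ (n + 1) • (⊤ : Submodule A A))) = 0 := by
      rw [Submodule.Quotient.mk_eq_zero]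
      exact (mem_smul_top_self _ _).2 h
    exact (congrArg (fun y => (ConcreteCategory.hom
      (HomologicalComplex.singleObjXSelf (ComplexShape.up ℤ) 0
        ((CohIII.adicSystem I (ModuleCat.of A A)).obj (op n))).inv) y) h1).trans (map_zero _)

instance (n : ℕᵒᵖ) : Epi (πU I n) := by
  apply HomologicalComplex.epi_of_epi_f
  intro i
  by_cases hi : i = 0
  · subst hi
    unfold πU
    rw [HomologicalComplex.single_map_f_self]
    haveI : Epi ((πUm I).app n) := (ModuleCat.epi_iff_surjective _).2 (Submodule.mkQ_surjective _)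
    infer_instance
  · have hz : IsZero (((Ssys I).obj n).X i) :=
      HomologicalComplex.isZero_single_obj_X (ComplexShape.up ℤ) 0 _ i hi
    exact ⟨fun g h _ => hz.eq_of_src g h⟩

instance (l : List A) (n : ℕᵒᵖ) : Epi ((πTs l).app n) :=
  HomologicalComplex.epi_of_epi_f _ (fun i => (ModuleCat.epi_iff_surjective _).2
    (πTs_surjective l n i))

section Compare

variable (l : List A)

lemma ker_πT_πU (hl : ∀ f ∈ l, f ∈ I) (n : ℕ) :
    kernel.ι ((πTs l).app (op n)) ≫ πU I (op n) = 0 := by
  ext i z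
  have h0 : (((kernel.ι ((πTs l).app (op n)) ≫ (πTs l).app (op n)).f i).hom) z = 0 := by
    rw [kernel.condition]
    rfl
  change ((πU I (op n)).f i).hom (((kernel.ι ((πTs l).app (op n))).f i).hom z) = 0
  by_cases hi : i = 0
  · subst hi
    rw [πU_eq_zero_iff]
    have h1 := (πTs_eq_zero_iff l (op n) 0 _).1 h0
    exact Jl_le I l hl n ((mem_smul_top_unit _ _).1 h1)
  · rw [unit_eq_zero i hi (((kernel.ι ((πTs l).app (op n))).f i).hom z), map_zero]

lemma ker_πU_πT (n m : ℕ) (h : I ^ (m + 1) ≤ Jl l n) :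
    kernel.ι (πU I (op m)) ≫ (πTs l).app (op n) = 0 := by
  ext i z
  have h0 : (((kernel.ι (πU I (op m)) ≫ πU I (op m)).f i).hom) z = 0 := by
    rw [kernel.condition]
    rfl
  change (((πTs l).app (op n)).f i).hom (((kernel.ι (πU I (op m))).f i).hom z) = 0
  by_cases hi : i = 0
  · subst hi
    rw [πTs_eq_zero_iff, mem_smul_top_unit]
    exact h ((πU_eq_zero_iff I m _).1 h0)
  · rw [unit_eq_zero i hi (((kernel.ι (πU I (op m))).f i).hom z), map_zero]

/-- the comparison map -/
noncomputable def cmp (hl : ∀ f ∈ l, f ∈ I) : Cs l ⟶ Ssys I where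
  app n := Abelian.epiDesc ((πTs l).app n) (πU I n) (ker_πT_πU I l hl n.unop)
  naturality {n m} g := by
    rw [← cancel_epi ((πTs l).app n)]
    have h0 : (πTs l).app m = (πTs l).app n ≫ (Cs l).map g :=
      (Category.id_comp _).symm.trans ((πTs l).naturality g)
    rw [← Category.assoc, ← h0, Abelian.comp_epiDesc, Abelian.comp_epiDesc_assoc, πU_natural]

lemma πT_cmp (hl : ∀ f ∈ l, f ∈ I) (n : ℕᵒᵖ) :
    (πTs l).app n ≫ (cmp I l hl).app n = πU I n := Abelian.comp_epiDesc _ _ _

theorem PI_cmp [IsNoetherianRing A] (hl : ∀ f ∈ l, f ∈ I) (hI : Ideal.span {x | x ∈ l} = I) :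
    DerCA.IsProIso (cmp I l hl) := by
  refine PI_of_quotients (𝟙_ (DRing.Cx A)) (Cs l) (Ssys I) (fun n => (πTs l).app (op n))
    (fun n => πU I (op n)) (fun n => inferInstance) (fun n => inferInstance) ?_ ?_ _
    (fun n => πT_cmp I l hl (op n)) ?_
  · intro n m h
    exact ((Category.id_comp _).symm.trans ((πTs l).naturality (homOfLE h).op)).symm
  · intro n m h
    exact πU_natural I (homOfLE h).op
  · intro n
    obtain ⟨k, hk⟩ := exists_pow_le_Jl l n
    rw [hI] at hk
    refine ⟨max n k, le_max_left _ _, ker_πU_πT I l n (max n k) ?_⟩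
    exact (Ideal.pow_le_pow_right (by have := le_max_right n k; omega)).trans hk

end Compare

end Groth.Agent.Lib.Helper88.Pro9
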