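import Groth.Agent.Lib.Helper25.DCompRefl

/-!
# Reflection arrows: isomorphism invariance, shifts, morphisms of distinguished triangles
-/

set_option autoImplicit false

namespace Groth.Agent.Lib.Helper88.RL1

open CategoryTheory CategoryTheory.Limits CategoryTheory.Pretriangulated
open Groth.Agent.Lib.Helper25.DCompRefl

variable {C : Type*} [Category C]

/-- reflection arrows are invariant under isomorphisms of arrows -/
theorem isRefl_of_sq {P : ObjectProperty C} {X X' Y Y' : C} (u : X ⟶ X') (v : Y ⟶ Y')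
    (e : X ≅ Y) (e' : X' ≅ Y') (comm : u ≫ e'.hom = e.hom ≫ v) (hu : IsRefl P u) :
    IsRefl P v := by
  intro E hE
  have hv : v = e.inv ≫ u ≫ e'.hom := by rw [comm, Iso.inv_hom_id_assoc]
  constructor
  · intro a b hab
    have hab' : v ≫ a = v ≫ b := hab
    have h1 : u ≫ (e'.hom ≫ a) = u ≫ (e'.hom ≫ b) := by
      rw [← Category.assoc, ← Category.assoc, comm, Category.assoc, Category.assoc, hab']
    have h2 := (hu E hE).injective h1
    exact (cancel_epi e'.hom).1 h2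
  · intro g
    obtain ⟨φ, hφ⟩ := (hu E hE).surjective (e.hom ≫ g)
    have hφ' : u ≫ φ = e.hom ≫ g := hφ
    refine ⟨e'.inv ≫ φ, ?_⟩
    change v ≫ e'.inv ≫ φ = g
    rw [hv, Category.assoc, Category.assoc, Iso.hom_inv_id_assoc, hφ', Iso.inv_hom_id_assoc]

section Shift

variable [Preadditive C] [HasShift C ℤ] [∀ n : ℤ, (shiftFunctor C n).Additive]

/-- reflection arrows are stable under shifts -/
theorem isRefl_shift {P : ObjectProperty C} (n : ℤ) (hP : ∀ E, P E → P (E⟦-n⟧))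
    {X X' : C} {u : X ⟶ X'} (hu : IsRefl P u) : IsRefl P (u⟦n⟧') := by
  intro E hE
  let i : E ≅ (E⟦-n⟧)⟦n⟧ := (shiftFunctorCompIsoId C (-n) n (by omega)).symm.app E
  have hb := hu (E⟦-n⟧) (hP E hE)
  constructor
  · intro a b hab
    have hab' : u⟦n⟧' ≫ a = u⟦n⟧' ≫ b := hab
    obtain ⟨a', ha'⟩ := (shiftFunctor C n).map_surjective (a ≫ i.hom)
    obtain ⟨b', hb'⟩ := (shiftFunctor C n).map_surjective (b ≫ i.hom)
    have h1 : u ≫ a' = u ≫ b' := by
      apply (shiftFunctor C n).map_injective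
      rw [Functor.map_comp, Functor.map_comp, ha', hb', ← Category.assoc, ← Category.assoc, hab']
    have h2 : a' = b' := hb.injective h1
    have h3 : a ≫ i.hom = b ≫ i.hom := by rw [← ha', ← hb', h2]
    exact (cancel_mono i.hom).1 h3
  · intro g
    obtain ⟨g', hg'⟩ := (shiftFunctor C n).map_surjective (g ≫ i.hom)
    obtain ⟨φ, hφ⟩ := hb.surjective g'
    have hφ' : u ≫ φ = g' := hφ
    refine ⟨φ⟦n⟧' ≫ i.inv, ?_⟩
    change u⟦n⟧' ≫ φ⟦n⟧' ≫ i.inv = g
    rw [← Category.assoc, ← Functor.map_comp, hφ', hg', Category.assoc, Iso.hom_inv_id,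
      Category.comp_id]

/-- reflection arrows can be unshifted -/
theorem isRefl_of_shift {P : ObjectProperty C} (n : ℤ) (hP : ∀ E, P E → P (E⟦n⟧))
    {X X' : C} {u : X ⟶ X'} (hu : IsRefl P (u⟦n⟧')) : IsRefl P u := by
  intro E hE
  have hb := hu (E⟦n⟧) (hP E hE)
  constructor
  · intro a b hab
    have hab' : u ≫ a = u ≫ b := hab
    have h1 : u⟦n⟧' ≫ a⟦n⟧' = u⟦n⟧' ≫ b⟦n⟧' := by
      rw [← Functor.map_comp, ← Functor.map_comp, hab']
    exact (shiftFunctor C n).map_injective (hb.injective h1)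
  · intro g
    obtain ⟨φ', hφ'⟩ := hb.surjective (g⟦n⟧')
    have hφ'' : u⟦n⟧' ≫ φ' = g⟦n⟧' := hφ'
    obtain ⟨φ, rfl⟩ := (shiftFunctor C n).map_surjective φ'
    refine ⟨φ, ?_⟩
    apply (shiftFunctor C n).map_injective
    change (u ≫ φ)⟦n⟧' = g⟦n⟧'
    rw [Functor.map_comp, hφ'']

end Shift

section Tri

variable [Preadditive C] [HasZeroObject C] [HasShift C ℤ]
  [∀ n : ℤ, (shiftFunctor C n).Additive] [Pretriangulated C]

/-- For a morphism of distinguished triangles whose first two components are reflection arrows,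
the third component is a reflection arrow. -/
theorem isRefl_hom₃ {P : ObjectProperty C} (hP : ∀ E, P E → P (E⟦(-1 : ℤ)⟧))
    {T T' : Triangle C} (hT : T ∈ distTriang C) (hT' : T' ∈ distTriang C) (φ : T ⟶ T')
    (h₁ : IsRefl P φ.hom₁) (h₂ : IsRefl P φ.hom₂) : IsRefl P φ.hom₃ := by
  have comm : T.mor₁ ≫ φ.hom₂ = φ.hom₁ ≫ T'.mor₁ := φ.comm₁
  have hm₁ : T.mor₂ ≫ φ.hom₃ = φ.hom₂ ≫ T'.mor₂ := φ.comm₂
  have hm₂ : T.mor₃ ≫ φ.hom₁⟦(1 : ℤ)⟧' = φ.hom₃ ≫ T'.mor₃ := φ.comm₃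
  have h₁s := h₁.shift_one hP
  have h₂s := h₂.shift_one hP
  intro E hE
  constructor
  · intro a b hab
    have hab' : φ.hom₃ ≫ a = φ.hom₃ ≫ b := hab
    have h0 : φ.hom₃ ≫ (a - b) = 0 := by
      rw [Preadditive.comp_sub]
      exact sub_eq_zero.2 hab'
    have h1 : T'.mor₂ ≫ (a - b) = 0 := by
      apply (h₂ E hE).injective
      change φ.hom₂ ≫ T'.mor₂ ≫ (a - b) = φ.hom₂ ≫ 0
      rw [← Category.assoc, ← hm₁, Category.assoc, h0, comp_zero, comp_zero]
    obtain ⟨h', hh'⟩ := Triangle.yoneda_exact₃ T' hT' (a - b) h1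
    have h2 : T.mor₃ ≫ (φ.hom₁⟦(1 : ℤ)⟧' ≫ h') = 0 := by
      rw [← Category.assoc, hm₂, Category.assoc, ← hh', h0]
    obtain ⟨k, hk⟩ := Triangle.yoneda_exact₃ T.rotate (rot_of_distTriang _ hT) _ h2
    have hk' : φ.hom₁⟦(1 : ℤ)⟧' ≫ h' = (-T.mor₁⟦(1 : ℤ)⟧') ≫ k := hk
    obtain ⟨k', hk''⟩ := (h₂s E hE).surjective k
    have hk''' : φ.hom₂⟦(1 : ℤ)⟧' ≫ k' = k := hk''
    have h3 : h' = (-T'.mor₁⟦(1 : ℤ)⟧') ≫ k' := by
      apply (h₁s E hE).injective
      change φ.hom₁⟦(1 : ℤ)⟧' ≫ h' = φ.hom₁⟦(1 : ℤ)⟧' ≫ ((-T'.mor₁⟦(1 : ℤ)⟧') ≫ k')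
      rw [hk', ← hk''', Preadditive.neg_comp, Preadditive.neg_comp, Preadditive.comp_neg,
        ← Category.assoc, ← Functor.map_comp, comm, Functor.map_comp, Category.assoc]
    have h4 : a - b = 0 := by
      rw [hh', h3, Preadditive.neg_comp, Preadditive.comp_neg, ← Category.assoc,
        comp_distTriang_mor_zero₃₁ T' hT', zero_comp, neg_zero]
    exact sub_eq_zero.1 h4
  · intro g
    obtain ⟨gL, hgL⟩ := (h₂ E hE).surjective (T.mor₂ ≫ g)
    have hgL' : φ.hom₂ ≫ gL = T.mor₂ ≫ g := hgL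
    have h1 : T'.mor₁ ≫ gL = 0 := by
      apply (h₁ E hE).injective
      change φ.hom₁ ≫ T'.mor₁ ≫ gL = φ.hom₁ ≫ 0
      rw [← Category.assoc, ← comm, Category.assoc, hgL', ← Category.assoc,
        comp_distTriang_mor_zero₁₂ T hT, zero_comp, comp_zero]
    obtain ⟨g', hg'⟩ := Triangle.yoneda_exact₂ T' hT' gL h1
    have h2 : T.mor₂ ≫ (φ.hom₃ ≫ g' - g) = 0 := by
      rw [Preadditive.comp_sub, ← Category.assoc, hm₁, Category.assoc, ← hg', hgL', sub_self]
    obtain ⟨h, hh⟩ := Triangle.yoneda_exact₃ T hT _ h2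
    obtain ⟨h', hh'⟩ := (h₁s E hE).surjective h
    have hh'' : φ.hom₁⟦(1 : ℤ)⟧' ≫ h' = h := hh'
    refine ⟨g' - T'.mor₃ ≫ h', ?_⟩
    change φ.hom₃ ≫ (g' - T'.mor₃ ≫ h') = g
    rw [Preadditive.comp_sub, ← Category.assoc, ← hm₂, Category.assoc, hh'', ← hh]
    abel

/-- For a morphism of distinguished triangles whose first and third components are reflection
arrows, the second component is a reflection arrow. -/
theorem isRefl_hom₂ {P : ObjectProperty C} (hP : ∀ E, P E → P (E⟦(-1 : ℤ)⟧))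
    (hP' : ∀ E, P E → P (E⟦(1 : ℤ)⟧))
    {T T' : Triangle C} (hT : T ∈ distTriang C) (hT' : T' ∈ distTriang C) (φ : T ⟶ T')
    (h₁ : IsRefl P φ.hom₁) (h₃ : IsRefl P φ.hom₃) : IsRefl P φ.hom₂ := by
  let ψ : T.rotate.rotate ⟶ T'.rotate.rotate := (rotate C).map ((rotate C).map φ)
  have hψ := isRefl_hom₃ hP (rot_of_distTriang _ (rot_of_distTriang _ hT))
    (rot_of_distTriang _ (rot_of_distTriang _ hT')) ψ h₃ (h₁.shift_one hP)
  exact isRefl_of_shift 1 hP' hψ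

end Tri

end Groth.Agent.Lib.Helper88.RL1
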