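import Mathlib

/-!
# The functors `N ↦ N / I^n N` and `N ↦ N^` (adic completion) on `ModuleCat A`
-/

set_option autoImplicit false
universe u

namespace Groth.Agent.Lib.Helper88.RL2

open CategoryTheory

variable {A : Type u} [CommRing A] (I : Ideal A)

/-- `N ↦ N / I^n N` -/
noncomputable def quotF (n : ℕ) : ModuleCat.{u} A ⥤ ModuleCat.{u} A where
  obj N := ModuleCat.of A (N ⧸ (I ^ n • ⊤ : Submodule A N))
  map {N N'} f := ModuleCat.ofHom (Submodule.mapQ _ _ f.hom
    (Submodule.smul_top_le_comap_smul_top (I ^ n) f.hom))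
  map_id N := by
    refine ModuleCat.hom_ext (LinearMap.ext fun x => ?_)
    obtain ⟨y, rfl⟩ := Submodule.Quotient.mk_surjective _ x
    rfl
  map_comp f g := by
    refine ModuleCat.hom_ext (LinearMap.ext fun x => ?_)
    obtain ⟨y, rfl⟩ := Submodule.Quotient.mk_surjective _ x
    rfl

instance (n : ℕ) : (quotF I n).Additive where
  map_add {N N' f g} := by
    refine ModuleCat.hom_ext (LinearMap.ext fun x => ?_)
    obtain ⟨y, rfl⟩ := Submodule.Quotient.mk_surjective _ x
    rfl

theorem quotF_map_mk (n : ℕ) {N N' : ModuleCat.{u} A} (f : N ⟶ N') (y : N) :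
    ((quotF I n).map f).hom (Submodule.Quotient.mk y) = Submodule.Quotient.mk (f.hom y) := rfl

/-- the transition maps `N / I^{n+1} N ⟶ N / I^n N` -/
noncomputable def tau (n : ℕ) : quotF I (n + 1) ⟶ quotF I n where
  app N := ModuleCat.ofHom (Submodule.mapQ (I ^ (n + 1) • ⊤ : Submodule A N)
    (I ^ n • ⊤ : Submodule A N) LinearMap.id
    (Submodule.smul_mono (Ideal.pow_le_pow_right (Nat.le_succ n)) le_rfl))
  naturality N N' f := by
    refine ModuleCat.hom_ext (LinearMap.ext fun x => ?_)
    obtain ⟨y, rfl⟩ := Submodule.Quotient.mk_surjective _ x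
    rfl

theorem tau_app_mk (n : ℕ) (N : ModuleCat.{u} A) (y : N) :
    ((tau I n).app N).hom (Submodule.Quotient.mk y) = Submodule.Quotient.mk y := rfl

/-- the quotient maps `N ⟶ N / I^n N` -/
noncomputable def piq (n : ℕ) : 𝟭 (ModuleCat.{u} A) ⟶ quotF I n where
  app N := ModuleCat.ofHom (Submodule.mkQ _)
  naturality N N' f := rfl

/-- `N ↦ N^` -/
noncomputable def adicF : ModuleCat.{u} A ⥤ ModuleCat.{u} A where
  obj N := ModuleCat.of A (AdicCompletion I N)
  map {N N'} f := ModuleCat.ofHom ((AdicCompletion.map I f.hom).restrictScalars A)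
  map_id N := by
    refine ModuleCat.hom_ext (LinearMap.ext fun x => ?_)
    change AdicCompletion.map I (LinearMap.id) x = x
    rw [AdicCompletion.map_id]
    rfl
  map_comp {N N' N''} f g := by
    refine ModuleCat.hom_ext (LinearMap.ext fun x => ?_)
    change AdicCompletion.map I (g.hom ∘ₗ f.hom) x =
      AdicCompletion.map I g.hom (AdicCompletion.map I f.hom x)
    rw [AdicCompletion.map_comp_apply]

theorem adicF_map_val (n : ℕ) {N N' : ModuleCat.{u} A} (f : N ⟶ N') (x : AdicCompletion I N) :
    (((adicF I).map f).hom x : AdicCompletion I N').val n =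
      ((quotF I n).map f).hom (x.val n) := by
  change (AdicCompletion.map I f.hom x).val n = _
  rw [AdicCompletion.map_val_apply]
  obtain ⟨y, hy⟩ := Submodule.Quotient.mk_surjective _ (x.val n)
  rw [← hy]
  rfl

instance : (adicF I).Additive where
  map_add {N N' f g} := by
    refine ModuleCat.hom_ext (LinearMap.ext fun x => ?_)
    apply AdicCompletion.ext
    intro n
    have h1 := adicF_map_val I n (f + g) x
    have h2 := adicF_map_val I n f x
    have h3 := adicF_map_val I n g x
    refine h1.trans ?_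
    rw [Functor.map_add]
    exact congrArg₂ (· + ·) h2.symm h3.symm

/-- the completion maps `N ⟶ N^` -/
noncomputable def alpha : 𝟭 (ModuleCat.{u} A) ⟶ adicF I where
  app N := ModuleCat.ofHom (AdicCompletion.of I N)
  naturality N N' f := by
    refine ModuleCat.hom_ext (LinearMap.ext fun x => ?_)
    exact (AdicCompletion.map_of I f.hom x).symm

/-- the evaluation maps `N^ ⟶ N / I^n N` -/
noncomputable def ev (n : ℕ) : adicF I ⟶ quotF I n where
  app N := ModuleCat.ofHom (AdicCompletion.eval I N n)
  naturality N N' f := by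
    refine ModuleCat.hom_ext (LinearMap.ext fun x => ?_)
    exact adicF_map_val I n f x

theorem ev_app_apply (n : ℕ) (N : ModuleCat.{u} A) (x : AdicCompletion I N) :
    ((ev I n).app N).hom x = x.val n := rfl

theorem ev_tau (n : ℕ) : ev I (n + 1) ≫ tau I n = ev I n := by
  ext N : 2
  refine ModuleCat.hom_ext (LinearMap.ext fun x => ?_)
  exact AdicCompletion.transitionMap_comp_eval_apply I N (Nat.le_succ n) x

theorem alpha_ev (n : ℕ) : alpha I ≫ ev I n = piq I n := by
  ext N : 2
  refine ModuleCat.hom_ext (LinearMap.ext fun x => ?_)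
  exact AdicCompletion.eval_of I N n x

/-! ### The limit sequence `0 → N^ → ∏ N/I^n → ∏ N/I^n → 0` -/

variable (N : Type u) [AddCommGroup N] [Module A N]

/-- shorthand for the transition map -/
noncomputable abbrev tr (n : ℕ) : (N ⧸ (I ^ (n + 1) • ⊤ : Submodule A N)) →ₗ[A]
    (N ⧸ (I ^ n • ⊤ : Submodule A N)) :=
  Submodule.mapQ (I ^ (n + 1) • ⊤ : Submodule A N) (I ^ n • ⊤ : Submodule A N) LinearMap.id
    (Submodule.smul_mono (Ideal.pow_le_pow_right (Nat.le_succ n)) le_rfl)

theorem tr_surjective (n : ℕ) : Function.Surjective (tr I N n) := by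
  intro x
  obtain ⟨y, rfl⟩ := Submodule.Quotient.mk_surjective _ x
  exact ⟨Submodule.Quotient.mk y, rfl⟩

theorem tr_eq_transitionMap (n : ℕ) (x : N ⧸ (I ^ (n + 1) • ⊤ : Submodule A N)) :
    tr I N n x = AdicCompletion.transitionMap I N (Nat.le_succ n) x := by
  obtain ⟨y, rfl⟩ := Submodule.Quotient.mk_surjective _ x
  rfl

/-- a compatible family comes from the completion -/
theorem exists_of_compatible (y : ∀ n, N ⧸ (I ^ n • ⊤ : Submodule A N))
    (hy : ∀ n, tr I N n (y (n + 1)) = y n) :
    ∃ x : AdicCompletion I N, ∀ n, x.val n = y n := by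
  have key : ∀ (m k : ℕ),
      AdicCompletion.transitionMap I N (Nat.le_add_right m k) (y (m + k)) = y m := by
    intro m k
    induction k with
    | zero =>
      obtain ⟨z, hz⟩ := Submodule.Quotient.mk_surjective _ (y (m + 0))
      change AdicCompletion.transitionMap I N (Nat.le_add_right m 0) (y m) = y m
      obtain ⟨z, hz⟩ := Submodule.Quotient.mk_surjective _ (y m)
      rw [← hz]
      rfl
    | succ k ih =>
      have h1 := hy (m + k)
      rw [tr_eq_transitionMap] at h1
      rw [← ih, ← h1]
      obtain ⟨z, hz⟩ := Submodule.Quotient.mk_surjective _ (y (m + k + 1))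
      change AdicCompletion.transitionMap I N _ (y (m + k + 1)) = _
      rw [← hz]
      rfl
  refine ⟨⟨y, ?_⟩, fun n => rfl⟩
  intro m n hmn
  obtain ⟨k, rfl⟩ := Nat.exists_eq_add_of_le hmn
  exact key m k

/-- `1 - shift` is surjective on the product -/
theorem exists_sub_tr (z : ∀ n, N ⧸ (I ^ n • ⊤ : Submodule A N)) :
    ∃ y : ∀ n, N ⧸ (I ^ n • ⊤ : Submodule A N), ∀ n, y n - tr I N n (y (n + 1)) = z n := by
  let y : ∀ n, N ⧸ (I ^ n • ⊤ : Submodule A N) := fun n =>
    Nat.rec (motive := fun n => N ⧸ (I ^ n • ⊤ : Submodule A N)) 0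
      (fun n yn => Classical.choose (tr_surjective I N n (yn - z n))) n
  refine ⟨y, fun n => ?_⟩
  have h : tr I N n (y (n + 1)) = y n - z n :=
    Classical.choose_spec (tr_surjective I N n (y n - z n))
  rw [h]
  abel

end Groth.Agent.Lib.Helper88.RL2
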