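import Groth.Agent.Lib.Helper88.RL2
import Groth.Agent.Lib.Helper89.PiExact
import Groth.Prelude.Def_DCoh2
import Mathlib.Algebra.Homology.DerivedCategory.ShortExact

/-!
# The derived limit of the tower `X / I^n X` is the termwise completion
-/

set_option autoImplicit false
universe u

namespace Groth.Agent.Lib.Helper88.RL3

open CategoryTheory CategoryTheory.Limits CategoryTheory.Pretriangulated DerivedCategory
open Groth.Agent.Lib.Helper88.RL2

attribute [local instance] HasDerivedCategory.standard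

variable {A : Type u} [CommRing A]

/-- cochain complexes of `A`-modules -/
abbrev Cx (A : Type u) [CommRing A] := CochainComplex (ModuleCat.{u} A) ℤ

/-- product complex with pi-type terms -/
noncomputable def PiC (Z : ℕ → Cx A) : Cx A where
  X i := ModuleCat.of A (∀ n, (Z n).X i)
  d i j := ModuleCat.ofHom (LinearMap.pi fun n => ((Z n).d i j).hom ∘ₗ LinearMap.proj n)
  shape i j h := by
    refine ModuleCat.hom_ext (LinearMap.ext fun x => ?_)
    funext n
    change ((Z n).d i j).hom (x n) = 0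
    rw [(Z n).shape i j h]
    rfl
  d_comp_d' i j k _ _ := by
    refine ModuleCat.hom_ext (LinearMap.ext fun x => ?_)
    funext n
    exact congrArg (fun φ => φ.hom (x n)) ((Z n).d_comp_d i j k)

/-- projections -/
noncomputable def PiC.π (Z : ℕ → Cx A) (n : ℕ) : PiC Z ⟶ Z n where
  f i := ModuleCat.ofHom (LinearMap.proj n)
  comm' i j _ := ModuleCat.hom_ext (LinearMap.ext fun x => rfl)

/-- lift -/
noncomputable def PiC.lift (Z : ℕ → Cx A) {L : Cx A} (f : ∀ n, L ⟶ Z n) : L ⟶ PiC Z where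
  f i := ModuleCat.ofHom (LinearMap.pi fun n => ((f n).f i).hom)
  comm' i j _ := by
    refine ModuleCat.hom_ext (LinearMap.ext fun x => ?_)
    funext n
    exact congrArg (fun φ => φ.hom x) ((f n).comm i j)

theorem PiC.lift_π (Z : ℕ → Cx A) {L : Cx A} (f : ∀ n, L ⟶ Z n) (n : ℕ) :
    PiC.lift Z f ≫ PiC.π Z n = f n :=
  HomologicalComplex.hom_ext _ _ fun i => ModuleCat.hom_ext (LinearMap.ext fun x => rfl)

theorem PiC.lift_f_apply (Z : ℕ → Cx A) {L : Cx A} (f : ∀ n, L ⟶ Z n) (i : ℤ) (x : L.X i)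
    (n : ℕ) : (((PiC.lift Z f).f i).hom x : ∀ n, (Z n).X i) n = ((f n).f i).hom x := rfl

theorem PiC.hom_ext (Z : ℕ → Cx A) {L : Cx A} (a b : L ⟶ PiC Z)
    (h : ∀ n, a ≫ PiC.π Z n = b ≫ PiC.π Z n) : a = b := by
  refine HomologicalComplex.hom_ext _ _ fun i => ModuleCat.hom_ext (LinearMap.ext fun x => ?_)
  funext n
  exact congrArg (fun φ => (φ.f i).hom x) (h n)

/-- the product complex is a product -/
noncomputable def PiC.isLimit (Z : ℕ → Cx A) : IsLimit (Fan.mk (PiC Z) (PiC.π Z)) :=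
  Fan.IsLimit.mk _ (fun s => PiC.lift Z s.proj) (fun s n => PiC.lift_π Z s.proj n)
    (fun s m hm => by
      apply PiC.hom_ext
      intro n
      rw [PiC.lift_π]
      exact hm n)

variable (I : Ideal A) (X : Cx A)

/-- `X / I^n X` -/
noncomputable abbrev Xn (n : ℕ) : Cx A :=
  ((quotF I n).mapHomologicalComplex (ComplexShape.up ℤ)).obj X

/-- transition maps -/
noncomputable abbrev Tn (n : ℕ) : Xn I X (n + 1) ⟶ Xn I X n :=
  (NatTrans.mapHomologicalComplex (tau I n) (ComplexShape.up ℤ)).app X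

/-- termwise completion -/
noncomputable abbrev Yc : Cx A := ((adicF I).mapHomologicalComplex (ComplexShape.up ℤ)).obj X

/-- projections from the termwise completion -/
noncomputable abbrev pn (n : ℕ) : Yc I X ⟶ Xn I X n :=
  (NatTrans.mapHomologicalComplex (ev I n) (ComplexShape.up ℤ)).app X

/-- the inclusion of the limit -/
noncomputable def aMap : Yc I X ⟶ PiC (Xn I X) := PiC.lift _ (pn I X)

/-- `1 - shift` -/
noncomputable def dMap : PiC (Xn I X) ⟶ PiC (Xn I X) :=
  PiC.lift _ (fun n => PiC.π _ n - PiC.π _ (n + 1) ≫ Tn I X n)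

theorem aMap_apply (i : ℤ) (x : AdicCompletion I (X.X i)) (n : ℕ) :
    (((aMap I X).f i).hom x : ∀ n, (Xn I X n).X i) n = x.val n := rfl

theorem dMap_apply (i : ℤ) (y : ∀ n, (X.X i) ⧸ (I ^ n • ⊤ : Submodule A (X.X i))) (n : ℕ) :
    (((dMap I X).f i).hom y : ∀ n, (X.X i) ⧸ (I ^ n • ⊤ : Submodule A (X.X i))) n =
      y n - tr I (X.X i) n (y (n + 1)) := rfl

theorem val_sub_tr (N : Type u) [AddCommGroup N] [Module A N] (x : AdicCompletion I N) (n : ℕ) :
    x.val n - tr I N n (x.val (n + 1)) = 0 := by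
  rw [sub_eq_zero, tr_eq_transitionMap]
  exact (AdicCompletion.transitionMap_comp_eval_apply I N (Nat.le_succ n) x).symm

theorem aMap_dMap : aMap I X ≫ dMap I X = 0 := by
  refine HomologicalComplex.hom_ext _ _ fun i => ModuleCat.hom_ext (LinearMap.ext fun x => ?_)
  funext n
  change (((dMap I X).f i).hom (((aMap I X).f i).hom x) :
    ∀ n, (X.X i) ⧸ (I ^ n • ⊤ : Submodule A (X.X i))) n = 0
  exact val_sub_tr I (X.X i) x n

/-- the limit short complex -/
noncomputable def limSC : ShortComplex (Cx A) := ShortComplex.mk (aMap I X) (dMap I X) (aMap_dMap I X)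

theorem limSC_shortExact : (limSC I X).ShortExact := by
  apply HomologicalComplex.shortExact_of_degreewise_shortExact
  intro i
  refine { exact := ?_, mono_f := ?_, epi_g := ?_ }
  · apply (ShortComplex.moduleCat_exact_iff _).2
    intro (y : ∀ n, (X.X i) ⧸ (I ^ n • ⊤ : Submodule A (X.X i))) hy
    have hy' : ∀ n, tr I (X.X i) n (y (n + 1)) = y n := by
      intro n
      have h0 : y n - tr I (X.X i) n (y (n + 1)) = 0 := congrFun hy n
      exact (sub_eq_zero.1 h0).symm
    obtain ⟨x, hx⟩ := exists_of_compatible I (X.X i) y hy'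
    refine ⟨x, ?_⟩
    funext n
    exact hx n
  · apply (ModuleCat.mono_iff_injective _).2
    intro (x : AdicCompletion I (X.X i)) (x' : AdicCompletion I (X.X i)) hxx'
    apply AdicCompletion.ext
    intro n
    exact congrFun hxx' n
  · apply (ModuleCat.epi_iff_surjective _).2
    intro (z : ∀ n, (X.X i) ⧸ (I ^ n • ⊤ : Submodule A (X.X i)))
    obtain ⟨y, hy⟩ := exists_sub_tr I (X.X i) z
    refine ⟨y, ?_⟩
    funext n
    exact hy n

instance : (lim : (Discrete ℕ ⥤ ModuleCat.{u} A) ⥤ ModuleCat.{u} A).PreservesEpimorphisms :=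
  inferInstance

/-- the termwise completion is a derived limit of the tower `X / I^n X` -/
theorem isRlim_Q [HasProduct (fun n => (Q.obj (Xn I X n) : DerivedCategory (ModuleCat.{u} A)))] :
    DCoh.IsRlim (fun n => (Q.obj (Xn I X n) : DerivedCategory (ModuleCat.{u} A)))
      (fun n => Q.map (Tn I X n)) (Q.obj (Yc I X)) := by
  have hS := limSC_shortExact I X
  have hT := triangleOfSES_distinguished hS
  let Z := Xn I X
  let K : ℕ → DerivedCategory (ModuleCat.{u} A) := fun n => Q.obj (Z n)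
  have hlim : IsLimit (Fan.mk (Q.obj (PiC Z)) (fun n => Q.map (PiC.π Z n))) :=
    (isLimitMapConeFanMkEquiv Q Z (PiC.π Z)) (isLimitOfPreserves Q (PiC.isLimit Z))
  let e : Q.obj (PiC Z) ≅ ∏ᶜ K := hlim.conePointUniqueUpToIso (productIsProduct K)
  have he : ∀ n, e.hom ≫ Pi.π K n = Q.map (PiC.π Z n) := fun n =>
    IsLimit.conePointUniqueUpToIso_hom_comp hlim (productIsProduct K) ⟨n⟩
  have he' : ∀ n, e.inv ≫ Q.map (PiC.π Z n) = Pi.π K n := fun n => by
    rw [← he n, Iso.inv_hom_id_assoc]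
  have hD : e.inv ≫ Q.map (dMap I X) ≫ e.hom =
      Pi.lift fun n => Pi.π K n - Pi.π K (n + 1) ≫ Q.map (Tn I X n) := by
    apply Pi.hom_ext
    intro n
    rw [Category.assoc, Category.assoc, he n, Pi.lift_π, ← Functor.map_comp]
    have : dMap I X ≫ PiC.π Z n = PiC.π Z n - PiC.π Z (n + 1) ≫ Tn I X n := PiC.lift_π _ _ n
    rw [this, Functor.map_sub, Functor.map_comp, Preadditive.comp_sub, he' n,
      ← Category.assoc, he' (n + 1)]
  refine ⟨Q.map (aMap I X) ≫ e.hom, e.inv ≫ (triangleOfSES hS).mor₃, ?_⟩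
  refine isomorphic_distinguished _ hT _ (Triangle.isoMk _ _ (Iso.refl _) e.symm e.symm ?_ ?_ ?_)
  · change (Q.map (aMap I X) ≫ e.hom) ≫ e.inv = 𝟙 _ ≫ Q.map (aMap I X)
    rw [Category.assoc, Iso.hom_inv_id, Category.comp_id, Category.id_comp]
  · change (Pi.lift fun n => Pi.π K n - Pi.π K (n + 1) ≫ Q.map (Tn I X n)) ≫ e.inv =
      e.inv ≫ Q.map (dMap I X)
    rw [← hD, Category.assoc, Category.assoc, Iso.hom_inv_id, Category.comp_id]
  · change (e.inv ≫ (triangleOfSES hS).mor₃) ≫ (𝟙 _)⟦(1 : ℤ)⟧' = e.inv ≫ (triangleOfSES hS).mor₃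
    rw [CategoryTheory.Functor.map_id, Category.comp_id]

end Groth.Agent.Lib.Helper88.RL3
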