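import Groth.Agent.Lib.Helper88.RL1
import Groth.Agent.Lib.Helper25.CoconeSplit
import Mathlib.Algebra.Homology.DerivedCategory.ShortExact

/-!
# Termwise natural transformations `X ⟶ G X` and reflection arrows: isomorphisms, shifts, cocones
-/

set_option autoImplicit false
universe u

namespace Groth.Agent.Lib.Helper88.RL4a

open CategoryTheory CategoryTheory.Limits CategoryTheory.Pretriangulated DerivedCategory
open CochainComplex
open Groth.Agent.Lib.Helper25.DCompRefl Groth.Agent.Lib.Helper88.RL1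
open Groth.Agent.Lib.Helper25.HomCxSplit Groth.Agent.Lib.Helper25.CoconeSplit

attribute [local instance] HasDerivedCategory.standard

variable {A : Type u} [CommRing A]
variable (G : ModuleCat.{u} A ⥤ ModuleCat.{u} A) [G.Additive] (a : 𝟭 (ModuleCat.{u} A) ⟶ G)

/-- `G` termwise -/
noncomputable abbrev Psi : DRing.Cx A ⥤ DRing.Cx A := G.mapHomologicalComplex (ComplexShape.up ℤ)

/-- `a` termwise -/
noncomputable def al (X : DRing.Cx A) : X ⟶ (Psi G).obj X where
  f i := a.app (X.X i)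
  comm' i j _ := (a.naturality (X.d i j)).symm

@[simp]
theorem al_f (X : DRing.Cx A) (i : ℤ) : (al G a X).f i = a.app (X.X i) := rfl

theorem al_naturality {X Y : DRing.Cx A} (f : X ⟶ Y) :
    f ≫ al G a Y = al G a X ≫ (Psi G).map f := by
  ext i : 1
  exact a.naturality (f.f i)

/-- `G` preserves degreewise split short exact sequences -/
noncomputable def dsplitMap (S : ShortComplex (DRing.Cx A)) (σ : DSplit S) :
    DSplit (S.map (Psi G)) where
  r q := G.map (σ.r q)
  s q := G.map (σ.s q)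
  f_r q := by
    change G.map (S.f.f q) ≫ G.map (σ.r q) = 𝟙 _
    rw [← G.map_comp, σ.f_r, G.map_id]
  s_g q := by
    change G.map (σ.s q) ≫ G.map (S.g.f q) = 𝟙 _
    rw [← G.map_comp, σ.s_g, G.map_id]
  id q := by
    change G.map (σ.r q) ≫ G.map (S.f.f q) + G.map (S.g.f q) ≫ G.map (σ.s q) = 𝟙 _
    rw [← G.map_comp, ← G.map_comp, ← G.map_add, σ.id, G.map_id]

variable (P : ObjectProperty (DerivedCategory (ModuleCat.{u} A)))

/-- `Q (a_X)` is a reflection arrow -/
def Pr (X : DRing.Cx A) : Prop := IsRefl P (Q.map (al G a X))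

variable {G a P}

theorem Pr.of_iso {X X' : DRing.Cx A} (e : X ≅ X') (h : Pr G a P X) : Pr G a P X' := by
  refine isRefl_of_sq (Q.map (al G a X)) (Q.map (al G a X')) (Q.mapIso e)
    (Q.mapIso ((Psi G).mapIso e)) ?_ h
  change Q.map (al G a X) ≫ Q.map ((Psi G).map e.hom) = Q.map e.hom ≫ Q.map (al G a X')
  rw [← Functor.map_comp, ← Functor.map_comp, al_naturality G a]

theorem al_shift (X : DRing.Cx A) (n : ℤ) :
    al G a (X⟦n⟧) ≫ (((Psi G).commShiftIso n).app X).hom = (al G a X)⟦n⟧' := by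
  ext i : 1
  rw [HomologicalComplex.comp_f, Iso.app_hom, Functor.mapHomologicalComplex_commShiftIso_hom_app_f]
  exact Category.comp_id _

theorem Pr.shift (n : ℤ) (hP : ∀ E, P E → P (E⟦-n⟧)) {X : DRing.Cx A} (h : Pr G a P X) :
    Pr G a P (X⟦n⟧) := by
  have h1 : IsRefl P ((Q.map (al G a X))⟦n⟧') := isRefl_shift n hP h
  let κ := ((Psi G).commShiftIso n).app X
  refine isRefl_of_sq _ (Q.map (al G a (X⟦n⟧))) (((Q.commShiftIso n).app X).symm)
    (((Q.commShiftIso n).app ((Psi G).obj X)).symm ≪≫ Q.mapIso κ.symm) ?_ h1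
  change (Q.map (al G a X))⟦n⟧' ≫ (Q.commShiftIso n).inv.app ((Psi G).obj X) ≫ Q.map κ.inv =
    (Q.commShiftIso n).inv.app X ≫ Q.map (al G a (X⟦n⟧))
  have hnat := (Q.commShiftIso n).inv.naturality (al G a X)
  have hnat' : (Q.map (al G a X))⟦n⟧' ≫ (Q.commShiftIso n).inv.app ((Psi G).obj X) =
      (Q.commShiftIso n).inv.app X ≫ Q.map ((al G a X)⟦n⟧') := hnat
  have h2 : (al G a X)⟦n⟧' ≫ κ.inv = al G a (X⟦n⟧) := by
    rw [← al_shift X n, Category.assoc]
    exact (congrArg _ κ.hom_inv_id).trans (Category.comp_id _)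
  rw [← Category.assoc, hnat', Category.assoc, ← Functor.map_comp, h2]

/-- the key step: cocones -/
theorem Pr.cocone (hP : ∀ E, P E → P (E⟦(-1 : ℤ)⟧)) (hP' : ∀ E, P E → P (E⟦(1 : ℤ)⟧))
    {K L : DRing.Cx A} (φ : K ⟶ L) (hK : Pr G a P K) (hL : Pr G a P (L⟦(-1 : ℤ)⟧)) :
    Pr G a P (mappingCocone φ) := by
  let S := coconeSC φ
  let σ := coconeDSplit φ
  have hS : S.ShortExact := σ.shortExact
  have hS' : (S.map (Psi G)).ShortExact := (dsplitMap G S σ).shortExact
  let ψ : S ⟶ S.map (Psi G) :=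
    { τ₁ := al G a S.X₁
      τ₂ := al G a S.X₂
      τ₃ := al G a S.X₃
      comm₁₂ := (al_naturality G a S.f).symm
      comm₂₃ := (al_naturality G a S.g).symm }
  exact isRefl_hom₂ hP hP' (triangleOfSES_distinguished hS) (triangleOfSES_distinguished hS')
    (triangleOfSES.map hS hS' ψ) hL hK

end Groth.Agent.Lib.Helper88.RL4a
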