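import Groth.Agent.Lib.Helper98.CechBC

/-!
# Localisation functors commute with localisation; modules of the form `M ⊗ (flat)`
-/

set_option autoImplicit false
universe u

namespace Groth.Agent.Lib.Helper88.RL4b

open CategoryTheory TensorProduct

variable {A : Type u} [CommRing A]

theorem mk_eq_zero_iff (S : Submonoid A) {N : Type u} [AddCommGroup N] [Module A N] (y : N)
    (s : S) : LocalizedModule.mk y s = 0 ↔ ∃ u : S, (u : A) • y = 0 := by
  rw [← LocalizedModule.zero_mk (1 : S), LocalizedModule.mk_eq]
  constructor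
  · rintro ⟨u, hu⟩
    refine ⟨u, ?_⟩
    simpa [Submonoid.smul_def] using hu
  · rintro ⟨u, hu⟩
    refine ⟨u, ?_⟩
    simpa [Submonoid.smul_def] using hu

theorem locCompat_loc (S : Submonoid A) (f : A) :
    Helper98.CechBC.LocCompat (DerCA.locFunctor S) f f := by
  intro X
  let P := Submonoid.powers f
  let g : LocalizedModule S X →ₗ[A] LocalizedModule S (LocalizedModule P X) :=
    IsLocalizedModule.map S (LocalizedModule.mkLinearMap S X)
      (LocalizedModule.mkLinearMap S (LocalizedModule P X)) (LocalizedModule.mkLinearMap P X)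
  have hg : ∀ (x : X) (s : S), g (LocalizedModule.mk x s) =
      LocalizedModule.mk (LocalizedModule.mk x (1 : P)) s := by
    intro x s
    exact IsLocalizedModule.map_LocalizedModules S (LocalizedModule.mkLinearMap P X) x s
  change IsLocalizedModule P g
  refine ⟨?_, ?_, ?_⟩
  · intro p
    rw [Module.End.isUnit_iff]
    have h1 : Groth.Agent.Lib.Helper47.ExtCech.ActsBij (p : A)
        (ModuleCat.of A (LocalizedModule P X)) :=
      Groth.Agent.Lib.Helper47.ExtCech.smul_bijective_localizedModule P X p p.2
    exact Groth.Agent.Lib.Helper47.ExtCech.ActsBij.loc S h1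
  · intro y
    induction y using LocalizedModule.induction_on with
    | h y s =>
      induction y using LocalizedModule.induction_on with
      | h x p =>
        refine ⟨(LocalizedModule.mk x s, p), ?_⟩
        change p • LocalizedModule.mk (LocalizedModule.mk x p) s = g (LocalizedModule.mk x s)
        rw [hg, Submonoid.smul_def, LocalizedModule.smul'_mk]
        congr 1
        rw [LocalizedModule.smul'_mk]
        exact LocalizedModule.mk_cancel p x
  · intro z₁ z₂ h
    have h0 : g (z₁ - z₂) = 0 := by rw [map_sub, h, sub_self]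
    obtain ⟨x, s, hz⟩ : ∃ (x : X) (s : S), z₁ - z₂ = LocalizedModule.mk x s := by
      induction (z₁ - z₂) using LocalizedModule.induction_on with
      | h m s => exact ⟨m, s, rfl⟩
    rw [hz, hg, mk_eq_zero_iff] at h0
    obtain ⟨u, hu⟩ := h0
    rw [LocalizedModule.smul'_mk, mk_eq_zero_iff] at hu
    obtain ⟨c, hc⟩ := hu
    refine ⟨c, ?_⟩
    have h1 : (c : A) • (z₁ - z₂) = 0 := by
      rw [hz, LocalizedModule.smul'_mk, mk_eq_zero_iff]
      refine ⟨u, ?_⟩
      rw [smul_comm]
      exact hc
    rw [Submonoid.smul_def, Submonoid.smul_def]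
    rw [smul_sub] at h1
    exact sub_eq_zero.1 h1

variable (M : Type u) [AddCommGroup M] [Module A M]

/-- modules isomorphic to `M ⊗ N` with `N` flat -/
def InC (T : ModuleCat.{u} A) : Prop :=
  ∃ (N : Type u) (_ : AddCommGroup N) (_ : Module A N) (_ : Module.Flat A N),
    Nonempty (T ≅ ModuleCat.of A (M ⊗[A] N))

theorem inC_self : InC M (ModuleCat.of A M) :=
  ⟨A, inferInstance, inferInstance, inferInstance, ⟨(TensorProduct.rid A M).symm.toModuleIso⟩⟩

theorem InC.loc (S : Submonoid A) {T : ModuleCat.{u} A} (h : InC M T) :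
    InC M ((DerCA.locFunctor S).obj T) := by
  obtain ⟨N, _, _, _, ⟨e⟩⟩ := h
  haveI : Module.Flat A (Localization S) := IsLocalization.flat (Localization S) S
  refine ⟨Localization S ⊗[A] N, inferInstance, inferInstance, inferInstance, ⟨?_⟩⟩
  refine (DerCA.locFunctor S).mapIso e ≪≫ ?_
  let e1 : LocalizedModule S (M ⊗[A] N) ≃ₗ[A] Localization S ⊗[A] (M ⊗[A] N) :=
    (LocalizedModule.equivTensorProduct S (M ⊗[A] N)).restrictScalars A
  let e2 : Localization S ⊗[A] (M ⊗[A] N) ≃ₗ[A] M ⊗[A] (Localization S ⊗[A] N) :=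
    TensorProduct.leftComm A (Localization S) M N
  exact (e1.trans e2).toModuleIso

end Groth.Agent.Lib.Helper88.RL4b
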