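import Groth.Agent.Lib.Helper88.RL4a
import Groth.Agent.Lib.Helper88.RL4b
import Groth.Agent.Lib.Helper88.RL2
import Groth.Agent.Lib.Helper88.DCompFlat3
import Groth.Agent.Lib.Helper88.GM2

/-!
# The termwise completion of the extended Čech complex of a finite module is its derived completion
-/

set_option autoImplicit false
universe u

namespace Groth.Agent.Lib.Helper88.RL4c

open CategoryTheory CategoryTheory.Limits CategoryTheory.Pretriangulated DerivedCategory
open CochainComplex TensorProduct
open Groth.Agent.Lib.Helper25.DCompRefl Groth.Agent.Lib.Helper88.RL1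
open Groth.Agent.Lib.Helper88.RL2 Groth.Agent.Lib.Helper88.RL4a Groth.Agent.Lib.Helper88.RL4b

attribute [local instance] HasDerivedCategory.standard

variable {A : Type u} [CommRing A] [IsNoetherianRing A] (I : Ideal A)
  [DRing.HasDerivedCompletion I]
  (M : Type u) [AddCommGroup M] [Module A M] [Module.Finite A M]

/-- `Q (X ⟶ X^)` is a reflection arrow into the derived complete objects -/
abbrev PrC (X : DRing.Cx A) : Prop := Pr (adicF I) (alpha I) (DRing.IsDerivedComplete I) X

omit [IsNoetherianRing A] [DRing.HasDerivedCompletion I] in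
theorem al_single (T : ModuleCat.{u} A) :
    al (adicF I) (alpha I)
        ((HomologicalComplex.single (ModuleCat.{u} A) (ComplexShape.up ℤ) 0).obj T) ≫
      ((HomologicalComplex.singleMapHomologicalComplex (adicF I) (ComplexShape.up ℤ) 0).app T).hom =
      (HomologicalComplex.single (ModuleCat.{u} A) (ComplexShape.up ℤ) 0).map ((alpha I).app T) := by
  apply HomologicalComplex.from_single_hom_ext
  rw [HomologicalComplex.comp_f, Iso.app_hom,
    HomologicalComplex.singleMapHomologicalComplex_hom_app_self,
    HomologicalComplex.single_map_f_self, al_f]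
  have hn := (alpha I).naturality (HomologicalComplex.singleObjXSelf (ComplexShape.up ℤ) 0 T).hom
  exact ((Category.assoc _ _ _).symm.trans (congrArg
    (· ≫ (HomologicalComplex.singleObjXSelf (ComplexShape.up ℤ) 0 ((adicF I).obj T)).inv)
    hn.symm)).trans (Category.assoc _ _ _)

theorem pr_single (T : ModuleCat.{u} A) (hT : InC M T) :
    PrC I ((HomologicalComplex.single (ModuleCat.{u} A) (ComplexShape.up ℤ) 0).obj T) := by
  obtain ⟨N, _, _, _, ⟨e⟩⟩ := hT
  have h0 := Groth.Agent.Lib.Helper88.DCompFlat3.isRefl_single_of I M N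
  let T' : ModuleCat.{u} A := ModuleCat.of A (M ⊗[A] N)
  have h0' : IsRefl (DRing.IsDerivedComplete I)
      ((DerivedCategory.singleFunctor (ModuleCat.{u} A) 0).map ((alpha I).app T')) := h0
  -- step 1
  have h1 : IsRefl (DRing.IsDerivedComplete I)
      ((DerivedCategory.singleFunctor (ModuleCat.{u} A) 0).map ((alpha I).app T)) := by
    refine isRefl_of_sq _ _ ((DerivedCategory.singleFunctor (ModuleCat.{u} A) 0).mapIso e.symm)
      ((DerivedCategory.singleFunctor (ModuleCat.{u} A) 0).mapIso ((adicF I).mapIso e.symm)) ?_ h0'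
    change (DerivedCategory.singleFunctor (ModuleCat.{u} A) 0).map ((alpha I).app T') ≫
      (DerivedCategory.singleFunctor (ModuleCat.{u} A) 0).map ((adicF I).map e.inv) =
      (DerivedCategory.singleFunctor (ModuleCat.{u} A) 0).map e.inv ≫
      (DerivedCategory.singleFunctor (ModuleCat.{u} A) 0).map ((alpha I).app T)
    have hn := (alpha I).naturality e.inv
    rw [← Functor.map_comp, ← Functor.map_comp]
    exact congrArg _ hn.symm
  -- step 2
  let sg := HomologicalComplex.single (ModuleCat.{u} A) (ComplexShape.up ℤ) 0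
  have h2 : IsRefl (DRing.IsDerivedComplete I) (Q.map (sg.map ((alpha I).app T))) := by
    refine isRefl_of_sq _ _
      ((DerivedCategory.singleFunctorIsoCompQ (ModuleCat.{u} A) 0).app T)
      ((DerivedCategory.singleFunctorIsoCompQ (ModuleCat.{u} A) 0).app ((adicF I).obj T)) ?_ h1
    exact (DerivedCategory.singleFunctorIsoCompQ (ModuleCat.{u} A) 0).hom.naturality
      ((alpha I).app T)
  -- step 3
  let ιs := (HomologicalComplex.singleMapHomologicalComplex (adicF I) (ComplexShape.up ℤ) 0).app T
  refine isRefl_of_sq _ _ (Iso.refl _) (Q.mapIso ιs.symm) ?_ h2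
  change Q.map (sg.map ((alpha I).app T)) ≫ Q.map ιs.inv = 𝟙 _ ≫ Q.map (al (adicF I) (alpha I) (sg.obj T))
  rw [Category.id_comp, ← Functor.map_comp]
  congr 1
  rw [← al_single I T, Category.assoc]
  exact (congrArg _ ιs.hom_inv_id).trans (Category.comp_id _)

theorem pr_cech : ∀ (fs : List A) (T : ModuleCat.{u} A), InC M T →
    PrC I (DerCA.extCech T fs) := by
  intro fs
  induction fs with
  | nil =>
    intro T hT
    exact pr_single I M T hT
  | cons f fs ih =>
    intro T hT
    have hP : ∀ E, DRing.IsDerivedComplete I E → DRing.IsDerivedComplete I (E⟦(-1 : ℤ)⟧) :=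
      fun E hE => Groth.Agent.Lib.Helper88.GM2.comp_shift I E (-1) hE
    have hP' : ∀ E, DRing.IsDerivedComplete I E → DRing.IsDerivedComplete I (E⟦(1 : ℤ)⟧) :=
      fun E hE => Groth.Agent.Lib.Helper88.GM2.comp_shift I E 1 hE
    have hP'' : ∀ E, DRing.IsDerivedComplete I E → DRing.IsDerivedComplete I (E⟦-(-1 : ℤ)⟧) :=
      fun E hE => Groth.Agent.Lib.Helper88.GM2.comp_shift I E _ hE
    change PrC I (mappingCocone (DerCA.locCxUnit (Submonoid.powers f) (DerCA.extCech T fs)))
    refine Pr.cocone hP hP' _ (ih T hT) ?_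
    refine Pr.shift (-1) hP'' ?_
    obtain ⟨eL⟩ := Helper98.CechBC.cechFunctorIso (DerCA.locFunctor (Submonoid.powers f))
      (fs.map fun x => (x, x)) (fun p hp => by
        obtain ⟨x, -, rfl⟩ := List.mem_map.1 hp
        exact locCompat_loc (Submonoid.powers f) x) T
    have e1 : (fs.map fun x => (x, x)).map Prod.fst = fs := by
      rw [List.map_map]
      exact List.map_id _
    have e2 : (fs.map fun x => (x, x)).map Prod.snd = fs := by
      rw [List.map_map]
      exact List.map_id _
    rw [e1, e2] at eL
    exact (ih _ (hT.loc M (Submonoid.powers f))).of_iso eL.symm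

end Groth.Agent.Lib.Helper88.RL4c
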