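import Groth.Agent.Lib.Helper88.RL2
import Groth.Agent.Lib.Helper88.RL4b
import Groth.Agent.Lib.Helper88.GM2
import Groth.Agent.Lib.Helper89.RGI7

/-!
# `N ↦ N / I^n N` commutes with localisation; torsion of the reduced Čech complexes
-/

set_option autoImplicit false
universe u

namespace Groth.Agent.Lib.Helper88.RL5a

open CategoryTheory CategoryTheory.Limits DerivedCategory
open Groth.Agent.Lib.Helper88.RL2 Groth.Agent.Lib.Helper47.ExtCech

attribute [local instance] HasDerivedCategory.standard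

variable {A : Type u} [CommRing A]

/-- `A`-linear functors -/
def Lin (F : ModuleCat.{u} A ⥤ ModuleCat.{u} A) : Prop :=
  ∀ {X Y : ModuleCat.{u} A} (r : A) (f : X ⟶ Y), F.map (r • f) = r • F.map f

theorem actsBij_iff (g : A) (X : ModuleCat.{u} A) : ActsBij g X ↔ IsIso (g • 𝟙 X) := by
  rw [ConcreteCategory.isIso_iff_bijective]
  rfl

theorem ActsBij.map_lin {F : ModuleCat.{u} A ⥤ ModuleCat.{u} A} (hF : Lin F) {g : A}
    {X : ModuleCat.{u} A} (h : ActsBij g X) : ActsBij g (F.obj X) := by
  rw [actsBij_iff] at h ⊢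
  have h1 : F.map (g • 𝟙 X) = g • 𝟙 (F.obj X) := by
    rw [hF, CategoryTheory.Functor.map_id]
  rw [← h1]
  infer_instance

variable (I : Ideal A)

theorem lin_quotF (n : ℕ) : Lin (quotF I n) := by
  intro X Y r f
  refine ModuleCat.hom_ext (LinearMap.ext fun x => ?_)
  obtain ⟨y, rfl⟩ := Submodule.Quotient.mk_surjective _ x
  rfl

theorem mem_smul_top_loc (P : Submonoid A) (J : Ideal A) (X : Type u) [AddCommGroup X]
    [Module A X] (y : LocalizedModule P X)
    (hy : y ∈ (J • ⊤ : Submodule A (LocalizedModule P X))) :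
    ∃ (x : X) (_ : x ∈ (J • ⊤ : Submodule A X)) (p : P), p • y = LocalizedModule.mk x 1 := by
  refine Submodule.smul_induction_on hy ?_ ?_
  · intro a ha z _
    induction z using LocalizedModule.induction_on with
    | h x p =>
      refine ⟨a • x, Submodule.smul_mem_smul ha Submodule.mem_top, p, ?_⟩
      rw [LocalizedModule.smul'_mk, Submonoid.smul_def, LocalizedModule.smul'_mk]
      exact LocalizedModule.mk_cancel p (a • x)
  · rintro y₁ y₂ ⟨x₁, hx₁, p₁, h₁⟩ ⟨x₂, hx₂, p₂, h₂⟩
    refine ⟨(p₂ : A) • x₁ + (p₁ : A) • x₂,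
      Submodule.add_mem _ (Submodule.smul_mem _ _ hx₁) (Submodule.smul_mem _ _ hx₂), p₁ * p₂, ?_⟩
    rw [smul_add]
    have e1 : (p₁ * p₂) • y₁ = (p₂ : A) • (p₁ • y₁) := by
      rw [Submonoid.smul_def, Submonoid.smul_def, smul_smul, mul_comm]
      rfl
    have e2 : (p₁ * p₂) • y₂ = (p₁ : A) • (p₂ • y₂) := by
      rw [Submonoid.smul_def, Submonoid.smul_def, smul_smul]
      rfl
    rw [e1, e2, h₁, h₂, LocalizedModule.smul'_mk, LocalizedModule.smul'_mk,
      LocalizedModule.mk_add_mk, one_smul, one_smul, one_mul]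

theorem locCompat_quotF (n : ℕ) (f : A) :
    Helper98.CechBC.LocCompat (quotF I n) f f := by
  intro X
  let P := Submonoid.powers f
  let g : (X ⧸ (I ^ n • ⊤ : Submodule A X)) →ₗ[A]
      (LocalizedModule P X ⧸ (I ^ n • ⊤ : Submodule A (LocalizedModule P X))) :=
    ((quotF I n).map ((DerCA.locUnit P).app X)).hom
  have hg : ∀ x : X, g (Submodule.Quotient.mk x) =
      Submodule.Quotient.mk (LocalizedModule.mk x (1 : P)) := fun x => rfl
  change IsLocalizedModule P g
  refine ⟨?_, ?_, ?_⟩
  · intro p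
    rw [Module.End.isUnit_iff]
    have h1 : ActsBij (p : A) (ModuleCat.of A (LocalizedModule P X)) :=
      smul_bijective_localizedModule P X p p.2
    exact ActsBij.map_lin (lin_quotF I n) h1
  · intro y
    obtain ⟨z, rfl⟩ := Submodule.Quotient.mk_surjective _ y
    induction z using LocalizedModule.induction_on with
    | h x p =>
      refine ⟨(Submodule.Quotient.mk x, p), ?_⟩
      change p • (Submodule.Quotient.mk (LocalizedModule.mk x p) : LocalizedModule P X ⧸ _) =
        g (Submodule.Quotient.mk x)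
      rw [hg, Submonoid.smul_def, ← Submodule.Quotient.mk_smul, LocalizedModule.smul'_mk]
      congr 1
      exact LocalizedModule.mk_cancel p x
  · intro z₁ z₂ h
    obtain ⟨x₁, rfl⟩ := Submodule.Quotient.mk_surjective _ z₁
    obtain ⟨x₂, rfl⟩ := Submodule.Quotient.mk_surjective _ z₂
    rw [hg, hg, Submodule.Quotient.eq] at h
    have e0 : LocalizedModule.mk x₁ (1 : P) - LocalizedModule.mk x₂ (1 : P) =
        LocalizedModule.mk (x₁ - x₂) (1 : P) :=
      ((LocalizedModule.mkLinearMap P X).map_sub x₁ x₂).symm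
    rw [e0] at h
    obtain ⟨x', hx', p, hp⟩ := mem_smul_top_loc P (I ^ n) X _ h
    rw [Submonoid.smul_def, LocalizedModule.smul'_mk, LocalizedModule.mk_eq] at hp
    obtain ⟨u, hu⟩ := hp
    refine ⟨u * p, ?_⟩
    rw [Submonoid.smul_def, Submonoid.smul_def, ← Submodule.Quotient.mk_smul,
      ← Submodule.Quotient.mk_smul, Submodule.Quotient.eq, ← smul_sub]
    have h2 : ((u * p : P) : A) • (x₁ - x₂) = (u : A) • x' := by
      simp only [one_smul, Submonoid.smul_def, Submonoid.coe_mul, mul_smul] at hu ⊢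
      exact hu
    rw [h2]
    exact Submodule.smul_mem _ _ hx'

/-! ### torsion -/

theorem mem_torsionSub_list {N : Type u} [AddCommGroup N] [Module A N] (x : N) :
    ∀ (gs : List A), (∀ g ∈ gs, ∃ k : ℕ, g ^ k • x = 0) →
      x ∈ DRing.torsionSub (Ideal.span {y | y ∈ gs}) N := by
  intro gs
  induction gs with
  | nil =>
    intro _
    refine ⟨1, fun a ha => ?_⟩
    have h0 : Ideal.span {y : A | y ∈ ([] : List A)} = ⊥ := by simp
    rw [h0, pow_one] at ha
    rw [Ideal.mem_bot.1 ha, zero_smul]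
  | cons g gs ih =>
    intro h
    have h1 : x ∈ DRing.torsionSub (Ideal.span {g}) N :=
      (Helper89.RGI.mem_torsionSub_span_singleton g N x).2 (h g List.mem_cons_self)
    have h2 := ih (fun g' hg' => h g' (List.mem_cons_of_mem _ hg'))
    have h3 := Helper89.RGI.mem_torsionSub_sup _ _ N x h1 h2
    have e : Ideal.span {y | y ∈ g :: gs} = Ideal.span {g} ⊔ Ideal.span {y | y ∈ gs} := by
      rw [← Ideal.span_union]
      congr 1
      ext y
      simp
    rw [e]
    exact h3

end Groth.Agent.Lib.Helper88.RL5a
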