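import Groth.Agent.Lib.Helper88.RL5a
import Groth.Agent.Lib.Helper88.RL4a
import Groth.Agent.Lib.Helper88.GM3
import Groth.Agent.Lib.Helper10.RGammaLoc
import Groth.Agent.Lib.Helper98.CechBC

/-!
# The reduced Čech complexes `F(Č(N))` are torsion coreflections of `F N`
-/

set_option autoImplicit false
universe u

namespace Groth.Agent.Lib.Helper88.RL5b

open CategoryTheory CategoryTheory.Limits CategoryTheory.Pretriangulated DerivedCategory
open CochainComplex
open Groth.Agent.Lib.Helper88.RL2 Groth.Agent.Lib.Helper47.ExtCech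
open Groth.Agent.Lib.Helper88.RL4a Groth.Agent.Lib.Helper88.RL5a
open Groth.Agent.Lib.Helper88.GM1 Groth.Agent.Lib.Helper88.GM2
open Groth.Agent.Lib.Helper25.HomCxSplit Groth.Agent.Lib.Helper25.CoconeSplit
open Helper98.CechFun

attribute [local instance] HasDerivedCategory.standard

variable {A : Type u} [CommRing A] (J : Ideal A)

theorem tors_of_iso {K K' : Dual.D A} (e : K ≅ K') (hK : Tors J K) : Tors J K' :=
  fun i => Helper89.RGI.torsion_of_iso J ((homologyFunctor (ModuleCat.{u} A) i).mapIso e.symm) (hK i)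

theorem tors_extCech (N : ModuleCat.{u} A) (gs : List A)
    (h : Ideal.span {y | y ∈ gs} = J) : Tors J (Q.obj (DerCA.extCech N gs)) := by
  intro i m
  refine Helper89.RGI.torsion_homology_Q J _ ?_ i m
  intro n x
  rw [← h]
  apply mem_torsionSub_list
  intro g hg
  obtain ⟨r, ⟨k, rfl⟩, hr⟩ := torsH_extCech N gs g hg n x
  exact ⟨k, hr⟩

theorem tors_map_extCech (F : ModuleCat.{u} A ⥤ ModuleCat.{u} A) [F.Additive]
    (hF : ∀ g : A, Helper98.CechBC.LocCompat F g g) (N : ModuleCat.{u} A) (gs : List A)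
    (h : Ideal.span {y | y ∈ gs} = J) :
    Tors J (Q.obj ((Psi F).obj (DerCA.extCech N gs))) := by
  obtain ⟨eL⟩ := Helper98.CechBC.cechFunctorIso F
    (gs.map fun x => (x, x)) (fun p hp => by
      obtain ⟨x, -, rfl⟩ := List.mem_map.1 hp
      exact hF x) N
  have e1 : (gs.map fun x => (x, x)).map Prod.fst = gs := by
    rw [List.map_map]
    exact List.map_id _
  have e2 : (gs.map fun x => (x, x)).map Prod.snd = gs := by
    rw [List.map_map]
    exact List.map_id _
  rw [e1, e2] at eL
  exact tors_of_iso J (Q.mapIso eL.symm) (tors_extCech J (F.obj N) gs h)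

variable [IsNoetherianRing A] [DRing.HasRgammaI J]

theorem ro_of_bij (Z : DRing.Cx A) (g : A) (hg : g ∈ J)
    (h : ∀ n : ℤ, Function.Bijective (fun x : Z.X n => g • x)) :
    RightOrth (Tors J) (Q.obj Z) := by
  intro T hT
  have hz := Groth.Agent.Lib.Helper10.RGammaLoc.main A J (IsNoetherian.noetherian J) Z g hg h
  have hb := Groth.Agent.Lib.Helper88.GM3.comp_ε_bij J T hT (Q.obj Z)
  constructor
  intro a b
  obtain ⟨a', rfl⟩ := hb.2 a
  obtain ⟨b', rfl⟩ := hb.2 b
  change a' ≫ _ = b' ≫ _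
  rw [hz.eq_of_tgt a' b']

/-- `Q (F φ)` is a torsion coreflection -/
def CoR (F : ModuleCat.{u} A ⥤ ModuleCat.{u} A) [F.Additive] {X Y : DRing.Cx A} (φ : X ⟶ Y) :
    Prop :=
  ∀ T, Tors J T → Function.Bijective
    (fun f : T ⟶ Q.obj ((Psi F).obj X) => f ≫ Q.map ((Psi F).map φ))

theorem coR_fst (F : ModuleCat.{u} A ⥤ ModuleCat.{u} A) [F.Additive] {K L : DRing.Cx A}
    (φ : K ⟶ L) (g : A) (hg : g ∈ J) (h : ∀ m : ℤ, ActsBij g (F.obj (L.X m))) :
    CoR J F (mappingCocone.fst φ : mappingCocone φ ⟶ K) := by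
  intro T hT
  let S := coconeSC φ
  let σ := coconeDSplit φ
  have hS' : (S.map (Psi F)).ShortExact := (dsplitMap F S σ).shortExact
  have hd := triangleOfSES_distinguished hS'
  have hrot := rot_of_distTriang _ hd
  have hro : RightOrth (Tors J) ((triangleOfSES hS').rotate.obj₃) := by
    change RightOrth (Tors J) ((Q.obj ((Psi F).obj (L⟦(-1 : ℤ)⟧)))⟦(1 : ℤ)⟧)
    intro T' hT'
    have h1 := ro_of_bij J ((Psi F).obj (L⟦(-1 : ℤ)⟧)) g hg (fun n => h (n + -1)) _
      (tors_shift J T' (-1) hT')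
    exact (subsingleton_shift_iff (-1) 1 (by omega)).1 h1
  exact bijective_postcomp (Tors J) (fun X n hX => tors_shift J X n hX) _ hrot hro T hT

theorem coR_cechPi (F : ModuleCat.{u} A ⥤ ModuleCat.{u} A) [F.Additive] (hF : Lin F) :
    ∀ (gs : List A), (∀ g ∈ gs, g ∈ J) → ∀ N : ModuleCat.{u} A, CoR J F (cechPi N gs) := by
  intro gs
  induction gs with
  | nil =>
    intro _ N T hT
    have : (fun f : T ⟶ Q.obj ((Psi F).obj (DerCA.extCech N [])) =>
        f ≫ Q.map ((Psi F).map (cechPi N []))) = id := by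
      funext f
      change f ≫ Q.map ((Psi F).map (𝟙 _)) = f
      rw [CategoryTheory.Functor.map_id, CategoryTheory.Functor.map_id, Category.comp_id]
    rw [this]
    exact Function.bijective_id
  | cons g gs ih =>
    intro h N T hT
    have h1 := coR_fst J F (DerCA.locCxUnit (Submonoid.powers g) (DerCA.extCech N gs)) g
      (h g List.mem_cons_self)
      (fun m => ActsBij.map_lin hF
        (smul_bijective_localizedModule (Submonoid.powers g) _ g (Submonoid.mem_powers g))) T hT
    have h2 := ih (fun g' hg' => h g' (List.mem_cons_of_mem _ hg')) N T hT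
    have : (fun f : T ⟶ Q.obj ((Psi F).obj (DerCA.extCech N (g :: gs))) =>
        f ≫ Q.map ((Psi F).map (cechPi N (g :: gs)))) =
        (fun f : T ⟶ Q.obj ((Psi F).obj (DerCA.extCech N gs)) =>
          f ≫ Q.map ((Psi F).map (cechPi N gs))) ∘
        (fun f : T ⟶ Q.obj ((Psi F).obj (mappingCocone
            (DerCA.locCxUnit (Submonoid.powers g) (DerCA.extCech N gs)))) =>
          f ≫ Q.map ((Psi F).map (mappingCocone.fst
            (DerCA.locCxUnit (Submonoid.powers g) (DerCA.extCech N gs))))) := by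
      funext f
      change f ≫ Q.map ((Psi F).map (mappingCocone.fst _ ≫ cechPi N gs)) = (f ≫ _) ≫ _
      rw [Functor.map_comp, Functor.map_comp, Category.assoc]
      rfl
    rw [this]
    exact h2.comp h1

end Groth.Agent.Lib.Helper88.RL5b
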