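import Groth.Agent.Lib.Helper88.RL5b

/-!
# `RΓ_J (F N) ≅ F(Č(N))`, naturally in `F`
-/

set_option autoImplicit false
universe u

namespace Groth.Agent.Lib.Helper88.RL5c

open CategoryTheory CategoryTheory.Limits CategoryTheory.Pretriangulated DerivedCategory
open CochainComplex
open Groth.Agent.Lib.Helper88.RL2 Groth.Agent.Lib.Helper47.ExtCech
open Groth.Agent.Lib.Helper88.RL4a Groth.Agent.Lib.Helper88.RL5a Groth.Agent.Lib.Helper88.RL5b
open Groth.Agent.Lib.Helper88.GM1 Groth.Agent.Lib.Helper88.GM2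
open Helper98.CechFun

attribute [local instance] HasDerivedCategory.standard

/-- uniqueness of coreflection arrows, with compatibility -/
theorem corefl_iso' {C : Type*} [Category C] (S : C → Prop) {X W₁ W₂ : C} (c₁ : W₁ ⟶ X)
    (c₂ : W₂ ⟶ X) (h₁ : S W₁) (h₂ : S W₂)
    (b₁ : ∀ T, S T → Function.Bijective (fun g : T ⟶ W₁ => g ≫ c₁))
    (b₂ : ∀ T, S T → Function.Bijective (fun g : T ⟶ W₂ => g ≫ c₂)) :
    ∃ φ : W₁ ≅ W₂, φ.hom ≫ c₂ = c₁ := by
  obtain ⟨a, ha⟩ := (b₂ W₁ h₁).2 c₁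
  obtain ⟨b, hb⟩ := (b₁ W₂ h₂).2 c₂
  have ha' : a ≫ c₂ = c₁ := ha
  have hb' : b ≫ c₁ = c₂ := hb
  refine ⟨⟨a, b, ?_, ?_⟩, ha'⟩
  · apply (b₁ W₁ h₁).1
    change (a ≫ b) ≫ c₁ = 𝟙 W₁ ≫ c₁
    rw [Category.assoc, hb', ha', Category.id_comp]
  · apply (b₂ W₂ h₂).1
    change (b ≫ a) ≫ c₂ = 𝟙 W₂ ≫ c₂
    rw [Category.assoc, ha', hb', Category.id_comp]

theorem comp4 {C : Type*} [Category C] {X0 X1 X2 X3 X3' X4 Y1 Y2 : C} (a : X0 ⟶ X1)
    (b : X1 ⟶ X2) (i : X2 ⟶ X3) (s : X3 ⟶ X4) (q : X2 ⟶ X3') (i' : X3' ⟶ X4)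
    (w : X0 ⟶ Y1) (a' : Y1 ⟶ Y2) (b' : Y2 ⟶ X3') (h3 : q ≫ i' = i ≫ s)
    (hk : (a ≫ b ≫ q) ≫ i' = (w ≫ a' ≫ b') ≫ i') :
    (a ≫ b ≫ i) ≫ s = w ≫ a' ≫ b' ≫ i' := by
  simp only [Category.assoc] at hk ⊢
  rw [← h3]
  exact hk

variable {A : Type u} [CommRing A] (J : Ideal A)

/-- the functor `N ↦ N[0]` -/
noncomputable abbrev sgl : ModuleCat.{u} A ⥤ DRing.Cx A :=
  HomologicalComplex.single (ModuleCat.{u} A) (ComplexShape.up ℤ) 0

section

variable (F : ModuleCat.{u} A ⥤ ModuleCat.{u} A) [F.Additive] (N : ModuleCat.{u} A)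
  (gs : List A)

/-- `F (Č(N))` in the derived category -/
noncomputable abbrev W : Dual.D A := Q.obj ((Psi F).obj (DerCA.extCech N gs))

/-- `F (N[0]) ≅ (F N)[0]` -/
noncomputable def iotaF : (Psi F).obj (sgl.obj N) ≅ sgl.obj (F.obj N) :=
  (HomologicalComplex.singleMapHomologicalComplex F (ComplexShape.up ℤ) 0).app N

/-- the coreflection arrow `F(Č(N)) ⟶ F N` -/
noncomputable def cF : W F N gs ⟶
    (DerivedCategory.singleFunctor (ModuleCat.{u} A) 0).obj (F.obj N) :=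
  Q.map ((Psi F).map (cechPi N gs)) ≫ Q.map (iotaF F N).hom ≫
    (DerivedCategory.singleFunctorIsoCompQ (ModuleCat.{u} A) 0).inv.app (F.obj N)

end

section

variable {F F' : ModuleCat.{u} A ⥤ ModuleCat.{u} A} [F.Additive] [F'.Additive] (τ : F ⟶ F')
  (N : ModuleCat.{u} A) (gs : List A)

/-- the map induced by `F ⟶ F'` -/
noncomputable def Wmap : W F N gs ⟶ W F' N gs :=
  Q.map ((NatTrans.mapHomologicalComplex τ (ComplexShape.up ℤ)).app (DerCA.extCech N gs))

theorem iotaF_nat :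
    (NatTrans.mapHomologicalComplex τ (ComplexShape.up ℤ)).app (sgl.obj N) ≫ (iotaF F' N).hom =
      (iotaF F N).hom ≫ sgl.map (τ.app N) := by
  apply HomologicalComplex.to_single_hom_ext
  unfold iotaF
  rw [HomologicalComplex.comp_f, HomologicalComplex.comp_f, Iso.app_hom, Iso.app_hom,
    HomologicalComplex.singleMapHomologicalComplex_hom_app_self,
    HomologicalComplex.singleMapHomologicalComplex_hom_app_self,
    HomologicalComplex.single_map_f_self, NatTrans.mapHomologicalComplex_app_f]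
  have hn := τ.naturality (HomologicalComplex.singleObjXSelf (ComplexShape.up ℤ) 0 N).hom
  have r1 : (F.map (HomologicalComplex.singleObjXSelf (ComplexShape.up ℤ) 0 N).hom ≫
      (HomologicalComplex.singleObjXSelf (ComplexShape.up ℤ) 0 (F.obj N)).inv) ≫
      (HomologicalComplex.singleObjXSelf (ComplexShape.up ℤ) 0 (F.obj N)).hom ≫ τ.app N ≫
        (HomologicalComplex.singleObjXSelf (ComplexShape.up ℤ) 0 (F'.obj N)).inv =
      (F.map (HomologicalComplex.singleObjXSelf (ComplexShape.up ℤ) 0 N).hom ≫ τ.app N) ≫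
        (HomologicalComplex.singleObjXSelf (ComplexShape.up ℤ) 0 (F'.obj N)).inv := by
    simp only [Category.assoc, Iso.inv_hom_id_assoc]
  refine Eq.trans ?_ r1.symm
  exact (Category.assoc _ _ _).symm.trans (congrArg
    (· ≫ (HomologicalComplex.singleObjXSelf (ComplexShape.up ℤ) 0 (F'.obj N)).inv) hn.symm)

theorem cF_nat :
    cF F N gs ≫ (DerivedCategory.singleFunctor (ModuleCat.{u} A) 0).map (τ.app N) =
      Wmap τ N gs ≫ cF F' N gs := by
  have s1 := (NatTrans.mapHomologicalComplex τ (ComplexShape.up ℤ)).naturality (cechPi N gs)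
  have s2 := iotaF_nat τ N
  have s3 := (DerivedCategory.singleFunctorIsoCompQ (ModuleCat.{u} A) 0).inv.naturality (τ.app N)
  have s1r := s1 =≫ (iotaF F' N).hom
  have key : (Psi F).map (cechPi N gs) ≫ (iotaF F N).hom ≫ sgl.map (τ.app N) =
      (NatTrans.mapHomologicalComplex τ (ComplexShape.up ℤ)).app (DerCA.extCech N gs) ≫
        (Psi F').map (cechPi N gs) ≫ (iotaF F' N).hom := by
    rw [← s2]
    simpa only [Category.assoc] using s1r
  have keyQ : (Q.map ((Psi F).map (cechPi N gs)) ≫ Q.map (iotaF F N).hom ≫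
        Q.map (sgl.map (τ.app N))) ≫
        (DerivedCategory.singleFunctorIsoCompQ (ModuleCat.{u} A) 0).inv.app (F'.obj N) =
      (Q.map ((NatTrans.mapHomologicalComplex τ (ComplexShape.up ℤ)).app (DerCA.extCech N gs)) ≫
        Q.map ((Psi F').map (cechPi N gs)) ≫ Q.map (iotaF F' N).hom) ≫
        (DerivedCategory.singleFunctorIsoCompQ (ModuleCat.{u} A) 0).inv.app (F'.obj N) := by
    rw [← Functor.map_comp, ← Functor.map_comp, ← Functor.map_comp, ← Functor.map_comp, key]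
  unfold cF Wmap
  exact comp4 _ _ _ _ _ _ _ _ _ s3 keyQ

end

variable [IsNoetherianRing A] [DRing.HasRgammaI J]

section

variable (F : ModuleCat.{u} A ⥤ ModuleCat.{u} A) [F.Additive] (N : ModuleCat.{u} A)
  (gs : List A)

theorem cF_bij (hF : Lin F) (hgs : ∀ g ∈ gs, g ∈ J) (T : Dual.D A) (hT : Tors J T) :
    Function.Bijective (fun f : T ⟶ W F N gs => f ≫ cF F N gs) := by
  have h1 := coR_cechPi J F hF gs hgs N T hT
  let e : Q.obj ((Psi F).obj (sgl.obj N)) ≅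
      (DerivedCategory.singleFunctor (ModuleCat.{u} A) 0).obj (F.obj N) :=
    Q.mapIso (iotaF F N) ≪≫
      ((DerivedCategory.singleFunctorIsoCompQ (ModuleCat.{u} A) 0).app (F.obj N)).symm
  have h2 : Function.Bijective (fun f : T ⟶ Q.obj ((Psi F).obj (sgl.obj N)) => f ≫ e.hom) :=
    ⟨fun a b hab => (cancel_mono e.hom).1 hab, fun b => ⟨b ≫ e.inv, by simp⟩⟩
  have : (fun f : T ⟶ W F N gs => f ≫ cF F N gs) =
      (fun f : T ⟶ Q.obj ((Psi F).obj (sgl.obj N)) => f ≫ e.hom) ∘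
      (fun f : T ⟶ Q.obj ((Psi F).obj (DerCA.extCech N gs)) =>
        f ≫ Q.map ((Psi F).map (cechPi N gs))) := by
    funext f
    change f ≫ _ = (f ≫ _) ≫ _
    rw [Category.assoc]
    rfl
  rw [this]
  exact h2.comp h1

theorem exists_theta (hF : Lin F) (hF' : ∀ g : A, Helper98.CechBC.LocCompat F g g)
    (hspan : Ideal.span {y | y ∈ gs} = J) :
    ∃ θ : (DRing.RgammaI J).obj
        ((DerivedCategory.singleFunctor (ModuleCat.{u} A) 0).obj (F.obj N)) ≅ W F N gs,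
      θ.hom ≫ cF F N gs = (DRing.RgammaIε J).app _ :=
  corefl_iso' (Tors J) ((DRing.RgammaIε J).app _) (cF F N gs)
    (Groth.Agent.Lib.Helper88.GM3.tors_rg J _) (tors_map_extCech J F hF' N gs hspan)
    (fun T hT => Groth.Agent.Lib.Helper88.GM3.comp_ε_bij J T hT _)
    (fun T hT => cF_bij J F N gs hF (fun g hg => hspan ▸ Ideal.subset_span hg) T hT)

end

theorem theta_nat {F F' : ModuleCat.{u} A ⥤ ModuleCat.{u} A} [F.Additive] [F'.Additive]
    (τ : F ⟶ F') (N : ModuleCat.{u} A) (gs : List A) (hF' : Lin F') (hgs : ∀ g ∈ gs, g ∈ J)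
    (θ : (DRing.RgammaI J).obj
        ((DerivedCategory.singleFunctor (ModuleCat.{u} A) 0).obj (F.obj N)) ≅ W F N gs)
    (hθ : θ.hom ≫ cF F N gs = (DRing.RgammaIε J).app _)
    (θ' : (DRing.RgammaI J).obj
        ((DerivedCategory.singleFunctor (ModuleCat.{u} A) 0).obj (F'.obj N)) ≅ W F' N gs)
    (hθ' : θ'.hom ≫ cF F' N gs = (DRing.RgammaIε J).app _) :
    (DRing.RgammaI J).map ((DerivedCategory.singleFunctor (ModuleCat.{u} A) 0).map (τ.app N)) ≫
      θ'.hom = θ.hom ≫ Wmap τ N gs := by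
  apply (cF_bij J F' N gs hF' hgs _ (Groth.Agent.Lib.Helper88.GM3.tors_rg J _)).1
  change (_ ≫ θ'.hom) ≫ cF F' N gs = (θ.hom ≫ Wmap τ N gs) ≫ cF F' N gs
  rw [Category.assoc, hθ', Category.assoc, ← cF_nat, ← Category.assoc, hθ]
  exact (DRing.RgammaIε J).naturality _

end Groth.Agent.Lib.Helper88.RL5c
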