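import Groth.Agent.Lib.Helper88.RL3
import Groth.Agent.Lib.Helper88.GM2
import Mathlib.Algebra.Homology.DerivedCategory.Linear

/-!
# Transfer of derived limits along isomorphisms; the termwise completion is derived complete
-/

set_option autoImplicit false
universe u

namespace Groth.Agent.Lib.Helper88.RL6a

open CategoryTheory CategoryTheory.Limits CategoryTheory.Pretriangulated DerivedCategory
open Groth.Agent.Lib.Helper88.RL2 Groth.Agent.Lib.Helper88.RL3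
open Groth.Agent.Lib.Helper88.GM1 Groth.Agent.Lib.Helper88.GM2
open Groth.Agent.Lib.Helper25.DCompTri

attribute [local instance] HasDerivedCategory.standard

section Abstract

variable {T : Type*} [Category T] [Preadditive T] [HasZeroObject T] [HasShift T ℤ]
  [∀ n : ℤ, (shiftFunctor T n).Additive] [Pretriangulated T]

theorem isRlim_of_iso (K K' : ℕ → T) (t : ∀ n, K (n + 1) ⟶ K n) (t' : ∀ n, K' (n + 1) ⟶ K' n)
    [HasProduct K] [HasProduct K'] (L L' : T) (θ : ∀ n, K n ≅ K' n)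
    (hθ : ∀ n, t n ≫ (θ n).hom = (θ (n + 1)).hom ≫ t' n) (φ : L ≅ L')
    (h : DCoh.IsRlim K' t' L') : DCoh.IsRlim K t L := by
  obtain ⟨a', c', hT⟩ := h
  let Ph : ∏ᶜ K ⟶ ∏ᶜ K' := Pi.lift (fun n => Pi.π K n ≫ (θ n).hom)
  let Pv : ∏ᶜ K' ⟶ ∏ᶜ K := Pi.lift (fun n => Pi.π K' n ≫ (θ n).inv)
  have hi1 : Ph ≫ Pv = 𝟙 _ := by
    apply Pi.hom_ext
    intro n
    simp [Ph, Pv]
  have hi2 : Pv ≫ Ph = 𝟙 _ := by
    apply Pi.hom_ext
    intro n
    simp [Ph, Pv]
  let PP : ∏ᶜ K ≅ ∏ᶜ K' := ⟨Ph, Pv, hi1, hi2⟩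
  refine ⟨φ.hom ≫ a' ≫ Pv, Ph ≫ c' ≫ φ.inv⟦(1 : ℤ)⟧', ?_⟩
  refine isomorphic_distinguished _ hT _ (Triangle.isoMk _ _ φ PP PP ?_ ?_ ?_)
  · change (φ.hom ≫ a' ≫ Pv) ≫ Ph = φ.hom ≫ a'
    rw [Category.assoc, Category.assoc, hi2, Category.comp_id]
  · change (Pi.lift fun n => Pi.π K n - Pi.π K (n + 1) ≫ t n) ≫ Ph =
      Ph ≫ (Pi.lift fun n => Pi.π K' n - Pi.π K' (n + 1) ≫ t' n)
    apply Pi.hom_ext
    intro n
    simp only [Category.assoc, Pi.lift_π, Ph, Preadditive.sub_comp, Preadditive.comp_sub,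
      Pi.lift_π_assoc]
    rw [hθ]
  · change (Ph ≫ c' ≫ φ.inv⟦(1 : ℤ)⟧') ≫ φ.hom⟦(1 : ℤ)⟧' = Ph ≫ c'
    rw [Category.assoc, Category.assoc, ← Functor.map_comp, φ.inv_hom_id,
      CategoryTheory.Functor.map_id, Category.comp_id]

theorem orth_pi (W : T) (K : ℕ → T) [HasProduct K] (h : ∀ n, Orth W (K n)) :
    Orth W (∏ᶜ K) := by
  intro m
  rw [← subsingleton_shift_iff (-m) m (by omega)]
  constructor
  intro a b
  apply Pi.hom_ext
  intro n
  have := (subsingleton_shift_iff (X := W) (Y := K n) (-m) m (by omega)).2 (h n m)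
  exact this.elim _ _

end Abstract

variable {A : Type u} [CommRing A] (I : Ideal A) (X : DRing.Cx A)

theorem nil_Xn (n : ℕ) (a : A) (ha : a ∈ I) :
    Nil a (Q.obj (Xn I X n) : DerivedCategory (ModuleCat.{u} A)) := by
  refine ⟨n, ?_⟩
  have h0 : a ^ n • 𝟙 (Xn I X n) = 0 := by
    ext i : 1
    refine ModuleCat.hom_ext (LinearMap.ext fun x => ?_)
    obtain ⟨y, rfl⟩ := Submodule.Quotient.mk_surjective _ x
    change a ^ n • (Submodule.Quotient.mk y : (X.X i) ⧸ (I ^ n • ⊤ : Submodule A (X.X i))) = 0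
    rw [← Submodule.Quotient.mk_smul, Submodule.Quotient.mk_eq_zero]
    exact Submodule.smul_mem_smul (Ideal.pow_mem_pow ha n) Submodule.mem_top
  have h1 : a ^ n • 𝟙 (Q.obj (Xn I X n) : DerivedCategory (ModuleCat.{u} A)) =
      Q.map (a ^ n • 𝟙 (Xn I X n)) := by
    rw [Functor.map_smul, CategoryTheory.Functor.map_id]
  rw [h1, h0, Functor.map_zero]

theorem comp_Q_Xn (n : ℕ) :
    DRing.IsDerivedComplete I (Q.obj (Xn I X n) : DerivedCategory (ModuleCat.{u} A)) :=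
  comp_of_nil I _ (I : Set A) (Ideal.span_eq I) (fun a ha => nil_Xn I X n a ha)

theorem comp_Q_Yc [HasProduct (fun n => (Q.obj (Xn I X n) : DerivedCategory (ModuleCat.{u} A)))] :
    DRing.IsDerivedComplete I (Q.obj (Yc I X) : DerivedCategory (ModuleCat.{u} A)) := by
  intro f hf
  obtain ⟨a, c, hT⟩ := isRlim_Q I X
  have hP : Orth (Dual.inD A (Localization.Away f))
      (∏ᶜ fun n => (Q.obj (Xn I X n) : DerivedCategory (ModuleCat.{u} A))) :=
    orth_pi _ _ (fun n => comp_Q_Xn I X n f hf)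
  have h1 := Orth.of_triangle _ (rot_of_distTriang _ hT) hP hP
  have h2 := h1.shift (-1)
  exact Orth.of_iso ((shiftFunctorCompIsoId (Dual.D A) 1 (-1) (by omega)).app _) h2

end Groth.Agent.Lib.Helper88.RL6a
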