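import Groth.Agent.Lib.Helper88.RL6a
import Groth.Agent.Lib.Helper88.RL5c
import Groth.Agent.Lib.Helper88.RL4c
import Groth.Agent.Lib.Helper88.DCompRefl3
import Groth.Agent.Lib.Helper98.CechRestrict
import Groth.Agent.Lib.Helper92.CechDT

/-!
# Derived completion of `RΓ_J M` as a derived limit of `RΓ_J (M / I^n M)`
-/

set_option autoImplicit false
universe u

namespace Groth.Agent.Lib.Helper88.RL6b

open CategoryTheory CategoryTheory.Limits CategoryTheory.Pretriangulated DerivedCategory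
open Groth.Agent.Lib.Helper88.RL2 Groth.Agent.Lib.Helper88.RL3
open Groth.Agent.Lib.Helper88.RL4a Groth.Agent.Lib.Helper88.RL4b Groth.Agent.Lib.Helper88.RL4c
open Groth.Agent.Lib.Helper88.RL5a Groth.Agent.Lib.Helper88.RL5b Groth.Agent.Lib.Helper88.RL5c
open Groth.Agent.Lib.Helper88.RL6a Groth.Agent.Lib.Helper88.RL1
open Groth.Agent.Lib.Helper25.DCompRefl

attribute [local instance] HasDerivedCategory.standard

variable {A : Type u} [CommRing A]

theorem lin_id : Lin (𝟭 (ModuleCat.{u} A)) := fun _ _ => rfl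

theorem locCompat_id (g : A) : Helper98.CechBC.LocCompat (𝟭 (ModuleCat.{u} A)) g g := by
  intro X
  exact (inferInstance : IsLocalizedModule (Submonoid.powers g)
    (LocalizedModule.mkLinearMap (Submonoid.powers g) X))

/-- `𝟭` termwise is the identity -/
noncomputable def psiIdIso (X : DRing.Cx A) : (Psi (𝟭 (ModuleCat.{u} A))).obj X ≅ X :=
  HomologicalComplex.Hom.isoOfComponents (fun _ => Iso.refl _) (by
    intro i j _
    change 𝟙 (X.X i) ≫ X.d i j = X.d i j ≫ 𝟙 (X.X j)
    rw [Category.id_comp, Category.comp_id])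

theorem main [IsNoetherianRing A] (I J : Ideal A) [DRing.HasRgammaI J]
    [DRing.HasDerivedCompletion I] [∀ K : ℕ → Dual.D A, HasProduct K]
    (M : Type u) [AddCommGroup M] [Module A M] [Module.Finite A M] :
    DCoh.IsRlim
      (fun n : ℕ => (DRing.RgammaI J).obj (Dual.inD A (M ⧸ (I ^ n • ⊤ : Submodule A M))))
      (fun n : ℕ => (DRing.RgammaI J).map ((DerivedCategory.singleFunctor (ModuleCat.{u} A) 0).map
        (ModuleCat.ofHom (Submodule.mapQ (I ^ (n + 1) • ⊤ : Submodule A M)
          (I ^ n • ⊤ : Submodule A M) LinearMap.id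
          (Submodule.smul_mono (Ideal.pow_le_pow_right (Nat.le_succ n)) le_rfl)))))
      ((DRing.derivedCompletion I).obj ((DRing.RgammaI J).obj (Dual.inD A M))).obj ∧
    ∀ i : ℤ, i < 0 → Subsingleton (Dual.HD A
      ((DRing.derivedCompletion I).obj ((DRing.RgammaI J).obj (Dual.inD A M))).obj i) := by
  obtain ⟨gs, hgs⟩ := Helper98.CechRestrict.exists_list_span J
  let N : ModuleCat.{u} A := ModuleCat.of A M
  let X : DRing.Cx A := DerCA.extCech N gs
  have hmem : ∀ g ∈ gs, g ∈ J := fun g hg => hgs ▸ Ideal.subset_span hg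
  have hθ : ∀ n : ℕ, ∃ θ : (DRing.RgammaI J).obj
      ((DerivedCategory.singleFunctor (ModuleCat.{u} A) 0).obj ((quotF I n).obj N)) ≅
        W (quotF I n) N gs,
      θ.hom ≫ cF (quotF I n) N gs = (DRing.RgammaIε J).app _ := fun n =>
    exists_theta J (quotF I n) N gs (lin_quotF I n) (fun g => locCompat_quotF I n g) hgs
  choose θ hθ' using hθ
  have hnat : ∀ n : ℕ, (DRing.RgammaI J).map
      ((DerivedCategory.singleFunctor (ModuleCat.{u} A) 0).map ((tau I n).app N)) ≫ (θ n).hom =
      (θ (n + 1)).hom ≫ Wmap (tau I n) N gs := fun n =>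
    theta_nat J (tau I n) N gs (lin_quotF I n) hmem (θ (n + 1)) (hθ' (n + 1)) (θ n) (hθ' n)
  obtain ⟨θ₀, -⟩ := exists_theta J (𝟭 (ModuleCat.{u} A)) N gs lin_id locCompat_id hgs
  let κ : (DRing.RgammaI J).obj (Dual.inD A M) ≅ Q.obj X := θ₀ ≪≫ Q.mapIso (psiIdIso X)
  have hr0 : IsRefl (DRing.IsDerivedComplete I) (Q.map (al (adicF I) (alpha I) X)) :=
    pr_cech I M gs N (inC_self M)
  have hr : IsRefl (DRing.IsDerivedComplete I) (κ.hom ≫ Q.map (al (adicF I) (alpha I) X)) := by
    refine isRefl_of_sq (Q.map (al (adicF I) (alpha I) X)) _ κ.symm (Iso.refl _) ?_ hr0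
    simp
  have hu := Groth.Agent.Lib.Helper88.GM3.isRefl_unit' I ((DRing.RgammaI J).obj (Dual.inD A M))
  have hYc : DRing.IsDerivedComplete I (Q.obj (Yc I X)) := comp_Q_Yc I X
  obtain ⟨φ, -⟩ := Groth.Agent.Lib.Helper88.DCompRefl3.IsRefl.exists_iso hu hr
    ((DRing.derivedCompletion I).obj ((DRing.RgammaI J).obj (Dual.inD A M))).property hYc
  refine ⟨?_, ?_⟩
  · exact isRlim_of_iso
      (fun n : ℕ => (DRing.RgammaI J).obj (Dual.inD A (M ⧸ (I ^ n • ⊤ : Submodule A M))))
      (fun n => (Q.obj (Xn I X n) : DerivedCategory (ModuleCat.{u} A)))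
      (fun n => (DRing.RgammaI J).map
        ((DerivedCategory.singleFunctor (ModuleCat.{u} A) 0).map ((tau I n).app N)))
      (fun n => Q.map (Tn I X n)) _ _ θ hnat φ (isRlim_Q I X)
  · intro i hi
    have hX : IsZero (X.X i) := Groth.Agent.Lib.Helper92.CechDT.isZero_X_neg N gs i hi
    have hY : IsZero ((Yc I X).X i) := (adicF I).map_isZero hX
    have hH : IsZero ((Yc I X).homology i) :=
      ShortComplex.isZero_homology_of_isZero_X₂ _ hY
    have e : (DerivedCategory.homologyFunctor (ModuleCat.{u} A) i).obj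
        ((DRing.derivedCompletion I).obj ((DRing.RgammaI J).obj (Dual.inD A M))).obj ≅
        (Yc I X).homology i :=
      (DerivedCategory.homologyFunctor (ModuleCat.{u} A) i).mapIso φ ≪≫
        Helper89.RGI.homologyQIso (Yc I X) i
    exact ModuleCat.subsingleton_of_isZero (IsZero.of_iso hH e)

end Groth.Agent.Lib.Helper88.RL6b
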