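import Groth.Agent.Lib.Helper88.RL4a
import Groth.Agent.Lib.Helper98.CechBC
import Groth.Agent.Lib.Helper92.CechDT
import Mathlib.Algebra.Homology.DerivedCategory.HomologySequence

/-!
# `H⁰` of a functor applied termwise to the extended Čech complex
-/

set_option autoImplicit false
universe u

namespace Groth.Agent.Lib.Helper88.RL7a

open CategoryTheory CategoryTheory.Limits HomologicalComplex CochainComplex HomComplex
open Groth.Agent.Lib.Helper88.RL4a Helper98.CechFun

attribute [local instance] HasDerivedCategory.standard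

variable {A : Type u} [CommRing A] (G : ModuleCat.{u} A ⥤ ModuleCat.{u} A) [G.Additive]

set_option backward.defeqAttrib.useBackward true in
set_option backward.isDefEq.respectTransparency false in
theorem mapCoconeIso_hom_fst {K L : DRing.Cx A} (φ : K ⟶ L) :
    (Helper98.CechBC.mapCoconeIso G φ).hom ≫
      mappingCocone.fst ((G.mapHomologicalComplex (ComplexShape.up ℤ)).map φ) =
    (G.mapHomologicalComplex (ComplexShape.up ℤ)).map (mappingCocone.fst φ) := by
  ext n : 1
  simp [Helper98.CechBC.mapCoconeIso, mappingCocone.fst, mappingCone.mapHomologicalComplexIso,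
    mappingCone.mapHomologicalComplexXIso_eq φ G (n + -1) n (by omega),
    Cochain.leftShift_v (n := 1) _ _ _ _ _ n _ (n + -1) (by lia)]
  exact Category.id_comp _

/-- `H⁰(G fst)` is injective when `L` vanishes in degree `-1` -/
theorem injective_H0_fst {K L : DRing.Cx A} (φ : K ⟶ L) (hL : IsZero (L.X (-1))) :
    Function.Injective (HomologicalComplex.homologyMap
      ((Psi G).map (mappingCocone.fst φ : mappingCocone φ ⟶ K)) 0).hom := by
  have hd := DerivedCategory.mappingCocone_triangle_distinguished ((Psi G).map φ)
  have e1 := CochainComplex.homologyMap_exact₁_of_distTriang _ hd (-1) 0 (by norm_num)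
  have hz : IsZero (((Psi G).obj L).homology (-1)) :=
    ShortComplex.isZero_homology_of_isZero_X₂ _ (G.map_isZero hL)
  have hmono : Mono (HomologicalComplex.homologyMap
      (mappingCocone.fst ((Psi G).map φ)) 0) := e1.mono_g (hz.eq_of_src _ _)
  have hinj := (ModuleCat.mono_iff_injective _).mp hmono
  have h2 : HomologicalComplex.homologyMap ((Psi G).map (mappingCocone.fst φ)) 0 =
      HomologicalComplex.homologyMap (Helper98.CechBC.mapCoconeIso G φ).hom 0 ≫
        HomologicalComplex.homologyMap (mappingCocone.fst ((Psi G).map φ)) 0 := by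
    rw [← HomologicalComplex.homologyMap_comp, mapCoconeIso_hom_fst]
  rw [h2]
  have hiso : IsIso (HomologicalComplex.homologyMap (Helper98.CechBC.mapCoconeIso G φ).hom 0) :=
    inferInstance
  have hb := (ConcreteCategory.bijective_of_isIso
    (HomologicalComplex.homologyMap (Helper98.CechBC.mapCoconeIso G φ).hom 0)).1
  exact hinj.comp hb

/-- exactness of `H⁰(G cocone) → H⁰(G K) → H⁰(G L)` -/
theorem exact_H0_fst {K L : DRing.Cx A} (φ : K ⟶ L) (z : ((Psi G).obj K).homology 0)
    (hz : (HomologicalComplex.homologyMap ((Psi G).map φ) 0).hom z = 0) :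
    ∃ w : ((Psi G).obj (mappingCocone φ)).homology 0,
      (HomologicalComplex.homologyMap
        ((Psi G).map (mappingCocone.fst φ : mappingCocone φ ⟶ K)) 0).hom w = z := by
  have hd := DerivedCategory.mappingCocone_triangle_distinguished ((Psi G).map φ)
  have e2 := CochainComplex.homologyMap_exact₂_of_distTriang _ hd 0
  rw [ShortComplex.moduleCat_exact_iff] at e2
  obtain ⟨w', hw'⟩ := e2 z hz
  have hb := (ConcreteCategory.bijective_of_isIso
    (HomologicalComplex.homologyMap (Helper98.CechBC.mapCoconeIso G φ).hom 0)).2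
  obtain ⟨w, rfl⟩ := hb w'
  refine ⟨w, ?_⟩
  have h2 : HomologicalComplex.homologyMap ((Psi G).map (mappingCocone.fst φ)) 0 =
      HomologicalComplex.homologyMap (Helper98.CechBC.mapCoconeIso G φ).hom 0 ≫
        HomologicalComplex.homologyMap (mappingCocone.fst ((Psi G).map φ)) 0 := by
    rw [← HomologicalComplex.homologyMap_comp, mapCoconeIso_hom_fst]
  rw [h2]
  exact hw'

/-- the single complex -/
noncomputable abbrev sgl : ModuleCat.{u} A ⥤ DRing.Cx A :=
  HomologicalComplex.single (ModuleCat.{u} A) (ComplexShape.up ℤ) 0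

/-- `H⁰(G π)` -/
noncomputable abbrev PG (N : ModuleCat.{u} A) (gs : List A) :
    ((Psi G).obj (DerCA.extCech N gs)).homology 0 ⟶ ((Psi G).obj (sgl.obj N)).homology 0 :=
  HomologicalComplex.homologyMap ((Psi G).map (cechPi N gs)) 0

theorem PG_cons (N : ModuleCat.{u} A) (g : A) (gs : List A) :
    PG G N (g :: gs) = HomologicalComplex.homologyMap ((Psi G).map (mappingCocone.fst
      (DerCA.locCxUnit (Submonoid.powers g) (DerCA.extCech N gs)) :
        mappingCocone (DerCA.locCxUnit (Submonoid.powers g) (DerCA.extCech N gs)) ⟶ _)) 0 ≫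
      PG G N gs := by
  unfold PG
  rw [← HomologicalComplex.homologyMap_comp, ← Functor.map_comp]
  rfl

theorem injective_PG (N : ModuleCat.{u} A) (gs : List A) :
    Function.Injective (PG G N gs).hom := by
  induction gs with
  | nil =>
    have h1 : PG G N [] = 𝟙 _ := by
      unfold PG
      change HomologicalComplex.homologyMap ((Psi G).map (𝟙 _)) 0 = _
      rw [CategoryTheory.Functor.map_id, HomologicalComplex.homologyMap_id]
    rw [h1]
    exact fun _ _ h => h
  | cons g gs ih =>
    rw [PG_cons]
    have h1 := injective_H0_fst G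
      (DerCA.locCxUnit (Submonoid.powers g) (DerCA.extCech N gs))
      ((DerCA.locFunctor (Submonoid.powers g)).map_isZero
        (Groth.Agent.Lib.Helper92.CechDT.isZero_X_neg N gs (-1) (by omega)))
    exact ih.comp h1

end Groth.Agent.Lib.Helper88.RL7a
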