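import Groth.Agent.Lib.Helper88.RL7a

/-!
# The image of `H⁰(G(Č(N))) → H⁰(G(N[0]))`
-/

set_option autoImplicit false
universe u

namespace Groth.Agent.Lib.Helper88.RL7b

open CategoryTheory CategoryTheory.Limits HomologicalComplex CochainComplex HomComplex
open Groth.Agent.Lib.Helper88.RL4a Helper98.CechFun Groth.Agent.Lib.Helper88.RL7a

attribute [local instance] HasDerivedCategory.standard

variable {A : Type u} [CommRing A] (G : ModuleCat.{u} A ⥤ ModuleCat.{u} A) [G.Additive]

theorem H0_fst_comp {K L : DRing.Cx A} (φ : K ⟶ L) :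
    HomologicalComplex.homologyMap
      ((Psi G).map (mappingCocone.fst φ : mappingCocone φ ⟶ K)) 0 ≫
      HomologicalComplex.homologyMap ((Psi G).map φ) 0 = 0 := by
  have hd := DerivedCategory.mappingCocone_triangle_distinguished ((Psi G).map φ)
  have h0 := CochainComplex.homologyMap_comp_eq_zero_of_distTriang _ hd 0
  have h0' : HomologicalComplex.homologyMap (mappingCocone.fst ((Psi G).map φ)) 0 ≫
      HomologicalComplex.homologyMap ((Psi G).map φ) 0 = 0 := h0
  have h2 : HomologicalComplex.homologyMap ((Psi G).map (mappingCocone.fst φ)) 0 =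
      HomologicalComplex.homologyMap (Helper98.CechBC.mapCoconeIso G φ).hom 0 ≫
        HomologicalComplex.homologyMap (mappingCocone.fst ((Psi G).map φ)) 0 := by
    rw [← HomologicalComplex.homologyMap_comp, mapCoconeIso_hom_fst]
  rw [h2, Category.assoc, h0', comp_zero]

/-- the map `H⁰(G(N[0])) → H⁰(G(N_g[0]))` -/
noncomputable abbrev UG (N : ModuleCat.{u} A) (g : A) :
    ((Psi G).obj (sgl.obj N)).homology 0 ⟶
      ((Psi G).obj ((DerCA.locCx (Submonoid.powers g)).obj (sgl.obj N))).homology 0 :=
  HomologicalComplex.homologyMap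
    ((Psi G).map (DerCA.locCxUnit (Submonoid.powers g) (sgl.obj N))) 0

theorem injective_loc (N : ModuleCat.{u} A) (g : A) (gs : List A) :
    Function.Injective (HomologicalComplex.homologyMap
      ((Psi G).map ((DerCA.locCx (Submonoid.powers g)).map (cechPi N gs))) 0).hom :=
  injective_PG (DerCA.locFunctor (Submonoid.powers g) ⋙ G) N gs

theorem square (N : ModuleCat.{u} A) (g : A) (gs : List A) :
    PG G N gs ≫ UG G N g =
      HomologicalComplex.homologyMap
        ((Psi G).map (DerCA.locCxUnit (Submonoid.powers g) (DerCA.extCech N gs))) 0 ≫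
      HomologicalComplex.homologyMap
        ((Psi G).map ((DerCA.locCx (Submonoid.powers g)).map (cechPi N gs))) 0 := by
  unfold PG UG
  rw [← HomologicalComplex.homologyMap_comp, ← HomologicalComplex.homologyMap_comp,
    ← Functor.map_comp, ← Functor.map_comp, locCxUnit_naturality]

theorem range_PG (N : ModuleCat.{u} A) (gs : List A) :
    ∀ y : ((Psi G).obj (sgl.obj N)).homology 0,
      y ∈ Set.range (PG G N gs).hom ↔ ∀ g ∈ gs, (UG G N g).hom y = 0 := by
  induction gs with
  | nil =>
    intro y
    have h1 : PG G N [] = 𝟙 _ := by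
      unfold PG
      change HomologicalComplex.homologyMap ((Psi G).map (𝟙 _)) 0 = _
      rw [CategoryTheory.Functor.map_id, HomologicalComplex.homologyMap_id]
    constructor
    · intro _ g hg
      exact absurd hg List.not_mem_nil
    · intro _
      rw [h1]
      exact ⟨y, rfl⟩
  | cons g gs ih =>
    intro y
    have hsq := square G N g gs
    have hsq' : ∀ z, (UG G N g).hom ((PG G N gs).hom z) =
        (HomologicalComplex.homologyMap
          ((Psi G).map ((DerCA.locCx (Submonoid.powers g)).map (cechPi N gs))) 0).hom
        ((HomologicalComplex.homologyMap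
          ((Psi G).map (DerCA.locCxUnit (Submonoid.powers g) (DerCA.extCech N gs))) 0).hom z) :=
      fun z => congrArg (fun t => t.hom z) hsq
    have hcons : ∀ x, (PG G N (g :: gs)).hom x = (PG G N gs).hom
        ((HomologicalComplex.homologyMap ((Psi G).map (mappingCocone.fst
          (DerCA.locCxUnit (Submonoid.powers g) (DerCA.extCech N gs)) :
          mappingCocone (DerCA.locCxUnit (Submonoid.powers g) (DerCA.extCech N gs)) ⟶ _)) 0).hom
          x) := fun x => congrArg (fun t => t.hom x) (PG_cons G N g gs)
    constructor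
    · rintro ⟨x, rfl⟩ g' hg'
      rw [hcons]
      rcases List.mem_cons.mp hg' with rfl | hmem
      · rw [hsq']
        have h0 := congrArg (fun t => t.hom x) (H0_fst_comp G
          (DerCA.locCxUnit (Submonoid.powers g') (DerCA.extCech N gs)))
        have h0' : (HomologicalComplex.homologyMap
            ((Psi G).map (DerCA.locCxUnit (Submonoid.powers g') (DerCA.extCech N gs))) 0).hom
            ((HomologicalComplex.homologyMap ((Psi G).map (mappingCocone.fst
              (DerCA.locCxUnit (Submonoid.powers g') (DerCA.extCech N gs)) :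
              mappingCocone (DerCA.locCxUnit (Submonoid.powers g') (DerCA.extCech N gs)) ⟶ _))
              0).hom x) = 0 := h0
        rw [h0', map_zero]
      · exact (ih _).1 ⟨_, rfl⟩ g' hmem
    · intro h
      obtain ⟨z, rfl⟩ := (ih y).2 (fun g' hg' => h g' (List.mem_cons_of_mem _ hg'))
      have hg := h g List.mem_cons_self
      rw [hsq'] at hg
      have hz : (HomologicalComplex.homologyMap
          ((Psi G).map (DerCA.locCxUnit (Submonoid.powers g) (DerCA.extCech N gs))) 0).hom z =
          0 := by
        apply injective_loc G N g gs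
        rw [hg, map_zero]
      obtain ⟨w, hw⟩ := exact_H0_fst G _ z hz
      exact ⟨w, by rw [hcons, hw]⟩

end Groth.Agent.Lib.Helper88.RL7b
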