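import Groth.Agent.Lib.Helper88.RL7b
import Groth.Agent.Lib.Helper88.RL5c

/-!
# Identification of `H⁰(G(N[0]))` with `G N`, and the image of `H⁰(G(Č(N)))` in these terms
-/

set_option autoImplicit false
universe u

namespace Groth.Agent.Lib.Helper88.RL7c

open CategoryTheory CategoryTheory.Limits HomologicalComplex CochainComplex HomComplex
open Groth.Agent.Lib.Helper88.RL4a Helper98.CechFun Groth.Agent.Lib.Helper88.RL7a
open Groth.Agent.Lib.Helper88.RL7b

attribute [local instance] HasDerivedCategory.standard

variable {A : Type u} [CommRing A] (G : ModuleCat.{u} A ⥤ ModuleCat.{u} A) [G.Additive]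

/-- `G (T[0]) ≅ (G T)[0]` -/
noncomputable def iotaG (T : ModuleCat.{u} A) : (Psi G).obj (sgl.obj T) ≅ sgl.obj (G.obj T) :=
  (HomologicalComplex.singleMapHomologicalComplex G (ComplexShape.up ℤ) 0).app T

theorem iotaG_nat {T T' : ModuleCat.{u} A} (f : T ⟶ T') :
    (Psi G).map (sgl.map f) ≫ (iotaG G T').hom = (iotaG G T).hom ≫ sgl.map (G.map f) :=
  (HomologicalComplex.singleMapHomologicalComplex G (ComplexShape.up ℤ) 0).hom.naturality f

/-- `H⁰(G(T[0])) ≅ G T` -/
noncomputable def omega (T : ModuleCat.{u} A) :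
    ((Psi G).obj (sgl.obj T)).homology 0 ≅ G.obj T :=
  (HomologicalComplex.homologyFunctor (ModuleCat.{u} A) (ComplexShape.up ℤ) 0).mapIso
    (iotaG G T) ≪≫ HomologicalComplex.singleObjHomologySelfIso (ComplexShape.up ℤ) 0 (G.obj T)

theorem omega_hom (T : ModuleCat.{u} A) :
    (omega G T).hom = HomologicalComplex.homologyMap (iotaG G T).hom 0 ≫
      (HomologicalComplex.singleObjHomologySelfIso (ComplexShape.up ℤ) 0 (G.obj T)).hom := rfl

theorem omega_nat {T T' : ModuleCat.{u} A} (f : T ⟶ T') :
    HomologicalComplex.homologyMap ((Psi G).map (sgl.map f)) 0 ≫ (omega G T').hom =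
      (omega G T).hom ≫ G.map f := by
  rw [omega_hom, omega_hom, ← Category.assoc, ← HomologicalComplex.homologyMap_comp, iotaG_nat,
    HomologicalComplex.homologyMap_comp, Category.assoc, Category.assoc,
    HomologicalComplex.singleObjHomologySelfIso_hom_naturality]

/-- general form of `al_single` -/
theorem al_single' (a : 𝟭 (ModuleCat.{u} A) ⟶ G) (T : ModuleCat.{u} A) :
    al G a (sgl.obj T) ≫ (iotaG G T).hom = sgl.map (a.app T) := by
  apply HomologicalComplex.from_single_hom_ext
  unfold iotaG
  rw [HomologicalComplex.comp_f, Iso.app_hom,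
    HomologicalComplex.singleMapHomologicalComplex_hom_app_self,
    HomologicalComplex.single_map_f_self, al_f]
  have hn := a.naturality (HomologicalComplex.singleObjXSelf (ComplexShape.up ℤ) 0 T).hom
  exact ((Category.assoc _ _ _).symm.trans (congrArg
    (· ≫ (HomologicalComplex.singleObjXSelf (ComplexShape.up ℤ) 0 (G.obj T)).inv)
    hn.symm)).trans (Category.assoc _ _ _)

theorem omega_al (a : 𝟭 (ModuleCat.{u} A) ⟶ G) (T : ModuleCat.{u} A) :
    HomologicalComplex.homologyMap (al G a (sgl.obj T)) 0 ≫ (omega G T).hom =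
      (HomologicalComplex.singleObjHomologySelfIso (ComplexShape.up ℤ) 0 T).hom ≫ a.app T := by
  rw [omega_hom, ← Category.assoc, ← HomologicalComplex.homologyMap_comp, al_single',
    HomologicalComplex.singleObjHomologySelfIso_hom_naturality]
  rfl

theorem locCxUnit_single (S : Submonoid A) (T : ModuleCat.{u} A) :
    DerCA.locCxUnit S (sgl.obj T) ≫ (iotaG (DerCA.locFunctor S) T).hom =
      sgl.map ((DerCA.locUnit S).app T) :=
  al_single' (DerCA.locFunctor S) (DerCA.locUnit S) T

theorem UG_eq_zero_iff (N : ModuleCat.{u} A) (g : A)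
    (y : ((Psi G).obj (sgl.obj N)).homology 0) :
    (UG G N g).hom y = 0 ↔
      (G.map ((DerCA.locUnit (Submonoid.powers g)).app N)).hom ((omega G N).hom.hom y) = 0 := by
  let S := Submonoid.powers g
  let e : ((Psi G).obj ((DerCA.locCx S).obj (sgl.obj N))).homology 0 ≅
      ((Psi G).obj (sgl.obj ((DerCA.locFunctor S).obj N))).homology 0 :=
    (HomologicalComplex.homologyFunctor (ModuleCat.{u} A) (ComplexShape.up ℤ) 0).mapIso
      ((Psi G).mapIso (iotaG (DerCA.locFunctor S) N))
  have h1 : UG G N g ≫ e.hom =
      HomologicalComplex.homologyMap ((Psi G).map (sgl.map ((DerCA.locUnit S).app N))) 0 := by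
    change HomologicalComplex.homologyMap _ 0 ≫ HomologicalComplex.homologyMap _ 0 = _
    rw [← HomologicalComplex.homologyMap_comp]
    change HomologicalComplex.homologyMap ((Psi G).map (DerCA.locCxUnit S (sgl.obj N)) ≫
      (Psi G).map (iotaG (DerCA.locFunctor S) N).hom) 0 = _
    rw [← Functor.map_comp, locCxUnit_single]
  have h2 := omega_nat G ((DerCA.locUnit S).app N)
  have hinj_e : Function.Injective e.hom.hom :=
    (ConcreteCategory.bijective_of_isIso e.hom).1
  have hinj_o : Function.Injective (omega G ((DerCA.locFunctor S).obj N)).hom.hom :=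
    (ConcreteCategory.bijective_of_isIso (omega G ((DerCA.locFunctor S).obj N)).hom).1
  have key : (omega G ((DerCA.locFunctor S).obj N)).hom.hom (e.hom.hom ((UG G N g).hom y)) =
      (G.map ((DerCA.locUnit S).app N)).hom ((omega G N).hom.hom y) := by
    have h3 := congrArg (fun t => t.hom y) h1
    have h4 := congrArg (fun t => t.hom y) h2
    have h3' : e.hom.hom ((UG G N g).hom y) = (HomologicalComplex.homologyMap
        ((Psi G).map (sgl.map ((DerCA.locUnit S).app N))) 0).hom y := h3
    rw [h3']
    exact h4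
  constructor
  · intro h
    refine key.symm.trans ((congrArg (fun t =>
      (omega G ((DerCA.locFunctor S).obj N)).hom.hom (e.hom.hom t)) h).trans ?_)
    simp
  · intro h
    apply hinj_e
    apply hinj_o
    refine key.trans (h.trans ?_)
    simp

end Groth.Agent.Lib.Helper88.RL7c
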