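import Groth.Agent.Lib.Helper88.RL5a

/-!
# Algebra: vanishing in the completion of a localisation, and the union of the `Γ_{J'}`
-/

set_option autoImplicit false
universe u

namespace Groth.Agent.Lib.Helper88.RL7d

open Groth.Agent.Lib.Helper88.RL5a

variable {A : Type u} [CommRing A] (I : Ideal A)

theorem of_eq_zero_iff {M : Type u} [AddCommGroup M] [Module A M] (x : M) :
    AdicCompletion.of I M x = 0 ↔ ∀ n : ℕ, x ∈ (I ^ n • ⊤ : Submodule A M) := by
  constructor
  · intro h n
    have h1 := congrArg (fun t : AdicCompletion I M => t.val n) h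
    have h2 : Submodule.mkQ (I ^ n • ⊤ : Submodule A M) x = 0 := by
      rw [← AdicCompletion.of_apply]
      exact h1
    exact (Submodule.Quotient.mk_eq_zero _).1 h2
  · intro h
    apply AdicCompletion.ext
    intro n
    rw [AdicCompletion.of_apply]
    exact (Submodule.Quotient.mk_eq_zero _).2 (h n)

theorem mk_mem_smul_top (P : Submonoid A) (J : Ideal A) (M : Type u) [AddCommGroup M]
    [Module A M] (x : M) (hx : x ∈ (J • ⊤ : Submodule A M)) (p : P) :
    LocalizedModule.mk x p ∈ (J • ⊤ : Submodule A (LocalizedModule P M)) := by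
  refine Submodule.smul_induction_on hx ?_ ?_
  · intro a ha m _
    have : LocalizedModule.mk (a • m) p = a • LocalizedModule.mk m p := by
      rw [LocalizedModule.smul'_mk]
    rw [this]
    exact Submodule.smul_mem_smul ha Submodule.mem_top
  · intro x y hx hy
    have : LocalizedModule.mk (x + y) p = LocalizedModule.mk x p + LocalizedModule.mk y p := by
      rw [LocalizedModule.mk_add_mk]
      rw [← smul_add, ← LocalizedModule.mk_cancel_common_left p p (x + y)]
    rw [this]
    exact Submodule.add_mem _ hx hy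

theorem mk_one_mem_iff (g : A) (J : Ideal A) (M : Type u) [AddCommGroup M] [Module A M]
    (s : M) :
    LocalizedModule.mk s (1 : Submonoid.powers g) ∈
        (J • ⊤ : Submodule A (LocalizedModule (Submonoid.powers g) M)) ↔
      ∃ k : ℕ, g ^ k • s ∈ (J • ⊤ : Submodule A M) := by
  constructor
  · intro h
    obtain ⟨x', hx', p, hp⟩ := mem_smul_top_loc (Submonoid.powers g) J M _ h
    rw [Submonoid.smul_def, LocalizedModule.smul'_mk, LocalizedModule.mk_eq] at hp
    obtain ⟨u, hu⟩ := hp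
    obtain ⟨k₁, hk₁⟩ := u.2
    obtain ⟨k₂, hk₂⟩ := p.2
    have hk₁' : g ^ k₁ = (u : A) := hk₁
    have hk₂' : g ^ k₂ = (p : A) := hk₂
    refine ⟨k₁ + k₂, ?_⟩
    have h2 : g ^ (k₁ + k₂) • s = (u : A) • x' := by
      simp only [one_smul, Submonoid.smul_def] at hu
      rw [pow_add, mul_smul, hk₁', hk₂']
      exact hu
    rw [h2]
    exact Submodule.smul_mem _ _ hx'
  · rintro ⟨k, hk⟩
    have h1 := mk_mem_smul_top (Submonoid.powers g) J M _ hk ⟨g ^ k, k, rfl⟩
    have h2 : LocalizedModule.mk (g ^ k • s) (⟨g ^ k, k, rfl⟩ : Submonoid.powers g) =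
        LocalizedModule.mk s (1 : Submonoid.powers g) :=
      LocalizedModule.mk_cancel (⟨g ^ k, k, rfl⟩ : Submonoid.powers g) s
    rw [← h2]
    exact h1

/-- the set of elements with `g^k s ∈ I^n M` for all `n` and all `g ∈ gs` -/
def Sp (gs : List A) (M : Type u) [AddCommGroup M] [Module A M] : Set M :=
  {s | ∀ g ∈ gs, ∀ n : ℕ, ∃ k : ℕ, g ^ k • s ∈ (I ^ n • ⊤ : Submodule A M)}

/-- the union of the `Γ_{J'} M` -/
def Su (J : Ideal A) (M : Type u) [AddCommGroup M] [Module A M] : Set M :=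
  {s | ∃ J' : Ideal A, J' ≤ J ∧ J ≤ (J' ⊔ I).radical ∧ s ∈ DRing.torsionSub J' M}

theorem su_subset_sp (gs : List A) (M : Type u) [AddCommGroup M] [Module A M] :
    Su I (Ideal.span {y | y ∈ gs}) M ⊆ Sp I gs M := by
  rintro s ⟨J', -, hJ, e, he⟩ g hg n
  have hg' : g ∈ (J' ⊔ I).radical := hJ (Ideal.subset_span hg)
  obtain ⟨m, hm⟩ := hg'
  refine ⟨m * (e + n), ?_⟩
  have h1 : g ^ (m * (e + n)) ∈ (J' ⊔ I) ^ (e + n) := by
    rw [pow_mul]
    exact Ideal.pow_mem_pow hm _
  have h2 := Ideal.sup_pow_add_le_pow_sup_pow h1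
  obtain ⟨b, hb, c, hc, hbc⟩ := Submodule.mem_sup.1 h2
  rw [← hbc, add_smul, he b hb, zero_add]
  exact Submodule.smul_mem_smul hc Submodule.mem_top

theorem sp_subset_su [IsNoetherianRing A] (gs : List A) (M : Type u) [AddCommGroup M]
    [Module A M] [Module.Finite A M] :
    Sp I gs M ⊆ Su I (Ideal.span {y | y ∈ gs}) M := by
  intro s hs
  let J := Ideal.span {y : A | y ∈ gs}
  let Ann : Ideal A := Ideal.torsionOf A M s
  refine ⟨J ⊓ Ann, inf_le_left, ?_, 1, ?_⟩
  · rw [Ideal.span_le]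
    intro g hg
    obtain ⟨c, hc⟩ := Ideal.exists_pow_inf_eq_pow_smul I (Submodule.span A {s})
    obtain ⟨k, hk⟩ := hs g hg (c + 1)
    have h1 : g ^ k • s ∈ I ^ (c + 1) • (⊤ : Submodule A M) ⊓ Submodule.span A {s} :=
      ⟨hk, Submodule.smul_mem _ _ (Submodule.mem_span_singleton_self s)⟩
    rw [hc (c + 1) (Nat.le_succ c), Nat.add_sub_cancel_left, pow_one] at h1
    have h2 : g ^ k • s ∈ I • Submodule.span A {s} :=
      Submodule.smul_mono le_rfl inf_le_right h1
    obtain ⟨a, ha, has⟩ := Submodule.mem_smul_span_singleton.1 h2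
    have h3 : g ^ k - a ∈ Ann := by
      change (g ^ k - a) • s = 0
      rw [sub_smul, has, sub_self]
    have hgJ : g ∈ J := Ideal.subset_span hg
    have h4 : g * (g ^ k - a) ∈ J ⊓ Ann :=
      ⟨Ideal.mul_mem_right _ _ hgJ, Ideal.mul_mem_left _ _ h3⟩
    refine ⟨k + 1, ?_⟩
    have h5 : g ^ (k + 1) = g * (g ^ k - a) + g * a := by ring
    rw [h5]
    exact Submodule.add_mem _ (Ideal.mem_sup_left h4)
      (Ideal.mem_sup_right (Ideal.mul_mem_left _ _ ha))
  · intro a ha
    rw [pow_one] at ha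
    exact ha.2

end Groth.Agent.Lib.Helper88.RL7d
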