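import Groth.Agent.Lib.Helper88.RL6b
import Groth.Agent.Lib.Helper88.RL7c
import Groth.Agent.Lib.Helper88.RL7d
import Groth.Agent.Lib.Helper47.AdicFinite

/-!
# `H⁰` of the derived completion of `RΓ_J M`
-/

set_option autoImplicit false
universe u

namespace Groth.Agent.Lib.Helper88.RL7e

open CategoryTheory CategoryTheory.Limits CategoryTheory.Pretriangulated DerivedCategory
open Groth.Agent.Lib.Helper88.RL2 Groth.Agent.Lib.Helper88.RL3
open Groth.Agent.Lib.Helper88.RL4a Groth.Agent.Lib.Helper88.RL4b Groth.Agent.Lib.Helper88.RL4c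
open Groth.Agent.Lib.Helper88.RL5a Groth.Agent.Lib.Helper88.RL5b Groth.Agent.Lib.Helper88.RL5c
open Groth.Agent.Lib.Helper88.RL6a Groth.Agent.Lib.Helper88.RL6b Groth.Agent.Lib.Helper88.RL1
open Groth.Agent.Lib.Helper88.RL7a Groth.Agent.Lib.Helper88.RL7b Groth.Agent.Lib.Helper88.RL7c
open Groth.Agent.Lib.Helper88.RL7d
open Groth.Agent.Lib.Helper25.DCompRefl Helper98.CechFun
open Groth.Agent.Lib.Helper88.GM2

attribute [local instance] HasDerivedCategory.standard

section Abstract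

variable {C : Type*} [Category C]

theorem absE2 {K B QX QS QY QS' LK LB : C} (ε : K ⟶ B) (ηK : K ⟶ LK) (ηB : B ⟶ LB)
    (lε : LK ⟶ LB) (nat : ε ≫ ηB = ηK ≫ lε) (κ : K ⟶ QX) (qπ : QX ⟶ QS) (σ : QS ⟶ B)
    (σi : B ⟶ QS) (hσ : σ ≫ σi = 𝟙 _) (hκ : κ ≫ qπ ≫ σ = ε) (vX : QX ⟶ QY) (vB : QS ⟶ QS')
    (qΨπ : QY ⟶ QS') (hal : qπ ≫ vB = vX ≫ qΨπ) (φK : LK ⟶ QY) (φB : LB ⟶ QS')
    (hφK : ηK ≫ φK = κ ≫ vX) (hφB : ηB ≫ φB = σi ≫ vB) :
    ηK ≫ (lε ≫ φB) = ηK ≫ (φK ≫ qΨπ) := by
  calc ηK ≫ (lε ≫ φB) = (ε ≫ ηB) ≫ φB := by rw [nat, Category.assoc]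
    _ = ε ≫ σi ≫ vB := by rw [Category.assoc, hφB]
    _ = κ ≫ qπ ≫ (σ ≫ σi) ≫ vB := by rw [← hκ]; simp only [Category.assoc]
    _ = κ ≫ qπ ≫ vB := by rw [hσ, Category.id_comp]
    _ = κ ≫ vX ≫ qΨπ := by rw [hal]
    _ = ηK ≫ (φK ≫ qΨπ) := by rw [← Category.assoc, ← hφK, Category.assoc]

theorem paste {X1 X2 X3 X4 Y2 Y3 : C} {a : X1 ⟶ X2} {b : X2 ⟶ X3} {e : X3 ⟶ X4}
    {c : X1 ⟶ Y2} {d : Y2 ⟶ X3} {f : Y2 ⟶ Y3} {g : Y3 ⟶ X4}
    (L1 : a ≫ b = c ≫ d) (L2 : d ≫ e = f ≫ g) : a ≫ (b ≫ e) = (c ≫ f) ≫ g := by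
  rw [← Category.assoc, L1, Category.assoc, L2, Category.assoc]

theorem absM6 {X1 X2 X3 X4 Y2 Y3 Z N' : C} {a : X1 ⟶ X2} {b : X2 ⟶ X3} {e : X3 ⟶ X4}
    {c : X1 ⟶ Y2} {d : Y2 ⟶ X3} {f : Y2 ⟶ Y3} {g : Y3 ⟶ X4} {w : X4 ⟶ Z} {s : Y3 ⟶ N'}
    {t : N' ⟶ Z} (M1 : a ≫ b = c ≫ d) (M2 : d ≫ e = f ≫ g) (M3 : g ≫ w = s ≫ t) :
    a ≫ (b ≫ e) ≫ w = (c ≫ (f ≫ s)) ≫ t := by
  rw [← Category.assoc, paste M1 M2]
  simp only [Category.assoc]
  rw [M3]

end Abstract

variable {A : Type u} [CommRing A]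

set_option backward.isDefEq.respectTransparency.types false in
set_option backward.defeqAttrib.useBackward true in
theorem sfchfi_hom_app (N : ModuleCat.{u} A) :
    (DerivedCategory.singleFunctorCompHomologyFunctorIso (ModuleCat.{u} A) 0).hom.app N =
    (DerivedCategory.homologyFunctorFactors (ModuleCat.{u} A) 0).hom.app
      ((HomologicalComplex.single (ModuleCat.{u} A) (ComplexShape.up ℤ) 0).obj N) ≫
    (HomologicalComplex.singleObjHomologySelfIso (ComplexShape.up ℤ) 0 N).hom := by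
  dsimp [DerivedCategory.singleFunctorCompHomologyFunctorIso]
  rw [singleFunctorsPostcompQIso_hom_hom]
  erw [CategoryTheory.Functor.map_id, Category.id_comp]


theorem hasProduct_Q (Z : ℕ → DRing.Cx A) :
    HasProduct (fun n => (Q.obj (Z n) : DerivedCategory (ModuleCat.{u} A))) := by
  have hlim : IsLimit (Fan.mk (Q.obj (PiC Z)) (fun n => Q.map (PiC.π Z n))) :=
    (isLimitMapConeFanMkEquiv Q Z (PiC.π Z)) (isLimitOfPreserves Q (PiC.isLimit Z))
  exact ⟨⟨⟨_, hlim⟩⟩⟩

/-- the D-level data: isomorphisms `α`, `β` identifying `H⁰` of the completion map with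
`H⁰(Ψ π)`, and the unit with the completion map of `M` -/
theorem exists_data [IsNoetherianRing A] (I J : Ideal A) [DRing.HasRgammaI J]
    [DRing.HasDerivedCompletion I]
    (M : Type u) [AddCommGroup M] [Module A M] [Module.Finite A M] (gs : List A)
    (hgs : Ideal.span {y | y ∈ gs} = J) :
    ∃ (α : (DerivedCategory.homologyFunctor (ModuleCat.{u} A) 0).obj
          ((DRing.derivedCompletion I).obj ((DRing.RgammaI J).obj (Dual.inD A M))).obj ≅
          ((Psi (adicF I)).obj (DerCA.extCech (ModuleCat.of A M) gs)).homology 0)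
      (β : (DerivedCategory.homologyFunctor (ModuleCat.{u} A) 0).obj
          ((DRing.derivedCompletion I).obj (Dual.inD A M)).obj ≅
          ((Psi (adicF I)).obj (RL7a.sgl.obj (ModuleCat.of A M))).homology 0),
      (DerivedCategory.homologyFunctor (ModuleCat.{u} A) 0).map
          ((ObjectProperty.ι (DRing.IsDerivedComplete I)).map ((DRing.derivedCompletion I).map
            ((DRing.RgammaIε J).app (Dual.inD A M)))) ≫ β.hom =
        α.hom ≫ PG (adicF I) (ModuleCat.of A M) gs ∧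
      ((DerivedCategory.singleFunctorCompHomologyFunctorIso (ModuleCat.{u} A) 0).inv.app
          (ModuleCat.of A M) ≫
        (DerivedCategory.homologyFunctor (ModuleCat.{u} A) 0).map
          (DRing.toDerivedCompletion I (Dual.inD A M))) ≫ β.hom ≫
          (omega (adicF I) (ModuleCat.of A M)).hom = (alpha I).app (ModuleCat.of A M) := by
  let N : ModuleCat.{u} A := ModuleCat.of A M
  let X : DRing.Cx A := DerCA.extCech N gs
  let S0 : DRing.Cx A := RL7a.sgl.obj N
  let B : Dual.D A := Dual.inD A M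
  let K : Dual.D A := (DRing.RgammaI J).obj B
  let ε : K ⟶ B := (DRing.RgammaIε J).app B
  let π : X ⟶ S0 := cechPi N gs
  let H := DerivedCategory.homologyFunctor (ModuleCat.{u} A) 0
  let hff := DerivedCategory.homologyFunctorFactors (ModuleCat.{u} A) 0
  have hmem : ∀ g ∈ gs, g ∈ J := fun g hg => hgs ▸ Ideal.subset_span hg
  let σI : Q.obj S0 ≅ B := ((DerivedCategory.singleFunctorIsoCompQ (ModuleCat.{u} A) 0).app N).symm
  -- κ
  have hbij : ∀ T, Tors J T → Function.Bijective (fun f : T ⟶ Q.obj X => f ≫ (Q.map π ≫ σI.hom)) := by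
    intro T hT
    have h1 : Function.Bijective (fun f : T ⟶ Q.obj X => f ≫ Q.map π) :=
      coR_cechPi J (𝟭 (ModuleCat.{u} A)) lin_id gs hmem N T hT
    have h2 : Function.Bijective (fun f : T ⟶ Q.obj S0 => f ≫ σI.hom) :=
      ⟨fun a b hab => (cancel_mono σI.hom).1 hab, fun b => ⟨b ≫ σI.inv, by simp⟩⟩
    have : (fun f : T ⟶ Q.obj X => f ≫ (Q.map π ≫ σI.hom)) =
        (fun f : T ⟶ Q.obj S0 => f ≫ σI.hom) ∘ (fun f : T ⟶ Q.obj X => f ≫ Q.map π) := by
      funext f
      exact (Category.assoc _ _ _).symm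
    rw [this]
    exact h2.comp h1
  obtain ⟨κ, hκ⟩ := corefl_iso' (Tors J) ε (Q.map π ≫ σI.hom)
    (Groth.Agent.Lib.Helper88.GM3.tors_rg J _) (tors_extCech J N gs hgs)
    (fun T hT => Groth.Agent.Lib.Helper88.GM3.comp_ε_bij J T hT _) hbij
  -- reflections
  let vX := Q.map (al (adicF I) (alpha I) X)
  let vB := Q.map (al (adicF I) (alpha I) S0)
  have hrX : IsRefl (DRing.IsDerivedComplete I) vX := pr_cech I M gs N (inC_self M)
  have hrB : IsRefl (DRing.IsDerivedComplete I) vB := pr_cech I M [] N (inC_self M)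
  have hrX' : IsRefl (DRing.IsDerivedComplete I) (κ.hom ≫ vX) := by
    refine isRefl_of_sq vX _ κ.symm (Iso.refl _) ?_ hrX
    simp
  have hrB' : IsRefl (DRing.IsDerivedComplete I) (σI.inv ≫ vB) := by
    refine isRefl_of_sq vB _ σI (Iso.refl _) ?_ hrB
    simp
  have huK := Groth.Agent.Lib.Helper88.GM3.isRefl_unit' I K
  have huB := Groth.Agent.Lib.Helper88.GM3.isRefl_unit' I B
  haveI := hasProduct_Q (Xn I X)
  haveI := hasProduct_Q (Xn I S0)
  have hYc : DRing.IsDerivedComplete I (Q.obj (Yc I X)) := comp_Q_Yc I X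
  have hSc : DRing.IsDerivedComplete I (Q.obj (Yc I S0)) := comp_Q_Yc I S0
  obtain ⟨φK, hφK⟩ := Groth.Agent.Lib.Helper88.DCompRefl3.IsRefl.exists_iso huK hrX'
    ((DRing.derivedCompletion I).obj K).property hYc
  obtain ⟨φB, hφB⟩ := Groth.Agent.Lib.Helper88.DCompRefl3.IsRefl.exists_iso huB hrB'
    ((DRing.derivedCompletion I).obj B).property hSc
  let lε := (ObjectProperty.ι (DRing.IsDerivedComplete I)).map ((DRing.derivedCompletion I).map ε)
  have nat : ε ≫ DRing.toDerivedCompletion I B = DRing.toDerivedCompletion I K ≫ lε :=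
    (DRing.derivedCompletionAdj I).unit.naturality ε
  have hal : Q.map π ≫ vB = vX ≫ Q.map ((Psi (adicF I)).map π) := by
    change Q.map π ≫ Q.map _ = Q.map _ ≫ Q.map _
    rw [← Functor.map_comp, ← Functor.map_comp, al_naturality]
  have hE2 : lε ≫ φB.hom = φK.hom ≫ Q.map ((Psi (adicF I)).map π) := by
    apply (huK (Q.obj (Yc I S0)) hSc).1
    exact absE2 ε (DRing.toDerivedCompletion I K) (DRing.toDerivedCompletion I B) lε nat κ.hom
      (Q.map π) σI.hom σI.inv σI.hom_inv_id hκ vX vB _ hal φK.hom φB.hom hφK hφB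
  -- H-level
  let α : H.obj ((DRing.derivedCompletion I).obj K).obj ≅ (Yc I X).homology 0 :=
    H.mapIso φK ≪≫ hff.app (Yc I X)
  let β : H.obj ((DRing.derivedCompletion I).obj B).obj ≅ (Yc I S0).homology 0 :=
    H.mapIso φB ≪≫ hff.app (Yc I S0)
  refine ⟨α, β, ?_, ?_⟩
  · have L1 : H.map lε ≫ H.map φB.hom = H.map φK.hom ≫ H.map (Q.map ((Psi (adicF I)).map π)) := by
      rw [← Functor.map_comp, ← Functor.map_comp, hE2]
    have L2 : H.map (Q.map ((Psi (adicF I)).map π)) ≫ hff.hom.app (Yc I S0) =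
        hff.hom.app (Yc I X) ≫ PG (adicF I) N gs :=
      hff.hom.naturality ((Psi (adicF I)).map π)
    exact paste L1 L2
  · -- the unit
    have M1 : H.map (DRing.toDerivedCompletion I B) ≫ H.map φB.hom =
        H.map σI.inv ≫ H.map vB := by
      rw [← Functor.map_comp, ← Functor.map_comp, hφB]
    have M2 : H.map vB ≫ hff.hom.app (Yc I S0) = hff.hom.app S0 ≫
        HomologicalComplex.homologyMap (al (adicF I) (alpha I) S0) 0 :=
      hff.hom.naturality (al (adicF I) (alpha I) S0)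
    have M3 := omega_al (adicF I) (alpha I) N
    have M5 := sfchfi_hom_app N
    have M4' : H.map σI.inv ≫ (hff.hom.app S0 ≫
        (HomologicalComplex.singleObjHomologySelfIso (ComplexShape.up ℤ) 0 N).hom) =
        (DerivedCategory.singleFunctorCompHomologyFunctorIso (ModuleCat.{u} A) 0).hom.app N := by
      rw [M5]
      have h1 : H.map σI.inv = 𝟙 (H.obj B) := H.map_id B
      exact (congrArg (fun t => t ≫ (hff.hom.app S0 ≫
        (HomologicalComplex.singleObjHomologySelfIso (ComplexShape.up ℤ) 0 N).hom)) h1).trans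
        (Category.id_comp _)
    have M6 : H.map (DRing.toDerivedCompletion I B) ≫ β.hom ≫ (omega (adicF I) N).hom =
        (DerivedCategory.singleFunctorCompHomologyFunctorIso (ModuleCat.{u} A) 0).hom.app N ≫
          (alpha I).app N := by
      rw [← M4']
      exact absM6 M1 M2 M3
    rw [Category.assoc, M6, ← Category.assoc, Iso.inv_hom_id_app]
    exact Category.id_comp _

end Groth.Agent.Lib.Helper88.RL7e
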