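import Groth.Agent.Lib.Helper88.RL7e

/-!
# `H⁰` of the derived completion of `RΓ_J M`: final statement
-/

set_option autoImplicit false
universe u

namespace Groth.Agent.Lib.Helper88.RL7f

open CategoryTheory CategoryTheory.Limits DerivedCategory
open Groth.Agent.Lib.Helper88.RL2 Groth.Agent.Lib.Helper88.RL4a
open Groth.Agent.Lib.Helper88.RL7a Groth.Agent.Lib.Helper88.RL7b Groth.Agent.Lib.Helper88.RL7c
open Groth.Agent.Lib.Helper88.RL7d Groth.Agent.Lib.Helper88.RL7e

attribute [local instance] HasDerivedCategory.standard

variable {A : Type u} [CommRing A]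

theorem main [IsNoetherianRing A] (I J : Ideal A) [IsAdicComplete I A] [DRing.HasRgammaI J]
    [DRing.HasDerivedCompletion I] (M : Type u) [AddCommGroup M] [Module A M]
    [Module.Finite A M] :
    Function.Injective ((DerivedCategory.homologyFunctor (ModuleCat.{u} A) 0).map
      ((ObjectProperty.ι (DRing.IsDerivedComplete I)).map ((DRing.derivedCompletion I).map
        ((DRing.RgammaIε J).app (Dual.inD A M))))).hom ∧
    Set.range ((DerivedCategory.homologyFunctor (ModuleCat.{u} A) 0).map
      ((ObjectProperty.ι (DRing.IsDerivedComplete I)).map ((DRing.derivedCompletion I).map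
        ((DRing.RgammaIε J).app (Dual.inD A M))))).hom =
      (fun s : M => ((DerivedCategory.homologyFunctor (ModuleCat.{u} A) 0).map
        (DRing.toDerivedCompletion I (Dual.inD A M))).hom
        (((DerivedCategory.singleFunctorCompHomologyFunctorIso (ModuleCat.{u} A) 0).inv.app
          (ModuleCat.of A M)).hom s)) ''
        {s : M | ∃ J' : Ideal A, J' ≤ J ∧ J ≤ (J' ⊔ I).radical ∧ s ∈ DRing.torsionSub J' M} := by
  obtain ⟨gs, rfl⟩ := Helper98.CechRestrict.exists_list_span J
  obtain ⟨α, β, hE3, hE4⟩ := exists_data I (Ideal.span {y | y ∈ gs}) M gs rfl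
  let N : ModuleCat.{u} A := ModuleCat.of A M
  let G := adicF I
  let c := (DerivedCategory.homologyFunctor (ModuleCat.{u} A) 0).map
      ((ObjectProperty.ι (DRing.IsDerivedComplete I)).map ((DRing.derivedCompletion I).map
        ((DRing.RgammaIε (Ideal.span {y | y ∈ gs})).app (Dual.inD A M))))
  let U := (DerivedCategory.singleFunctorCompHomologyFunctorIso (ModuleCat.{u} A) 0).inv.app N ≫
      (DerivedCategory.homologyFunctor (ModuleCat.{u} A) 0).map
        (DRing.toDerivedCompletion I (Dual.inD A M))
  have hcomplete : IsAdicComplete I M :=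
    Groth.Agent.Lib.Helper47.AdicFinite.isAdicComplete_of_finite I M
  have hof : Function.Bijective (AdicCompletion.of I M) :=
    AdicCompletion.of_bijective_iff.2 hcomplete
  have e3 : ∀ x, β.hom.hom (c.hom x) = (PG G N gs).hom (α.hom.hom x) :=
    fun x => congrArg (fun t => t.hom x) hE3
  have e4 : ∀ s : M, (omega G N).hom.hom (β.hom.hom (U.hom s)) = AdicCompletion.of I M s :=
    fun s => congrArg (fun t => t.hom s) hE4
  have αbij := ConcreteCategory.bijective_of_isIso α.hom
  have βbij := ConcreteCategory.bijective_of_isIso β.hom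
  have ωbij := ConcreteCategory.bijective_of_isIso (omega G N).hom
  have hPGinj := injective_PG G N gs
  have hrange := range_PG G N gs
  have hUG := UG_eq_zero_iff G N
  have key : ∀ (g : A) (s : M),
      (G.map ((DerCA.locUnit (Submonoid.powers g)).app N)).hom (AdicCompletion.of I M s) = 0 ↔
        ∀ n : ℕ, ∃ k : ℕ, g ^ k • s ∈ (I ^ n • ⊤ : Submodule A M) := by
    intro g s
    have h1 : (G.map ((DerCA.locUnit (Submonoid.powers g)).app N)).hom
        (AdicCompletion.of I M s) =
        AdicCompletion.of I (LocalizedModule (Submonoid.powers g) M)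
          (LocalizedModule.mk s 1) :=
      AdicCompletion.map_of I _ s
    have h2 : (G.map ((DerCA.locUnit (Submonoid.powers g)).app N)).hom
        (AdicCompletion.of I M s) = 0 ↔
        AdicCompletion.of I (LocalizedModule (Submonoid.powers g) M)
          (LocalizedModule.mk s 1) = 0 := by
      constructor
      · intro h
        exact h1.symm.trans h
      · intro h
        exact h1.trans h
    exact h2.trans ((of_eq_zero_iff I _).trans
      (forall_congr' fun n => mk_one_mem_iff g (I ^ n) M s))
  constructor
  · intro x y hxy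
    apply αbij.1
    apply hPGinj
    rw [← e3, ← e3]
    exact congrArg _ hxy
  · ext t
    constructor
    · rintro ⟨x, rfl⟩
      have hr : β.hom.hom (c.hom x) ∈ Set.range (PG G N gs).hom := ⟨_, (e3 x).symm⟩
      rw [hrange] at hr
      obtain ⟨s, hs⟩ := hof.2 ((omega G N).hom.hom (β.hom.hom (c.hom x)))
      refine ⟨s, ?_, ?_⟩
      · apply sp_subset_su I gs M
        intro g hg
        rw [← key g s, hs]
        exact (hUG g _).1 (hr g hg)
      · apply βbij.1
        apply ωbij.1
        exact (e4 s).trans hs
    · rintro ⟨s, hs, rfl⟩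
      have hsp : s ∈ Sp I gs M := su_subset_sp I gs M hs
      have hr : β.hom.hom (U.hom s) ∈ Set.range (PG G N gs).hom := by
        rw [hrange]
        intro g hg
        rw [hUG, e4 s, key]
        exact hsp g hg
      obtain ⟨w, hw⟩ := hr
      obtain ⟨x, rfl⟩ := αbij.2 w
      refine ⟨x, ?_⟩
      apply βbij.1
      rw [e3]
      exact hw

end Groth.Agent.Lib.Helper88.RL7f
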