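/-
A finitely generated torsion-free module of rank one over a domain embeds into the ring.
Author: helper88
-/
import Groth.Agent.Lib.Helper71.TFCurv
import Groth.Agent.Lib.Helper88.TwoGen

set_option autoImplicit false

namespace Groth.Agent.Lib.Helper88.RankOne

open Function TensorProduct

universe u

variable {O : Type u} [CommRing O] [IsDomain O] (K : Type u) [Field K] [Algebra O K]
  [IsFractionRing O K] {M : Type u} [AddCommGroup M] [Module O M]

theorem exists_injective_to_ring [Module.Finite O M] [NoZeroSMulDivisors O M]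
    (hn : Module.finrank K (K ⊗[O] M) = 1) :
    ∃ j : M →ₗ[O] O, Injective j := by
  classical
  let ι : M →ₗ[O] K ⊗[O] M := TensorProduct.mk O K M 1
  have hιinj : Injective ι := Helper71.TFCurv.ι_inj K
  let w : Module.Basis (Fin 1) K (K ⊗[O] M) := Module.finBasisOfFinrankEq K _ hn
  obtain ⟨S, hS⟩ := (inferInstance : Module.Finite O M).fg_top
  obtain ⟨d, hd⟩ := IsLocalization.exist_integer_multiples_of_finset (nonZeroDivisors O)
    (S.image (fun s => w.repr (ι s) 0))
  have hd0 : (d : O) ≠ 0 := nonZeroDivisors.ne_zero d.2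
  have hrepr_smul : ∀ (a : O) (x : M),
      w.repr (ι (a • x)) 0 = algebraMap O K a * w.repr (ι x) 0 := by
    intro a x
    rw [map_smul, ← algebraMap_smul K a (ι x), map_smul, Finsupp.smul_apply, smul_eq_mul]
  have hint : ∀ m : M, ∃ c : O, algebraMap O K c = algebraMap O K d * w.repr (ι m) 0 := by
    intro m
    have hm : m ∈ Submodule.span O (S : Set M) := by rw [hS]; trivial
    refine Submodule.span_induction ?_ ?_ ?_ ?_ hm
    · intro x hx
      obtain ⟨c, hc⟩ := hd (w.repr (ι x) 0) (Finset.mem_image.mpr ⟨x, hx, rfl⟩)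
      exact ⟨c, by rw [hc, Algebra.smul_def]⟩
    · exact ⟨0, by simp⟩
    · rintro x y _ _ ⟨c, hc⟩ ⟨c', hc'⟩
      exact ⟨c + c', by rw [map_add, hc, hc', map_add, map_add, Finsupp.add_apply]; ring⟩
    · rintro a x _ ⟨c, hc⟩
      refine ⟨a * c, ?_⟩
      rw [map_mul, hc, hrepr_smul]; ring
  have hinjK : Injective (algebraMap O K) := IsFractionRing.injective O K
  obtain ⟨j, hj⟩ := TwoGen.exists_linearMap_of_rel (R := O) (M := M) (N := O)
    (fun m c => algebraMap O K c = algebraMap O K d * w.repr (ι m) 0) hint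
    (by
      intro m c c' h1 h2
      exact hinjK (h1.trans h2.symm))
    (by
      intro m m' c c' h1 h2
      rw [map_add, h1, h2, map_add, map_add, Finsupp.add_apply]
      ring)
    (by
      intro a m c h1
      rw [smul_eq_mul, map_mul, h1, hrepr_smul]
      ring)
  refine ⟨j, ?_⟩
  rw [injective_iff_map_eq_zero]
  intro m hm
  apply hιinj
  rw [map_zero]
  apply w.repr.injective
  rw [map_zero]
  refine Finsupp.ext (fun i => ?_)
  have hi : i = 0 := Subsingleton.elim _ _
  rw [hi]
  have h1 := hj m
  rw [hm, map_zero] at h1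
  have hdK : algebraMap O K d ≠ 0 := by
    rw [Ne, IsFractionRing.to_map_eq_zero_iff]; exact hd0
  rcases mul_eq_zero.mp h1.symm with h | h
  · exact absurd h hdK
  · rw [h]; rfl

end Groth.Agent.Lib.Helper88.RankOne
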