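/-
Rank-one torsion-free modules over a curve singularity ring `A ⊆ k[[t]]`: normal forms inside
`k[[t]]`, codimension as the number of gaps, and conductor bounds.
Author: helper88
-/
import Groth.Agent.Lib.Helper88.RankOne

set_option autoImplicit false
set_option linter.style.haveILetI false

namespace Groth.Agent.Lib.Helper88.CanonPS

open PowerSeries

universe u

/-! ### Counting lemmas on subsets of `ℕ` -/

/-- The conductor of a `Γ`-module `V ⊇ Γ` is at most the number of gaps of `V` plus that of `Γ`. -/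
lemma cond_le (Γ V : Set ℕ) (hadd : ∀ a ∈ Γ, ∀ b ∈ V, a + b ∈ V)
    (hΓfin : Γᶜ.Finite) (hVfin : Vᶜ.Finite) (c₁ : ℕ) (hc₁ : c₁ = 0 ∨ c₁ - 1 ∉ V) :
    c₁ ≤ Vᶜ.ncard + Γᶜ.ncard := by
  classical
  rcases hc₁ with h0 | hc₁
  · rw [h0]; exact Nat.zero_le _
  have h1 : ((Finset.range c₁).filter (· ∈ Γ)).card ≤ Vᶜ.ncard := by
    rw [Set.ncard_eq_toFinset_card _ hVfin]
    refine Finset.card_le_card_of_injOn (fun s => c₁ - 1 - s) ?_ ?_
    · intro s hs
      rw [Finset.coe_filter, Set.mem_ofPred_eq, Finset.mem_range] at hs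
      rw [Set.Finite.coe_toFinset, Set.mem_compl_iff]
      intro hmem
      apply hc₁
      have := hadd s hs.2 _ hmem
      have h2 : s + (c₁ - 1 - s) = c₁ - 1 := by omega
      rwa [h2] at this
    · intro s hs s' hs' heq
      rw [Finset.coe_filter, Set.mem_ofPred_eq, Finset.mem_range] at hs hs'
      simp only at heq
      omega
  have h2 : ((Finset.range c₁).filter (fun n => ¬ n ∈ Γ)).card ≤ Γᶜ.ncard := by
    rw [Set.ncard_eq_toFinset_card _ hΓfin]
    refine Finset.card_le_card ?_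
    intro n hn
    rw [Finset.mem_filter] at hn
    rw [Set.Finite.mem_toFinset, Set.mem_compl_iff]
    exact hn.2
  have h3 := Finset.card_filter_add_card_filter_not (s := Finset.range c₁) (p := (· ∈ Γ))
  rw [Finset.card_range] at h3
  omega

/-- Gaps of a shifted set. -/
lemma ncard_compl_shift (V : Set ℕ) (hfin : Vᶜ.Finite) (s : ℕ) :
    ({n | ∃ v ∈ V, n = v + s}ᶜ).ncard = s + Vᶜ.ncard := by
  classical
  have hset : {n | ∃ v ∈ V, n = v + s}ᶜ = ↑(Finset.range s) ∪ (fun g => g + s) '' Vᶜ := by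
    ext n
    simp only [Set.mem_compl_iff, Set.mem_ofPred_eq, Set.mem_union, Finset.coe_range,
      Set.mem_Iio, Set.mem_image]
    constructor
    · intro hn
      by_cases hns : n < s
      · exact Or.inl hns
      · right
        refine ⟨n - s, ?_, by omega⟩
        intro hv
        exact hn ⟨n - s, hv, by omega⟩
    · rintro (hns | ⟨g, hg, rfl⟩)
      · rintro ⟨v, -, rfl⟩
        omega
      · rintro ⟨v, hv, hgv⟩
        have : g = v := by omega
        rw [this] at hg
        exact hg hv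
  have hdisj : Disjoint (↑(Finset.range s) : Set ℕ) ((fun g => g + s) '' Vᶜ) := by
    rw [Set.disjoint_left]
    rintro n hn ⟨g, -, hg⟩
    rw [Finset.coe_range, Set.mem_Iio] at hn
    have hg' : g + s = n := hg
    omega
  rw [hset, Set.ncard_union_eq hdisj (Finset.finite_toSet _) (hfin.image _),
    Set.ncard_coe_finset, Finset.card_range,
    Set.ncard_image_of_injective _ (fun a b hab => by simpa using hab)]

variable {k : Type u} [Field k] {A : Subalgebra k k⟦X⟧} {c : ℕ}

/-! ### The conductor from finiteness and birationality -/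

theorem exists_setup_of_birational (hA : Module.Finite ↥A k⟦X⟧)
    (hbir : ∀ f : k⟦X⟧, ∃ a ∈ A, a ≠ 0 ∧ a * f ∈ A) : ∃ c : ℕ, Setup A c := by
  classical
  obtain ⟨s, hs⟩ := hA.fg_top
  choose a haA ha0 hab using hbir
  set a₀ : k⟦X⟧ := ∏ b ∈ s, a b with ha₀
  have ha₀A : a₀ ∈ A := A.prod_mem (fun b _ => haA b)
  have ha₀0 : a₀ ≠ 0 := Finset.prod_ne_zero_iff.2 (fun b _ => ha0 b)
  have hgen : ∀ b ∈ s, a₀ * b ∈ A := by
    intro b hb
    have h1 : a₀ = (∏ x ∈ s.erase b, a x) * a b := by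
      rw [ha₀, ← Finset.mul_prod_erase s a hb, mul_comm]
    rw [h1, mul_assoc]
    exact A.mul_mem (A.prod_mem (fun x _ => haA x)) (hab b)
  have hall : ∀ f : k⟦X⟧, a₀ * f ∈ A := by
    intro f
    have hf : f ∈ Submodule.span ↥A (s : Set k⟦X⟧) := by rw [hs]; trivial
    refine Submodule.span_induction ?_ ?_ ?_ ?_ hf
    · intro x hx
      exact hgen x hx
    · rw [mul_zero]; exact A.zero_mem
    · intro x y _ _ hx hy
      rw [mul_add]; exact A.add_mem hx hy
    · intro x y _ hy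
      have : a₀ * (x • y) = (x : k⟦X⟧) * (a₀ * y) := by
        show a₀ * ((x : k⟦X⟧) * y) = _
        ring
      rw [this]
      exact A.mul_mem x.2 hy
  set e := (order a₀).toNat with he
  have hord : order a₀ = e := (coe_toNat_order ha₀0).symm
  obtain ⟨w, hw0, hw⟩ := exists_unit_factor hord
  refine ⟨e + 1, hA, ?_, Nat.le_add_left 1 e⟩
  intro f hf
  have hle : (e : ℕ∞) ≤ order f := le_trans (by exact_mod_cast Nat.le_succ e) hf
  obtain ⟨f', hf'⟩ := exists_eq_X_pow_mul hle
  have : f = a₀ * (w⁻¹ * f') := by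
    rw [hf', hw]
    have hww : w * w⁻¹ = 1 := PowerSeries.mul_inv_cancel _ hw0
    calc X ^ e * f' = X ^ e * (w * w⁻¹) * f' := by rw [hww, mul_one]
      _ = _ := by ring
  rw [this]
  exact hall _

/-! ### Normal form of an embedded module -/

section Normal

variable {M : Type u} [AddCommGroup M] [Module ↥A M]

/-- An embedded nonzero module can be rescaled to contain `1`. -/
theorem exists_normalized (ι₀ : M →ₗ[↥A] k⟦X⟧) (hι₀ : Function.Injective ι₀) [Nontrivial M] :
    ∃ ι₁ : M →ₗ[↥A] k⟦X⟧, Function.Injective ι₁ ∧ ∃ m₁ : M, ι₁ m₁ = 1 := by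
  classical
  obtain ⟨m₀, hm₀⟩ := exists_ne (0 : M)
  have hne : ι₀ m₀ ≠ 0 := fun h => hm₀ (hι₀ (by rw [h, map_zero]))
  have hex : ∃ n : ℕ, ∃ m : M, order (ι₀ m) = (n : ℕ∞) :=
    ⟨(order (ι₀ m₀)).toNat, m₀, (coe_toNat_order hne).symm⟩
  set e := Nat.find hex with he
  obtain ⟨mₑ, hmₑ⟩ := Nat.find_spec hex
  set x := ι₀ mₑ with hx
  obtain ⟨w, hw0, hw⟩ := exists_unit_factor hmₑ
  have hx0 : x ≠ 0 := ne_zero_of_order_eq hmₑ
  have hdiv : ∀ m : M, ∃ y : k⟦X⟧, ι₀ m = x * y := by
    intro m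
    by_cases hm : ι₀ m = 0
    · exact ⟨0, by rw [hm, mul_zero]⟩
    · have hle : (e : ℕ∞) ≤ order (ι₀ m) := by
        rw [← coe_toNat_order hm]
        exact_mod_cast Nat.find_min' hex ⟨m, (coe_toNat_order hm).symm⟩
      obtain ⟨y', hy'⟩ := exists_eq_X_pow_mul hle
      refine ⟨w⁻¹ * y', ?_⟩
      rw [hy', hw]
      have hww : w * w⁻¹ = 1 := PowerSeries.mul_inv_cancel _ hw0
      calc X ^ e * y' = X ^ e * (w * w⁻¹) * y' := by rw [hww, mul_one]
        _ = _ := by ring
  obtain ⟨ι₁, hι₁⟩ := TwoGen.exists_linearMap_of_rel (R := ↥A) (M := M) (N := k⟦X⟧)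
    (fun m y => ι₀ m = x * y) hdiv
    (by
      intro m y y' h1 h2
      exact mul_left_cancel₀ hx0 (h1.symm.trans h2))
    (by
      intro m m' y y' h1 h2
      rw [map_add, h1, h2, mul_add])
    (by
      intro a m y h1
      rw [map_smul, h1]
      show (a : k⟦X⟧) * (x * y) = x * ((a : k⟦X⟧) * y)
      ring)
  refine ⟨ι₁, ?_, mₑ, ?_⟩
  · rw [injective_iff_map_eq_zero]
    intro m hm
    apply hι₀
    rw [hι₁ m, hm, mul_zero, map_zero]
  · apply mul_left_cancel₀ hx0
    rw [← hι₁ mₑ, mul_one]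

end Normal

end Groth.Agent.Lib.Helper88.CanonPS
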