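/-
Rank-one torsion-free modules over `A ⊆ k[[t]]`: the normal form of colength `δ` containing
`t^{2δ} k[[t]]`.
Author: helper88
-/
import Groth.Agent.Lib.Helper88.RankOnePS

set_option autoImplicit false
set_option linter.style.haveILetI false

namespace Groth.Agent.Lib.Helper88.CanonPS

open PowerSeries

universe u

variable {k : Type u} [Field k] {A : Subalgebra k k⟦X⟧} {c : ℕ}

/-! ### Codimension over `k` as the number of gaps -/

theorem finrank_quot_eq_ncard (M' : Submodule ↥A k⟦X⟧) (N' : ℕ)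
    (hN' : ∀ f : k⟦X⟧, (N' : ℕ∞) ≤ order f → f ∈ M') :
    Module.finrank k (k⟦X⟧ ⧸ M'.restrictScalars k) =
      {n : ℕ | ¬ ∃ f ∈ M', order f = (n : ℕ∞)}.ncard := by
  classical
  set ι : k⟦X⟧ →ₗ[↥A] k⟦X⟧ := LinearMap.id with hι
  have hgained : gained ι M' = {n : ℕ | ¬ ∃ f ∈ M', order f = (n : ℕ∞)} := by
    ext n
    constructor
    · rintro ⟨-, hno⟩
      exact hno
    · intro hno
      exact ⟨⟨X ^ n, order_X_pow n⟩, hno⟩
  have hloc : IsLocalRing k := inferInstance
  have hmax : ∀ l : k, l ∈ IsLocalRing.maximalIdeal k ↔ l = 0 := by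
    intro l
    rw [IsLocalRing.mem_maximalIdeal, mem_nonunits_iff, isUnit_iff_ne_zero, not_not]
  have hsm : ∀ (l : k) (p : k⟦X⟧), l • p = (⟨C l, Setup.C_mem A l⟩ : ↥A) • p := by
    intro l p
    rw [smul_eq_C_mul]
    rfl
  have key := ExtLen.length_quot_of_filtration (R := k) hloc
    (fun n => (Gfil ι M' n).restrictScalars k)
    (by
      show (Gfil ι M' 0).restrictScalars k = ⊤
      rw [Gfil_zero, Submodule.restrictScalars_top])
    (fun n => Gfil_anti ι M' n) (gained ι M') (fun n hn => Gfil_triv ι M' n hn)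
    (by
      intro n hn
      obtain ⟨p₀, hp₀, hk, hs⟩ := Gfil_simple ι M' n hn
      refine ⟨p₀, hp₀, ?_, ?_⟩
      · intro l
        rw [hmax, Submodule.restrictScalars_mem, hsm, hk]
        show constantCoeff (C l) = 0 ↔ l = 0
        rw [constantCoeff_C]
      · intro y hy
        obtain ⟨a, ha⟩ := hs y hy
        refine ⟨constantCoeff (a : k⟦X⟧), ?_⟩
        rw [Submodule.restrictScalars_mem, hsm]
        set a' : ↥A := a - ⟨C (constantCoeff (a : k⟦X⟧)), Setup.C_mem A _⟩ with ha'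
        have h0 : constantCoeff (a' : k⟦X⟧) = 0 := by
          show constantCoeff ((a : k⟦X⟧) - C (constantCoeff (a : k⟦X⟧))) = 0
          rw [map_sub, constantCoeff_C, sub_self]
        have h1 := (hk a').2 h0
        have h2 : y - (⟨C (constantCoeff (a : k⟦X⟧)), Setup.C_mem A _⟩ : ↥A) • p₀ =
            (y - a • p₀) + a' • p₀ := by
          rw [ha', sub_smul]
          abel
        rw [h2]
        exact Submodule.add_mem _ ha h1) N'
  have hG : Gfil ι M' N' = M' := Gfil_eq_of_le ι M' N' (fun p hp => hN' p hp)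
  beta_reduce at key
  rw [hG] at key
  have hset : gained ι M' = ↑((Finset.range N').filter (· ∈ gained ι M')) := by
    ext n
    simp only [Finset.coe_filter, Finset.mem_range, Set.mem_ofPred_eq]
    constructor
    · intro hn
      exact ⟨gained_lt ι M' N' (fun p hp => hN' p hp) hn, hn⟩
    · rintro ⟨-, hn⟩
      exact hn
  rw [← hgained]
  conv_rhs => rw [hset]
  rw [Set.ncard_coe_finset]
  rw [Module.length_eq_rank] at key
  exact Module.finrank_eq_of_rank_eq (Cardinal.toENat_eq_natCast.1 key)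

/-! ### Value sets of embedded modules -/

section Values

variable {M : Type u} [AddCommGroup M] [Module ↥A M]

/-- The value set of an embedded module. -/
def vals (ι₁ : M →ₗ[↥A] k⟦X⟧) : Set ℕ := {n | ∃ m : M, order (ι₁ m) = (n : ℕ∞)}

lemma vals_of_mem (ι₁ : M →ₗ[↥A] k⟦X⟧) (m₁ : M) (hm₁ : ι₁ m₁ = 1) {a : k⟦X⟧} (ha : a ∈ A)
    {n : ℕ} (hn : order a = (n : ℕ∞)) : n ∈ vals ι₁ := by
  refine ⟨(⟨a, ha⟩ : ↥A) • m₁, ?_⟩
  rw [map_smul, hm₁]
  show order (a * 1) = _
  rw [mul_one, hn]

lemma vals_add (ι₁ : M →ₗ[↥A] k⟦X⟧) {a : k⟦X⟧} (ha : a ∈ A) {n : ℕ}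
    (hn : order a = (n : ℕ∞)) {v : ℕ} (hv : v ∈ vals ι₁) : n + v ∈ vals ι₁ := by
  obtain ⟨m, hm⟩ := hv
  refine ⟨(⟨a, ha⟩ : ↥A) • m, ?_⟩
  rw [map_smul]
  show order (a * ι₁ m) = _
  rw [order_mul, hn, hm]
  push_cast
  rfl

/-- Elements of order beyond the conductor of the value set lie in the module. -/
lemma mem_range_of_le (h : Setup A c) (ι₁ : M →ₗ[↥A] k⟦X⟧) (m₁ : M) (hm₁ : ι₁ m₁ = 1) (c₁ : ℕ)
    (hc₁ : ∀ n, c₁ ≤ n → n ∈ vals ι₁) (f : k⟦X⟧) (hf : (c₁ : ℕ∞) ≤ order f) :
    f ∈ LinearMap.range ι₁ := by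
  have key : ∀ e : ℕ, ∀ f : k⟦X⟧, (c₁ : ℕ∞) ≤ order f → (c : ℕ∞) ≤ order f + e →
      f ∈ LinearMap.range ι₁ := by
    intro e
    induction e with
    | zero =>
      intro f _ hle
      rw [Nat.cast_zero, add_zero] at hle
      have hfA : f ∈ A := h.cond f hle
      refine ⟨(⟨f, hfA⟩ : ↥A) • m₁, ?_⟩
      rw [map_smul, hm₁]
      show f * 1 = f
      rw [mul_one]
    | succ e ih =>
      intro f hf hle
      by_cases hcase : (c : ℕ∞) ≤ order f + e
      · exact ih f hf hcase
      · rw [not_le] at hcase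
        have hf0 : f ≠ 0 := by
          rintro rfl
          rw [order_zero, top_add] at hcase
          exact absurd hcase (not_lt.2 le_top)
        set n' := (order f).toNat with hn'
        have hord : order f = n' := (coe_toNat_order hf0).symm
        rw [hord] at hcase hle hf
        have hlt : n' + e < c := by exact_mod_cast hcase
        have hge : c ≤ n' + (e + 1) := by exact_mod_cast hle
        have hcn : c₁ ≤ n' := by exact_mod_cast hf
        obtain ⟨m, hm⟩ := hc₁ n' hcn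
        obtain ⟨l, hl⟩ := exists_order_sub_gt hord hm
        have h3 : ((n' + 1 : ℕ) : ℕ∞) ≤ order (f - C l * ι₁ m) := by
          rw [Nat.cast_add, Nat.cast_one]
          exact (ENat.add_one_le_iff (ENat.natCast_ne_top n')).2 hl
        have h4 := ih (f - C l * ι₁ m)
          (le_trans (by exact_mod_cast (by omega : c₁ ≤ n' + 1)) h3)
          (by
            calc (c : ℕ∞) ≤ ((n' + 1 + e : ℕ) : ℕ∞) := by exact_mod_cast (by omega)
              _ = ((n' + 1 : ℕ) : ℕ∞) + e := by push_cast; rfl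
              _ ≤ _ := add_le_add_left h3 _)
        have h5 : C l * ι₁ m ∈ LinearMap.range ι₁ :=
          ⟨(⟨C l, Setup.C_mem A l⟩ : ↥A) • m, by rw [map_smul]; rfl⟩
        have h6 : f = (f - C l * ι₁ m) + C l * ι₁ m := by ring
        rw [h6]
        exact Submodule.add_mem _ h4 h5
  exact key c f hf le_add_self

end Values

end Groth.Agent.Lib.Helper88.CanonPS
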