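/-
Rank-one torsion-free modules over `A ⊆ k[[t]]`: every such module is isomorphic to a submodule of
`k[[t]]` of codimension `δ` containing `t^{2δ} k[[t]]`.
Author: helper88
-/
import Groth.Agent.Lib.Helper88.RankOnePS2

set_option autoImplicit false
set_option linter.style.haveILetI false

namespace Groth.Agent.Lib.Helper88.CanonPS

open PowerSeries

universe u

variable {k : Type u} [Field k] {A : Subalgebra k k⟦X⟧} {c : ℕ}

theorem exists_normal_form (h : Setup A c) (Γ : Set ℕ)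
    (hΓ : ∀ n : ℕ, n ∈ Γ ↔ ∃ f ∈ A, order f = (n : ℕ∞))
    {M : Type u} [AddCommGroup M] [Module ↥A M] (ι₁ : M →ₗ[↥A] k⟦X⟧)
    (hinj : Function.Injective ι₁) (m₁ : M) (hm₁ : ι₁ m₁ = 1) :
    ∃ M' : Submodule ↥A k⟦X⟧,
      (Ideal.span {(X : k⟦X⟧) ^ (2 * Γᶜ.ncard)}).restrictScalars ↥A ≤ M' ∧
      Nonempty (M ≃ₗ[↥A] ↥M') ∧
      Module.finrank k (k⟦X⟧ ⧸ M'.restrictScalars k) = Γᶜ.ncard := by
  classical
  set V := vals ι₁ with hV
  have hΓc : ∀ n, c ≤ n → n ∈ Γ := by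
    intro n hn
    rw [hΓ]
    refine ⟨X ^ n, h.cond _ ?_, order_X_pow n⟩
    rw [order_X_pow]
    exact_mod_cast hn
  have hΓV : Γ ⊆ V := by
    intro n hn
    obtain ⟨a, ha, hao⟩ := (hΓ n).1 hn
    exact vals_of_mem ι₁ m₁ hm₁ ha hao
  have hΓfin : Γᶜ.Finite := by
    refine (Finset.range c).finite_toSet.subset ?_
    intro n hn
    rw [Finset.coe_range, Set.mem_Iio]
    by_contra hge
    exact hn (hΓc n (not_lt.1 hge))
  have hVfin : Vᶜ.Finite := hΓfin.subset (Set.compl_subset_compl.2 hΓV)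
  have hdδ : Vᶜ.ncard ≤ Γᶜ.ncard := Set.ncard_le_ncard (Set.compl_subset_compl.2 hΓV) hΓfin
  have hadd : ∀ a ∈ Γ, ∀ b ∈ V, a + b ∈ V := by
    intro a ha b hb
    obtain ⟨f, hf, hfo⟩ := (hΓ a).1 ha
    exact vals_add ι₁ hf hfo hb
  have hexc : ∃ c₁ : ℕ, ∀ n, c₁ ≤ n → n ∈ V := ⟨c, fun n hn => hΓV (hΓc n hn)⟩
  set c₁ := Nat.find hexc with hc₁
  have hc₁spec : ∀ n, c₁ ≤ n → n ∈ V := Nat.find_spec hexc
  have hc₁' : c₁ = 0 ∨ c₁ - 1 ∉ V := by
    by_cases h0 : c₁ = 0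
    · exact Or.inl h0
    · right
      intro hmem
      have : ∀ n, c₁ - 1 ≤ n → n ∈ V := by
        intro n hn
        rcases Nat.eq_or_lt_of_le hn with heq | hlt
        · rw [← heq]; exact hmem
        · exact hc₁spec n (by omega)
      have := Nat.find_min' hexc this
      omega
  have hcond : c₁ ≤ Vᶜ.ncard + Γᶜ.ncard := cond_le Γ V hadd hΓfin hVfin c₁ hc₁'
  set δ := Γᶜ.ncard with hδ
  set d := Vᶜ.ncard with hd
  set s := δ - d with hs
  set ι₂ : M →ₗ[↥A] k⟦X⟧ := (LinearMap.mulLeft ↥A ((X : k⟦X⟧) ^ s)) ∘ₗ ι₁ with hι₂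
  have hι₂app : ∀ m, ι₂ m = X ^ s * ι₁ m := fun m => rfl
  have hinj₂ : Function.Injective ι₂ := by
    intro m m' hmm
    rw [hι₂app, hι₂app] at hmm
    exact hinj (mul_left_cancel₀ (pow_ne_zero s X_ne_zero) hmm)
  have hbig : ∀ f : k⟦X⟧, ((2 * δ : ℕ) : ℕ∞) ≤ order f → f ∈ LinearMap.range ι₂ := by
    intro f hf
    obtain ⟨f', hf'⟩ := exists_eq_X_pow_mul hf
    have h1 : f = X ^ s * (X ^ (2 * δ - s) * f') := by
      rw [hf', ← mul_assoc, ← pow_add]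
      congr 2
      omega
    have h2 : ((c₁ : ℕ) : ℕ∞) ≤ order (X ^ (2 * δ - s) * f') := by
      rw [order_X_pow_mul]
      refine le_trans ?_ le_self_add
      exact_mod_cast (by omega : c₁ ≤ 2 * δ - s)
    obtain ⟨m, hm⟩ := mem_range_of_le h ι₁ m₁ hm₁ c₁ hc₁spec _ h2
    exact ⟨m, by rw [hι₂app, hm, ← h1]⟩
  refine ⟨LinearMap.range ι₂, ?_, ⟨LinearEquiv.ofInjective ι₂ hinj₂⟩, ?_⟩
  · intro x hx
    rw [Submodule.restrictScalars_mem, Ideal.mem_span_singleton'] at hx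
    obtain ⟨a, rfl⟩ := hx
    apply hbig
    rw [order_mul, order_X_pow]
    exact le_add_self
  · rw [finrank_quot_eq_ncard (LinearMap.range ι₂) (2 * δ) hbig]
    have hset : {n : ℕ | ¬ ∃ f ∈ LinearMap.range ι₂, order f = (n : ℕ∞)} =
        {n | ∃ v ∈ V, n = v + s}ᶜ := by
      ext n
      rw [Set.mem_compl_iff, Set.mem_ofPred_eq, Set.mem_ofPred_eq, not_iff_not]
      constructor
      · rintro ⟨f, ⟨m, rfl⟩, hfo⟩
        rw [hι₂app, order_X_pow_mul] at hfo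
        have hne : order (ι₁ m) ≠ ⊤ := by
          intro htop
          rw [htop, add_top] at hfo
          exact ENat.top_ne_natCast _ hfo
        obtain ⟨v, hv⟩ := ENat.ne_top_iff_exists.1 hne
        rw [← hv] at hfo
        refine ⟨v, ⟨m, hv.symm⟩, ?_⟩
        have : s + v = n := by exact_mod_cast hfo
        omega
      · rintro ⟨v, ⟨m, hm⟩, rfl⟩
        refine ⟨ι₂ m, ⟨m, rfl⟩, ?_⟩
        rw [hι₂app, order_X_pow_mul, hm]
        push_cast
        rw [add_comm]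
    rw [hset, ncard_compl_shift V hVfin s]
    omega

end Groth.Agent.Lib.Helper88.CanonPS
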