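/-
The monoid algebra of a submonoid `H ⊆ ℕ` is isomorphic to the subalgebra of `k[X]` spanned by the
monomials `X^h`, `h ∈ H`.
Author: helper88
-/
import Groth.Agent.Lib.Helper88.SemiAlg
import Mathlib.Algebra.MonoidAlgebra.Basic

set_option autoImplicit false
set_option linter.unusedSectionVars false
set_option linter.style.haveILetI false

namespace Groth.Agent.Lib.Helper88.SG

open Polynomial

universe u

variable (k : Type u) [Field k] (H : AddSubmonoid ℕ)

/-- `h ↦ X^h` -/
noncomputable def toPolyMonoidHom : Multiplicative ↥H →* k[X] where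
  toFun h := X ^ (h.toAdd : ℕ)
  map_one' := by
    change (X : k[X]) ^ ((0 : ↥H) : ℕ) = 1
    rw [AddSubmonoid.coe_zero, pow_zero]
  map_mul' a b := by
    rw [toAdd_mul, AddSubmonoid.coe_add, pow_add]

/-- `k[H] → k[X]` -/
noncomputable def toPoly : AddMonoidAlgebra k ↥H →ₐ[k] k[X] :=
  AddMonoidAlgebra.lift k _ _ (toPolyMonoidHom k H)

variable {k H}

lemma toPoly_apply (z : AddMonoidAlgebra k ↥H) :
    toPoly k H z = ∑ h ∈ z.coeff.support, monomial (h : ℕ) (z.coeff h) := by
  unfold toPoly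
  rw [AddMonoidAlgebra.lift_apply, Finsupp.sum]
  apply Finset.sum_congr rfl
  intro h _
  change z.coeff h • (X : k[X]) ^ (h : ℕ) = _
  rw [smul_X_eq_monomial]

lemma coeff_toPoly (z : AddMonoidAlgebra k ↥H) (h₀ : ↥H) :
    (toPoly k H z).coeff (h₀ : ℕ) = z.coeff h₀ := by
  classical
  rw [toPoly_apply, finsetSum_coeff]
  simp only [coeff_monomial]
  rw [Finset.sum_eq_single h₀]
  · rw [if_pos rfl]
  · intro h _ hne
    rw [if_neg (fun e => hne (Subtype.ext e))]
  · intro hnot
    rw [if_pos rfl, Finsupp.notMem_support_iff.1 hnot]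

lemma toPoly_mem (z : AddMonoidAlgebra k ↥H) : toPoly k H z ∈ semiAlg k H := by
  classical
  intro n hn
  by_contra hnH
  apply hn
  rw [toPoly_apply, finsetSum_coeff]
  apply Finset.sum_eq_zero
  intro h _
  rw [coeff_monomial, if_neg]
  intro e
  exact hnH (e ▸ h.2)

lemma toPoly_injective : Function.Injective (toPoly k H) := by
  rw [injective_iff_map_eq_zero]
  intro z hz
  apply AddMonoidAlgebra.ext
  ext h₀
  rw [AddMonoidAlgebra.coeff_zero, Finsupp.zero_apply, ← coeff_toPoly, hz, coeff_zero]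

lemma exists_toPoly_eq {p : k[X]} (hp : p ∈ semiAlg k H) :
    ∃ z : AddMonoidAlgebra k ↥H, toPoly k H z = p := by
  classical
  refine ⟨∑ n ∈ p.support.attach,
    AddMonoidAlgebra.single (⟨n.1, hp n.1 (mem_support_iff.1 n.2)⟩ : ↥H) (p.coeff n.1), ?_⟩
  rw [map_sum]
  have : ∀ n ∈ p.support.attach, toPoly k H (AddMonoidAlgebra.single
      (⟨n.1, hp n.1 (mem_support_iff.1 n.2)⟩ : ↥H) (p.coeff n.1)) =
      monomial n.1 (p.coeff n.1) := by
    intro n _
    unfold toPoly
    rw [AddMonoidAlgebra.lift_single]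
    change p.coeff n.1 • (X : k[X]) ^ (n.1 : ℕ) = _
    rw [smul_X_eq_monomial]
  rw [Finset.sum_congr rfl this,
    Finset.sum_attach p.support (fun i => monomial i (p.coeff i))]
  exact p.sum_monomial_eq

variable (k H) in
/-- `k[H] ≃ semiAlg k H` -/
noncomputable def semiEquiv : AddMonoidAlgebra k ↥H ≃ₐ[k] ↥(semiAlg k H) :=
  AlgEquiv.ofBijective ((toPoly k H).codRestrict (semiAlg k H) toPoly_mem)
    ⟨fun a b h => toPoly_injective (congrArg Subtype.val h),
     fun p => by
      obtain ⟨z, hz⟩ := exists_toPoly_eq p.2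
      exact ⟨z, Subtype.ext hz⟩⟩

end Groth.Agent.Lib.Helper88.SG
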