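/-
The Artinian local ring `k[H]/(X^e)` for a numerical semigroup `H`, its socle, and Kunz's theorem:
`k[H]` is Gorenstein iff `H` is symmetric.
Author: helper88
-/
import Groth.Agent.Lib.Helper88.SemiAlg

set_option autoImplicit false
set_option linter.style.haveILetI false
set_option linter.unusedSectionVars false

namespace Groth.Agent.Lib.Helper88.SG

open Polynomial IsLocalRing Groth.Agent.Lib.Helper85.GorFlat

universe u

variable {k : Type u} [Field k] {H : AddSubmonoid ℕ}

/-- integer membership in `H` -/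
def inH (H : AddSubmonoid ℕ) (n : ℤ) : Prop := ∃ h ∈ H, (h : ℤ) = n

lemma inH_natCast {n : ℕ} : inH H (n : ℤ) ↔ n ∈ H := by
  constructor
  · rintro ⟨h, hh, e⟩
    have : h = n := by exact_mod_cast e
    rwa [← this]
  · intro h; exact ⟨n, h, rfl⟩

lemma inH_add {a b : ℤ} (ha : inH H a) (hb : inH H b) : inH H (a + b) := by
  obtain ⟨x, hx, rfl⟩ := ha
  obtain ⟨y, hy, rfl⟩ := hb
  exact ⟨x + y, H.add_mem hx hy, by push_cast; rfl⟩

lemma inH_zero : inH H 0 := ⟨0, H.zero_mem, rfl⟩

section Quot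

variable {c : ℕ} (hc : ∀ n, c ≤ n → n ∈ H) (e : ℕ) (he : e ∈ H) (hpos : 0 < e)

variable (k H) in
/-- augmentation of `k[H]` -/
noncomputable def eps : semiAlg k H →+* k :=
  Polynomial.constantCoeff.comp (semiAlg k H).val.toRingHom

lemma eps_apply (p : semiAlg k H) : eps k H p = (p : k[X]).coeff 0 := by
  simp [eps, Polynomial.coeff_zero_eq_eval_zero]

include hpos in
lemma eps_eq_zero_of_mem {a : semiAlg k H} (ha : a ∈ Ideal.span {bm k H e he}) :
    eps k H a = 0 := by
  rw [eps_apply]
  by_contra hne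
  have := ((mem_span_bm e he a).mp ha 0 hne).1
  omega

/-- augmentation of `k[H]/(X^e)` -/
noncomputable def epsC : (semiAlg k H ⧸ Ideal.span {bm k H e he}) →+* k :=
  Ideal.Quotient.lift _ (eps k H) (fun _ ha => eps_eq_zero_of_mem e he hpos ha)

lemma epsC_mk (p : semiAlg k H) :
    epsC e he hpos (Ideal.Quotient.mk _ p) = (p : k[X]).coeff 0 := by
  rw [epsC, Ideal.Quotient.lift_mk, eps_apply]

lemma epsC_algebraMap (a : k) :
    epsC e he hpos (algebraMap k (semiAlg k H ⧸ Ideal.span {bm k H e he}) a) = a := by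
  rw [← Ideal.Quotient.mk_algebraMap, epsC_mk]
  change (algebraMap k k[X] a).coeff 0 = a
  rw [← Polynomial.C_eq_algebraMap, coeff_C_zero]

include hc in
lemma pow_mem_span {p : semiAlg k H} (hp : (p : k[X]).coeff 0 = 0) :
    p ^ (c + e) ∈ Ideal.span {bm k H e he} := by
  rw [mem_span_bm]
  intro n hn
  have hX : (X : k[X]) ∣ (p : k[X]) := X_dvd_iff.mpr hp
  have hXN : (X : k[X]) ^ (c + e) ∣ (p : k[X]) ^ (c + e) := pow_dvd_pow_of_dvd hX _
  rw [X_pow_dvd_iff] at hXN
  have hle : c + e ≤ n := by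
    by_contra hcon
    apply hn
    rw [SubmonoidClass.coe_pow]
    exact hXN n (not_le.mp hcon)
  exact ⟨by omega, hc _ (by omega)⟩

include hc in
lemma isNilpotent_of_epsC_eq_zero {a : semiAlg k H ⧸ Ideal.span {bm k H e he}}
    (ha : epsC e he hpos a = 0) : IsNilpotent a := by
  obtain ⟨p, rfl⟩ := Ideal.Quotient.mk_surjective a
  rw [epsC_mk] at ha
  refine ⟨c + e, ?_⟩
  rw [← map_pow, Ideal.Quotient.eq_zero_iff_mem]
  exact pow_mem_span hc e he ha

include hpos in
lemma nontrivial_Cq : Nontrivial (semiAlg k H ⧸ Ideal.span {bm k H e he}) := by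
  refine ⟨⟨1, 0, fun h => ?_⟩⟩
  have := congrArg (epsC e he hpos) h
  rw [map_one, map_zero] at this
  exact one_ne_zero this

include hc in
lemma isUnit_iff (a : semiAlg k H ⧸ Ideal.span {bm k H e he}) :
    IsUnit a ↔ epsC e he hpos a ≠ 0 := by
  constructor
  · intro hu
    exact (hu.map (epsC e he hpos)).ne_zero
  · intro hne
    have h1 : IsUnit (algebraMap k (semiAlg k H ⧸ Ideal.span {bm k H e he})
        (epsC e he hpos a)) := (IsUnit.mk0 _ hne).map _
    have h2 : IsNilpotent (a - algebraMap k (semiAlg k H ⧸ Ideal.span {bm k H e he})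
        (epsC e he hpos a)) := by
      apply isNilpotent_of_epsC_eq_zero hc e he hpos
      rw [map_sub, epsC_algebraMap, sub_self]
    have := h2.isUnit_add_left_of_commute h1 (by unfold Commute SemiconjBy; ring)
    rwa [add_sub_cancel] at this

include hc hpos in
theorem isLocalRing_Cq : IsLocalRing (semiAlg k H ⧸ Ideal.span {bm k H e he}) := by
  haveI := nontrivial_Cq (k := k) e he hpos
  refine IsLocalRing.of_nonunits_add ?_
  intro a b ha hb
  rw [mem_nonunits_iff, isUnit_iff hc e he hpos, not_not] at ha hb ⊢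
  rw [map_add, ha, hb, add_zero]

include hc in
lemma mem_maximalIdeal_iff
    [IsLocalRing (semiAlg k H ⧸ Ideal.span {bm k H e he})]
    (a : semiAlg k H ⧸ Ideal.span {bm k H e he}) :
    a ∈ maximalIdeal (semiAlg k H ⧸ Ideal.span {bm k H e he}) ↔ epsC e he hpos a = 0 := by
  rw [mem_maximalIdeal, mem_nonunits_iff, isUnit_iff hc e he hpos, not_not]

include hc hpos in
theorem ringKrullDim_Cq [IsLocalRing (semiAlg k H ⧸ Ideal.span {bm k H e he})] :
    ringKrullDim (semiAlg k H ⧸ Ideal.span {bm k H e he}) = 0 := by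
  haveI : Ring.KrullDimLE 0 (semiAlg k H ⧸ Ideal.span {bm k H e he}) := by
    refine Ring.KrullDimLE.mk₀ (fun I hI => ?_)
    have h1 : maximalIdeal (semiAlg k H ⧸ Ideal.span {bm k H e he}) ≤ I := by
      intro a ha
      rw [mem_maximalIdeal_iff hc e he hpos] at ha
      obtain ⟨n, hn⟩ := isNilpotent_of_epsC_eq_zero hc e he hpos ha
      exact hI.mem_of_pow_mem n (by rw [hn]; exact zero_mem _)
    have h2 : I = maximalIdeal (semiAlg k H ⧸ Ideal.span {bm k H e he}) :=
      le_antisymm (IsLocalRing.le_maximalIdeal hI.ne_top) h1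
    rw [h2]
    exact IsLocalRing.maximalIdeal.isMaximal _
  exact ringKrullDimZero_iff_ringKrullDim_eq_zero.mp inferInstance

end Quot

end Groth.Agent.Lib.Helper88.SG
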