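/-
The socle of `k[H]/(X^e)` is simple iff the numerical semigroup `H` is symmetric.
Author: helper88
-/
import Groth.Agent.Lib.Helper88.SemiLocal

set_option autoImplicit false
set_option linter.style.haveILetI false
set_option linter.unusedSectionVars false

namespace Groth.Agent.Lib.Helper88.SG

open Polynomial IsLocalRing Groth.Agent.Lib.Helper85.GorFlat

universe u

variable {k : Type u} [Field k] {H : AddSubmonoid ℕ}
variable {c : ℕ} (hc : ∀ n, c ≤ n → n ∈ H) (e : ℕ) (he : e ∈ H) (hpos : 0 < e)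
variable [IsLocalRing (semiAlg k H ⧸ Ideal.span {bm k H e he})]

include hc hpos

lemma mk_bm_mem_maximalIdeal {h : ℕ} (hh : h ∈ H) (hh0 : 0 < h) :
    Ideal.Quotient.mk (Ideal.span {bm k H e he}) (bm k H h hh) ∈
      maximalIdeal (semiAlg k H ⧸ Ideal.span {bm k H e he}) := by
  rw [mem_maximalIdeal_iff hc e he hpos, epsC_mk, coe_bm, coeff_X_pow, if_neg (by omega)]

lemma soc_mul {x : semiAlg k H}
    (hs : ∀ a ∈ maximalIdeal (semiAlg k H ⧸ Ideal.span {bm k H e he}),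
      a * Ideal.Quotient.mk (Ideal.span {bm k H e he}) x = 0)
    {h : ℕ} (hh : h ∈ H) (hh0 : 0 < h) : bm k H h hh * x ∈ Ideal.span {bm k H e he} := by
  have := hs _ (mk_bm_mem_maximalIdeal hc e he hpos hh hh0)
  rwa [← map_mul, Ideal.Quotient.eq_zero_iff_mem] at this

lemma key_sym (d : ℤ) (hd : ∀ n : ℤ, inH H n ↔ ¬ inH H (d - n)) {x : semiAlg k H}
    (hs : ∀ a ∈ maximalIdeal (semiAlg k H ⧸ Ideal.span {bm k H e he}),
      a * Ideal.Quotient.mk (Ideal.span {bm k H e he}) x = 0)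
    {n : ℕ} (hn : (x : k[X]).coeff n ≠ 0) (hne : (n : ℤ) ≠ d + e) : e ≤ n ∧ n - e ∈ H := by
  by_contra hcon
  have hf : ¬ inH H ((n : ℤ) - e) := by
    rintro ⟨h, hh, eq⟩
    apply hcon
    have h1 : e ≤ n := by omega
    have h2 : n - e = h := by omega
    exact ⟨h1, h2 ▸ hh⟩
  have hdn : ¬ inH H d := by
    have := (hd 0).mp inH_zero
    rwa [sub_zero] at this
  have h3 : inH H (d - ((n : ℤ) - e)) := by
    by_contra h4
    exact hf ((hd _).mpr h4)
  obtain ⟨h0, hh0, eq0⟩ := h3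
  rcases Nat.eq_zero_or_pos h0 with hz | hp
  · subst hz
    apply hne
    push_cast at eq0
    omega
  · have hmem := soc_mul hc e he hpos hs hh0 hp
    rw [mem_span_bm] at hmem
    have hco : ((bm k H h0 hh0 * x : semiAlg k H) : k[X]).coeff (n + h0) ≠ 0 := by
      rw [MulMemClass.coe_mul, coe_bm, coeff_X_pow_mul]
      exact hn
    obtain ⟨h5, h6⟩ := hmem _ hco
    apply hdn
    refine ⟨n + h0 - e, h6, ?_⟩
    rw [Nat.cast_sub h5]
    push_cast
    omega

lemma mk_eq_smul (d : ℤ) (hd : ∀ n : ℤ, inH H n ↔ ¬ inH H (d - n)) {x : semiAlg k H}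
    (hs : ∀ a ∈ maximalIdeal (semiAlg k H ⧸ Ideal.span {bm k H e he}),
      a * Ideal.Quotient.mk (Ideal.span {bm k H e he}) x = 0)
    {a : ℕ} (ha : a ∈ H) (hae : (a : ℤ) = d + e) :
    Ideal.Quotient.mk (Ideal.span {bm k H e he}) x =
      algebraMap k (semiAlg k H ⧸ Ideal.span {bm k H e he}) ((x : k[X]).coeff a) *
        Ideal.Quotient.mk (Ideal.span {bm k H e he}) (bm k H a ha) := by
  rw [← Ideal.Quotient.mk_algebraMap, ← map_mul, ← sub_eq_zero, ← map_sub,
    Ideal.Quotient.eq_zero_iff_mem, mem_span_bm]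
  intro n hn
  have hcoe : ((x - algebraMap k (semiAlg k H) ((x : k[X]).coeff a) * bm k H a ha :
      semiAlg k H) : k[X]) = (x : k[X]) - C ((x : k[X]).coeff a) * X ^ a := by
    rw [AddSubgroupClass.coe_sub, MulMemClass.coe_mul, coe_bm]
    rfl
  rw [hcoe, coeff_sub, coeff_C_mul, coeff_X_pow] at hn
  by_cases hna : n = a
  · subst hna
    rw [if_pos rfl, mul_one, sub_self] at hn
    exact absurd rfl hn
  · rw [if_neg hna, mul_zero, sub_zero] at hn
    apply key_sym hc e he hpos d hd hs hn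
    intro h
    apply hna
    exact_mod_cast h.trans hae.symm

variable [IsNoetherianRing (semiAlg k H ⧸ Ideal.span {bm k H e he})]

/-- symmetric semigroups give a simple socle -/
theorem socleSimple_of_sym (d : ℤ) (hd : ∀ n : ℤ, inH H n ↔ ¬ inH H (d - n)) :
    SocleSimple (semiAlg k H ⧸ Ideal.span {bm k H e he}) := by
  intro s1 s2 h1 h2 hne
  obtain ⟨x1, rfl⟩ := Ideal.Quotient.mk_surjective s1
  obtain ⟨x2, rfl⟩ := Ideal.Quotient.mk_surjective s2
  have hx1 : x1 ∉ Ideal.span {bm k H e he} := by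
    intro h
    exact hne (Ideal.Quotient.eq_zero_iff_mem.mpr h)
  rw [mem_span_bm] at hx1
  push Not at hx1
  obtain ⟨n, hn, hn2⟩ := hx1
  have hnH : n ∈ H := x1.2 n hn
  have hnd : (n : ℤ) = d + e := by
    by_contra hcon
    have := key_sym hc e he hpos d hd h1 hn hcon
    exact absurd this.2 (hn2 this.1)
  have e1 := mk_eq_smul hc e he hpos d hd h1 hnH hnd
  have e2 := mk_eq_smul hc e he hpos d hd h2 hnH hnd
  refine ⟨algebraMap k _ ((x2 : k[X]).coeff n / (x1 : k[X]).coeff n), ?_⟩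
  rw [e2, e1, ← mul_assoc, ← map_mul, div_mul_cancel₀ _ hn]

omit [IsNoetherianRing (semiAlg k H ⧸ Ideal.span {bm k H e he})] in
lemma soc_of_pf (g : ℤ) (hg : ∀ h ∈ H, 0 < h → inH H (g + h)) {a : ℕ} (ha : a ∈ H)
    (hag : (a : ℤ) = g + e) :
    ∀ b ∈ maximalIdeal (semiAlg k H ⧸ Ideal.span {bm k H e he}),
      b * Ideal.Quotient.mk (Ideal.span {bm k H e he}) (bm k H a ha) = 0 := by
  intro b hb
  obtain ⟨p, rfl⟩ := Ideal.Quotient.mk_surjective b
  rw [mem_maximalIdeal_iff hc e he hpos, epsC_mk] at hb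
  rw [← map_mul, Ideal.Quotient.eq_zero_iff_mem, mem_span_bm]
  intro m hm
  rw [MulMemClass.coe_mul, coe_bm, coeff_mul_X_pow'] at hm
  split_ifs at hm with h1
  · have h2 : m - a ∈ H := p.2 _ hm
    have h3 : 0 < m - a := by
      rcases Nat.eq_zero_or_pos (m - a) with hz | hp
      · rw [hz] at hm; exact absurd hb hm
      · exact hp
    obtain ⟨h', hh', eq'⟩ := hg _ h2 h3
    rw [Nat.cast_sub h1] at eq'
    have h4 : e ≤ m := by omega
    have h5 : m - e = h' := by omega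
    exact ⟨h4, h5 ▸ hh'⟩
  · exact absurd rfl hm

omit [IsNoetherianRing (semiAlg k H ⧸ Ideal.span {bm k H e he})] in
lemma mk_bm_ne_zero (g : ℤ) (hg : ¬ inH H g) {a : ℕ} (ha : a ∈ H) (hag : (a : ℤ) = g + e) :
    Ideal.Quotient.mk (Ideal.span {bm k H e he}) (bm k H a ha) ≠ 0 := by
  intro h0
  rw [Ideal.Quotient.eq_zero_iff_mem, mem_span_bm] at h0
  have h1 : ((bm k H a ha : semiAlg k H) : k[X]).coeff a ≠ 0 := by
    rw [coe_bm, coeff_X_pow, if_pos rfl]; exact one_ne_zero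
  obtain ⟨h2, h3⟩ := h0 a h1
  exact hg ⟨a - e, h3, by rw [Nat.cast_sub h2]; omega⟩

/-- a simple socle forces the semigroup to be symmetric -/
theorem sym_of_socleSimple (hS : SocleSimple (semiAlg k H ⧸ Ideal.span {bm k H e he})) :
    ∃ d : ℤ, ∀ n : ℤ, inH H n ↔ ¬ inH H (d - n) := by
  -- the Frobenius number
  have hbdd : ∀ z : ℤ, ¬ inH H z → z ≤ c := by
    intro z hz
    by_contra hcon
    push Not at hcon
    apply hz
    refine ⟨z.toNat, hc _ (by omega), by omega⟩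
  obtain ⟨d, hdG, hdmax⟩ := Int.exists_greatest_of_bdd (P := fun z => ¬ inH H z)
    ⟨c, hbdd⟩ ⟨-1, by rintro ⟨h, -, eq⟩; omega⟩
  have hpfd : ∀ h ∈ H, 0 < h → inH H (d + h) := by
    intro h hh hh0
    by_contra hcon
    have := hdmax _ hcon
    omega
  refine ⟨d, fun n => ⟨fun hn hdn => hdG ?_, fun hdn => ?_⟩⟩
  · have := inH_add hn hdn
    rwa [add_sub_cancel] at this
  by_contra hn
  -- the largest gap of the form `n + h`
  obtain ⟨f, ⟨hfG, h1, hh1, hf1⟩, hfmax⟩ := Int.exists_greatest_of_bdd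
    (P := fun z => ¬ inH H z ∧ ∃ h ∈ H, z = n + (h : ℤ))
    ⟨d, fun z hz => hdmax z hz.1⟩ ⟨n, hn, 0, H.zero_mem, by simp⟩
  have hpff : ∀ h ∈ H, 0 < h → inH H (f + h) := by
    intro h hh hh0
    by_contra hcon
    have := hfmax (f + h) ⟨hcon, h1 + h, H.add_mem hh1 hh, by rw [hf1]; push_cast; ring⟩
    omega
  obtain ⟨a1, ha1, ea1⟩ := hpfd e he hpos
  obtain ⟨a2, ha2, ea2⟩ := hpff e he hpos
  have hs1 := soc_of_pf (k := k) hc e he hpos d hpfd ha1 ea1
  have hs2 := soc_of_pf (k := k) hc e he hpos f hpff ha2 ea2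
  have hne1 := mk_bm_ne_zero (k := k) hc e he hpos d hdG ha1 ea1
  obtain ⟨a, hEq⟩ := hS _ _ hs1 hs2 hne1
  obtain ⟨y, rfl⟩ := Ideal.Quotient.mk_surjective a
  have hfd : f ≤ d := hdmax f hfG
  rcases lt_or_eq_of_le hfd with hlt | heq
  · exfalso
    rw [← map_mul, ← sub_eq_zero, ← map_sub, Ideal.Quotient.eq_zero_iff_mem, mem_span_bm] at hEq
    have hco : ((bm k H a2 ha2 - y * bm k H a1 ha1 : semiAlg k H) : k[X]).coeff a2 ≠ 0 := by
      rw [AddSubgroupClass.coe_sub, MulMemClass.coe_mul, coe_bm, coe_bm, coeff_sub, coeff_X_pow,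
        if_pos rfl, coeff_mul_X_pow', if_neg (by omega), sub_zero]
      exact one_ne_zero
    obtain ⟨h2, h3⟩ := hEq a2 hco
    exact hfG ⟨a2 - e, h3, by rw [Nat.cast_sub h2]; omega⟩
  · apply hdn
    refine ⟨h1, hh1, ?_⟩
    rw [← heq, hf1]; ring

end Groth.Agent.Lib.Helper88.SG
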