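/-
Kunz's theorem: the semigroup algebra `k[H]` of a numerical semigroup is Gorenstein iff `H` is
symmetric.
Author: helper88
-/
import Groth.Agent.Lib.Helper88.SemiSocle

set_option autoImplicit false
set_option linter.style.haveILetI false
set_option linter.unusedSectionVars false

namespace Groth.Agent.Lib.Helper88.SG

open Polynomial IsLocalRing Groth.Agent.Lib.Helper85.GorFlat Groth.Agent.Lib.Helper85.GorRing

universe u

variable {k : Type u} [Field k] {H : AddSubmonoid ℕ}

/-- **Kunz**: `k[H]` is Gorenstein iff `H` is symmetric. -/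
theorem gorRing_semiAlg_iff [IsNoetherianRing (semiAlg k H)] {c : ℕ}
    (hc : ∀ n, c ≤ n → n ∈ H) :
    LocCoh.IsGorensteinRing (semiAlg k H) ↔ ∃ d : ℤ, ∀ n : ℤ, inH H n ↔ ¬ inH H (d - n) := by
  have he : c + 1 ∈ H := hc _ (by omega)
  have hpos : 0 < c + 1 := by omega
  haveI := isLocalRing_Cq (k := k) hc (c + 1) he hpos
  have hdim := ringKrullDim_Cq (k := k) hc (c + 1) he hpos
  have hdepth : LocCoh.depth (semiAlg k H ⧸ Ideal.span {bm k H (c + 1) he})
      (semiAlg k H ⧸ Ideal.span {bm k H (c + 1) he}) = 0 := by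
    obtain ⟨m, hm⟩ := Groth.Agent.Lib.Helper77.FlatDepth.exists_nat_depth
      (semiAlg k H ⧸ Ideal.span {bm k H (c + 1) he})
    have h1 := Groth.Agent.Lib.Helper77.FlatDepth.depth_le_dim_nat
      (semiAlg k H ⧸ Ideal.span {bm k H (c + 1) he}) 0 m (by rw [hdim]; rfl) hm
    have h2 : m = 0 := by omega
    rw [hm, h2]; rfl
  have hreg : IsSMulRegular (semiAlg k H) (bm k H (c + 1) he) :=
    (isRegular_of_ne_zero (bm_ne_zero _ he)).left.isSMulRegular
  constructor
  · intro hG
    haveI := hG
    haveI : LocCoh.IsGorensteinRing (semiAlg k H ⧸ Ideal.span {bm k H (c + 1) he}) :=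
      gorRing_quot _ hreg
    haveI : IsLocalization.AtPrime (semiAlg k H ⧸ Ideal.span {bm k H (c + 1) he})
        (maximalIdeal (semiAlg k H ⧸ Ideal.span {bm k H (c + 1) he})) := by
      apply IsLocalization.of_le_isUnit
      intro x hx
      rw [IsUnit.mem_submonoid_iff]
      exact IsLocalRing.notMem_maximalIdeal.mp hx
    haveI : LocCoh.IsGorensteinLocalRing (semiAlg k H ⧸ Ideal.span {bm k H (c + 1) he}) :=
      gorRing_atPrime (semiAlg k H ⧸ Ideal.span {bm k H (c + 1) he})
        (maximalIdeal (semiAlg k H ⧸ Ideal.span {bm k H (c + 1) he}))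
        (semiAlg k H ⧸ Ideal.span {bm k H (c + 1) he})
    exact sym_of_socleSimple hc (c + 1) he hpos (socleSimple_of_gorenstein _ hdepth)
  · rintro ⟨d, hd⟩
    have hS := socleSimple_of_sym (k := k) hc (c + 1) he hpos d hd
    haveI : LocCoh.IsGorensteinLocalRing (semiAlg k H ⧸ Ideal.span {bm k H (c + 1) he}) :=
      gorenstein_of_socleSimple _ hdim hS
    haveI : LocCoh.IsGorensteinRing (semiAlg k H ⧸ Ideal.span {bm k H (c + 1) he}) :=
      gorRing_of_gorLocal _
    haveI := isLocalization_away (k := k) hc (c + 1) he hpos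
    haveI := gorRing_away_X k
    exact Groth.Agent.Lib.Helper88.GorGlue.gorRing_of_quot_of_away (R := semiAlg k H)
      (R' := semiAlg k H ⧸ Ideal.span {bm k H (c + 1) he})
      (S := Localization.Away (X : k[X])) (bm k H (c + 1) he) hreg
      (Ideal.Quotient.mk (Ideal.span {bm k H (c + 1) he})) Ideal.Quotient.mk_surjective
      Ideal.mk_ker

end Groth.Agent.Lib.Helper88.SG
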