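/-
The section ring `R_{X,P}` of a point is Gorenstein iff the Weierstrass semigroup is symmetric.
Author: helper88
-/
import Groth.Agent.Lib.Helper88.HoloLoc
import Groth.Agent.Lib.Helper88.SemiGor
import Groth.Agent.Lib.Helper88.SemiEquiv

set_option autoImplicit false
set_option linter.unusedSectionVars false
set_option linter.style.haveILetI false

namespace Groth.Agent.Lib.Helper88.Sect

open FunFld WithZero Polynomial Groth.Agent.Lib.Helper88.FF W4c6gradedringsgw
  Groth.Agent.Lib.Helper88.HR Groth.Agent.Lib.Helper88.SG Groth.Agent.Lib.Helper85.GorRing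

universe u

variable {k K : Type u} [Field k] [Field K] [Algebra k K]

theorem sectRing_gorenstein_iff [IsAlgClosed k] (hK : IsFunctionField k K)
    (hg : 1 ≤ genus k K) (P : Place k K) :
    LocCoh.IsGorensteinRing ↥(sectRing (Finsupp.single P 1 : Divisor k K)) ↔
      IsSymmetric (poleOrders P) := by
  obtain ⟨π, hπ⟩ := exists_uniformizer P
  have ht : ((tt P : ↥(sectRing (Finsupp.single P 1 : Divisor k K))) : K[X]) = C 1 * X := by
    rw [coe_tt, map_one, one_mul]
  obtain ⟨hprime, ⟨e1⟩⟩ := sectRing_quotient hK hg P (tt P) 1 one_ne_zero ht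
  set H : AddSubmonoid ℕ := AddSubmonoid.closure (poleOrders P) with hH
  let e : (↥(sectRing (Finsupp.single P 1 : Divisor k K)) ⧸ Ideal.span {tt P}) ≃+*
      ↥(semiAlg k H) := e1.toRingEquiv.trans (semiEquiv k H).toRingEquiv
  let π' : ↥(sectRing (Finsupp.single P 1 : Divisor k K)) →+* ↥(semiAlg k H) :=
    e.toRingHom.comp (Ideal.Quotient.mk (Ideal.span {tt P}))
  have hsurj : Function.Surjective π' :=
    e.surjective.comp Ideal.Quotient.mk_surjective
  have hker : RingHom.ker π' = Ideal.span {tt P} := by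
    ext x
    rw [RingHom.mem_ker]
    change e (Ideal.Quotient.mk _ x) = 0 ↔ _
    rw [map_eq_zero_iff e e.injective, Ideal.Quotient.eq_zero_iff_mem]
  haveI := isNoetherianRing_sectRing P hK
  haveI : IsNoetherianRing ↥(semiAlg k H) := isNoetherianRing_of_surjective _ _ π' hsurj
  have hc : ∀ n, 2 * genus k K ≤ n → n ∈ H := fun n hn =>
    (mem_closure_poleOrders hK hπ).2 (mem_poleOrders_of_le hK P hn)
  have hkunz := gorRing_semiAlg_iff (k := k) hc
  have hreg : IsSMulRegular ↥(sectRing (Finsupp.single P 1 : Divisor k K)) (tt P) :=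
    (isRegular_of_ne_zero hprime.ne_zero).left.isSMulRegular
  have hinH : ∀ n : ℤ, inH H n ↔ ∃ h ∈ poleOrders P, (h : ℤ) = n := by
    intro n
    constructor
    · rintro ⟨h, hh, rfl⟩
      exact ⟨h, (mem_closure_poleOrders hK hπ).1 hh, rfl⟩
    · rintro ⟨h, hh, rfl⟩
      exact ⟨h, (mem_closure_poleOrders hK hπ).2 hh, rfl⟩
  have hsym : (∃ d : ℤ, ∀ n : ℤ, inH H n ↔ ¬ inH H (d - n)) ↔ IsSymmetric (poleOrders P) := by
    unfold IsSymmetric
    refine exists_congr fun d => forall_congr' fun n => ?_
    rw [hinH, hinH]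
  constructor
  · intro hG
    haveI := hG
    rw [← hsym, ← hkunz]
    exact gorRing_of_surjective π' hsurj (tt P) hreg hker
  · intro hs
    haveI : LocCoh.IsGorensteinRing ↥(semiAlg k H) := hkunz.2 (hsym.2 hs)
    letI := algS P
    haveI := isLocalization_away_tt P
    haveI := gorRing_away P hK
    exact Groth.Agent.Lib.Helper88.GorGlue.gorRing_of_quot_of_away
      (R := ↥(sectRing (Finsupp.single P 1 : Divisor k K))) (R' := ↥(semiAlg k H))
      (S := Localization.Away (X : (↥(holo P))[X])) (tt P) hreg π' hsurj hker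

end Groth.Agent.Lib.Helper88.Sect
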