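import Groth.Prelude.Def_BlowUp2
import Mathlib.RingTheory.Localization.Away.Basic
import Mathlib.RingTheory.Noetherian.Basic
import Mathlib.RingTheory.Finiteness.Basic

/-! The affine blow-up algebra `A[I/a]` as a union of the images of `I^n`, `x ↦ x / a^n`. -/

set_option autoImplicit false
universe u

namespace Groth.Agent.Lib.Helper88.TorBlow

variable {A : Type u} [CommRing A] (I : Ideal A) (a : A)

/-- `1 / a` -/
noncomputable def inv : Localization.Away a :=
  IsLocalization.mk' (Localization.Away a) (1 : A) ⟨a, Submonoid.mem_powers a⟩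

lemma smul_inv (x : A) : x • inv a =
    IsLocalization.mk' (Localization.Away a) x ⟨a, Submonoid.mem_powers a⟩ := by
  unfold inv
  rw [Algebra.smul_def, ← IsLocalization.mk'_eq_mul_mk'_one]

lemma a_smul_inv : a • inv a = 1 := by
  rw [smul_inv]
  exact IsLocalization.mk'_self' (Localization.Away a) (x := ⟨a, Submonoid.mem_powers a⟩)

lemma pow_smul_inv_pow (k n : ℕ) : (a ^ k) • inv a ^ (n + k) = inv a ^ n := by
  induction k with
  | zero => simp
  | succ k ih =>
    have e : n + (k + 1) = (n + k) + 1 := by omega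
    rw [e, pow_succ, pow_succ, mul_smul_mul_comm, ih, a_smul_inv, mul_one]

lemma smul_inv_pow_mem (n : ℕ) : ∀ x ∈ I ^ n, x • inv a ^ n ∈ BlowUp.affineAlgebra A I a := by
  induction n with
  | zero =>
    intro x _
    rw [pow_zero, Algebra.smul_def, mul_one]
    exact Subalgebra.algebraMap_mem _ x
  | succ n ih =>
    intro x hx
    rw [pow_succ] at hx
    refine Submodule.mul_induction_on hx ?_ ?_
    · intro y hy z hz
      have : (y * z) • inv a ^ (n + 1) = (y • inv a ^ n) * (z • inv a) := by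
        rw [pow_succ, mul_smul_mul_comm]
      rw [this]
      refine Subalgebra.mul_mem _ (ih y hy) ?_
      rw [smul_inv]
      exact Algebra.subset_adjoin ⟨z, hz, rfl⟩
    · intro y z hy hz
      rw [add_smul]
      exact Subalgebra.add_mem _ hy hz

/-- `I^n → A[I/a]`, `x ↦ x / a^n` -/
noncomputable def gn (n : ℕ) : ↥(I ^ n) →ₗ[A] ↥(BlowUp.affineAlgebra A I a) where
  toFun x := ⟨(x : A) • inv a ^ n, smul_inv_pow_mem I a n x.1 x.2⟩
  map_add' x y := Subtype.ext (by simp [add_smul])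
  map_smul' r x := Subtype.ext (by simp [mul_smul])

lemma gn_coe (n : ℕ) (x : ↥(I ^ n)) :
    ((gn I a n x : ↥(BlowUp.affineAlgebra A I a)) : Localization.Away a) = (x : A) • inv a ^ n := rfl

variable {I a}

lemma exists_rep (ha : a ∈ I) (b : Localization.Away a) (hb : b ∈ BlowUp.affineAlgebra A I a) :
    ∃ n : ℕ, ∃ x ∈ I ^ n, b = x • inv a ^ n := by
  unfold BlowUp.affineAlgebra at hb
  induction hb using Algebra.adjoin_induction with
  | mem q hq =>
    obtain ⟨x, hx, rfl⟩ := hq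
    refine ⟨1, x, by simpa using hx, ?_⟩
    rw [pow_one, smul_inv]
  | algebraMap r =>
    refine ⟨0, r, by simp, ?_⟩
    rw [pow_zero, Algebra.smul_def, mul_one]
  | add b b' _ _ hb hb' =>
    obtain ⟨n, x, hx, rfl⟩ := hb
    obtain ⟨n', x', hx', rfl⟩ := hb'
    refine ⟨n + n', a ^ n' * x + a ^ n * x', ?_, ?_⟩
    · refine Ideal.add_mem _ ?_ ?_
      · rw [add_comm n n', pow_add]
        exact Ideal.mul_mem_mul (Ideal.pow_mem_pow ha n') hx
      · rw [pow_add]
        exact Ideal.mul_mem_mul (Ideal.pow_mem_pow ha n) hx'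
    · rw [add_smul]
      congr 1
      · rw [mul_comm, mul_smul, pow_smul_inv_pow]
      · rw [mul_comm, mul_smul, add_comm n n', pow_smul_inv_pow]
  | mul b b' _ _ hb hb' =>
    obtain ⟨n, x, hx, rfl⟩ := hb
    obtain ⟨n', x', hx', rfl⟩ := hb'
    refine ⟨n + n', x * x', ?_, ?_⟩
    · rw [pow_add]
      exact Ideal.mul_mem_mul hx hx'
    · rw [pow_add, mul_smul_mul_comm]

lemma exists_rep_ge (ha : a ∈ I) (b : Localization.Away a) (hb : b ∈ BlowUp.affineAlgebra A I a) :
    ∃ n : ℕ, ∀ m, n ≤ m → ∃ x ∈ I ^ m, b = x • inv a ^ m := by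
  obtain ⟨n, x, hx, rfl⟩ := exists_rep ha b hb
  refine ⟨n, fun m hm => ?_⟩
  obtain ⟨k, rfl⟩ := Nat.exists_eq_add_of_le hm
  refine ⟨a ^ k * x, ?_, ?_⟩
  · rw [add_comm n k, pow_add]
    exact Ideal.mul_mem_mul (Ideal.pow_mem_pow ha k) hx
  · rw [mul_comm, mul_smul, pow_smul_inv_pow]

/-- every finitely generated submodule of `A[I/a]` lies in the image of some `I^n` -/
lemma fg_le_range (ha : a ∈ I) (L : Submodule A ↥(BlowUp.affineAlgebra A I a)) (hL : L.FG) :
    ∃ n : ℕ, ∀ m, n ≤ m → L ≤ LinearMap.range (gn I a m) := by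
  induction L, hL using Submodule.fg_induction with
  | singleton b =>
    obtain ⟨n, hn⟩ := exists_rep_ge ha b.1 b.2
    refine ⟨n, fun m hm => ?_⟩
    obtain ⟨x, hx, hbx⟩ := hn m hm
    rw [Submodule.span_singleton_le_iff_mem]
    exact ⟨⟨x, hx⟩, Subtype.ext hbx.symm⟩
  | sup L₁ L₂ _ _ h₁ h₂ =>
    obtain ⟨n₁, hn₁⟩ := h₁
    obtain ⟨n₂, hn₂⟩ := h₂
    exact ⟨max n₁ n₂, fun m hm => sup_le (hn₁ m (le_trans (le_max_left _ _) hm))
      (hn₂ m (le_trans (le_max_right _ _) hm))⟩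

lemma exists_pow_smul_eq_zero_of_mem_ker (n : ℕ) (x : ↥(I ^ n)) (hx : gn I a n x = 0) :
    ∃ k : ℕ, a ^ k * (x : A) = 0 := by
  have h1 : ((x : A) • inv a ^ n : Localization.Away a) = 0 := by
    have := congrArg Subtype.val hx
    simpa [gn_coe] using this
  have h2 : algebraMap A (Localization.Away a) (x : A) = 0 := by
    have h3 := congrArg (fun z => (a ^ n) • z) h1
    simp only [smul_zero] at h3
    have h4 : (a ^ n) • inv a ^ n = 1 := by
      have := pow_smul_inv_pow a n 0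
      rwa [zero_add, pow_zero] at this
    rw [smul_comm, h4, Algebra.smul_def, mul_one] at h3
    exact h3
  obtain ⟨⟨_, k, rfl⟩, hk⟩ := (IsLocalization.map_eq_zero_iff (Submonoid.powers a) _ _).1 h2
  exact ⟨k, hk⟩

lemma exists_pow_kills_ker [IsNoetherianRing A] (n : ℕ) :
    ∃ k : ℕ, ∀ x : ↥(I ^ n), gn I a n x = 0 → a ^ k * (x : A) = 0 := by
  have hfg : (LinearMap.ker (gn I a n)).FG := IsNoetherian.noetherian _
  have key : ∀ (N : Submodule A ↥(I ^ n)) (_ : N.FG), N ≤ LinearMap.ker (gn I a n) →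
      ∃ k : ℕ, ∀ x ∈ N, a ^ k * ((x : ↥(I ^ n)) : A) = 0 := by
    intro N hN
    induction N, hN using Submodule.fg_induction with
    | singleton x =>
      intro hle
      have hx : gn I a n x = 0 := LinearMap.mem_ker.1 (hle (Submodule.mem_span_singleton_self x))
      obtain ⟨k, hk⟩ := exists_pow_smul_eq_zero_of_mem_ker n x hx
      refine ⟨k, fun y hy => ?_⟩
      obtain ⟨r, rfl⟩ := Submodule.mem_span_singleton.1 hy
      simp only [Submodule.coe_smul, smul_eq_mul]
      rw [mul_left_comm, hk, mul_zero]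
    | sup N₁ N₂ _ _ h₁ h₂ =>
      intro hle
      obtain ⟨k₁, hk₁⟩ := h₁ (le_sup_left.trans hle)
      obtain ⟨k₂, hk₂⟩ := h₂ (le_sup_right.trans hle)
      refine ⟨k₁ + k₂, fun y hy => ?_⟩
      obtain ⟨y₁, hy₁, y₂, hy₂, rfl⟩ := Submodule.mem_sup.1 hy
      simp only [Submodule.coe_add]
      rw [mul_add, pow_add]
      have e1 : a ^ k₁ * a ^ k₂ * (y₁ : A) = a ^ k₂ * (a ^ k₁ * (y₁ : A)) := by ring
      have e2 : a ^ k₁ * a ^ k₂ * (y₂ : A) = a ^ k₁ * (a ^ k₂ * (y₂ : A)) := by ring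
      rw [e1, e2, hk₁ y₁ hy₁, hk₂ y₂ hy₂]
      simp
  obtain ⟨k, hk⟩ := key _ hfg le_rfl
  exact ⟨k, fun x hx => hk x (LinearMap.mem_ker.2 hx)⟩

/-- multiplication by `a^k`, `I^n → I^(n+k)` -/
noncomputable def mulPow (ha : a ∈ I) (n k : ℕ) : ↥(I ^ n) →ₗ[A] ↥(I ^ (n + k)) where
  toFun x := ⟨a ^ k * (x : A), by
    rw [add_comm n k, pow_add]
    exact Ideal.mul_mem_mul (Ideal.pow_mem_pow ha k) x.2⟩
  map_add' x y := Subtype.ext (by simp [mul_add])
  map_smul' r x := Subtype.ext (by simp [mul_left_comm])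

lemma gn_mulPow (ha : a ∈ I) (n k : ℕ) (x : ↥(I ^ n)) :
    gn I a (n + k) (mulPow ha n k x) = gn I a n x := by
  apply Subtype.ext
  rw [gn_coe, gn_coe]
  change (a ^ k * (x : A)) • inv a ^ (n + k) = _
  rw [mul_comm, mul_smul, pow_smul_inv_pow]

/-- the inclusion of a finitely generated submodule of `A[I/a]` factors through some `I^m` -/
theorem exists_factor [IsNoetherianRing A] (ha : a ∈ I)
    (L : Submodule A ↥(BlowUp.affineAlgebra A I a)) (hL : L.FG) :
    ∃ (m : ℕ) (h : ↥L →ₗ[A] ↥(I ^ m)), gn I a m ∘ₗ h = L.subtype := by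
  obtain ⟨n, hn⟩ := fg_le_range ha L hL
  obtain ⟨k, hk⟩ := exists_pow_kills_ker (I := I) (a := a) n
  have hle : LinearMap.ker (gn I a n) ≤ LinearMap.ker (mulPow ha n k) := by
    intro x hx
    rw [LinearMap.mem_ker] at hx ⊢
    exact Subtype.ext (hk x hx)
  let e := LinearMap.quotKerEquivRange (gn I a n)
  let l : ↥(LinearMap.range (gn I a n)) →ₗ[A] ↥(I ^ (n + k)) :=
    (Submodule.liftQ _ (mulPow ha n k) hle) ∘ₗ e.symm.toLinearMap
  refine ⟨n + k, l ∘ₗ Submodule.inclusion (hn n le_rfl), ?_⟩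
  apply LinearMap.ext
  intro y
  obtain ⟨x, hx⟩ := hn n le_rfl y.2
  have h1 : Submodule.inclusion (hn n le_rfl) y = e (Submodule.Quotient.mk x) := by
    apply Subtype.ext
    rw [LinearMap.quotKerEquivRange_apply_mk]
    exact hx.symm
  simp only [LinearMap.comp_apply, Submodule.subtype_apply]
  rw [h1]
  change gn I a (n + k) ((Submodule.liftQ _ (mulPow ha n k) hle) (e.symm (e _))) = _
  rw [LinearEquiv.symm_apply_apply, Submodule.liftQ_apply, gn_mulPow]
  exact hx

end Groth.Agent.Lib.Helper88.TorBlow
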