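import Groth.Agent.Lib.Helper88.TorGen2

/-! Uniform annihilation of `Tor_i(A/I^q, M)`, `i` bigger than the number of generators of `I`. -/

set_option autoImplicit false
universe u

open CategoryTheory Limits MonoidalCategory

namespace Groth.Agent.Lib.Helper88.TorGen

open Groth.Agent.Lib.Helper68 Groth.Agent.Lib.Helper68.TorMod

variable {A : Type u} [CommRing A]

section SES

variable (I' : Ideal A) (a : A)

/-- `0 → ker ψ → C_q → A/I^q → 0` -/
noncomputable abbrev ses2 (q : ℕ) : ShortComplex (ModuleCat.{u} A) :=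
  sc (LinearMap.ker (psi I' a q)).subtype (psi I' a q) (LinearMap.exact_subtype_ker_map _)

lemma ses2_shortExact (q : ℕ) : (ses2 I' a q).ShortExact :=
  sc_shortExact _ _ _ (Submodule.subtype_injective _) (psi_surjective I' a q)

/-- `X - a` corestricted to `ker ψ` -/
noncomputable def phiR (q : ℕ) : Cq I' q →ₗ[A] LinearMap.ker (psi I' a q) :=
  LinearMap.codRestrict _ (phi I' a q) (fun x => (exact_phi_psi I' a q).apply_apply_eq_zero x)

lemma phiR_coe (q : ℕ) (x : Cq I' q) : ((phiR I' a q x : LinearMap.ker (psi I' a q)) : Cq I' q) =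
    phi I' a q x := rfl

lemma exact_ker_phiR (q : ℕ) :
    Function.Exact (LinearMap.ker (phi I' a q)).subtype (phiR I' a q) := by
  intro y
  constructor
  · intro h
    refine ⟨⟨y, ?_⟩, rfl⟩
    rw [LinearMap.mem_ker]
    have := congrArg Subtype.val h
    simpa [phiR_coe] using this
  · rintro ⟨z, rfl⟩
    apply Subtype.ext
    rw [phiR_coe]
    exact z.2

lemma phiR_surjective (q : ℕ) : Function.Surjective (phiR I' a q) := by
  rintro ⟨y, hy⟩
  obtain ⟨x, hx⟩ := (exact_phi_psi I' a q y).1 hy
  exact ⟨x, Subtype.ext hx⟩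

/-- `0 → ker φ → C_q → ker ψ → 0` -/
noncomputable abbrev ses1 (q : ℕ) : ShortComplex (ModuleCat.{u} A) :=
  sc (LinearMap.ker (phi I' a q)).subtype (phiR I' a q) (exact_ker_phiR I' a q)

lemma ses1_shortExact (q : ℕ) : (ses1 I' a q).ShortExact :=
  sc_shortExact _ _ _ (Submodule.subtype_injective _) (phiR_surjective I' a q)

end SES

lemma sup_pow_add_le {R : Type*} [CommRing R] (J K : Ideal R) (m n : ℕ) :
    (J ⊔ K) ^ (m + n) ≤ J ^ m ⊔ K ^ n := by
  induction m generalizing n with
  | zero => simp
  | succ m ihm =>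
    induction n with
    | zero => simp
    | succ n ihn =>
      have e : m + 1 + (n + 1) = (m + (n + 1)) + 1 := by omega
      rw [e, pow_succ', Ideal.sup_mul]
      refine sup_le ?_ ?_
      · refine (Ideal.mul_mono_right (ihm (n + 1))).trans ?_
        rw [Ideal.mul_sup]
        refine sup_le ?_ (Ideal.mul_le_right.trans le_sup_right)
        rw [← pow_succ']
        exact le_sup_left
      · have e2 : m + (n + 1) = m + 1 + n := by omega
        rw [e2]
        refine (Ideal.mul_mono_right ihn).trans ?_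
        rw [Ideal.mul_sup]
        refine sup_le (Ideal.mul_le_right.trans le_sup_left) ?_
        rw [← pow_succ']
        exact le_sup_right

section Step

variable [IsNoetherianRing A]

theorem step_kills (I' : Ideal A) (a : A) (I : Ideal A) (hI : I = II I' a) (t' c' : ℕ)
    (hIH : ∀ (M : ModuleCat.{u} A) (i q : ℕ), t' < i →
      Kills (I' ^ c') (((Tor (ModuleCat.{u} A) i).obj
        (ModuleCat.of A (A ⧸ (I' ^ q : Ideal A)))).obj M)) :
    ∃ k : ℕ, ∀ (M : ModuleCat.{u} A) (i q : ℕ), t' + 1 < i →
      Kills (I ^ k * (I' ^ c' * I' ^ c')) (((Tor (ModuleCat.{u} A) i).obj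
        (ModuleCat.of A (A ⧸ (I ^ q : Ideal A)))).obj M) := by
  subst hI
  obtain ⟨k, hk⟩ := exists_AR I' a
  refine ⟨k, fun M i q hi => ?_⟩
  obtain ⟨n, rfl⟩ : ∃ n, i = n + 2 := ⟨i - 2, by omega⟩
  have hC : ∀ j, t' < j → Kills (I' ^ c') (((Tor (ModuleCat.{u} A) j).obj
      (ModuleCat.of A (Cq I' q))).obj M) := by
    intro j hj
    refine kills_of_sum ((Tor (ModuleCat.{u} A) j).flip.obj M) (Finset.range q)
      (ModuleCat.of A (Cq I' q)) (fun k => ModuleCat.of A (A ⧸ (I' ^ (q - k) : Ideal A)))
      (fun k => ModuleCat.ofHom (pik I' q k)) (fun k => ModuleCat.ofHom (iok I' q k)) ?_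
      (I' ^ c') (fun k _ => hIH M j (q - k) hj)
    apply ModuleCat.hom_ext
    rw [ModuleCat.hom_sum]
    simp only [ModuleCat.hom_comp, ModuleCat.hom_ofHom, ModuleCat.hom_id]
    exact sum_iok_pik I' q
  have hK : Kills (II I' a ^ k) (((Tor (ModuleCat.{u} A) n).obj
      (ModuleCat.of A (LinearMap.ker (phi I' a q)))).obj M) :=
    kills_tor_left M _ _ (fun r hr (x : LinearMap.ker (phi I' a q)) =>
      Subtype.ext (smul_eq_zero_of_mem_ker I' a k hk q r hr x.1 (LinearMap.mem_ker.1 x.2))) n
  have e1 := TorFirst.exact₃ (ses1_shortExact I' a q) M n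
  have hD := Kills.of_exact _ _ _ e1 (hC (n + 1) (by omega)) hK
  have e2 := TorFirst.exact₃ (ses2_shortExact I' a q) M (n + 1)
  have h3 := Kills.of_exact _ _ _ e2 (hC (n + 2) (by omega)) hD
  rw [mul_assoc] at h3
  exact h3

lemma base_isZero (M : ModuleCat.{u} A) (i q : ℕ) :
    IsZero (((Tor (ModuleCat.{u} A) (i + 1)).obj
      (ModuleCat.of A (A ⧸ ((⊥ : Ideal A) ^ q : Ideal A)))).obj M) := by
  have hflat : Module.Flat A (A ⧸ ((⊥ : Ideal A) ^ q : Ideal A)) := by
    rcases Nat.eq_zero_or_pos q with rfl | hq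
    · have : Subsingleton (A ⧸ ((⊥ : Ideal A) ^ 0 : Ideal A)) := by
        rw [pow_zero, Ideal.one_eq_top]
        exact Ideal.Quotient.subsingleton_iff.2 rfl
      infer_instance
    · have hb : ((⊥ : Ideal A) ^ q : Ideal A) = ⊥ := by
        rw [← Ideal.zero_eq_bot, zero_pow (by omega)]
      exact Module.Flat.of_linearEquiv (Submodule.quotEquivOfEqBot _ hb)
  exact TorFirst.isZero_tor_succ_of_flat_left M i _

lemma kills_of_isZero (J : Ideal A) {X : ModuleCat.{u} A} (h : IsZero X) : Kills J X := by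
  rw [kills_iff]
  intro r _ x
  have := ModuleCat.subsingleton_of_isZero h
  exact Subsingleton.elim _ _

theorem kills_main : ∀ (m : ℕ) (s : Finset A), s.card = m →
    ∃ c : ℕ, ∀ (M : ModuleCat.{u} A) (i q : ℕ), s.card < i →
      Kills (Ideal.span (s : Set A) ^ c) (((Tor (ModuleCat.{u} A) i).obj
        (ModuleCat.of A (A ⧸ (Ideal.span (s : Set A) ^ q : Ideal A)))).obj M) := by
  classical
  intro m
  induction m using Nat.strong_induction_on with
  | _ m ih =>
    intro s hs
    rcases s.eq_empty_or_nonempty with rfl | ⟨a₁, ha₁⟩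
    · refine ⟨0, fun M i q hi => ?_⟩
      obtain ⟨j, rfl⟩ : ∃ j, i = j + 1 := ⟨i - 1, by simp at hi; omega⟩
      apply kills_of_isZero
      rw [Finset.coe_empty, Ideal.span_empty]
      exact base_isZero M j q
    · have hspan : ∀ b ∈ s, Ideal.span (s : Set A) = II (Ideal.span ((s.erase b : Finset A) : Set A)) b := by
        intro b hb
        unfold II
        rw [← Ideal.span_union, Set.union_singleton, ← Finset.coe_insert, Finset.insert_erase hb]
      have hcard : ∀ b ∈ s, (s.erase b).card + 1 = s.card := fun b hb =>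
        Finset.card_erase_add_one hb
      rcases (s.erase a₁).eq_empty_or_nonempty with he | ⟨a₂, ha₂⟩
      · -- one generator
        have hI := hspan a₁ ha₁
        rw [he] at hI
        have hc1 := hcard a₁ ha₁
        rw [he, Finset.card_empty] at hc1
        obtain ⟨k, hk⟩ := step_kills (Ideal.span ((∅ : Finset A) : Set A)) a₁ _ hI 0 0
          (fun M i q hi => by
            obtain ⟨j, rfl⟩ : ∃ j, i = j + 1 := ⟨i - 1, by omega⟩
            apply kills_of_isZero
            rw [Finset.coe_empty, Ideal.span_empty]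
            exact base_isZero M j q)
        refine ⟨k, fun M i q hi => ?_⟩
        have := hk M i q (by omega)
        rw [pow_zero, Ideal.one_eq_top, Ideal.mul_top, Ideal.mul_top] at this
        exact this
      · -- at least two generators
        have ha₂s : a₂ ∈ s := Finset.mem_of_mem_erase ha₂
        have hne : a₂ ≠ a₁ := Finset.ne_of_mem_erase ha₂
        have ha₁' : a₁ ∈ s.erase a₂ := Finset.mem_erase.2 ⟨hne.symm, ha₁⟩
        obtain ⟨c₁, hc₁⟩ := ih (s.erase a₁).card (by have := hcard a₁ ha₁; omega) (s.erase a₁) rfl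
        obtain ⟨c₂, hc₂⟩ := ih (s.erase a₂).card (by have := hcard a₂ ha₂s; omega) (s.erase a₂) rfl
        obtain ⟨k₁, hk₁⟩ := step_kills _ a₁ _ (hspan a₁ ha₁) _ c₁ hc₁
        obtain ⟨k₂, hk₂⟩ := step_kills _ a₂ _ (hspan a₂ ha₂s) _ c₂ hc₂
        set I := Ideal.span (s : Set A) with hIdef
        set I₁ := Ideal.span ((s.erase a₁ : Finset A) : Set A) with hI₁
        set I₂ := Ideal.span ((s.erase a₂ : Finset A) : Set A) with hI₂
        have hI₁le : I₁ ≤ I := Ideal.span_mono (by exact_mod_cast Finset.erase_subset a₁ s)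
        have hI₂le : I₂ ≤ I := Ideal.span_mono (by exact_mod_cast Finset.erase_subset a₂ s)
        let e := c₁ + c₁ + c₂ + c₂
        let k := k₁ + k₂
        refine ⟨k + (e + e), fun M i q hi => ?_⟩
        have h1 : Kills (I ^ k * I₁ ^ e) (((Tor (ModuleCat.{u} A) i).obj
            (ModuleCat.of A (A ⧸ (I ^ q : Ideal A)))).obj M) := by
          refine (hk₁ M i q (by have := hcard a₁ ha₁; omega)).mono ?_
          refine Ideal.mul_mono (Ideal.pow_le_pow_right (by omega)) ?_
          rw [← pow_add]
          exact Ideal.pow_le_pow_right (by omega)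
        have h2 : Kills (I ^ k * I₂ ^ e) (((Tor (ModuleCat.{u} A) i).obj
            (ModuleCat.of A (A ⧸ (I ^ q : Ideal A)))).obj M) := by
          refine (hk₂ M i q (by have := hcard a₂ ha₂s; omega)).mono ?_
          refine Ideal.mul_mono (Ideal.pow_le_pow_right (by omega)) ?_
          rw [← pow_add]
          exact Ideal.pow_le_pow_right (by omega)
        refine (h1.sup h2).mono ?_
        rw [← Ideal.mul_sup, pow_add]
        refine Ideal.mul_mono_right ?_
        have h3 : I = I₁ ⊔ Ideal.span {a₁} := hspan a₁ ha₁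
        rw [h3]
        refine (sup_pow_add_le _ _ e e).trans (sup_le_sup_left ?_ _)
        refine Ideal.pow_right_mono ?_ e
        rw [Ideal.span_singleton_le_iff_mem]
        exact Ideal.subset_span (by exact_mod_cast ha₁')

end Step

end Groth.Agent.Lib.Helper88.TorGen
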