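import Groth.Agent.Lib.Helper88.TorBlow1
import Groth.Agent.Lib.Helper88.TorGen3
import Groth.Agent.Lib.Helper68.TorColimLeft
import Groth.Agent.Lib.Helper68.FGColim

/-! `Tor_i(A[I/a], M)` is uniformly annihilated by a power of `I` for `i ≥` number of generators. -/

set_option autoImplicit false
universe u

open CategoryTheory Limits MonoidalCategory

namespace Groth.Agent.Lib.Helper88.TorBlow

open Groth.Agent.Lib.Helper68 Groth.Agent.Lib.Helper68.TorMod Groth.Agent.Lib.Helper88.TorGen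

variable {A : Type u} [CommRing A]

/-- every element of `Tor_i(L, M)` comes from a finitely generated submodule of `L` -/
lemma exists_fg_rep (L M : ModuleCat.{u} A) (i : ℕ)
    (y : ((Tor (ModuleCat.{u} A) i).obj L).obj M) :
    ∃ (L' : Submodule A L) (_ : L'.FG) (y' : ((Tor (ModuleCat.{u} A) i).obj (ModuleCat.of A L')).obj M),
      (((Tor (ModuleCat.{u} A) i).map (ModuleCat.ofHom L'.subtype)).app M).hom y' = y := by
  obtain ⟨hc⟩ := FGColim.nonempty_isColimit_cocone L
  have := TorColimLeft.preserves_tor_flip (J := FGColim.J L) M i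
  have hc' : IsColimit (((Tor (ModuleCat.{u} A) i).flip.obj M).mapCocone (FGColim.cocone L)) :=
    isColimitOfPreserves _ hc
  obtain ⟨j, y', hy'⟩ := FilteredMod.exists_rep hc' y
  exact ⟨j.1, j.2, y', hy'⟩

/-- `0 → I^q → A → A/I^q → 0` -/
noncomputable abbrev sesI (J : Ideal A) : ShortComplex (ModuleCat.{u} A) :=
  sc (Submodule.subtype J) (Submodule.mkQ J) (LinearMap.exact_subtype_mkQ J)

lemma sesI_shortExact (J : Ideal A) : (sesI J).ShortExact :=
  sc_shortExact _ _ _ (Submodule.subtype_injective _) (Submodule.mkQ_surjective _)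

lemma kills_ideal_pow [IsNoetherianRing A] (s : Finset A) :
    ∃ c : ℕ, ∀ (M : ModuleCat.{u} A) (i q : ℕ), s.card ≤ i → 0 < i →
      Kills (Ideal.span (s : Set A) ^ c) (((Tor (ModuleCat.{u} A) i).obj
        (ModuleCat.of A ↥(Ideal.span (s : Set A) ^ q : Ideal A))).obj M) := by
  obtain ⟨c, hc⟩ := kills_main s.card s rfl
  refine ⟨c, fun M i q hi hi0 => ?_⟩
  obtain ⟨j, rfl⟩ : ∃ j, i = j + 1 := ⟨i - 1, by omega⟩
  have e1 := TorFirst.exact₁ (sesI_shortExact (Ideal.span (s : Set A) ^ q)) M (j + 1)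
  have hz : IsZero (((Tor (ModuleCat.{u} A) (j + 1)).obj (ModuleCat.of A A)).obj M) :=
    TorFirst.isZero_tor_succ_of_flat_left M j _
  have h3 := Kills.of_exact _ _ _ e1 (hc M (j + 1 + 1) q (by omega)) (kills_of_isZero ⊤ hz)
  rw [Ideal.top_mul] at h3
  exact h3

theorem kills_blowup [IsNoetherianRing A] (s : Finset A) (a : A) (ha : a ∈ s) :
    ∃ c : ℕ, ∀ (M : ModuleCat.{u} A) (i : ℕ), s.card ≤ i →
      Kills (Ideal.span (s : Set A) ^ c) (((Tor (ModuleCat.{u} A) i).obj
        (ModuleCat.of A ↥(BlowUp.affineAlgebra A (Ideal.span (s : Set A)) a))).obj M) := by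
  obtain ⟨c, hc⟩ := kills_ideal_pow s
  have hcard : 0 < s.card := Finset.card_pos.2 ⟨a, ha⟩
  have haI : a ∈ Ideal.span (s : Set A) := Ideal.subset_span (by exact_mod_cast ha)
  refine ⟨c, fun M i hi => ?_⟩
  rw [kills_iff]
  intro r hr y
  obtain ⟨L', hL', y', rfl⟩ := exists_fg_rep
    (ModuleCat.of A ↥(BlowUp.affineAlgebra A (Ideal.span (s : Set A)) a)) M i y
  obtain ⟨m, h, hh⟩ := exists_factor haI L' hL'
  have hfac : ModuleCat.ofHom L'.subtype = ModuleCat.ofHom h ≫
      ModuleCat.ofHom (gn (Ideal.span (s : Set A)) a m) := by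
    rw [← ModuleCat.ofHom_comp, hh]
  rw [hfac, Functor.map_comp, NatTrans.comp_app]
  change r • (((Tor (ModuleCat.{u} A) i).map (ModuleCat.ofHom (gn (Ideal.span (s : Set A)) a m))).app M).hom
    ((((Tor (ModuleCat.{u} A) i).map (ModuleCat.ofHom h)).app M).hom y') = 0
  rw [← map_smul, (kills_iff _ _).1 (hc M i m hi (by omega)) r hr, map_zero]

end Groth.Agent.Lib.Helper88.TorBlow
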