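import Mathlib.RingTheory.Polynomial.Basic
import Mathlib.RingTheory.Filtration
import Mathlib.RingTheory.Ideal.Quotient.Operations
import Mathlib.Algebra.Polynomial.Div
import Mathlib.Algebra.Polynomial.Eval.SMul
import Mathlib.Algebra.Exact
import Mathlib.Tactic.LinearCombination
import Mathlib.Tactic.Ring

/-! The auxiliary modules `C_q = A[X]/(I', X)^q` used to add one generator `a` to an ideal `I'`:
`C_q` is a finite direct sum of the `A/I'^(q-k)`, and `A/(I' + (a))^q` is the cokernel of `X - a`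
on `C_q`, whose kernel is uniformly killed by a power of `I' + (a)` (Artin–Rees in `A[X]`). -/

set_option autoImplicit false
universe u

open Polynomial

namespace Groth.Agent.Lib.Helper88.TorGen

variable {A : Type u} [CommRing A] (I' : Ideal A) (a : A)

/-- the ideal `(I', X)` of `A[X]` -/
noncomputable def nn : Ideal A[X] := Ideal.map C I' ⊔ Ideal.span {X}

lemma mem_nn_pow_iff (q : ℕ) (f : A[X]) :
    f ∈ nn I' ^ q ↔ ∀ k, f.coeff k ∈ I' ^ (q - k) := by
  constructor
  · intro hf
    induction q generalizing f with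
    | zero => intro k; simp
    | succ q ih =>
      rw [pow_succ] at hf
      refine Submodule.mul_induction_on hf ?_ ?_
      · intro g hg h hh k
        have hg' := ih g hg
        obtain ⟨h1, hh1, h2, hh2, rfl⟩ := Submodule.mem_sup.1 hh
        obtain ⟨h3, rfl⟩ := Ideal.mem_span_singleton'.1 hh2
        rw [mul_add, coeff_add]
        refine Ideal.add_mem _ ?_ ?_
        · rw [coeff_mul]
          refine Ideal.sum_mem _ fun x hx => ?_
          have hx' : x.1 + x.2 = k := Finset.mem_antidiagonal.1 hx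
          have h4 : h1.coeff x.2 ∈ I' := Ideal.mem_map_C_iff.1 hh1 x.2
          have h5 : g.coeff x.1 * h1.coeff x.2 ∈ I' ^ (q - x.1) * I' :=
            Ideal.mul_mem_mul (hg' x.1) h4
          rw [← pow_succ] at h5
          exact Ideal.pow_le_pow_right (by omega) h5
        · rw [← mul_assoc]
          have h6 : g * h3 ∈ nn I' ^ q := Ideal.mul_mem_right _ _ hg
          have h7 := ih (g * h3) h6
          cases k with
          | zero => simp
          | succ k =>
            rw [coeff_mul_X]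
            have := h7 k
            have e : q + 1 - (k + 1) = q - k := by omega
            rw [e]
            exact this
      · intro x y hx hy k
        rw [coeff_add]
        exact Ideal.add_mem _ (hx k) (hy k)
  · intro hf
    rw [← f.sum_monomial_eq, Polynomial.sum]
    refine Ideal.sum_mem _ fun k _ => ?_
    rw [← C_mul_X_pow_eq_monomial]
    by_cases hk : k ≤ q
    · have e : q = (q - k) + k := by omega
      rw [e, pow_add]
      refine Ideal.mul_mem_mul ?_ ?_
      · have h1 : C (f.coeff k) ∈ Ideal.map C (I' ^ (q - k)) := by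
          have := hf k
          rw [e] at this
          simp only [Nat.add_sub_cancel] at this
          exact Ideal.mem_map_of_mem C this
        rw [Ideal.map_pow] at h1
        exact Ideal.pow_right_mono le_sup_left _ h1
      · exact Ideal.pow_mem_pow (Ideal.mem_sup_right (Ideal.mem_span_singleton_self X)) k
    · have h2 : (X : A[X]) ^ k ∈ nn I' ^ q :=
        Ideal.pow_le_pow_right (by omega)
          (Ideal.pow_mem_pow (Ideal.mem_sup_right (Ideal.mem_span_singleton_self X)) k)
      exact Ideal.mul_mem_left _ _ h2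

lemma monomial_mem_nn_pow (q k : ℕ) (r : A) (hr : r ∈ I' ^ (q - k)) :
    monomial k r ∈ nn I' ^ q := by
  rw [mem_nn_pow_iff]
  intro j
  rw [coeff_monomial]
  split_ifs with h
  · subst h; exact hr
  · exact Ideal.zero_mem _

/-- `(I', X)^q` as an `A`-submodule of `A[X]` -/
noncomputable def NQ (q : ℕ) : Submodule A A[X] := (nn I' ^ q).restrictScalars A

lemma mem_NQ (q : ℕ) (f : A[X]) : f ∈ NQ I' q ↔ f ∈ nn I' ^ q := Iff.rfl

/-- `C_q = A[X]/(I', X)^q` as an `A`-module -/
abbrev Cq (q : ℕ) : Type u := A[X] ⧸ NQ I' q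

/-- `k`-th coefficient `C_q → A/I'^(q-k)` -/
noncomputable def pik (q k : ℕ) : Cq I' q →ₗ[A] (A ⧸ (I' ^ (q - k) : Ideal A)) :=
  Submodule.mapQ (NQ I' q) (I' ^ (q - k) : Ideal A) (lcoeff A k)
    (fun f hf => (mem_nn_pow_iff I' q f).1 hf k)

/-- `r ↦ r X^k`, `A/I'^(q-k) → C_q` -/
noncomputable def iok (q k : ℕ) : (A ⧸ (I' ^ (q - k) : Ideal A)) →ₗ[A] Cq I' q :=
  Submodule.mapQ (I' ^ (q - k) : Ideal A) (NQ I' q) (monomial k)
    (fun r hr => monomial_mem_nn_pow I' q k r hr)

lemma sum_iok_pik (q : ℕ) :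
    ∑ k ∈ Finset.range q, (iok I' q k) ∘ₗ (pik I' q k) = LinearMap.id := by
  apply LinearMap.ext
  intro x
  obtain ⟨f, rfl⟩ := Submodule.Quotient.mk_surjective _ x
  rw [LinearMap.sum_apply, LinearMap.id_apply]
  have h1 : ∀ k, ((iok I' q k) ∘ₗ (pik I' q k)) (Submodule.Quotient.mk f) =
      Submodule.Quotient.mk (monomial k (f.coeff k)) := fun k => rfl
  simp only [h1]
  have h2 : ∑ k ∈ Finset.range q, (Submodule.Quotient.mk (monomial k (f.coeff k)) : Cq I' q) =
      Submodule.Quotient.mk (∑ k ∈ Finset.range q, monomial k (f.coeff k)) :=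
    (map_sum (NQ I' q).mkQ _ _).symm
  rw [h2, Submodule.Quotient.eq, mem_NQ, mem_nn_pow_iff]
  intro j
  rw [coeff_sub, finset_sum_coeff]
  simp only [coeff_monomial]
  by_cases hj : j < q
  · rw [Finset.sum_ite_eq' (Finset.range q) j, if_pos (Finset.mem_range.2 hj), sub_self]
    exact Ideal.zero_mem _
  · have e : q - j = 0 := by omega
    rw [e, pow_zero, Ideal.one_eq_top]
    exact Submodule.mem_top

/-- transition `C_n → C_m`, `m ≤ n` -/
noncomputable def tau {n m : ℕ} (h : m ≤ n) : Cq I' n →ₗ[A] Cq I' m :=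
  Submodule.mapQ (NQ I' n) (NQ I' m) LinearMap.id
    (fun _ hf => Ideal.pow_le_pow_right h hf)

/-- the ideal `I' + (a)` -/
def II : Ideal A := I' ⊔ Ideal.span {a}

lemma eval_mem_of_mem_nn_pow (q : ℕ) (f : A[X]) (hf : f ∈ nn I' ^ q) :
    f.eval a ∈ II I' a ^ q := by
  rw [mem_nn_pow_iff] at hf
  rw [eval_eq_sum_range]
  refine Ideal.sum_mem _ fun k _ => ?_
  have h1 : f.coeff k ∈ II I' a ^ (q - k) := Ideal.pow_right_mono le_sup_left _ (hf k)
  have h2 : a ^ k ∈ II I' a ^ k :=
    Ideal.pow_mem_pow (Ideal.mem_sup_right (Ideal.mem_span_singleton_self a)) k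
  have h3 : f.coeff k * a ^ k ∈ II I' a ^ (q - k) * II I' a ^ k := Ideal.mul_mem_mul h1 h2
  rw [← pow_add] at h3
  exact Ideal.pow_le_pow_right (by omega) h3

/-- evaluation at `a`, `C_q → A/(I' + (a))^q` -/
noncomputable def psi (q : ℕ) : Cq I' q →ₗ[A] (A ⧸ (II I' a ^ q : Ideal A)) :=
  Submodule.mapQ (NQ I' q) (II I' a ^ q : Ideal A) (leval a)
    (fun f hf => eval_mem_of_mem_nn_pow I' a q f hf)

lemma psi_surjective (q : ℕ) : Function.Surjective (psi I' a q) := by
  intro y
  obtain ⟨r, rfl⟩ := Submodule.Quotient.mk_surjective _ y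
  refine ⟨Submodule.Quotient.mk (C r), ?_⟩
  change Submodule.Quotient.mk ((C r).eval a) = _
  rw [eval_C]

/-- multiplication by `X - a` on `C_q` -/
noncomputable def phi (q : ℕ) : Cq I' q →ₗ[A] Cq I' q :=
  Submodule.mapQ (NQ I' q) (NQ I' q) (LinearMap.mulLeft A (X - C a))
    (fun f hf => Ideal.mul_mem_left _ _ hf)

lemma phi_mk (q : ℕ) (f : A[X]) :
    phi I' a q (Submodule.Quotient.mk f) = Submodule.Quotient.mk ((X - C a) * f) := rfl

lemma psi_mk (q : ℕ) (f : A[X]) :
    psi I' a q (Submodule.Quotient.mk f) = Submodule.Quotient.mk (f.eval a) := rfl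

lemma tau_mk {n m : ℕ} (h : m ≤ n) (f : A[X]) :
    tau I' h (Submodule.Quotient.mk f) = Submodule.Quotient.mk f := rfl

lemma sup_pow_le {R : Type*} [CommRing R] (J K : Ideal R) (q : ℕ) : (J ⊔ K) ^ q ≤ J ^ q ⊔ K := by
  induction q with
  | zero => simp
  | succ q ih =>
    rw [pow_succ, pow_succ]
    refine (Ideal.mul_mono_left ih).trans ?_
    rw [Ideal.mul_le]
    intro x hx y hy
    obtain ⟨x1, hx1, x2, hx2, rfl⟩ := Submodule.mem_sup.1 hx
    obtain ⟨y1, hy1, y2, hy2, rfl⟩ := Submodule.mem_sup.1 hy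
    have e : (x1 + x2) * (y1 + y2) = x1 * y1 + (x1 * y2 + x2 * (y1 + y2)) := by ring
    rw [e]
    refine Ideal.add_mem _ (Ideal.mem_sup_left (Ideal.mul_mem_mul hx1 hy1)) (Ideal.mem_sup_right ?_)
    exact Ideal.add_mem _ (Ideal.mul_mem_left _ _ hy2) (Ideal.mul_mem_right _ _ hx2)

lemma C_mem_of_mem_II_pow (q : ℕ) (r : A) (hr : r ∈ II I' a ^ q) :
    C r ∈ nn I' ^ q ⊔ Ideal.span {X - C a} := by
  have h1 : Ideal.map C (II I' a) ≤ nn I' ⊔ Ideal.span {X - C a} := by
    unfold II
    rw [Ideal.map_sup, Ideal.map_span, Set.image_singleton]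
    refine sup_le (le_sup_of_le_left le_sup_left) ?_
    rw [Ideal.span_singleton_le_iff_mem]
    have h := Ideal.sub_mem (nn I' ⊔ Ideal.span {X - C a})
      (Ideal.mem_sup_left (Ideal.mem_sup_right (Ideal.mem_span_singleton_self (X : A[X]))))
      (Ideal.mem_sup_right (Ideal.mem_span_singleton_self (X - C a)))
    have e : (X : A[X]) - (X - C a) = C a := by ring
    rw [e] at h
    exact h
  have h2 : C r ∈ Ideal.map C (II I' a ^ q) := Ideal.mem_map_of_mem C hr
  rw [Ideal.map_pow] at h2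
  exact sup_pow_le _ _ q (Ideal.pow_right_mono h1 q h2)

lemma exact_phi_psi (q : ℕ) : Function.Exact (phi I' a q) (psi I' a q) := by
  intro y
  obtain ⟨f, rfl⟩ := Submodule.Quotient.mk_surjective _ y
  constructor
  · intro h
    rw [psi_mk, Submodule.Quotient.mk_eq_zero] at h
    have h1 := C_mem_of_mem_II_pow I' a q _ h
    obtain ⟨n1, hn1, n2, hn2, h12⟩ := Submodule.mem_sup.1 h1
    obtain ⟨h3, rfl⟩ := Ideal.mem_span_singleton'.1 hn2
    have hdiv : f = C (f.eval a) + (X - C a) * (f /ₘ (X - C a)) := by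
      have := modByMonic_add_div f (X - C a)
      rw [modByMonic_X_sub_C_eq_C_eval] at this
      exact this.symm
    refine ⟨Submodule.Quotient.mk (h3 + f /ₘ (X - C a)), ?_⟩
    rw [phi_mk, Submodule.Quotient.eq, mem_NQ]
    have : (X - C a) * (h3 + f /ₘ (X - C a)) - f = -n1 := by
      generalize f /ₘ (X - C a) = G at hdiv
      generalize C (f.eval a) = E at h12 hdiv
      linear_combination h12 - hdiv
    rw [this]
    exact Ideal.neg_mem_iff _ |>.2 hn1
  · rintro ⟨z, hz⟩
    obtain ⟨g, rfl⟩ := Submodule.Quotient.mk_surjective _ z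
    rw [phi_mk] at hz
    rw [← hz, psi_mk]
    simp

end Groth.Agent.Lib.Helper88.TorGen
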