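import Groth.Agent.Lib.Helper88.TorGen1

/-! Artin–Rees for `X - a` on `A[X]` and the resulting uniform statements on `ker (X - a | C_q)`;
compatibilities of the transition maps. -/

set_option autoImplicit false
universe u

open Polynomial

namespace Groth.Agent.Lib.Helper88.TorGen

variable {A : Type u} [CommRing A] (I' : Ideal A) (a : A)

section AR

variable [IsNoetherianRing A]

/-- Artin–Rees for `X - a` -/
theorem exists_AR : ∃ k : ℕ, ∀ (n : ℕ) (f : A[X]),
    (X - C a) * f ∈ nn I' ^ n → f ∈ nn I' ^ (n - k) := by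
  obtain ⟨k, hk⟩ := Ideal.exists_pow_inf_eq_pow_smul (nn I')
    (Ideal.span {X - C a} : Submodule A[X] A[X])
  refine ⟨k, fun n f hf => ?_⟩
  by_cases hn : k ≤ n
  · have h1 : (X - C a) * f ∈
        (nn I' ^ n • ⊤ ⊓ (Ideal.span {X - C a} : Submodule A[X] A[X]) : Submodule A[X] A[X]) := by
      refine ⟨?_, Ideal.mul_mem_right _ _ (Ideal.mem_span_singleton_self _)⟩
      rw [Ideal.smul_top_eq_map]
      simpa using hf
    rw [hk n hn] at h1
    have h2 : (X - C a) * f ∈ nn I' ^ (n - k) * Ideal.span {X - C a} :=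
      Submodule.smul_mono le_rfl inf_le_right h1
    obtain ⟨z, hz, hzf⟩ := Ideal.mem_mul_span_singleton.1 h2
    have hzf' : (X - C a) * z = (X - C a) * f := by rw [mul_comm]; exact hzf
    have : z = f := (monic_X_sub_C a).isRegular.left hzf'
    rw [← this]
    exact hz
  · have : n - k = 0 := by omega
    rw [this, pow_zero, Ideal.one_eq_top]
    trivial

end AR

/-- consequence (i): `(I' + (a))^k` kills `ker (X - a | C_n)` -/
theorem smul_eq_zero_of_mem_ker (k : ℕ)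
    (hk : ∀ (n : ℕ) (f : A[X]), (X - C a) * f ∈ nn I' ^ n → f ∈ nn I' ^ (n - k))
    (n : ℕ) (r : A) (hr : r ∈ II I' a ^ k) (x : Cq I' n) (hx : phi I' a n x = 0) :
    r • x = 0 := by
  obtain ⟨f, rfl⟩ := Submodule.Quotient.mk_surjective _ x
  rw [phi_mk, Submodule.Quotient.mk_eq_zero, mem_NQ] at hx
  have hf := hk n f hx
  rw [← Submodule.Quotient.mk_smul, Submodule.Quotient.mk_eq_zero, mem_NQ]
  have h1 := C_mem_of_mem_II_pow I' a k r hr
  obtain ⟨n1, hn1, n2, hn2, h12⟩ := Submodule.mem_sup.1 h1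
  obtain ⟨h3, rfl⟩ := Ideal.mem_span_singleton'.1 hn2
  have e : r • f = n1 * f + h3 * ((X - C a) * f) := by
    rw [smul_eq_C_mul, ← h12]; ring
  rw [e]
  refine Ideal.add_mem _ ?_ (Ideal.mul_mem_left _ _ hx)
  by_cases hn : k ≤ n
  · have h4 : n1 * f ∈ nn I' ^ k * nn I' ^ (n - k) := Ideal.mul_mem_mul hn1 hf
    rw [← pow_add] at h4
    have e2 : k + (n - k) = n := by omega
    rw [e2] at h4
    exact h4
  · exact Ideal.mul_mem_right _ _ (Ideal.pow_le_pow_right (by omega) hn1)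

/-- consequence (ii): the transition `C_n → C_m`, `m + k ≤ n`, kills `ker (X - a | C_n)` -/
theorem tau_eq_zero_of_mem_ker (k : ℕ)
    (hk : ∀ (n : ℕ) (f : A[X]), (X - C a) * f ∈ nn I' ^ n → f ∈ nn I' ^ (n - k))
    {n m : ℕ} (h : m ≤ n) (hmk : m + k ≤ n) (x : Cq I' n) (hx : phi I' a n x = 0) :
    tau I' h x = 0 := by
  obtain ⟨f, rfl⟩ := Submodule.Quotient.mk_surjective _ x
  rw [phi_mk, Submodule.Quotient.mk_eq_zero, mem_NQ] at hx
  have hf := hk n f hx
  rw [tau_mk, Submodule.Quotient.mk_eq_zero, mem_NQ]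
  exact Ideal.pow_le_pow_right (by omega) hf

section Compat

variable {n m : ℕ} (h : m ≤ n)

lemma tau_phi : tau I' h ∘ₗ phi I' a n = phi I' a m ∘ₗ tau I' h := by
  apply LinearMap.ext
  intro x
  obtain ⟨f, rfl⟩ := Submodule.Quotient.mk_surjective _ x
  rfl

/-- the projection `A/J^n → A/J^m` -/
noncomputable abbrev qmap (J : Ideal A) {n m : ℕ} (h : m ≤ n) :
    (A ⧸ (J ^ n : Ideal A)) →ₗ[A] (A ⧸ (J ^ m : Ideal A)) :=
  Submodule.mapQ (J ^ n) (J ^ m) LinearMap.id (Ideal.pow_le_pow_right h)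

lemma psi_tau : psi I' a m ∘ₗ tau I' h = qmap (II I' a) h ∘ₗ psi I' a n := by
  apply LinearMap.ext
  intro x
  obtain ⟨f, rfl⟩ := Submodule.Quotient.mk_surjective _ x
  rfl

lemma tau_iok (k : ℕ) :
    tau I' h ∘ₗ iok I' n k = iok I' m k ∘ₗ qmap I' (Nat.sub_le_sub_right h k) := by
  apply LinearMap.ext
  intro x
  obtain ⟨r, rfl⟩ := Submodule.Quotient.mk_surjective _ x
  rfl

end Compat

end Groth.Agent.Lib.Helper88.TorGen
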