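import Groth.Agent.Lib.Helper88.TorK
import Groth.Agent.Lib.Helper88.TorGen1b
import Groth.Agent.Lib.Helper68.TorSymm
import Groth.Agent.Lib.Helper68.TorFirst2
import Groth.Agent.Lib.Helper68.TorFreeLeft
import Groth.Agent.Lib.Helper68.LeftDerivedAdditive

/-! Annihilator calculus for `Tor` on `ModuleCat A`. -/

set_option autoImplicit false
universe u

open CategoryTheory Limits MonoidalCategory

namespace Groth.Agent.Lib.Helper88.TorGen

open Groth.Agent.Lib.Helper68 Groth.Agent.Lib.Helper68.TorMod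

section General

variable {C : Type*} [Category C] [Abelian C] [HasProjectiveResolutions C]
variable {D : Type*} [Category D] [Abelian D] (F : C ⥤ D) [F.Additive]

lemma homologyMap_natEndo (σ : 𝟭 D ⟶ 𝟭 D) (K : ChainComplex D ℕ) (n : ℕ) (φ : K ⟶ K)
    (hφ : ∀ j, φ.f j = σ.app (K.X j)) :
    HomologicalComplex.homologyMap φ n = σ.app (K.homology n) := by
  have hc : HomologicalComplex.cyclesMap φ n = σ.app (K.cycles n) := by
    rw [← cancel_mono (K.iCycles n), HomologicalComplex.cyclesMap_i, hφ]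
    exact σ.naturality (K.iCycles n)
  rw [← cancel_epi (K.homologyπ n), HomologicalComplex.homologyπ_naturality, hc]
  exact (σ.naturality (K.homologyπ n)).symm

/-- left derived functors are compatible with natural endomorphisms of the identity functors -/
theorem leftDerived_map_natEndo (τ : 𝟭 C ⟶ 𝟭 C) (σ : 𝟭 D ⟶ 𝟭 D)
    (h : ∀ Y : C, F.map (τ.app Y) = σ.app (F.obj Y)) (n : ℕ) (X : C) :
    (F.leftDerived n).map (τ.app X) = σ.app ((F.leftDerived n).obj X) := by
  let P := projectiveResolution X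
  let φ : P.complex ⟶ P.complex :=
    { f := fun j => τ.app (P.complex.X j)
      comm' := fun i j _ => (τ.naturality (P.complex.d i j)).symm }
  have hcomm : φ.f 0 ≫ P.π.f 0 = P.π.f 0 ≫ τ.app X := (τ.naturality (P.π.f 0)).symm
  have h1 := ProjectiveResolution.isoLeftDerivedObj_hom_naturality (τ.app X) P P φ hcomm F n
  have h2 : (F.mapHomologicalComplex _ ⋙ HomologicalComplex.homologyFunctor _ _ n).map φ =
      σ.app _ := by
    rw [Functor.comp_map]
    exact homologyMap_natEndo σ _ n _ (fun j => by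
      simp only [φ, Functor.mapHomologicalComplex_map_f]
      exact h _)
  rw [h2] at h1
  rw [← cancel_mono (P.isoLeftDerivedObj F n).hom, h1]
  exact σ.naturality (P.isoLeftDerivedObj F n).hom

end General

variable {A : Type u} [CommRing A]

open Groth.Agent.Lib.Helper88.TorK in
/-- `Tor_i(M, -)` is `A`-linear on scalar endomorphisms -/
theorem tor_map_smul (M N : ModuleCat.{u} A) (r : A) (i : ℕ) :
    ((tF M).leftDerived i).map (r • 𝟙 N) = r • 𝟙 _ :=
  leftDerived_map_natEndo (tF M) (smulNat r) (smulNat r) (fun Y => by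
    change M ◁ (r • 𝟙 Y) = r • 𝟙 (M ⊗ Y)
    rw [MonoidalLinear.whiskerLeft_smul, MonoidalCategory.whiskerLeft_id]) i N

/-- the ideal `J` annihilates the module `X` -/
def Kills (J : Ideal A) (X : ModuleCat.{u} A) : Prop := J ≤ Module.annihilator A X

lemma kills_iff (J : Ideal A) (X : ModuleCat.{u} A) :
    Kills J X ↔ ∀ r ∈ J, ∀ x : X, r • x = 0 :=
  ⟨fun h r hr x => Module.mem_annihilator.1 (h hr) x,
    fun h r hr => Module.mem_annihilator.2 (h r hr)⟩

lemma Kills.mono {J J' : Ideal A} {X : ModuleCat.{u} A} (hJ : J ≤ J') (h : Kills J' X) :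
    Kills J X := hJ.trans h

lemma Kills.sup {J J' : Ideal A} {X : ModuleCat.{u} A} (h : Kills J X) (h' : Kills J' X) :
    Kills (J ⊔ J') X := sup_le h h'

lemma Kills.of_iso {J : Ideal A} {X Y : ModuleCat.{u} A} (e : X ≅ Y) (h : Kills J X) :
    Kills J Y := by
  rw [kills_iff] at h ⊢
  intro r hr y
  have hy : y = e.hom.hom (e.inv.hom y) := by
    change y = (e.inv ≫ e.hom).hom y
    rw [e.inv_hom_id]; rfl
  rw [hy, ← map_smul, h r hr, map_zero]

lemma Kills.of_exact {J' J'' : Ideal A} {X' X X'' : ModuleCat.{u} A} (f : X' ⟶ X) (g : X ⟶ X'')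
    (w : f ≫ g = 0) (hex : (ShortComplex.mk f g w).Exact) (h' : Kills J' X')
    (h'' : Kills J'' X'') : Kills (J'' * J') X := by
  rw [kills_iff] at h' h'' ⊢
  have hfe := (ShortComplex.ShortExact.moduleCat_exact_iff_function_exact _).1 hex
  intro r hr x
  refine Submodule.mul_induction_on hr ?_ ?_
  · intro a ha b hb
    have h1 : g.hom (a • x) = 0 := by rw [map_smul, h'' a ha, ]
    obtain ⟨y, hy⟩ := (hfe (a • x)).1 h1
    have h2 : (a * b) • x = b • (a • x) := by rw [mul_comm, mul_smul]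
    rw [h2]
    change f.hom y = a • x at hy
    rw [← hy, ← map_smul, h' b hb, map_zero]
  · intro a b ha hb
    rw [add_smul, ha, hb, add_zero]

/-- if `J` kills `N` then `J` kills `Tor_i(M, N)` -/
lemma kills_tor_right (M N : ModuleCat.{u} A) (J : Ideal A) (hN : ∀ r ∈ J, ∀ n : N, r • n = 0)
    (i : ℕ) : Kills J (((Tor (ModuleCat.{u} A) i).obj M).obj N) := by
  rw [kills_iff]
  intro r hr x
  have h0 : r • 𝟙 N = 0 := by
    ext n
    exact hN r hr n
  have h1 := tor_map_smul M N r i
  rw [h0, Functor.map_zero] at h1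
  have h2 : (r • 𝟙 (((tF M).leftDerived i).obj N)).hom x = r • x := rfl
  change r • (x : ((tF M).leftDerived i).obj N) = 0
  rw [← h2, ← h1]
  rfl

/-- if `J` kills `N` then `J` kills `Tor_i(N, M)` -/
lemma kills_tor_left (M N : ModuleCat.{u} A) (J : Ideal A) (hN : ∀ r ∈ J, ∀ n : N, r • n = 0)
    (i : ℕ) : Kills J (((Tor (ModuleCat.{u} A) i).obj N).obj M) :=
  (kills_tor_right M N J hN i).of_iso (((TorSymm.torIsoFlip i).app M).app N)

/-- additive functors and finite decompositions of the identity -/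
lemma kills_of_sum (T : ModuleCat.{u} A ⥤ ModuleCat.{u} A) [T.Additive] {ι : Type*}
    (s : Finset ι) (N : ModuleCat.{u} A) (Nk : ι → ModuleCat.{u} A) (p : ∀ k, N ⟶ Nk k)
    (j : ∀ k, Nk k ⟶ N) (hsum : ∑ k ∈ s, p k ≫ j k = 𝟙 N) (J : Ideal A)
    (hk : ∀ k ∈ s, Kills J (T.obj (Nk k))) : Kills J (T.obj N) := by
  rw [kills_iff]
  intro r hr x
  have h1 : x = (T.map (𝟙 N)).hom x := by rw [T.map_id]; rfl
  rw [h1, ← hsum, Functor.map_sum]
  rw [ModuleCat.hom_sum, LinearMap.sum_apply, Finset.smul_sum]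
  refine Finset.sum_eq_zero fun k hk' => ?_
  rw [T.map_comp]
  change r • (T.map (j k)).hom ((T.map (p k)).hom x) = 0
  rw [← map_smul, (kills_iff _ _).1 (hk k hk') r hr, map_zero]

end Groth.Agent.Lib.Helper88.TorGen
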