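import Groth.Agent.Lib.Helper88.TorGen3
import Groth.Agent.Lib.Helper68.TorFirst2

/-! Uniform vanishing of the transition maps `Tor_i(A/I^n, M) → Tor_i(A/I^m, M)`, `m + c ≤ n`,
for `i` bigger than the number of generators of `I`. -/

set_option autoImplicit false
universe u

open CategoryTheory Limits MonoidalCategory

namespace Groth.Agent.Lib.Helper88.TorGen

open Groth.Agent.Lib.Helper68 Groth.Agent.Lib.Helper68.TorMod

variable {A : Type u} [CommRing A]

/-- abstract two-step chase -/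
lemma chase {S S' S'' : ShortComplex (ModuleCat.{u} A)} (hS : S.ShortExact) (hS' : S'.ShortExact)
    (φ : S ⟶ S') (ψ : S' ⟶ S'') (M : ModuleCat.{u} A) (n : ℕ)
    (g : S.X₃ ⟶ S''.X₃) (hg : g = φ.τ₃ ≫ ψ.τ₃)
    (h1 : ((Tor (ModuleCat.{u} A) n).map φ.τ₁).app M = 0)
    (h2 : ((Tor (ModuleCat.{u} A) (n + 1)).map ψ.τ₂).app M = 0) :
    ((Tor (ModuleCat.{u} A) (n + 1)).map g).app M = 0 := by
  subst hg
  rw [Functor.map_comp, NatTrans.comp_app]
  have hnat := TorFirst.δ_natural_left hS hS' φ M n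
  rw [h1, comp_zero] at hnat
  have hex := (ShortComplex.ShortExact.moduleCat_exact_iff_function_exact _).1
    (TorFirst.exact₃ hS' M n)
  have hcomm : ((Tor (ModuleCat.{u} A) (n + 1)).map S'.g).app M ≫
      ((Tor (ModuleCat.{u} A) (n + 1)).map ψ.τ₃).app M =
      ((Tor (ModuleCat.{u} A) (n + 1)).map ψ.τ₂).app M ≫
        ((Tor (ModuleCat.{u} A) (n + 1)).map S''.g).app M := by
    rw [← NatTrans.comp_app, ← Functor.map_comp, ← ψ.comm₂₃, Functor.map_comp, NatTrans.comp_app]
  rw [h2, zero_comp] at hcomm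
  apply ModuleCat.hom_ext
  apply LinearMap.ext
  intro x
  have hy : (TorFirst.δ hS' M n).hom
      ((((Tor (ModuleCat.{u} A) (n + 1)).map φ.τ₃).app M).hom x) = 0 := by
    have := congrArg (fun f => f.hom x) hnat
    exact this
  obtain ⟨z, hz⟩ := (hex _).1 hy
  change (((Tor (ModuleCat.{u} A) (n + 1)).map S'.g).app M).hom z = _ at hz
  change (((Tor (ModuleCat.{u} A) (n + 1)).map ψ.τ₃).app M).hom
    ((((Tor (ModuleCat.{u} A) (n + 1)).map φ.τ₃).app M).hom x) = 0
  rw [← hz]
  have := congrArg (fun f => f.hom z) hcomm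
  exact this

section Trans

variable (I' : Ideal A) (a : A)

lemma tau_comp {n m l : ℕ} (h : m ≤ n) (h' : l ≤ m) :
    tau I' h' ∘ₗ tau I' h = tau I' (h'.trans h) := by
  apply LinearMap.ext
  intro x
  obtain ⟨f, rfl⟩ := Submodule.Quotient.mk_surjective _ x
  rfl

lemma qmap_comp (J : Ideal A) {n m l : ℕ} (h : m ≤ n) (h' : l ≤ m) :
    qmap J h' ∘ₗ qmap J h = qmap J (h'.trans h) := by
  apply LinearMap.ext
  intro x
  obtain ⟨f, rfl⟩ := Submodule.Quotient.mk_surjective _ x
  rfl

variable {n m : ℕ} (h : m ≤ n)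

/-- `tau` restricted to `ker φ` -/
noncomputable def tauK : LinearMap.ker (phi I' a n) →ₗ[A] LinearMap.ker (phi I' a m) :=
  LinearMap.restrict (tau I' h) (fun x hx => by
    rw [LinearMap.mem_ker] at hx ⊢
    have := LinearMap.congr_fun (tau_phi I' a h) x
    simp only [LinearMap.comp_apply] at this
    rw [← this, hx, map_zero])

/-- `tau` restricted to `ker ψ` -/
noncomputable def tauP : LinearMap.ker (psi I' a n) →ₗ[A] LinearMap.ker (psi I' a m) :=
  LinearMap.restrict (tau I' h) (fun x hx => by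
    rw [LinearMap.mem_ker] at hx ⊢
    have := LinearMap.congr_fun (psi_tau I' a h) x
    simp only [LinearMap.comp_apply] at this
    rw [this, hx, map_zero])

lemma tauK_coe (x : LinearMap.ker (phi I' a n)) :
    ((tauK I' a h x : LinearMap.ker (phi I' a m)) : Cq I' m) = tau I' h x.1 := rfl

lemma tauP_coe (x : LinearMap.ker (psi I' a n)) :
    ((tauP I' a h x : LinearMap.ker (psi I' a m)) : Cq I' m) = tau I' h x.1 := rfl

lemma tauP_comp {l : ℕ} (h' : l ≤ m) :
    tauP I' a h' ∘ₗ tauP I' a h = tauP I' a (h'.trans h) := by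
  apply LinearMap.ext
  intro x
  apply Subtype.ext
  rw [LinearMap.comp_apply, tauP_coe, tauP_coe, tauP_coe, ← tau_comp I' h h']
  rfl

/-- morphism `ses1 n ⟶ ses1 m` -/
noncomputable def map1 : ses1 I' a n ⟶ ses1 I' a m :=
  ShortComplex.homMk (ModuleCat.ofHom (tauK I' a h)) (ModuleCat.ofHom (tau I' h))
    (ModuleCat.ofHom (tauP I' a h))
    (by
      apply ModuleCat.hom_ext
      apply LinearMap.ext
      intro x
      rfl)
    (by
      apply ModuleCat.hom_ext
      apply LinearMap.ext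
      intro x
      apply Subtype.ext
      exact (LinearMap.congr_fun (tau_phi I' a h) x).symm)

/-- morphism `ses2 n ⟶ ses2 m` -/
noncomputable def map2 : ses2 I' a n ⟶ ses2 I' a m :=
  ShortComplex.homMk (ModuleCat.ofHom (tauP I' a h)) (ModuleCat.ofHom (tau I' h))
    (ModuleCat.ofHom (qmap (II I' a) h))
    (by
      apply ModuleCat.hom_ext
      apply LinearMap.ext
      intro x
      rfl)
    (by
      apply ModuleCat.hom_ext
      apply LinearMap.ext
      intro x
      exact LinearMap.congr_fun (psi_tau I' a h) x)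

end Trans

/-- the transition maps on `Tor_i(A/J^•, M)` vanish after `c` steps -/
def TransZero (J : Ideal A) (c i : ℕ) : Prop :=
  ∀ (M : ModuleCat.{u} A) (n m : ℕ) (h : m ≤ n), m + c ≤ n →
    ((Tor (ModuleCat.{u} A) i).map (ModuleCat.ofHom (qmap J h))).app M = 0

lemma tor_map_zero_app (i : ℕ) (X Y M : ModuleCat.{u} A) :
    ((Tor (ModuleCat.{u} A) i).map (0 : X ⟶ Y)).app M = 0 := by
  change ((Tor (ModuleCat.{u} A) i).flip.obj M).map (0 : X ⟶ Y) = 0
  exact Functor.map_zero _ _ _

lemma trans_C (I' : Ideal A) (t' c' : ℕ) (hIH : ∀ j, t' < j → TransZero I' c' j) :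
    ∀ j, t' < j → ∀ (M : ModuleCat.{u} A) (n m : ℕ) (h : m ≤ n), m + c' ≤ n →
      ((Tor (ModuleCat.{u} A) j).map (ModuleCat.ofHom (tau I' h))).app M = 0 := by
  intro j hj M n m h hc
  have hid : 𝟙 (ModuleCat.of A (Cq I' n)) = ∑ l ∈ Finset.range n,
      ModuleCat.ofHom (pik I' n l) ≫ ModuleCat.ofHom (iok I' n l) := by
    apply ModuleCat.hom_ext
    rw [ModuleCat.hom_sum]
    simp only [ModuleCat.hom_comp, ModuleCat.hom_ofHom, ModuleCat.hom_id]
    exact (sum_iok_pik I' n).symm
  have hdec : ModuleCat.ofHom (tau I' h) = ∑ l ∈ Finset.range n,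
      ModuleCat.ofHom (pik I' n l) ≫ ModuleCat.ofHom (qmap I' (Nat.sub_le_sub_right h l)) ≫
        ModuleCat.ofHom (iok I' m l) := by
    rw [← Category.id_comp (ModuleCat.ofHom (tau I' h)), hid, Preadditive.sum_comp]
    refine Finset.sum_congr rfl fun l _ => ?_
    rw [Category.assoc, ← ModuleCat.ofHom_comp, ← ModuleCat.ofHom_comp (qmap I' _), tau_iok]
  change ((Tor (ModuleCat.{u} A) j).flip.obj M).map _ = 0
  rw [hdec, Functor.map_sum]
  refine Finset.sum_eq_zero fun l _ => ?_
  rw [Functor.map_comp, Functor.map_comp]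
  have hz : ((Tor (ModuleCat.{u} A) j).flip.obj M).map
      (ModuleCat.ofHom (qmap I' (Nat.sub_le_sub_right h l))) = 0 := by
    by_cases hl : l ≤ m
    · exact hIH j hj M (n - l) (m - l) _ (by omega)
    · have hq : qmap I' (Nat.sub_le_sub_right h l) = 0 := by
        have hs : Subsingleton (A ⧸ (I' ^ (m - l) : Ideal A)) := by
          have : m - l = 0 := by omega
          rw [this, pow_zero, Ideal.one_eq_top]
          exact Ideal.Quotient.subsingleton_iff.2 rfl
        exact LinearMap.ext fun x => Subsingleton.elim _ _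
      rw [hq]
      have : ModuleCat.ofHom (0 : (A ⧸ (I' ^ (n - l) : Ideal A)) →ₗ[A]
          (A ⧸ (I' ^ (m - l) : Ideal A))) = 0 := rfl
      rw [this]
      exact Functor.map_zero _ _ _
  rw [hz, zero_comp, comp_zero]

section Step

variable [IsNoetherianRing A]

theorem step_trans (I' : Ideal A) (a : A) (I : Ideal A) (hI : I = II I' a) (t' c' : ℕ)
    (hIH : ∀ j, t' < j → TransZero I' c' j) :
    ∃ k : ℕ, ∀ i, t' + 1 < i → TransZero I (k + (c' + c')) i := by
  subst hI
  obtain ⟨k, hk⟩ := exists_AR I' a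
  refine ⟨k, fun i hi M n m h hc => ?_⟩
  obtain ⟨j, rfl⟩ : ∃ j, i = j + 2 := ⟨i - 2, by omega⟩
  have hC := trans_C I' t' c' hIH
  have h1 : m + c' + c' ≤ n := by omega
  have h2 : m + c' ≤ m + c' + c' := by omega
  have h3 : m ≤ m + c' := by omega
  have hP : ((Tor (ModuleCat.{u} A) (j + 1)).map
      (ModuleCat.ofHom (tauP I' a (h2.trans h1)))).app M = 0 := by
    refine chase (ses1_shortExact I' a n) (ses1_shortExact I' a _) (map1 I' a h1) (map1 I' a h2)
      M j _ ?_ ?_ ?_
    · change _ = ModuleCat.ofHom (tauP I' a h1) ≫ ModuleCat.ofHom (tauP I' a h2)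
      rw [← ModuleCat.ofHom_comp, tauP_comp]
    · have hz : tauK I' a h1 = 0 := LinearMap.ext fun x => Subtype.ext
        (tau_eq_zero_of_mem_ker I' a k hk h1 (by omega) x.1 (LinearMap.mem_ker.1 x.2))
      change ((Tor (ModuleCat.{u} A) j).map (ModuleCat.ofHom (tauK I' a h1))).app M = 0
      rw [hz]
      exact tor_map_zero_app j _ _ M
    · exact hC (j + 1) (by omega) M _ _ h2 (by omega)
  refine chase (ses2_shortExact I' a n) (ses2_shortExact I' a _) (map2 I' a (h2.trans h1))
    (map2 I' a h3) M (j + 1) _ ?_ hP (hC (j + 2) (by omega) M _ _ h3 (by omega))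
  change _ = ModuleCat.ofHom (qmap (II I' a) (h2.trans h1)) ≫ ModuleCat.ofHom (qmap (II I' a) h3)
  rw [← ModuleCat.ofHom_comp, qmap_comp]

theorem trans_main (s : Finset A) :
    ∃ c : ℕ, ∀ i, s.card < i → TransZero (Ideal.span (s : Set A)) c i := by
  classical
  induction s using Finset.induction_on with
  | empty =>
    refine ⟨0, fun i hi M n m h _ => ?_⟩
    obtain ⟨j, rfl⟩ : ∃ j, i = j + 1 := ⟨i - 1, by simp at hi; omega⟩
    apply IsZero.eq_of_src
    rw [Finset.coe_empty, Ideal.span_empty]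
    exact base_isZero M j n
  | insert a s ha ih =>
    obtain ⟨c', hc'⟩ := ih
    have hspan : Ideal.span ((insert a s : Finset A) : Set A) = II (Ideal.span (s : Set A)) a := by
      unfold II
      rw [← Ideal.span_union, Set.union_singleton, Finset.coe_insert]
    obtain ⟨k, hk⟩ := step_trans (Ideal.span (s : Set A)) a _ hspan s.card c' hc'
    refine ⟨k + (c' + c'), fun i hi => hk i ?_⟩
    rw [Finset.card_insert_of_notMem ha] at hi
    exact hi

end Step

end Groth.Agent.Lib.Helper88.TorGen
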