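import Groth.Agent.Lib.Helper88.TorGen1b
import Mathlib.LinearAlgebra.TensorProduct.RightExactness
import Mathlib.LinearAlgebra.TensorProduct.Quotient
import Mathlib.RingTheory.Finiteness.Basic
import Mathlib.RingTheory.TensorProduct.Finite

/-! Module version of the constructions of `TorGen1`/`TorGen1b`: `C_q ⊗ M`, and Artin–Rees for
`X - a` on `A[X] ⊗ M`. -/

set_option autoImplicit false
universe u

open Polynomial TensorProduct

namespace Groth.Agent.Lib.Helper88.TorGen

variable {A : Type u} [CommRing A] (I' : Ideal A) (a : A)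

section Div

/-- division by `X - a` as a linear map -/
noncomputable def divLin : A[X] →ₗ[A] A[X] where
  toFun p := p /ₘ (X - C a)
  map_add' p₁ p₂ := by
    nontriviality A
    have hq := monic_X_sub_C a
    refine (div_modByMonic_unique (p₁ /ₘ (X - C a) + p₂ /ₘ (X - C a))
      (p₁ %ₘ (X - C a) + p₂ %ₘ (X - C a)) hq ⟨?_, ?_⟩).1
    · have h1 := modByMonic_add_div p₁ (X - C a)
      have h2 := modByMonic_add_div p₂ (X - C a)
      linear_combination h1 + h2
    · exact (degree_add_le _ _).trans_lt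
        (max_lt (degree_modByMonic_lt _ hq) (degree_modByMonic_lt _ hq))
  map_smul' r p := by
    nontriviality A
    have hq := monic_X_sub_C a
    refine (div_modByMonic_unique (r • (p /ₘ (X - C a))) (r • (p %ₘ (X - C a))) hq ⟨?_, ?_⟩).1
    · have h1 := modByMonic_add_div p (X - C a)
      rw [mul_smul_comm, ← smul_add, h1]
    · exact (degree_smul_le _ _).trans_lt (degree_modByMonic_lt _ hq)

lemma divLin_mul (f : A[X]) : divLin a ((X - C a) * f) = f :=
  mul_divByMonic_cancel_left f (monic_X_sub_C a)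

end Div

section BM

variable (M : Type u) [AddCommGroup M] [Module A M]

/-- `A[X] ⊗ M` -/
abbrev BM : Type u := A[X] ⊗[A] M

lemma smul_BM_eq (b : A[X]) (w : BM (A := A) M) :
    b • w = (LinearMap.mulLeft A b).rTensor M w := by
  induction w using TensorProduct.induction_on with
  | zero => simp
  | tmul f m => rw [TensorProduct.smul_tmul', LinearMap.rTensor_tmul]; rfl
  | add x y hx hy => rw [smul_add, map_add, hx, hy]

lemma smul_X_sub_C_injective :
    Function.Injective (fun w : BM (A := A) M => (X - C a : A[X]) • w) := by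
  have key : ∀ w : BM (A := A) M, (divLin a).rTensor M ((X - C a : A[X]) • w) = w := by
    intro w
    rw [smul_BM_eq, ← LinearMap.comp_apply, ← LinearMap.rTensor_comp]
    have : divLin a ∘ₗ LinearMap.mulLeft A (X - C a) = LinearMap.id := by
      apply LinearMap.ext
      intro f
      exact divLin_mul a f
    rw [this, LinearMap.rTensor_id, LinearMap.id_apply]
  intro w w' h
  have := congrArg ((divLin a).rTensor M) h
  rwa [key, key] at this

/-- `A[X] ⊗ M → C_q ⊗ M` -/
noncomputable def piM (q : ℕ) : BM (A := A) M →ₗ[A] Cq I' q ⊗[A] M :=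
  (NQ I' q).mkQ.rTensor M

lemma piM_surjective (q : ℕ) : Function.Surjective (piM I' M q) :=
  LinearMap.rTensor_surjective M (Submodule.mkQ_surjective _)

lemma piM_eq_zero_of_mem (q : ℕ) (w : BM (A := A) M)
    (hw : w ∈ (nn I' ^ q • ⊤ : Submodule A[X] (BM (A := A) M))) : piM I' M q w = 0 := by
  refine Submodule.smul_induction_on hw ?_ ?_
  · intro r hr w hw'
    clear hw'
    induction w using TensorProduct.induction_on with
    | zero => simp
    | tmul f m =>
      rw [TensorProduct.smul_tmul']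
      change (Submodule.Quotient.mk (r * f) : Cq I' q) ⊗ₜ[A] m = 0
      have : (Submodule.Quotient.mk (r * f) : Cq I' q) = 0 := by
        rw [Submodule.Quotient.mk_eq_zero, mem_NQ]
        exact Ideal.mul_mem_right _ _ hr
      rw [this, TensorProduct.zero_tmul]
    | add x y hx hy => rw [smul_add, map_add, hx, hy, add_zero]
  · intro x y hx hy
    rw [map_add, hx, hy, add_zero]

lemma mem_of_piM_eq_zero (q : ℕ) (w : BM (A := A) M) (hw : piM I' M q w = 0) :
    w ∈ (nn I' ^ q • ⊤ : Submodule A[X] (BM (A := A) M)) := by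
  have hex := rTensor_exact M (LinearMap.exact_subtype_mkQ (NQ I' q))
    (Submodule.mkQ_surjective _)
  obtain ⟨v, rfl⟩ := (hex w).1 hw
  clear hw
  induction v using TensorProduct.induction_on with
  | zero => simp
  | tmul n m =>
    rw [LinearMap.rTensor_tmul]
    have : (n : A[X]) ⊗ₜ[A] m = (n : A[X]) • ((1 : A[X]) ⊗ₜ[A] m) := by
      rw [TensorProduct.smul_tmul', smul_eq_mul, mul_one]
    change (n : A[X]) ⊗ₜ[A] m ∈ _
    rw [this]
    exact Submodule.smul_mem_smul n.2 Submodule.mem_top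
  | add x y hx hy =>
    rw [map_add]
    exact Submodule.add_mem _ hx hy

/-- `(X - a) ⊗ 1` on `C_q ⊗ M` -/
noncomputable def phiM (q : ℕ) : Cq I' q ⊗[A] M →ₗ[A] Cq I' q ⊗[A] M :=
  (phi I' a q).rTensor M

/-- evaluation at `a` tensored with `M` -/
noncomputable def psiM (q : ℕ) : Cq I' q ⊗[A] M →ₗ[A] (A ⧸ (II I' a ^ q : Ideal A)) ⊗[A] M :=
  (psi I' a q).rTensor M

/-- transition maps -/
noncomputable def tauM {n m : ℕ} (h : m ≤ n) : Cq I' n ⊗[A] M →ₗ[A] Cq I' m ⊗[A] M :=
  (tau I' h).rTensor M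

lemma exact_phiM_psiM (q : ℕ) : Function.Exact (phiM I' a M q) (psiM I' a M q) :=
  rTensor_exact M (exact_phi_psi I' a q) (psi_surjective I' a q)

lemma psiM_surjective (q : ℕ) : Function.Surjective (psiM I' a M q) :=
  LinearMap.rTensor_surjective M (psi_surjective I' a q)

lemma piM_smul (q : ℕ) (w : BM (A := A) M) :
    piM I' M q ((X - C a : A[X]) • w) = phiM I' a M q (piM I' M q w) := by
  rw [smul_BM_eq]
  unfold piM phiM
  rw [← LinearMap.comp_apply, ← LinearMap.comp_apply, ← LinearMap.rTensor_comp,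
    ← LinearMap.rTensor_comp]
  rfl

lemma tauM_piM {n m : ℕ} (h : m ≤ n) (w : BM (A := A) M) :
    tauM I' M h (piM I' M n w) = piM I' M m w := by
  unfold piM tauM
  rw [← LinearMap.comp_apply, ← LinearMap.rTensor_comp]
  rfl

lemma tauM_phiM {n m : ℕ} (h : m ≤ n) :
    tauM I' M h ∘ₗ phiM I' a M n = phiM I' a M m ∘ₗ tauM I' M h := by
  unfold tauM phiM
  rw [← LinearMap.rTensor_comp, ← LinearMap.rTensor_comp, tau_phi]

section ARM

variable [IsNoetherianRing A] [Module.Finite A M]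

/-- Artin–Rees for `X - a` on `A[X] ⊗ M` -/
theorem exists_ARM : ∃ k : ℕ, ∀ (n : ℕ) (w : BM (A := A) M),
    (X - C a : A[X]) • w ∈ (nn I' ^ n • ⊤ : Submodule A[X] (BM (A := A) M)) →
      w ∈ (nn I' ^ (n - k) • ⊤ : Submodule A[X] (BM (A := A) M)) := by
  obtain ⟨k, hk⟩ := Ideal.exists_pow_inf_eq_pow_smul (nn I')
    ((Ideal.span {X - C a} : Ideal A[X]) • (⊤ : Submodule A[X] (BM (A := A) M)))
  refine ⟨k, fun n w hw => ?_⟩
  by_cases hn : k ≤ n
  · have h1 : (X - C a : A[X]) • w ∈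
        (nn I' ^ n • ⊤ ⊓ ((Ideal.span {X - C a} : Ideal A[X]) •
          (⊤ : Submodule A[X] (BM (A := A) M)))) :=
      ⟨hw, Submodule.smul_mem_smul (Ideal.mem_span_singleton_self _) Submodule.mem_top⟩
    rw [hk n hn] at h1
    have h2 : (X - C a : A[X]) • w ∈ nn I' ^ (n - k) •
        ((Ideal.span {X - C a} : Ideal A[X]) • (⊤ : Submodule A[X] (BM (A := A) M))) :=
      Submodule.smul_mono le_rfl inf_le_right h1
    rw [← Submodule.mul_smul, mul_comm, Submodule.mul_smul,
      Submodule.ideal_span_singleton_smul] at h2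
    obtain ⟨z, hz, hzw⟩ := (Submodule.mem_smul_pointwise_iff_exists _ _ _).1 h2
    have : z = w := smul_X_sub_C_injective a M hzw
    rw [← this]
    exact hz
  · have : n - k = 0 := by omega
    rw [this, pow_zero, Ideal.one_eq_top, Submodule.top_smul]
    trivial

end ARM

/-- the transition `C_n ⊗ M → C_m ⊗ M`, `m + k ≤ n`, kills `ker ((X - a) ⊗ 1)` -/
theorem tauM_eq_zero_of_mem_ker (k : ℕ)
    (hk : ∀ (n : ℕ) (w : BM (A := A) M),
      (X - C a : A[X]) • w ∈ (nn I' ^ n • ⊤ : Submodule A[X] (BM (A := A) M)) →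
        w ∈ (nn I' ^ (n - k) • ⊤ : Submodule A[X] (BM (A := A) M)))
    {n m : ℕ} (h : m ≤ n) (hmk : m + k ≤ n) (x : Cq I' n ⊗[A] M) (hx : phiM I' a M n x = 0) :
    tauM I' M h x = 0 := by
  obtain ⟨w, rfl⟩ := piM_surjective I' M n x
  rw [← piM_smul] at hx
  have h1 := hk n w (mem_of_piM_eq_zero I' M n _ hx)
  rw [tauM_piM]
  apply piM_eq_zero_of_mem
  exact Submodule.smul_mono (Ideal.pow_le_pow_right (by omega)) le_rfl h1

/-- `m ↦ 1 ⊗ m`, `M → C_q ⊗ M` -/
noncomputable def jM (q : ℕ) : M →ₗ[A] Cq I' q ⊗[A] M :=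
  TensorProduct.mk A (Cq I' q) M (Submodule.Quotient.mk 1)

/-- the constant coefficient, `C_q → A/I'^q` -/
noncomputable def pik0 (q : ℕ) : Cq I' q →ₗ[A] (A ⧸ (I' ^ q : Ideal A)) :=
  Submodule.mapQ (NQ I' q) (I' ^ q : Ideal A) (lcoeff A 0)
    (fun f hf => by
      have := (mem_nn_pow_iff I' q f).1 hf 0
      simpa using this)

/-- the constant coefficient tensored with `M` -/
noncomputable def pik0M (q : ℕ) : Cq I' q ⊗[A] M →ₗ[A] (A ⧸ (I' ^ q : Ideal A)) ⊗[A] M :=
  (pik0 I' q).rTensor M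

lemma pik0_phi (q : ℕ) : pik0 I' q ∘ₗ phi I' a q = (-a) • pik0 I' q := by
  apply LinearMap.ext
  intro x
  obtain ⟨f, rfl⟩ := Submodule.Quotient.mk_surjective _ x
  rw [LinearMap.comp_apply, phi_mk, LinearMap.smul_apply]
  change (Submodule.Quotient.mk (((X - C a) * f).coeff 0) : A ⧸ (I' ^ q : Ideal A)) =
    (-a) • Submodule.Quotient.mk (f.coeff 0)
  rw [← Submodule.Quotient.mk_smul]
  congr 1
  simp [sub_mul]

lemma pik0M_phiM (q : ℕ) : pik0M I' M q ∘ₗ phiM I' a M q = (-a) • pik0M I' M q := by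
  unfold pik0M phiM
  rw [← LinearMap.rTensor_comp, pik0_phi, LinearMap.rTensor_smul]

lemma psiM_jM (q : ℕ) : psiM I' a M q ∘ₗ jM I' M q =
    TensorProduct.mk A (A ⧸ (II I' a ^ q : Ideal A)) M 1 := by
  apply LinearMap.ext
  intro m
  change (psi I' a q (Submodule.Quotient.mk 1)) ⊗ₜ[A] m = _
  rw [psi_mk, eval_one]
  rfl

lemma pik0M_tauM_jM {n m : ℕ} (h : m ≤ n) :
    pik0M I' M m ∘ₗ tauM I' M h ∘ₗ jM I' M n =
      TensorProduct.mk A (A ⧸ (I' ^ m : Ideal A)) M 1 := by
  apply LinearMap.ext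
  intro x
  change (pik0 I' m (tau I' h (Submodule.Quotient.mk 1))) ⊗ₜ[A] x = _
  rw [tau_mk]
  change (Submodule.Quotient.mk ((1 : A[X]).coeff 0) : A ⧸ (I' ^ m : Ideal A)) ⊗ₜ[A] x = _
  rw [coeff_one_zero]
  rfl

end BM

end Groth.Agent.Lib.Helper88.TorGen
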