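import Groth.Agent.Lib.Helper88.TorGenM1
import Groth.Agent.Lib.Helper88.TorGen4

/-! Uniform vanishing of `Tor_p(I^n M, N) → Tor_p(M, N)` for `N` killed by `I` (all `p` at once). -/

set_option autoImplicit false
universe u

open CategoryTheory Limits MonoidalCategory

namespace Groth.Agent.Lib.Helper88.TorGen

open Groth.Agent.Lib.Helper68 Groth.Agent.Lib.Helper68.TorMod

variable {A : Type u} [CommRing A]

/-- `Tor_p(-, N)` is `A`-linear on scalar endomorphisms -/
theorem tor_map_smul_left (X N : ModuleCat.{u} A) (r : A) (p : ℕ) :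
    ((Tor (ModuleCat.{u} A) p).map (r • 𝟙 X)).app N = r • 𝟙 _ := by
  let e := TorSymm.torIsoFlip (R := A) p
  have hnat := congrArg (fun t => t.app N) (e.hom.naturality (r • 𝟙 X))
  simp only [NatTrans.comp_app] at hnat
  have h2 : ((TorSymm.T (R := A) p).flip.map (r • 𝟙 X)).app N = r • 𝟙 _ := tor_map_smul N X r p
  rw [h2] at hnat
  have h4 : (e.hom.app X).app N ≫ (e.inv.app X).app N = 𝟙 _ := by
    have := congrArg (fun t => (t.app X).app N) e.hom_inv_id
    simpa using this
  have h3 : ((Tor (ModuleCat.{u} A) p).map (r • 𝟙 X)).app N =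
      (((Tor (ModuleCat.{u} A) p).map (r • 𝟙 X)).app N ≫ (e.hom.app X).app N) ≫
        (e.inv.app X).app N := by
    rw [Category.assoc, h4, Category.comp_id]
  rw [h3, hnat, Linear.comp_smul, Linear.smul_comp, Category.comp_id, h4]

theorem tor_map_smul_comp {X Y : ModuleCat.{u} A} (N : ModuleCat.{u} A) (r : A) (g : X ⟶ Y)
    (p : ℕ) :
    ((Tor (ModuleCat.{u} A) p).map (r • g)).app N = r • ((Tor (ModuleCat.{u} A) p).map g).app N := by
  have : r • g = (r • 𝟙 X) ≫ g := by rw [Linear.smul_comp, Category.id_comp]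
  rw [this, Functor.map_comp, NatTrans.comp_app, tor_map_smul_left, Linear.smul_comp,
    Category.id_comp]

lemma epi_map_g_zero_left {S : ShortComplex (ModuleCat.{u} A)} (hS : S.ShortExact)
    (N : ModuleCat.{u} A) : Epi (((Tor (ModuleCat.{u} A) 0).map S.g).app N) :=
  FunctorSES.epi_app_zero (TorFirst.exactOnProj hS) N

section Chase

variable {C C' Q : Type u} [AddCommGroup C] [Module A C] [AddCommGroup C'] [Module A C']
  [AddCommGroup Q] [Module A Q]

lemma exact_range_subtype (φ : C →ₗ[A] C) (ψ : C →ₗ[A] Q) (hex : Function.Exact φ ψ) :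
    Function.Exact (LinearMap.range φ).subtype ψ := by
  intro c
  rw [hex c]
  constructor
  · rintro ⟨d, rfl⟩
    exact ⟨⟨φ d, LinearMap.mem_range_self φ d⟩, rfl⟩
  · rintro ⟨⟨_, d, rfl⟩, rfl⟩
    exact ⟨d, rfl⟩

lemma exact_ker_rangeRestrict (φ : C →ₗ[A] C) :
    Function.Exact (LinearMap.ker φ).subtype φ.rangeRestrict := by
  intro c
  constructor
  · intro h
    refine ⟨⟨c, ?_⟩, rfl⟩
    rw [LinearMap.mem_ker]
    exact congrArg Subtype.val h
  · rintro ⟨z, rfl⟩
    apply Subtype.ext
    exact z.2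

/-- general chase -/
theorem chaseG (φ : C →ₗ[A] C) (ψ : C →ₗ[A] Q) (hex : Function.Exact φ ψ)
    (hψ : Function.Surjective ψ) (φ' : C' →ₗ[A] C') (τ : C →ₗ[A] C')
    (hτ : τ ∘ₗ φ = φ' ∘ₗ τ) (hK : ∀ c, φ c = 0 → τ c = 0)
    (N : ModuleCat.{u} A) (p : ℕ)
    (z : ((Tor (ModuleCat.{u} A) p).obj (ModuleCat.of A C)).obj N)
    (hz : (((Tor (ModuleCat.{u} A) p).map (ModuleCat.ofHom ψ)).app N).hom z = 0) :
    ∃ w : ((Tor (ModuleCat.{u} A) p).obj (ModuleCat.of A C')).obj N,
      (((Tor (ModuleCat.{u} A) p).map (ModuleCat.ofHom φ')).app N).hom w =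
        (((Tor (ModuleCat.{u} A) p).map (ModuleCat.ofHom τ)).app N).hom z := by
  -- the short exact sequences
  have hS2 : (sc (LinearMap.range φ).subtype ψ (exact_range_subtype φ ψ hex)).ShortExact :=
    sc_shortExact _ _ _ (Submodule.subtype_injective _) hψ
  have hS1 : (sc (LinearMap.ker φ).subtype φ.rangeRestrict (exact_ker_rangeRestrict φ)).ShortExact :=
    sc_shortExact _ _ _ (Submodule.subtype_injective _) φ.surjective_rangeRestrict
  have hS1' : (sc (LinearMap.ker φ').subtype φ'.rangeRestrict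
      (exact_ker_rangeRestrict φ')).ShortExact :=
    sc_shortExact _ _ _ (Submodule.subtype_injective _) φ'.surjective_rangeRestrict
  -- restrictions of `τ`
  have hτ' : ∀ c, τ (φ c) = φ' (τ c) := fun c => LinearMap.congr_fun hτ c
  let τR : LinearMap.range φ →ₗ[A] LinearMap.range φ' :=
    τ.restrict (fun x hx => by
      obtain ⟨d, rfl⟩ := hx
      exact ⟨τ d, (hτ' d).symm⟩)
  let τK : LinearMap.ker φ →ₗ[A] LinearMap.ker φ' :=
    τ.restrict (fun x hx => by
      rw [LinearMap.mem_ker] at hx ⊢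
      rw [hK x hx, map_zero])
  have hτK : τK = 0 := by
    apply LinearMap.ext
    intro x
    apply Subtype.ext
    exact hK x.1 (LinearMap.mem_ker.1 x.2)
  let m1 : sc (LinearMap.ker φ).subtype φ.rangeRestrict (exact_ker_rangeRestrict φ) ⟶
      sc (LinearMap.ker φ').subtype φ'.rangeRestrict (exact_ker_rangeRestrict φ') :=
    ShortComplex.homMk (ModuleCat.ofHom τK) (ModuleCat.ofHom τ) (ModuleCat.ofHom τR)
      (by
        apply ModuleCat.hom_ext
        apply LinearMap.ext
        intro x
        rfl)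
      (by
        apply ModuleCat.hom_ext
        apply LinearMap.ext
        intro x
        apply Subtype.ext
        exact (hτ' x).symm)
  -- step 1: `z` comes from `range φ`
  have hex2 := (ShortComplex.ShortExact.moduleCat_exact_iff_function_exact _).1
    (TorFirst.exact₂ hS2 N p)
  obtain ⟨y₂, hy₂⟩ := (hex2 z).1 hz
  change (((Tor (ModuleCat.{u} A) p).map (ModuleCat.ofHom (LinearMap.range φ).subtype)).app N).hom y₂
    = z at hy₂
  -- step 2: `τR_* y₂` comes from `C'`
  have hw : ∃ w : ((Tor (ModuleCat.{u} A) p).obj (ModuleCat.of A C')).obj N,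
      (((Tor (ModuleCat.{u} A) p).map (ModuleCat.ofHom φ'.rangeRestrict)).app N).hom w =
        (((Tor (ModuleCat.{u} A) p).map (ModuleCat.ofHom τR)).app N).hom y₂ := by
    cases p with
    | zero =>
      have hepi := epi_map_g_zero_left hS1' N
      exact (ModuleCat.epi_iff_surjective _).1 hepi _
    | succ p =>
      have hnat := TorFirst.δ_natural_left hS1 hS1' m1 N p
      have hz1 : ((Tor (ModuleCat.{u} A) p).map m1.τ₁).app N = 0 := by
        change ((Tor (ModuleCat.{u} A) p).map (ModuleCat.ofHom τK)).app N = 0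
        rw [hτK]
        exact tor_map_zero_app p _ _ N
      rw [hz1, comp_zero] at hnat
      have hex3 := (ShortComplex.ShortExact.moduleCat_exact_iff_function_exact _).1
        (TorFirst.exact₃ hS1' N p)
      have hy : (TorFirst.δ hS1' N p).hom
          ((((Tor (ModuleCat.{u} A) (p + 1)).map (ModuleCat.ofHom τR)).app N).hom y₂) = 0 := by
        have := congrArg (fun f => f.hom y₂) hnat
        exact this
      exact (hex3 _).1 hy
  obtain ⟨w, hw⟩ := hw
  refine ⟨w, ?_⟩
  have e1 : ModuleCat.ofHom φ' = ModuleCat.ofHom φ'.rangeRestrict ≫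
      ModuleCat.ofHom (LinearMap.range φ').subtype := by
    apply ModuleCat.hom_ext
    apply LinearMap.ext
    intro x
    rfl
  have e2 : ModuleCat.ofHom τR ≫ ModuleCat.ofHom (LinearMap.range φ').subtype =
      ModuleCat.ofHom (LinearMap.range φ).subtype ≫ ModuleCat.ofHom τ := by
    apply ModuleCat.hom_ext
    apply LinearMap.ext
    intro x
    rfl
  rw [e1, Functor.map_comp, NatTrans.comp_app, ModuleCat.hom_comp, LinearMap.comp_apply, hw,
    ← hy₂, ← LinearMap.comp_apply, ← LinearMap.comp_apply, ← ModuleCat.hom_comp,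
    ← ModuleCat.hom_comp, ← NatTrans.comp_app, ← NatTrans.comp_app, ← Functor.map_comp,
    ← Functor.map_comp, e2]

end Chase

end Groth.Agent.Lib.Helper88.TorGen
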