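import Groth.Agent.Lib.Helper88.TorGenM2

/-! Uniform vanishing of `Tor_p(I^n M, N) → Tor_p(M, N)` for `N` killed by `I`: induction on the
number of generators of `I`. -/

set_option autoImplicit false
universe u

open CategoryTheory Limits MonoidalCategory TensorProduct

namespace Groth.Agent.Lib.Helper88.TorGen

open Groth.Agent.Lib.Helper68 Groth.Agent.Lib.Helper68.TorMod

variable {A : Type u} [CommRing A]

section TM

variable (p : ℕ) (N : ModuleCat.{u} A) {X Y Z : Type u} [AddCommGroup X] [Module A X]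
  [AddCommGroup Y] [Module A Y] [AddCommGroup Z] [Module A Z]

/-- first-variable functoriality of `Tor` on linear maps -/
noncomputable def tm (f : X →ₗ[A] Y) :
    ((Tor (ModuleCat.{u} A) p).obj (ModuleCat.of A X)).obj N →ₗ[A]
      ((Tor (ModuleCat.{u} A) p).obj (ModuleCat.of A Y)).obj N :=
  (((Tor (ModuleCat.{u} A) p).map (ModuleCat.ofHom f)).app N).hom

lemma tm_comp (g : Y →ₗ[A] Z) (f : X →ₗ[A] Y) : tm p N (g ∘ₗ f) = tm p N g ∘ₗ tm p N f := by
  unfold tm
  rw [ModuleCat.ofHom_comp, Functor.map_comp, NatTrans.comp_app, ModuleCat.hom_comp]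

lemma tm_zero : tm p N (0 : X →ₗ[A] Y) = 0 := by
  unfold tm
  have : ModuleCat.ofHom (0 : X →ₗ[A] Y) = 0 := rfl
  rw [this, tor_map_zero_app]
  rfl

lemma tm_smul (r : A) (f : X →ₗ[A] Y) : tm p N (r • f) = r • tm p N f := by
  unfold tm
  have : ModuleCat.ofHom (r • f) = r • ModuleCat.ofHom f := rfl
  rw [this, tor_map_smul_comp]
  rfl

end TM

section Quot

variable (J : Ideal A) (M : Type u) [AddCommGroup M] [Module A M]

lemma mk_one_comp_subtype :
    (TensorProduct.mk A (A ⧸ J) M 1) ∘ₗ (J • ⊤ : Submodule A M).subtype = 0 := by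
  apply LinearMap.ext
  rintro ⟨m, hm⟩
  change (1 : A ⧸ J) ⊗ₜ[A] m = 0
  refine Submodule.smul_induction_on hm ?_ ?_
  · intro r hr m' _
    rw [← TensorProduct.smul_tmul]
    have : r • (1 : A ⧸ J) = 0 := by
      rw [Algebra.smul_def, mul_one, Ideal.Quotient.algebraMap_eq]
      exact Ideal.Quotient.eq_zero_iff_mem.2 hr
    rw [this, TensorProduct.zero_tmul]
  · intro x y hx hy
    rw [TensorProduct.tmul_add, hx, hy, add_zero]

lemma exact_subtype_mk_one :
    Function.Exact (J • ⊤ : Submodule A M).subtype (TensorProduct.mk A (A ⧸ J) M 1) := by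
  have h := TensorProduct.quotTensorEquivQuotSMul_comp_mk (M := M) J
  intro m
  have h1 : (TensorProduct.quotTensorEquivQuotSMul M J) (TensorProduct.mk A (A ⧸ J) M 1 m) =
      (J • ⊤ : Submodule A M).mkQ m := LinearMap.congr_fun h m
  constructor
  · intro hm
    rw [hm, map_zero] at h1
    have : m ∈ (J • ⊤ : Submodule A M) := by
      rw [← Submodule.Quotient.mk_eq_zero]
      exact h1.symm
    exact ⟨⟨m, this⟩, rfl⟩
  · rintro ⟨x, rfl⟩
    exact LinearMap.congr_fun (mk_one_comp_subtype J M) x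

lemma mk_one_surjective : Function.Surjective (TensorProduct.mk A (A ⧸ J) M 1) := by
  have h := TensorProduct.quotTensorEquivQuotSMul_comp_mk (M := M) J
  intro y
  obtain ⟨m, hm⟩ := Submodule.mkQ_surjective _ (TensorProduct.quotTensorEquivQuotSMul M J y)
  refine ⟨m, ?_⟩
  apply (TensorProduct.quotTensorEquivQuotSMul M J).injective
  rw [← hm]
  exact LinearMap.congr_fun h m

/-- if `Tor_p(JM, N) → Tor_p(M, N)` is zero then `Tor_p(M, N) → Tor_p(A/J ⊗ M, N)` is injective -/
lemma tm_mk_one_injective (p : ℕ) (N : ModuleCat.{u} A)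
    (h0 : tm p N (J • ⊤ : Submodule A M).subtype = 0)
    (x : ((Tor (ModuleCat.{u} A) p).obj (ModuleCat.of A M)).obj N)
    (hx : tm p N (TensorProduct.mk A (A ⧸ J) M 1) x = 0) : x = 0 := by
  have hS : (sc (J • ⊤ : Submodule A M).subtype (TensorProduct.mk A (A ⧸ J) M 1)
      (exact_subtype_mk_one J M)).ShortExact :=
    sc_shortExact _ _ _ (Submodule.subtype_injective _) (mk_one_surjective J M)
  have hex := (ShortComplex.ShortExact.moduleCat_exact_iff_function_exact _).1
    (TorFirst.exact₂ hS N p)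
  obtain ⟨y, hy⟩ := (hex x).1 hx
  change tm p N (J • ⊤ : Submodule A M).subtype y = x at hy
  rw [← hy, h0]
  rfl

end Quot

/-- zero-form statement -/
def ZeroForm (J : Ideal A) (M : Type u) [AddCommGroup M] [Module A M] (n₀ : ℕ) : Prop :=
  ∀ n, n₀ ≤ n → ∀ (N : ModuleCat.{u} A), (∀ r ∈ J, ∀ y : N, r • y = 0) → ∀ p : ℕ,
    ((Tor (ModuleCat.{u} A) p).map
      (ModuleCat.ofHom (J ^ n • ⊤ : Submodule A M).subtype)).app N = 0

section Step

variable [IsNoetherianRing A]

theorem step_zero (I' : Ideal A) (a : A) (M : Type u) [AddCommGroup M] [Module A M]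
    [Module.Finite A M] (n₀' : ℕ) (hIH : ZeroForm I' M n₀') :
    ∃ n₀, ZeroForm (II I' a) M n₀ := by
  obtain ⟨k, hk⟩ := exists_ARM I' a M
  refine ⟨n₀' + k, fun n hn N hN p => ?_⟩
  have hle : n - k ≤ n := Nat.sub_le n k
  apply ModuleCat.hom_ext
  apply LinearMap.ext
  intro y
  change tm p N (II I' a ^ n • ⊤ : Submodule A M).subtype y = 0
  set x := tm p N (II I' a ^ n • ⊤ : Submodule A M).subtype y with hxdef
  -- `z = j_* x` dies in `Tor(A/I^n ⊗ M, N)`
  have hz : tm p N (psiM I' a M n) (tm p N (jM I' M n) x) = 0 := by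
    rw [hxdef, ← LinearMap.comp_apply, ← LinearMap.comp_apply, ← tm_comp, ← tm_comp,
      psiM_jM, mk_one_comp_subtype, tm_zero]
    rfl
  obtain ⟨w, hw⟩ := chaseG (phiM I' a M n) (psiM I' a M n) (exact_phiM_psiM I' a M n)
    (psiM_surjective I' a M n) (phiM I' a M (n - k)) (tauM I' M hle) (tauM_phiM I' a M hle)
    (fun c hc => tauM_eq_zero_of_mem_ker I' a M k hk hle (by omega) c hc) N p
    (tm p N (jM I' M n) x) hz
  change tm p N (phiM I' a M (n - k)) w = tm p N (tauM I' M hle) (tm p N (jM I' M n) x) at hw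
  have h1 := congrArg (tm p N (pik0M I' M (n - k))) hw
  rw [← LinearMap.comp_apply, ← LinearMap.comp_apply, ← LinearMap.comp_apply, ← tm_comp,
    ← tm_comp, ← tm_comp, pik0M_phiM, tm_smul, LinearMap.smul_apply,
    LinearMap.comp_assoc, pik0M_tauM_jM] at h1
  have hkill : (-a) • (tm p N (pik0M I' M (n - k)) w) = 0 := by
    have hK := kills_tor_right (ModuleCat.of A ((A ⧸ (I' ^ (n - k) : Ideal A)) ⊗[A] M)) N
      (II I' a) hN p
    exact (kills_iff _ _).1 hK (-a) (Ideal.neg_mem_iff _ |>.2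
      (Ideal.mem_sup_right (Ideal.mem_span_singleton_self a))) _
  rw [hkill] at h1
  have h0 : tm p N (I' ^ (n - k) • ⊤ : Submodule A M).subtype = 0 := by
    have := hIH (n - k) (by omega) N (fun r hr y => hN r (Ideal.mem_sup_left hr) y) p
    unfold tm
    rw [this]
    rfl
  exact tm_mk_one_injective (I' ^ (n - k)) M p N h0 x h1.symm

theorem zero_main (s : Finset A) (M : Type u) [AddCommGroup M] [Module A M]
    [Module.Finite A M] : ∃ n₀, ZeroForm (Ideal.span (s : Set A)) M n₀ := by
  classical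
  induction s using Finset.induction_on with
  | empty =>
    refine ⟨1, fun n hn N _ p => ?_⟩
    have hz : (Ideal.span ((∅ : Finset A) : Set A) ^ n • ⊤ : Submodule A M).subtype = 0 := by
      apply LinearMap.ext
      rintro ⟨m, hm⟩
      rw [Finset.coe_empty, Ideal.span_empty, ← Ideal.zero_eq_bot, zero_pow (by omega),
        Ideal.zero_eq_bot, Submodule.bot_smul] at hm
      exact (Submodule.mem_bot A).1 hm
    rw [hz]
    exact tor_map_zero_app p _ _ N
  | insert a s ha ih =>
    obtain ⟨n₀', h'⟩ := ih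
    have hspan : Ideal.span ((insert a s : Finset A) : Set A) = II (Ideal.span (s : Set A)) a := by
      unfold II
      rw [← Ideal.span_union, Set.union_singleton, Finset.coe_insert]
    rw [hspan]
    exact step_zero (Ideal.span (s : Set A)) a M n₀' h'

end Step

end Groth.Agent.Lib.Helper88.TorGen
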