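import Groth.Agent.Lib.Helper68.TorSymm
import Groth.Agent.Lib.Helper68.LeftDerivedLES2
import Mathlib.RingTheory.Length
import Mathlib.Algebra.Category.ModuleCat.EpiMono

/-! Length bookkeeping for `Tor_i(K, -)` when a ring element `x` kills `K`:
multiplication by `x` induces zero on `Tor_i(K, M)`, hence the long exact sequences attached to
`0 → M →x M → M/xM → 0` and `0 → N[x] → N →x N → 0` split into short exact sequences. -/

set_option autoImplicit false
universe u

open CategoryTheory Limits MonoidalCategory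

namespace Groth.Agent.Lib.Helper88.TorK

open Groth.Agent.Lib.Helper68 Groth.Agent.Lib.Helper68.TorMod

section General

variable {C : Type*} [Category C] [Abelian C] [HasProjectiveResolutions C]
variable {D : Type*} [Category D] [Abelian D] (F : C ⥤ D) [F.Additive]

/-- if `τ` is a natural endomorphism of the identity functor and `F` kills all components of `τ`,
so do the left derived functors of `F` -/
theorem leftDerived_map_app_eq_zero (τ : 𝟭 C ⟶ 𝟭 C)
    (hτ : ∀ Y : C, F.map (τ.app Y) = 0) (n : ℕ) (X : C) :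
    (F.leftDerived n).map (τ.app X) = 0 := by
  let P := projectiveResolution X
  let φ : P.complex ⟶ P.complex :=
    { f := fun j => τ.app (P.complex.X j)
      comm' := fun i j _ => (τ.naturality (P.complex.d i j)).symm }
  have hcomm : φ.f 0 ≫ P.π.f 0 = P.π.f 0 ≫ τ.app X := (τ.naturality (P.π.f 0)).symm
  have h := ProjectiveResolution.isoLeftDerivedObj_hom_naturality (τ.app X) P P φ hcomm F n
  have hz : (F.mapHomologicalComplex _).map φ = 0 := by
    ext j
    simp only [φ, Functor.mapHomologicalComplex_map_f, hτ]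
    rfl
  rw [Functor.comp_map, hz, Functor.map_zero, comp_zero] at h
  exact (cancel_mono (P.isoLeftDerivedObj F n).hom).1 (by rw [h, zero_comp])

end General

variable {A : Type u} [CommRing A]

/-- multiplication by `x` as a natural endomorphism of the identity functor -/
noncomputable def smulNat (x : A) : 𝟭 (ModuleCat.{u} A) ⟶ 𝟭 (ModuleCat.{u} A) where
  app M := x • 𝟙 M
  naturality M N f := by
    simp only [Functor.id_map, Functor.id_obj]
    rw [Linear.comp_smul, Linear.smul_comp, Category.comp_id, Category.id_comp]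

lemma tF_map_smul_eq_zero (K Y : ModuleCat.{u} A) (x : A) (hx : ∀ k : K, x • k = 0) :
    (tF K).map (x • 𝟙 Y) = 0 := by
  have h1 : x • 𝟙 Y = ModuleCat.ofHom (x • (LinearMap.id : Y →ₗ[A] Y)) := rfl
  apply ModuleCat.hom_ext
  rw [h1, tF_map_hom]
  apply TensorProduct.ext'
  intro k y
  rw [LinearMap.lTensor_tmul, LinearMap.smul_apply, LinearMap.id_apply, TensorProduct.tmul_smul,
    TensorProduct.smul_tmul', hx, TensorProduct.zero_tmul]
  rfl

theorem map_smul_eq_zero (K : ModuleCat.{u} A) (x : A) (hx : ∀ k : K, x • k = 0) (i : ℕ)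
    (M : ModuleCat.{u} A) : ((tF K).leftDerived i).map (x • 𝟙 M) = 0 :=
  leftDerived_map_app_eq_zero (tF K) (smulNat x) (fun Y => tF_map_smul_eq_zero K Y x hx) i M

lemma length_eq_add_of_cat {X Y Z : ModuleCat.{u} A} (f : X ⟶ Y) (g : Y ⟶ Z) (w : f ≫ g = 0)
    (hex : (ShortComplex.mk f g w).Exact) (hf : Mono f) (hg : Epi g) :
    Module.length A Y = Module.length A X + Module.length A Z := by
  have h1 := (ShortComplex.ShortExact.moduleCat_exact_iff_function_exact _).1 hex
  exact Module.length_eq_add_of_exact f.hom g.hom ((ModuleCat.mono_iff_injective f).1 hf)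
    ((ModuleCat.epi_iff_surjective g).1 hg) h1

variable (K : ModuleCat.{u} A)

/-- the length of `Tor_i(K, M)` -/
noncomputable def tl (i : ℕ) (M : ModuleCat.{u} A) : ℕ∞ :=
  Module.length A (((tF K).leftDerived i).obj M)

lemma tl_congr {M N : ModuleCat.{u} A} (e : M ≅ N) (i : ℕ) : tl K i M = tl K i N :=
  (((tF K).leftDerived i).mapIso e).toLinearEquiv.length_eq

variable {K}

/-- `0 → M →x M → N → 0` with `x K = 0` -/
theorem tl_quot {M N : ModuleCat.{u} A} (x : A) (hx : ∀ k : K, x • k = 0) (g : M ⟶ N)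
    (w : (x • 𝟙 M) ≫ g = 0) (hS : (ShortComplex.mk (x • 𝟙 M) g w).ShortExact) :
    (∀ i, tl K (i + 1) N = tl K (i + 1) M + tl K i M) ∧ tl K 0 N = tl K 0 M := by
  have hz : ∀ i, ((tF K).leftDerived i).map (x • 𝟙 M) = 0 := fun i => map_smul_eq_zero K x hx i M
  refine ⟨fun i => ?_, ?_⟩
  · have e2 := LeftDerivedLES.exact₂ (tF K) hS (i + 1)
    have e1 := LeftDerivedLES.exact₁ (tF K) hS i
    have e3 := LeftDerivedLES.exact₃ (tF K) hS i
    have hmono : Mono (((tF K).leftDerived (i + 1)).map g) := e2.mono_g (hz (i + 1))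
    have hepi : Epi (LeftDerivedLES.δ (tF K) hS i) := e1.epi_f (hz i)
    exact length_eq_add_of_cat _ _ _ e3 hmono hepi
  · have e2 := LeftDerivedLES.exact₂ (tF K) hS 0
    have hmono : Mono (((tF K).leftDerived 0).map g) := e2.mono_g (hz 0)
    have hepi := LeftDerivedLES.epi_map_g_zero (tF K) hS
    have : IsIso (((tF K).leftDerived 0).map g) := isIso_of_mono_of_epi _
    exact ((asIso (((tF K).leftDerived 0).map g)).toLinearEquiv.length_eq).symm

/-- `0 → N → M →x M → 0` with `x K = 0` -/
theorem tl_tors {M N : ModuleCat.{u} A} (x : A) (hx : ∀ k : K, x • k = 0) (f : N ⟶ M)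
    (w : f ≫ (x • 𝟙 M) = 0) (hS : (ShortComplex.mk f (x • 𝟙 M) w).ShortExact) :
    (∀ i, tl K i N = tl K (i + 1) M + tl K i M) ∧ tl K 0 M = 0 := by
  have hz : ∀ i, ((tF K).leftDerived i).map (x • 𝟙 M) = 0 := fun i => map_smul_eq_zero K x hx i M
  refine ⟨fun i => ?_, ?_⟩
  · have e2 := LeftDerivedLES.exact₂ (tF K) hS i
    have e1 := LeftDerivedLES.exact₁ (tF K) hS i
    have e3 := LeftDerivedLES.exact₃ (tF K) hS i
    have hepi : Epi (((tF K).leftDerived i).map f) := e2.epi_f (hz i)
    have hmono : Mono (LeftDerivedLES.δ (tF K) hS i) := e3.mono_g (hz (i + 1))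
    exact length_eq_add_of_cat _ _ _ e1 hmono hepi
  · have hepi := LeftDerivedLES.epi_map_g_zero (tF K) hS
    dsimp only at hepi
    rw [hz 0] at hepi
    have hZ : IsZero (((tF K).leftDerived 0).obj M) := by
      rw [IsZero.iff_id_eq_zero]
      exact (cancel_epi (0 : ((tF K).leftDerived 0).obj M ⟶ ((tF K).leftDerived 0).obj M)).1
        (by simp)
    have := ModuleCat.subsingleton_of_isZero hZ
    exact Module.length_eq_zero

end Groth.Agent.Lib.Helper88.TorK
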