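import Groth.Agent.Lib.Helper88.TorK
import Mathlib.RingTheory.Regular.RegularSequence
import Mathlib.Algebra.Module.Injective

/-! Lengths of `Tor_i(K, -)` along a regular sequence killing `K`:
* `pass1`: `M ↦ M/(rs)M` multiplies the "Poincaré series" by `(1+z)^{|rs|}`;
* `pass2`: the Matlis-dual version for `Hom(-, E)`, `E` injective. -/

set_option autoImplicit false
universe u

open CategoryTheory Limits MonoidalCategory
open scoped Pointwise

namespace Groth.Agent.Lib.Helper88.TorK

open Groth.Agent.Lib.Helper68 Groth.Agent.Lib.Helper68.TorMod RingTheory.Sequence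

variable {A : Type u} [CommRing A] (K : ModuleCat.{u} A)

section SES

variable (M : Type u) [AddCommGroup M] [Module A M] (x : A)

lemma exact_smul_mkQ :
    Function.Exact (x • (LinearMap.id : M →ₗ[A] M)) (Submodule.mkQ (x • (⊤ : Submodule A M))) := by
  rw [LinearMap.exact_iff, Submodule.ker_mkQ]
  ext m
  rw [Submodule.mem_smul_pointwise_iff_exists, LinearMap.mem_range]
  constructor
  · rintro ⟨b, -, rfl⟩
    exact ⟨b, rfl⟩
  · rintro ⟨b, rfl⟩
    exact ⟨b, Submodule.mem_top, rfl⟩

theorem tl_quotSMulTop (hK : ∀ k : K, x • k = 0) (hx : IsSMulRegular M x) :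
    (∀ i, tl K (i + 1) (ModuleCat.of A (QuotSMulTop x M)) =
      tl K (i + 1) (ModuleCat.of A M) + tl K i (ModuleCat.of A M)) ∧
    tl K 0 (ModuleCat.of A (QuotSMulTop x M)) = tl K 0 (ModuleCat.of A M) := by
  have hex := exact_smul_mkQ M x
  have w : (x • 𝟙 (ModuleCat.of A M)) ≫
      ModuleCat.ofHom (Submodule.mkQ (x • (⊤ : Submodule A M))) = 0 := by
    ext m
    exact hex.apply_apply_eq_zero m
  refine tl_quot x hK (ModuleCat.ofHom (Submodule.mkQ (x • (⊤ : Submodule A M)))) w ?_
  exact ModuleCat.shortComplex_shortExact _ hex hx (Submodule.mkQ_surjective _)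

variable (E : Type u) [AddCommGroup E] [Module A E]

lemma exact_lcomp_smul :
    Function.Exact (LinearMap.lcomp A E (Submodule.mkQ (x • (⊤ : Submodule A M))))
      (x • (LinearMap.id : (M →ₗ[A] E) →ₗ[A] (M →ₗ[A] E))) := by
  intro φ
  constructor
  · intro h
    have h' : ∀ m, x • φ m = 0 := fun m => by
      have := LinearMap.congr_fun h m
      simpa using this
    have hle : x • (⊤ : Submodule A M) ≤ LinearMap.ker φ := by
      intro m hm
      obtain ⟨b, -, rfl⟩ := (Submodule.mem_smul_pointwise_iff_exists _ _ _).1 hm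
      rw [LinearMap.mem_ker, map_smul]
      exact h' b
    refine ⟨Submodule.liftQ _ φ hle, ?_⟩
    ext m
    simp
  · rintro ⟨ψ, rfl⟩
    ext m
    have : (Submodule.mkQ (x • (⊤ : Submodule A M))) (x • m) = 0 := by
      rw [Submodule.mkQ_apply, Submodule.Quotient.mk_eq_zero]
      exact Submodule.smul_mem_pointwise_smul _ _ _ Submodule.mem_top
    simp only [LinearMap.smul_apply, LinearMap.id_coe, id_eq, LinearMap.lcomp_apply',
      LinearMap.coe_comp, Function.comp_apply, LinearMap.zero_apply]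
    rw [← map_smul, ← map_smul, this, map_zero]

theorem tl_hom_quotSMulTop [Module.Injective A E] (hK : ∀ k : K, x • k = 0)
    (hx : IsSMulRegular M x) :
    (∀ i, tl K i (ModuleCat.of A (QuotSMulTop x M →ₗ[A] E)) =
      tl K (i + 1) (ModuleCat.of A (M →ₗ[A] E)) + tl K i (ModuleCat.of A (M →ₗ[A] E))) ∧
    tl K 0 (ModuleCat.of A (M →ₗ[A] E)) = 0 := by
  have hex := exact_lcomp_smul M x E
  have w : ModuleCat.ofHom (LinearMap.lcomp A E (Submodule.mkQ (x • (⊤ : Submodule A M)))) ≫
      (x • 𝟙 (ModuleCat.of A (M →ₗ[A] E))) = 0 := by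
    ext φ : 2
    exact hex.apply_apply_eq_zero φ
  refine tl_tors x hK
    (ModuleCat.ofHom (LinearMap.lcomp A E (Submodule.mkQ (x • (⊤ : Submodule A M))))) w ?_
  refine ModuleCat.shortComplex_shortExact _ hex ?_ ?_
  · intro φ ψ h
    apply LinearMap.ext
    intro q
    obtain ⟨m, rfl⟩ := Submodule.mkQ_surjective _ q
    exact LinearMap.congr_fun h m
  · intro ψ
    obtain ⟨h, hh⟩ := Module.Injective.extension_property A E M M
      (x • (LinearMap.id : M →ₗ[A] M)) hx ψ
    refine ⟨h, ?_⟩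
    apply LinearMap.ext
    intro m
    have := LinearMap.congr_fun hh m
    change x • h m = ψ m
    rw [← this]
    simp

end SES

section Pass1

theorem pass1 : ∀ (rs : List A) (M : Type u) [AddCommGroup M] [Module A M] (r₀ : ℕ),
    IsWeaklyRegular M rs → (∀ x ∈ rs, ∀ k : K, x • k = 0) →
    (∀ i, tl K i (ModuleCat.of A M) = (Nat.choose r₀ i : ℕ∞)) →
    ∀ i, tl K i (ModuleCat.of A (M ⧸ (Ideal.ofList rs • ⊤ : Submodule A M))) =
      (Nat.choose (r₀ + rs.length) i : ℕ∞) := by
  intro rs
  induction rs with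
  | nil =>
    intro M _ _ r₀ _ _ h i
    have hbot : (Ideal.ofList ([] : List A) • ⊤ : Submodule A M) = ⊥ := by
      rw [Ideal.ofList_nil, Submodule.bot_smul]
    rw [tl_congr K (Submodule.quotEquivOfEqBot _ hbot).toModuleIso i, h i]
    simp
  | cons x rs ih =>
    intro M _ _ r₀ hreg hK h i
    obtain ⟨hx, hreg'⟩ := (isWeaklyRegular_cons_iff M x rs).1 hreg
    obtain ⟨h1, h0⟩ := tl_quotSMulTop K M x (hK x (List.mem_cons_self)) hx
    have h' : ∀ i, tl K i (ModuleCat.of A (QuotSMulTop x M)) = (Nat.choose (r₀ + 1) i : ℕ∞) := by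
      intro i
      cases i with
      | zero => rw [h0, h 0]; simp
      | succ i =>
        rw [h1 i, h (i + 1), h i, Nat.choose_succ_succ' r₀ i]
        push_cast
        rw [add_comm]
    have h2 := ih (QuotSMulTop x M) (r₀ + 1) hreg'
      (fun y hy => hK y (List.mem_cons_of_mem _ hy)) h' i
    rw [tl_congr K (Submodule.quotOfListConsSMulTopEquivQuotSMulTopInner M x rs).toModuleIso i, h2,
      List.length_cons]
    congr 2
    omega

end Pass1

section Pass2

/-- the expected lengths on the dual side -/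
def cc (d s i : ℕ) : ℕ := if s ≤ i then Nat.choose (d - s) (i - s) else 0

lemma cc_rec (d s i : ℕ) (hs : s < d) : cc d s i = cc d (s + 1) (i + 1) + cc d (s + 1) i := by
  unfold cc
  rcases lt_trichotomy i s with h | h | h
  · rw [if_neg (by omega), if_neg (by omega), if_neg (by omega)]
  · subst h
    rw [if_pos le_rfl, if_pos le_rfl, if_neg (by omega)]
    simp
  · rw [if_pos (by omega), if_pos (by omega), if_pos (by omega)]
    obtain ⟨n, hn⟩ : ∃ n, d - s = n + 1 := ⟨d - s - 1, by omega⟩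
    obtain ⟨k, hk⟩ : ∃ k, i - s = k + 1 := ⟨i - s - 1, by omega⟩
    have e1 : d - (s + 1) = n := by omega
    have e2 : i + 1 - (s + 1) = k + 1 := by omega
    have e3 : i - (s + 1) = k := by omega
    rw [hn, hk, e1, e2, e3, Nat.choose_succ_succ' n k, add_comm]

lemma cc_self (d i : ℕ) : cc d d i = if i = d then 1 else 0 := by
  unfold cc
  by_cases h : d ≤ i
  · rw [if_pos h, Nat.sub_self]
    by_cases h2 : i = d
    · subst h2; simp
    · rw [if_neg h2]
      obtain ⟨k, hk⟩ : ∃ k, i - d = k + 1 := ⟨i - d - 1, by omega⟩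
      rw [hk, Nat.choose_zero_succ]
  · rw [if_neg h, if_neg (by omega)]

lemma cc_zero (d i : ℕ) : cc d 0 i = Nat.choose d i := by
  unfold cc
  simp

lemma enat_step (d s : ℕ) (hs : s < d) (v : ℕ → ℕ∞) (h0 : v 0 = 0)
    (h : ∀ i, (cc d s i : ℕ∞) = v (i + 1) + v i) : ∀ i, v i = (cc d (s + 1) i : ℕ∞) := by
  intro i
  induction i with
  | zero =>
    rw [h0]
    unfold cc
    rw [if_neg (by omega)]
    simp
  | succ i ih =>
    have h1 := h i
    rw [ih, cc_rec d s i hs] at h1
    push_cast at h1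
    exact ((ENat.add_left_injective_of_ne_top (ENat.natCast_ne_top _)) h1).symm

variable (E : Type u) [AddCommGroup E] [Module A E]

theorem pass2 [Module.Injective A E] (d : ℕ) :
    ∀ (rs : List A) (M : Type u) [AddCommGroup M] [Module A M] (s₀ : ℕ),
    IsWeaklyRegular M rs → (∀ x ∈ rs, ∀ k : K, x • k = 0) → s₀ + rs.length ≤ d →
    (∀ i, tl K i (ModuleCat.of A ((M ⧸ (Ideal.ofList rs • ⊤ : Submodule A M)) →ₗ[A] E)) =
      (cc d s₀ i : ℕ∞)) →
    ∀ i, tl K i (ModuleCat.of A (M →ₗ[A] E)) = (cc d (s₀ + rs.length) i : ℕ∞) := by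
  intro rs
  induction rs with
  | nil =>
    intro M _ _ s₀ _ _ _ h i
    have hbot : (Ideal.ofList ([] : List A) • ⊤ : Submodule A M) = ⊥ := by
      rw [Ideal.ofList_nil, Submodule.bot_smul]
    rw [← tl_congr K ((Submodule.quotEquivOfEqBot _ hbot).arrowCongr
      (LinearEquiv.refl A E)).toModuleIso i, h i]
    simp
  | cons x rs ih =>
    intro M _ _ s₀ hreg hK hle h i
    obtain ⟨hx, hreg'⟩ := (isWeaklyRegular_cons_iff M x rs).1 hreg
    rw [List.length_cons] at hle
    have h' : ∀ i, tl K i (ModuleCat.of A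
        ((QuotSMulTop x M ⧸ (Ideal.ofList rs • ⊤ : Submodule A (QuotSMulTop x M))) →ₗ[A] E)) =
        (cc d s₀ i : ℕ∞) := by
      intro i
      rw [← h i]
      exact (tl_congr K ((Submodule.quotOfListConsSMulTopEquivQuotSMulTopInner M x rs).arrowCongr
        (LinearEquiv.refl A E)).toModuleIso i).symm
    have h2 := ih (QuotSMulTop x M) s₀ hreg'
      (fun y hy => hK y (List.mem_cons_of_mem _ hy)) (by omega) h'
    obtain ⟨h1, h0⟩ := tl_hom_quotSMulTop K M x E (hK x (List.mem_cons_self)) hx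
    have h3 := enat_step d (s₀ + rs.length) (by omega)
      (fun i => tl K i (ModuleCat.of A (M →ₗ[A] E))) h0 (fun i => by rw [← h2 i, h1 i]) i
    rw [h3, List.length_cons]
    rfl

end Pass2

end Groth.Agent.Lib.Helper88.TorK
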