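import Groth.Agent.Lib.Helper88.TorK2
import Groth.Agent.Lib.Helper85.CanonGor

/-! `Tor_i(κ, E)` for a Gorenstein local ring, `E` the injective hull of the residue field `κ`. -/

set_option autoImplicit false
universe u

open CategoryTheory Limits MonoidalCategory
open scoped Pointwise

namespace Groth.Agent.Lib.Helper88.TorK

open Groth.Agent.Lib.Helper68 Groth.Agent.Lib.Helper68.TorMod RingTheory.Sequence IsLocalRing InjHull
open Groth.Agent.Lib.Helper85 Groth.Agent.Lib.Helper85.Canon

section HomQuot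

variable {A : Type u} [CommRing A] (J : Ideal A) (E : Type u) [AddCommGroup E] [Module A E]

/-- `Hom(A/J, E) ≃ E[J]`, evaluation at `1` -/
noncomputable def homQuotEquiv :
    ((A ⧸ J) →ₗ[A] E) ≃ₗ[A] Submodule.torsionBySet A E (J : Set A) := by
  have hmem : ∀ φ : (A ⧸ J) →ₗ[A] E,
      LinearMap.applyₗ (Submodule.Quotient.mk (1 : A) : A ⧸ J) φ ∈
        Submodule.torsionBySet A E (J : Set A) := by
    intro φ
    rw [Submodule.mem_torsionBySet_iff]
    rintro ⟨j, hj⟩
    change j • φ (Submodule.Quotient.mk (1 : A)) = 0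
    rw [← map_smul, ← Submodule.Quotient.mk_smul, smul_eq_mul, mul_one]
    have : (Submodule.Quotient.mk j : A ⧸ J) = 0 := by
      rw [Submodule.Quotient.mk_eq_zero]; exact hj
    rw [this, map_zero]
  refine LinearEquiv.ofBijective
    (LinearMap.codRestrict _ (LinearMap.applyₗ (Submodule.Quotient.mk (1 : A) : A ⧸ J)) hmem)
    ⟨?_, ?_⟩
  · intro φ ψ h
    have h1 : φ (Submodule.Quotient.mk (1 : A)) = ψ (Submodule.Quotient.mk (1 : A)) :=
      congrArg Subtype.val h
    apply LinearMap.ext
    intro q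
    obtain ⟨a, rfl⟩ := Submodule.Quotient.mk_surjective _ q
    have e1 : (Submodule.Quotient.mk a : A ⧸ J) = a • Submodule.Quotient.mk (1 : A) := by
      rw [← Submodule.Quotient.mk_smul, smul_eq_mul, mul_one]
    rw [e1, map_smul, map_smul, h1]
  · rintro ⟨e, he⟩
    have hle : J ≤ LinearMap.ker (LinearMap.toSpanSingleton A E e) := by
      intro j hj
      rw [LinearMap.mem_ker, LinearMap.toSpanSingleton_apply]
      exact (Submodule.mem_torsionBySet_iff _ _).mp he ⟨j, hj⟩
    refine ⟨Submodule.liftQ J (LinearMap.toSpanSingleton A E e) hle, Subtype.ext ?_⟩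
    change Submodule.liftQ J (LinearMap.toSpanSingleton A E e) hle (Submodule.Quotient.mk 1) = e
    rw [Submodule.liftQ_apply, LinearMap.toSpanSingleton_apply, one_smul]

end HomQuot

variable (A : Type u) [CommRing A]

lemma tl_self [IsLocalRing A] (i : ℕ) :
    tl (ModuleCat.of A (ResidueField A)) i (ModuleCat.of A A) = (Nat.choose 0 i : ℕ∞) := by
  cases i with
  | zero =>
    have e : ((tF (ModuleCat.of A (ResidueField A))).leftDerived 0).obj (ModuleCat.of A A) ≅
        ModuleCat.of A (ResidueField A) :=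
      (tF (ModuleCat.of A (ResidueField A))).leftDerivedZeroIsoSelf.app (ModuleCat.of A A) ≪≫
        ρ_ (ModuleCat.of A (ResidueField A))
    unfold tl
    rw [e.toLinearEquiv.length_eq]
    have : IsSimpleModule A (A ⧸ maximalIdeal A) :=
      isSimpleModule_iff_isCoatom.2 (Ideal.isMaximal_def.1 (maximalIdeal.isMaximal A))
    have h1 : Module.length A (A ⧸ maximalIdeal A) = 1 := Module.length_eq_one A _
    exact h1
  | succ i =>
    have hZ : IsZero (((tF (ModuleCat.of A (ResidueField A))).leftDerived (i + 1)).obj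
        (ModuleCat.of A A)) := isZero_tor_succ_of_projective _ A i
    have := ModuleCat.subsingleton_of_isZero hZ
    unfold tl
    rw [Nat.choose_zero_succ]
    exact Module.length_eq_zero

theorem tl_injHull [LocCoh.IsGorensteinLocalRing A] (d : ℕ) (hd : ringKrullDim A = d)
    {E : Type u} [AddCommGroup E] [Module A E] {f : ResidueField A →ₗ[A] E}
    (hf : IsInjectiveHull f) (i : ℕ) :
    tl (ModuleCat.of A (ResidueField A)) i (ModuleCat.of A E) = if i = d then 1 else 0 := by
  have := hf.isInjective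
  obtain ⟨d', hdim, hdepth, hinj⟩ := Groth.Agent.Lib.Helper4.GorCM.gorenstein_dim A
  obtain rfl := Groth.Agent.Lib.Helper4.GorCM.nat_of_ringKrullDim_eq hd hdim
  obtain ⟨xs, hlen, hreg, hmem⟩ :=
    Groth.Agent.Lib.Helper67.exists_isRegular_of_le_depth (R := A) A d (le_of_eq hdepth.symm)
  subst hlen
  have hK : ∀ x ∈ xs, ∀ k : (ModuleCat.of A (ResidueField A) : ModuleCat.{u} A), x • k = 0 :=
    fun x hx k => Matlis.mem_maximalIdeal_smul_residue x (hmem x hx) k
  have h1 := pass1 (ModuleCat.of A (ResidueField A)) xs A 0 hreg.toIsWeaklyRegular hK (tl_self A)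
  -- the base isomorphism
  have hsd : Module.supportDim A (A ⧸ Ideal.ofList xs • (⊤ : Submodule A A)) ≤ 0 := by
    have h1 := Module.supportDim_add_length_eq_supportDim_of_isRegular xs hreg
    rw [Module.supportDim_self_eq_ringKrullDim, hd] at h1
    exact withBot_le_zero_of_add_eq _ _ h1
  have hJfl := isFiniteLength_of_supportDim_le_zero _ hsd
  have hnt : (Ideal.ofList xs • (⊤ : Submodule A A) : Ideal A) ≠ ⊤ := fun h =>
    hreg.top_ne_smul h.symm
  have hsoc := exists_smul_of_socle xs hreg.toIsWeaklyRegular hinj (le_of_eq hdepth.symm)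
  obtain ⟨e⟩ := equiv_torsion_of_socle hf _ hJfl hnt hsoc
  have h2 : ∀ i, tl (ModuleCat.of A (ResidueField A)) i (ModuleCat.of A
      ((A ⧸ (Ideal.ofList xs • ⊤ : Submodule A A)) →ₗ[A] E)) = (cc xs.length 0 i : ℕ∞) := by
    intro i
    rw [tl_congr _ ((homQuotEquiv _ E).trans e.symm).toModuleIso i, h1 i, cc_zero, zero_add]
  have h3 := pass2 (ModuleCat.of A (ResidueField A)) E xs.length xs A 0 hreg.toIsWeaklyRegular hK
    (by omega) h2 i
  rw [zero_add, cc_self] at h3
  rw [tl_congr _ (LinearMap.ringLmapEquivSelf A A E).toModuleIso.symm i, h3]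
  split_ifs <;> simp

end Groth.Agent.Lib.Helper88.TorK
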