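/-
The two-branch `A_{2δ-1}` singularity `O = {(f, g) : f ≡ g mod t^δ} ⊆ k[[t]] × k[[t]]`:
local ring structure and the interleaved order filtration on `k[[t]] × k[[t]]`.
Author: helper88
-/
import Groth.Agent.Lib.Helper88.FiltLen
import Groth.Agent.Lib.Helper88.ValLen

set_option autoImplicit false
set_option linter.style.haveILetI false

namespace Groth.Agent.Lib.Helper88.TwoBr

open PowerSeries Groth.Agent.Lib.Helper88.CanonPS

universe u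

variable {k : Type u} [Field k]

/-- The standing hypothesis. -/
structure Hyp (O : Subalgebra k (k⟦X⟧ × k⟦X⟧)) (δ : ℕ) : Prop where
  mem : ∀ f : k⟦X⟧ × k⟦X⟧, f ∈ O ↔ (δ : ℕ∞) ≤ order (f.1 - f.2)
  pos : 1 ≤ δ

variable {O : Subalgebra k (k⟦X⟧ × k⟦X⟧)} {δ : ℕ}

lemma smul_fst (a : ↥O) (w : k⟦X⟧ × k⟦X⟧) : (a • w).1 = (a : k⟦X⟧ × k⟦X⟧).1 * w.1 := rfl

lemma smul_snd (a : ↥O) (w : k⟦X⟧ × k⟦X⟧) : (a • w).2 = (a : k⟦X⟧ × k⟦X⟧).2 * w.2 := rfl

lemma Hyp.diag_mem (H : Hyp O δ) (f : k⟦X⟧) : (f, f) ∈ O := by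
  rw [H.mem]
  show (δ : ℕ∞) ≤ order (f - f)
  rw [sub_self, order_zero]
  exact le_top

lemma Hyp.const_eq (H : Hyp O δ) {a : k⟦X⟧ × k⟦X⟧} (ha : a ∈ O) :
    constantCoeff a.1 = constantCoeff a.2 := by
  have h1 := (H.mem a).1 ha
  have h2 : coeff 0 (a.1 - a.2) = 0 := by
    apply coeff_of_lt_order
    refine lt_of_lt_of_le ?_ h1
    exact_mod_cast H.pos
  rw [coeff_zero_eq_constantCoeff, map_sub, sub_eq_zero] at h2
  exact h2

lemma Hyp.inv_mem (H : Hyp O δ) {a : k⟦X⟧ × k⟦X⟧} (ha : a ∈ O) (h0 : constantCoeff a.1 ≠ 0) :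
    (a.1⁻¹, a.2⁻¹) ∈ O := by
  have h0' : constantCoeff a.2 ≠ 0 := by rw [← H.const_eq ha]; exact h0
  rw [H.mem]
  show (δ : ℕ∞) ≤ order (a.1⁻¹ - a.2⁻¹)
  have h1 : a.1⁻¹ - a.2⁻¹ = a.1⁻¹ * a.2⁻¹ * -(a.1 - a.2) := by
    have e1 : a.1⁻¹ * a.1 = 1 := PowerSeries.inv_mul_cancel _ h0
    have e2 : a.2⁻¹ * a.2 = 1 := PowerSeries.inv_mul_cancel _ h0'
    calc a.1⁻¹ - a.2⁻¹ = a.1⁻¹ * (a.2⁻¹ * a.2) - a.2⁻¹ * (a.1⁻¹ * a.1) := by
          rw [e1, e2, mul_one, mul_one]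
      _ = _ := by ring
  rw [h1]
  refine le_trans ?_ (le_order_mul _ _)
  rw [order_neg]
  exact le_trans ((H.mem a).1 ha) le_add_self

lemma Hyp.isUnit_iff (H : Hyp O δ) (a : ↥O) :
    IsUnit a ↔ constantCoeff (a : k⟦X⟧ × k⟦X⟧).1 ≠ 0 := by
  constructor
  · rintro ⟨u, rfl⟩
    intro h0
    have h1 : ((u : ↥O) : k⟦X⟧ × k⟦X⟧) * ((u⁻¹ : (↥O)ˣ) : ↥O) = 1 :=
      congrArg Subtype.val u.mul_inv
    have h2 := congrArg (fun w : k⟦X⟧ × k⟦X⟧ => constantCoeff w.1) h1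
    simp only [Prod.fst_mul, map_mul, Prod.fst_one, map_one] at h2
    rw [h0, zero_mul] at h2
    exact zero_ne_one h2
  · intro h0
    have h0' : constantCoeff (a : k⟦X⟧ × k⟦X⟧).2 ≠ 0 := by rw [← H.const_eq a.2]; exact h0
    refine ⟨⟨a, ⟨((a : k⟦X⟧ × k⟦X⟧).1⁻¹, (a : k⟦X⟧ × k⟦X⟧).2⁻¹), H.inv_mem a.2 h0⟩, ?_, ?_⟩, rfl⟩
    · exact Subtype.ext (Prod.ext (PowerSeries.mul_inv_cancel _ h0)
        (PowerSeries.mul_inv_cancel _ h0'))
    · exact Subtype.ext (Prod.ext (PowerSeries.inv_mul_cancel _ h0)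
        (PowerSeries.inv_mul_cancel _ h0'))

theorem Hyp.isLocalRing (H : Hyp O δ) : IsLocalRing ↥O := by
  apply IsLocalRing.of_nonunits_add
  intro a b ha hb
  rw [mem_nonunits_iff, H.isUnit_iff, not_not] at ha hb ⊢
  show constantCoeff ((a : k⟦X⟧ × k⟦X⟧).1 + (b : k⟦X⟧ × k⟦X⟧).1) = 0
  rw [map_add, ha, hb, add_zero]

lemma Hyp.mem_maximalIdeal_iff (H : Hyp O δ) (a : ↥O) :
    a ∈ @IsLocalRing.maximalIdeal ↥O _ H.isLocalRing ↔
      constantCoeff (a : k⟦X⟧ × k⟦X⟧).1 = 0 := by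
  haveI := H.isLocalRing
  rw [IsLocalRing.mem_maximalIdeal, mem_nonunits_iff, H.isUnit_iff, not_not]

/-! ### The interleaved filtration -/

/-- `Fil m = {(f, g) : 2 ord f ≥ m, 2 ord g + 1 ≥ m}`. -/
noncomputable def Fil (O : Subalgebra k (k⟦X⟧ × k⟦X⟧)) (m : ℕ) : Submodule ↥O (k⟦X⟧ × k⟦X⟧) where
  carrier := {w | (((m + 1) / 2 : ℕ) : ℕ∞) ≤ order w.1 ∧ ((m / 2 : ℕ) : ℕ∞) ≤ order w.2}
  zero_mem' := by
    show _ ≤ order (0 : k⟦X⟧) ∧ _ ≤ order (0 : k⟦X⟧)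
    rw [order_zero]
    exact ⟨le_top, le_top⟩
  add_mem' := by
    intro x y hx hy
    exact ⟨le_trans (le_min hx.1 hy.1) (min_order_le_order_add _ _),
      le_trans (le_min hx.2 hy.2) (min_order_le_order_add _ _)⟩
  smul_mem' := by
    intro a w hw
    refine ⟨?_, ?_⟩
    · show _ ≤ order ((a : k⟦X⟧ × k⟦X⟧).1 * w.1)
      exact le_trans (le_trans hw.1 le_add_self) (le_order_mul _ _)
    · show _ ≤ order ((a : k⟦X⟧ × k⟦X⟧).2 * w.2)
      exact le_trans (le_trans hw.2 le_add_self) (le_order_mul _ _)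

lemma mem_Fil {m : ℕ} {w : k⟦X⟧ × k⟦X⟧} :
    w ∈ Fil O m ↔ (((m + 1) / 2 : ℕ) : ℕ∞) ≤ order w.1 ∧ ((m / 2 : ℕ) : ℕ∞) ≤ order w.2 :=
  Iff.rfl

lemma le_order_sub_mul {x y c : k⟦X⟧} {q : ℕ∞} (hx : q ≤ order x) (hy : q ≤ order y) :
    q ≤ order (x - c * y) := by
  rw [sub_eq_add_neg]
  refine le_trans (le_min hx ?_) (min_order_le_order_add _ _)
  rw [order_neg]
  exact le_trans (le_trans hy le_add_self) (le_order_mul _ _)

/-- Killing the coefficient at `q`. -/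
lemma le_order_sub_C_mul {u v : k⟦X⟧} {q : ℕ} (hu : (q : ℕ∞) ≤ order u) (hv : (q : ℕ∞) ≤ order v)
    (hvq : coeff q v ≠ 0) :
    ((q + 1 : ℕ) : ℕ∞) ≤ order (u - C (coeff q u / coeff q v) * v) := by
  apply nat_le_order
  intro i hi
  rw [map_sub, coeff_C_mul]
  rcases Nat.lt_succ_iff_lt_or_eq.1 hi with h | h
  · rw [coeff_of_lt_order i (lt_of_lt_of_le (by exact_mod_cast h) hu),
      coeff_of_lt_order i (lt_of_lt_of_le (by exact_mod_cast h) hv), mul_zero, sub_zero]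
  · rw [h, div_mul_cancel₀ _ hvq, sub_self]

lemma coeff_ne_zero_of_not_le {v : k⟦X⟧} {q : ℕ} (hv : (q : ℕ∞) ≤ order v)
    (hv' : ¬ ((q + 1 : ℕ) : ℕ∞) ≤ order v) : coeff q v ≠ 0 := by
  intro h0
  apply hv'
  apply nat_le_order
  intro i hi
  rcases Nat.lt_succ_iff_lt_or_eq.1 hi with h | h
  · exact coeff_of_lt_order i (lt_of_lt_of_le (by exact_mod_cast h) hv)
  · rw [h]; exact h0

theorem Hyp.ordFilt (H : Hyp O δ) : FiltLen.OrdFilt H.isLocalRing (Fil O) where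
  zero := by
    rw [eq_top_iff]
    intro w _
    rw [mem_Fil]
    simp
  anti := by
    intro n w hw
    rw [mem_Fil] at hw ⊢
    refine ⟨le_trans ?_ hw.1, le_trans ?_ hw.2⟩
    · exact_mod_cast (by omega : (n + 1) / 2 ≤ (n + 1 + 1) / 2)
    · exact_mod_cast (by omega : n / 2 ≤ (n + 1) / 2)
  max_smul := by
    intro n a ha w hw
    rw [H.mem_maximalIdeal_iff] at ha
    have ha2 : constantCoeff (a : k⟦X⟧ × k⟦X⟧).2 = 0 := by rw [← H.const_eq a.2]; exact ha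
    have h1 : (1 : ℕ∞) ≤ order (a : k⟦X⟧ × k⟦X⟧).1 := by
      rw [ENat.one_le_iff_ne_zero]
      exact order_ne_zero_iff_constCoeff_eq_zero.2 ha
    have h2 : (1 : ℕ∞) ≤ order (a : k⟦X⟧ × k⟦X⟧).2 := by
      rw [ENat.one_le_iff_ne_zero]
      exact order_ne_zero_iff_constCoeff_eq_zero.2 ha2
    rw [mem_Fil] at hw ⊢
    refine ⟨?_, ?_⟩
    · rw [smul_fst]
      refine le_trans ?_ (le_order_mul _ _)
      refine le_trans ?_ (add_le_add h1 hw.1)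
      exact_mod_cast (by omega : (n + 1 + 1) / 2 ≤ 1 + (n + 1) / 2)
    · rw [smul_snd]
      refine le_trans ?_ (le_order_mul _ _)
      refine le_trans ?_ (add_le_add h2 hw.2)
      exact_mod_cast (by omega : (n + 1) / 2 ≤ 1 + n / 2)
  kill := by
    intro n x y hx hy hy'
    rw [mem_Fil] at hx hy hy'
    rcases Nat.even_or_odd' n with ⟨q, hq | hq⟩
    · -- n = 2q
      have e1 : (n + 1) / 2 = q := by omega
      have e2 : n / 2 = q := by omega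
      have e3 : (n + 1 + 1) / 2 = q + 1 := by omega
      rw [e1, e2] at hx hy
      rw [e3, e1] at hy'
      have hyq : coeff q y.1 ≠ 0 := by
        apply coeff_ne_zero_of_not_le hy.1
        intro h
        exact hy' ⟨h, hy.2⟩
      refine ⟨⟨(C (coeff q x.1 / coeff q y.1), C (coeff q x.1 / coeff q y.1)),
        H.diag_mem _⟩, ?_⟩
      rw [mem_Fil, e3, e1]
      refine ⟨le_order_sub_C_mul hx.1 hy.1 hyq, ?_⟩
      show _ ≤ order (x.2 - C (coeff q x.1 / coeff q y.1) * y.2)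
      exact le_order_sub_mul hx.2 hy.2
    · -- n = 2q + 1
      have e1 : (n + 1) / 2 = q + 1 := by omega
      have e2 : n / 2 = q := by omega
      have e3 : (n + 1 + 1) / 2 = q + 1 := by omega
      rw [e1, e2] at hx hy
      rw [e3, e1] at hy'
      have hyq : coeff q y.2 ≠ 0 := by
        apply coeff_ne_zero_of_not_le hy.2
        intro h
        exact hy' ⟨hy.1, h⟩
      refine ⟨⟨(C (coeff q x.2 / coeff q y.2), C (coeff q x.2 / coeff q y.2)),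
        H.diag_mem _⟩, ?_⟩
      rw [mem_Fil, e3, e1]
      refine ⟨?_, le_order_sub_C_mul hx.2 hy.2 hyq⟩
      show _ ≤ order (x.1 - C (coeff q x.2 / coeff q y.2) * y.1)
      exact le_order_sub_mul hx.1 hy.1

end Groth.Agent.Lib.Helper88.TwoBr
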