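/-
`Ext^1(M, N)` for an ideal `M = (g₁, g₂)` of `O ⊆ k[[t]] × k[[t]]` with `g₁` regular: concrete
description of `Hom(K, N)` for the kernel `K` of `O² → M` via evaluation at the Koszul syzygy.
Author: helper88
-/
import Groth.Agent.Lib.Helper88.TwoBr1
import Groth.Agent.Lib.Helper88.TwoGen

set_option autoImplicit false
set_option linter.style.haveILetI false

namespace Groth.Agent.Lib.Helper88.TwoBr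

open PowerSeries CategoryTheory Groth.Agent.Lib.Helper88.CanonPS

universe u

/-- Specialised instance: avoids a nested unification failure of `Subalgebra.toRing`. -/
noncomputable scoped instance psRing2 {k : Type u} [Field k]
    (O : Subalgebra k (k⟦X⟧ × k⟦X⟧)) : Ring ↥O := O.toRing

variable {k : Type u} [Field k] (O : Subalgebra k (k⟦X⟧ × k⟦X⟧)) (g₁ g₂ : k⟦X⟧ × k⟦X⟧)

/-- The module `O g₁ + O g₂`. -/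
noncomputable abbrev Mg : Submodule ↥O (k⟦X⟧ × k⟦X⟧) :=
  Submodule.span ↥O ({g₁, g₂} : Set (k⟦X⟧ × k⟦X⟧))

lemma g₁_mem_Mg : g₁ ∈ Mg O g₁ g₂ := Submodule.subset_span (by simp)

lemma g₂_mem_Mg : g₂ ∈ Mg O g₁ g₂ := Submodule.subset_span (by simp)

/-- The presentation `O² → O g₁ + O g₂`. -/
noncomputable def piMap : (↥O × ↥O) →ₗ[↥O] ↥(Mg O g₁ g₂) :=
  (LinearMap.toSpanSingleton ↥O ↥(Mg O g₁ g₂) ⟨g₁, g₁_mem_Mg O g₁ g₂⟩).coprod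
    (LinearMap.toSpanSingleton ↥O ↥(Mg O g₁ g₂) ⟨g₂, g₂_mem_Mg O g₁ g₂⟩)

lemma piMap_coe (x : ↥O × ↥O) :
    ((piMap O g₁ g₂ x : ↥(Mg O g₁ g₂)) : k⟦X⟧ × k⟦X⟧) =
      (x.1 : k⟦X⟧ × k⟦X⟧) * g₁ + (x.2 : k⟦X⟧ × k⟦X⟧) * g₂ := rfl

lemma piMap_surjective : Function.Surjective (piMap O g₁ g₂) := by
  rintro ⟨x, hx⟩
  obtain ⟨a, b, hab⟩ := Submodule.mem_span_pair.1 hx
  refine ⟨(a, b), Subtype.ext ?_⟩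
  rw [piMap_coe]
  show (a : k⟦X⟧ × k⟦X⟧) * g₁ + (b : k⟦X⟧ × k⟦X⟧) * g₂ = x
  rw [← hab]
  rfl

/-- The kernel of the presentation. -/
noncomputable abbrev Ker : Submodule ↥O (↥O × ↥O) := LinearMap.ker (piMap O g₁ g₂)

lemma mem_Ker (x : ↥O × ↥O) :
    x ∈ Ker O g₁ g₂ ↔ (x.1 : k⟦X⟧ × k⟦X⟧) * g₁ + (x.2 : k⟦X⟧ × k⟦X⟧) * g₂ = 0 := by
  rw [LinearMap.mem_ker, ← piMap_coe]
  constructor
  · intro hx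
    rw [hx]
    rfl
  · intro hx
    exact Subtype.ext hx

/-- The element `(a, b)` of the kernel for `a g₁ + b g₂ = 0`. -/
noncomputable def kerElt (a b : k⟦X⟧ × k⟦X⟧) (ha : a ∈ O) (hb : b ∈ O)
    (hab : a * g₁ + b * g₂ = 0) : ↥(Ker O g₁ g₂) :=
  ⟨(⟨a, ha⟩, ⟨b, hb⟩), (mem_Ker O g₁ g₂ _).2 hab⟩

/-- The Koszul syzygy `(-g₂, g₁)`. -/
noncomputable def koszul (h₁ : g₁ ∈ O) (h₂ : g₂ ∈ O) : ↥(Ker O g₁ g₂) :=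
  kerElt O g₁ g₂ (-g₂) g₁ (O.neg_mem h₂) h₁ (by ring)

variable (N : Submodule ↥O (k⟦X⟧ × k⟦X⟧))

/-- `Hom(K, N)`. -/
abbrev HomK : Type u := ↥(Ker O g₁ g₂) →ₗ[↥O] ↥N

/-- The image of restriction `Hom(O², N) → Hom(K, N)`. -/
noncomputable def resRange : Submodule ↥O (HomK O g₁ g₂ N) :=
  LinearMap.range (LinearMap.lcomp ↥O ↥N (Ker O g₁ g₂).subtype)

/-- Evaluation at a kernel element, as a map to `k[[t]] × k[[t]]`. -/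
noncomputable def ev (κ₀ : ↥(Ker O g₁ g₂)) : HomK O g₁ g₂ N →ₗ[↥O] (k⟦X⟧ × k⟦X⟧) where
  toFun φ := (φ κ₀ : k⟦X⟧ × k⟦X⟧)
  map_add' _ _ := rfl
  map_smul' _ _ := rfl

variable {O g₁ g₂ N}

lemma ev_apply (κ₀ : ↥(Ker O g₁ g₂)) (φ : HomK O g₁ g₂ N) :
    ev O g₁ g₂ N κ₀ φ = (φ κ₀ : k⟦X⟧ × k⟦X⟧) := rfl

/-- **Key identity**: `g₁ φ(κ) = κ.2 · φ(κ₀)` for the Koszul syzygy `κ₀`. -/
lemma key_identity (h₁ : g₁ ∈ O) (h₂ : g₂ ∈ O) (φ : HomK O g₁ g₂ N) (κ : ↥(Ker O g₁ g₂)) :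
    g₁ * (φ κ : k⟦X⟧ × k⟦X⟧) =
      ((κ : ↥O × ↥O).2 : k⟦X⟧ × k⟦X⟧) * ev O g₁ g₂ N (koszul O g₁ g₂ h₁ h₂) φ := by
  have h1 : (⟨g₁, h₁⟩ : ↥O) • κ = (κ : ↥O × ↥O).2 • koszul O g₁ g₂ h₁ h₂ := by
    apply Subtype.ext
    have hκ := (mem_Ker O g₁ g₂ κ.1).1 κ.2
    refine Prod.ext (Subtype.ext ?_) (Subtype.ext ?_)
    · show g₁ * ((κ : ↥O × ↥O).1 : k⟦X⟧ × k⟦X⟧) = ((κ : ↥O × ↥O).2 : k⟦X⟧ × k⟦X⟧) * -g₂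
      linear_combination hκ
    · show g₁ * ((κ : ↥O × ↥O).2 : k⟦X⟧ × k⟦X⟧) = ((κ : ↥O × ↥O).2 : k⟦X⟧ × k⟦X⟧) * g₁
      ring
  have h2 := congrArg (fun y => ((φ y : ↥N) : k⟦X⟧ × k⟦X⟧)) h1
  simp only [map_smul] at h2
  exact h2

/-- Evaluation at the Koszul syzygy is injective when `g₁` is regular. -/
lemma ev_injective (h₁ : g₁ ∈ O) (h₂ : g₂ ∈ O)
    (hreg : ∀ x y : k⟦X⟧ × k⟦X⟧, g₁ * x = g₁ * y → x = y) (φ φ' : HomK O g₁ g₂ N)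
    (h : ev O g₁ g₂ N (koszul O g₁ g₂ h₁ h₂) φ = ev O g₁ g₂ N (koszul O g₁ g₂ h₁ h₂) φ') :
    φ = φ' := by
  refine LinearMap.ext (fun κ => Subtype.ext ?_)
  apply hreg
  rw [key_identity h₁ h₂ φ κ, key_identity h₁ h₂ φ' κ, h]

/-- Values of evaluation on the image of restriction. -/
lemma ev_resRange (h₁ : g₁ ∈ O) (h₂ : g₂ ∈ O) (φ : HomK O g₁ g₂ N)
    (hφ : φ ∈ resRange O g₁ g₂ N) :
    ∃ n₁ ∈ N, ∃ n₂ ∈ N, ev O g₁ g₂ N (koszul O g₁ g₂ h₁ h₂) φ = g₁ * n₂ - g₂ * n₁ := by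
  obtain ⟨ψ, rfl⟩ := hφ
  refine ⟨(ψ (1, 0) : k⟦X⟧ × k⟦X⟧), (ψ (1, 0)).2, (ψ (0, 1) : k⟦X⟧ × k⟦X⟧), (ψ (0, 1)).2, ?_⟩
  have h1 : ((koszul O g₁ g₂ h₁ h₂ : ↥(Ker O g₁ g₂)) : ↥O × ↥O) =
      (⟨-g₂, O.neg_mem h₂⟩ : ↥O) • ((1 : ↥O), (0 : ↥O)) +
        (⟨g₁, h₁⟩ : ↥O) • ((0 : ↥O), (1 : ↥O)) := by
    refine Prod.ext (Subtype.ext ?_) (Subtype.ext ?_)
    · show -g₂ = -g₂ * 1 + g₁ * 0
      ring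
    · show g₁ = -g₂ * 0 + g₁ * 1
      ring
  show ((ψ ((koszul O g₁ g₂ h₁ h₂ : ↥(Ker O g₁ g₂)) : ↥O × ↥O) : ↥N) : k⟦X⟧ × k⟦X⟧) = _
  rw [h1, map_add, map_smul, map_smul]
  show -g₂ * (ψ (1, 0) : k⟦X⟧ × k⟦X⟧) + g₁ * (ψ (0, 1) : k⟦X⟧ × k⟦X⟧) = _
  ring

lemma exists_resRange_ev (h₁ : g₁ ∈ O) (h₂ : g₂ ∈ O) (n₁ n₂ : k⟦X⟧ × k⟦X⟧)
    (hn₁ : n₁ ∈ N) (hn₂ : n₂ ∈ N) :
    ∃ φ ∈ resRange O g₁ g₂ N,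
      ev O g₁ g₂ N (koszul O g₁ g₂ h₁ h₂) φ = g₁ * n₂ - g₂ * n₁ := by
  set ψ : (↥O × ↥O) →ₗ[↥O] ↥N :=
    (LinearMap.toSpanSingleton ↥O ↥N ⟨n₁, hn₁⟩).coprod
      (LinearMap.toSpanSingleton ↥O ↥N ⟨n₂, hn₂⟩) with hψ
  refine ⟨LinearMap.lcomp ↥O ↥N (Ker O g₁ g₂).subtype ψ, ⟨ψ, rfl⟩, ?_⟩
  show -g₂ * n₁ + g₁ * n₂ = _
  ring

/-- Construction of homomorphisms `K → N` with prescribed value at the Koszul syzygy. -/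
lemma exists_hom_of_ev (h₁ : g₁ ∈ O) (h₂ : g₂ ∈ O)
    (hreg : ∀ x y : k⟦X⟧ × k⟦X⟧, g₁ * x = g₁ * y → x = y) (w : k⟦X⟧ × k⟦X⟧)
    (hw : ∀ a b : k⟦X⟧ × k⟦X⟧, a ∈ O → b ∈ O → a * g₁ + b * g₂ = 0 →
      ∃ n ∈ N, g₁ * n = b * w) :
    ∃ φ : HomK O g₁ g₂ N, ev O g₁ g₂ N (koszul O g₁ g₂ h₁ h₂) φ = w := by
  obtain ⟨φ, hφ⟩ := TwoGen.exists_linearMap_of_rel (R := ↥O) (M := ↥(Ker O g₁ g₂)) (N := ↥N)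
    (fun κ n => g₁ * (n : k⟦X⟧ × k⟦X⟧) = ((κ : ↥O × ↥O).2 : k⟦X⟧ × k⟦X⟧) * w)
    (by
      intro κ
      obtain ⟨n, hn, hnw⟩ := hw _ _ (κ : ↥O × ↥O).1.2 (κ : ↥O × ↥O).2.2
        ((mem_Ker O g₁ g₂ κ.1).1 κ.2)
      exact ⟨⟨n, hn⟩, hnw⟩)
    (by
      intro κ n n' h1 h2
      apply Subtype.ext
      apply hreg
      rw [h1, h2])
    (by
      intro κ κ' n n' h1 h2
      show g₁ * ((n : k⟦X⟧ × k⟦X⟧) + (n' : k⟦X⟧ × k⟦X⟧)) =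
        (((κ : ↥O × ↥O).2 : k⟦X⟧ × k⟦X⟧) + ((κ' : ↥O × ↥O).2 : k⟦X⟧ × k⟦X⟧)) * w
      rw [mul_add, h1, h2, add_mul])
    (by
      intro a κ n h1
      show g₁ * ((a : k⟦X⟧ × k⟦X⟧) * (n : k⟦X⟧ × k⟦X⟧)) =
        ((a : k⟦X⟧ × k⟦X⟧) * ((κ : ↥O × ↥O).2 : k⟦X⟧ × k⟦X⟧)) * w
      rw [mul_left_comm, h1, mul_assoc])
  refine ⟨φ, ?_⟩
  have := hφ (koszul O g₁ g₂ h₁ h₂)
  apply hreg
  rw [ev_apply, this]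
  rfl

variable (O g₁ g₂ N)

/-- **Length of `Ext^1(O g₁ + O g₂, N)`** as the number of filtration jumps gained by `Hom(K, N)`
over the image of restriction. -/
theorem length_ext_one {δ : ℕ} (H : Hyp O δ) (κ₀ : ↥(Ker O g₁ g₂)) (N' : ℕ)
    (hN' : ∀ φ : HomK O g₁ g₂ N, ev O g₁ g₂ N κ₀ φ ∈ Fil O N' → φ ∈ resRange O g₁ g₂ N) :
    Module.length ↥O (Abelian.Ext (ModuleCat.of ↥O ↥(Mg O g₁ g₂)) (ModuleCat.of ↥O ↥N) 1) =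
      ((FiltLen.gained (P := HomK O g₁ g₂ N) (Fil O) (ev O g₁ g₂ N κ₀)
        (resRange O g₁ g₂ N)).ncard : ℕ∞) := by
  obtain ⟨e⟩ := ExtLen.nonempty_coker_equiv_ext_one (R := ↥O) (N := ↥N) (piMap O g₁ g₂)
    (piMap_surjective O g₁ g₂)
  have h1 := e.length_eq
  have h2 := FiltLen.length_quot_eq_ncard (P := HomK O g₁ g₂ N) H.isLocalRing H.ordFilt
    (ev O g₁ g₂ N κ₀) (resRange O g₁ g₂ N) N' hN'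
  have h3 := h1.symm.trans h2
  refine Eq.trans ?_ h3
  rfl

end Groth.Agent.Lib.Helper88.TwoBr
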