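/-
The two-branch `A_{2δ-1}` singularity: `Ext^1(I_i, I_j)` has length `2 min(i, j)`.
Author: helper88
-/
import Groth.Agent.Lib.Helper88.TwoBr2

set_option autoImplicit false
set_option linter.style.haveILetI false

namespace Groth.Agent.Lib.Helper88.TwoBr

open PowerSeries CategoryTheory Groth.Agent.Lib.Helper88.CanonPS

universe u

variable {k : Type u} [Field k] {O : Subalgebra k (k⟦X⟧ × k⟦X⟧)} {δ : ℕ}

/-! ### Order helpers -/

lemma le_order_add' {x y : k⟦X⟧} {q : ℕ∞} (hx : q ≤ order x) (hy : q ≤ order y) :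
    q ≤ order (x + y) :=
  le_trans (le_min hx hy) (min_order_le_order_add _ _)

lemma le_order_sub' {x y : k⟦X⟧} {q : ℕ∞} (hx : q ≤ order x) (hy : q ≤ order y) :
    q ≤ order (x - y) := by
  rw [sub_eq_add_neg]
  exact le_order_add' hx (by rw [order_neg]; exact hy)

lemma le_order_mul_left' {y : k⟦X⟧} {q : ℕ∞} (c : k⟦X⟧) (hy : q ≤ order y) :
    q ≤ order (c * y) :=
  le_trans (le_trans hy le_add_self) (le_order_mul _ _)

lemma le_order_mul_right' {y : k⟦X⟧} {q : ℕ∞} (c : k⟦X⟧) (hy : q ≤ order y) :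
    q ≤ order (y * c) := by
  rw [mul_comm]
  exact le_order_mul_left' c hy

lemma le_order_X_pow_mul {n q : ℕ} (c : k⟦X⟧) (h : q ≤ n) : (q : ℕ∞) ≤ order (X ^ n * c) := by
  rw [order_X_pow_mul]
  exact le_trans (by exact_mod_cast h) le_self_add

/-- The set `J p e` of pairs with both orders at least `p` and congruent modulo `t^e`. -/
def J (p e : ℕ) : Set (k⟦X⟧ × k⟦X⟧) :=
  {w | (p : ℕ∞) ≤ order w.1 ∧ (p : ℕ∞) ≤ order w.2 ∧ (e : ℕ∞) ≤ order (w.1 - w.2)}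

lemma mem_J {p e : ℕ} {w : k⟦X⟧ × k⟦X⟧} :
    w ∈ J p e ↔ (p : ℕ∞) ≤ order w.1 ∧ (p : ℕ∞) ≤ order w.2 ∧ (e : ℕ∞) ≤ order (w.1 - w.2) :=
  Iff.rfl

/-- `J p e` as a submodule when `e ≤ δ + p`. -/
noncomputable def Jsub (H : Hyp O δ) (p e : ℕ) (hpe : e ≤ δ + p) :
    Submodule ↥O (k⟦X⟧ × k⟦X⟧) where
  carrier := J p e
  zero_mem' := by
    rw [mem_J]
    simp
  add_mem' := by
    intro x y hx hy
    rw [mem_J] at hx hy ⊢
    refine ⟨le_order_add' hx.1 hy.1, le_order_add' hx.2.1 hy.2.1, ?_⟩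
    have : (x + y).1 - (x + y).2 = (x.1 - x.2) + (y.1 - y.2) := by
      simp only [Prod.fst_add, Prod.snd_add]
      ring
    rw [this]
    exact le_order_add' hx.2.2 hy.2.2
  smul_mem' := by
    intro a w hw
    rw [mem_J] at hw
    show a • w ∈ J p e
    rw [mem_J, smul_fst, smul_snd]
    refine ⟨le_order_mul_left' _ hw.1, le_order_mul_left' _ hw.2.1, ?_⟩
    have : (a : k⟦X⟧ × k⟦X⟧).1 * w.1 - (a : k⟦X⟧ × k⟦X⟧).2 * w.2 =
        (a : k⟦X⟧ × k⟦X⟧).1 * (w.1 - w.2) +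
          ((a : k⟦X⟧ × k⟦X⟧).1 - (a : k⟦X⟧ × k⟦X⟧).2) * w.2 := by ring
    rw [this]
    refine le_order_add' (le_order_mul_left' _ hw.2.2) ?_
    refine le_trans ?_ (le_order_mul _ _)
    refine le_trans ?_ (add_le_add ((H.mem _).1 a.2) hw.2.1)
    exact_mod_cast hpe

lemma mem_Jsub (H : Hyp O δ) {p e : ℕ} (hpe : e ≤ δ + p) {w : k⟦X⟧ × k⟦X⟧} :
    w ∈ Jsub H p e hpe ↔ w ∈ J p e := Iff.rfl

/-- The diagonal generator `(t^i, t^i)`. -/
noncomputable abbrev gd (k : Type u) [Field k] (i : ℕ) : k⟦X⟧ × k⟦X⟧ :=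
  ((X : k⟦X⟧) ^ i, (X : k⟦X⟧) ^ i)

/-- The conductor generator `(t^δ, 0)`. -/
noncomputable abbrev gc (k : Type u) [Field k] (δ : ℕ) : k⟦X⟧ × k⟦X⟧ :=
  ((X : k⟦X⟧) ^ δ, 0)

lemma gd_mem (H : Hyp O δ) (i : ℕ) : gd k i ∈ O := H.diag_mem _

lemma gc_mem (H : Hyp O δ) : gc k δ ∈ O := by
  rw [H.mem]
  show (δ : ℕ∞) ≤ order ((X : k⟦X⟧) ^ δ - 0)
  rw [sub_zero, order_X_pow]

lemma gd_reg (i : ℕ) (x y : k⟦X⟧ × k⟦X⟧) (h : gd k i * x = gd k i * y) : x = y := by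
  have hX : (X : k⟦X⟧) ^ i ≠ 0 := pow_ne_zero i X_ne_zero
  exact Prod.ext (mul_left_cancel₀ hX (congrArg Prod.fst h))
    (mul_left_cancel₀ hX (congrArg Prod.snd h))

/-- (J1) The module `I_j`. -/
lemma mem_Mg_iff (H : Hyp O δ) {j : ℕ} (hj : j ≤ δ) (w : k⟦X⟧ × k⟦X⟧) :
    w ∈ Mg O (gd k j) (gc k δ) ↔ w ∈ J j δ := by
  constructor
  · intro hw
    have hle : Mg O (gd k j) (gc k δ) ≤ Jsub H j δ (by omega) := by
      apply Submodule.span_le.2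
      intro x hx
      rcases hx with rfl | rfl
      · show gd k j ∈ J j δ
        rw [mem_J]
        refine ⟨?_, ?_, ?_⟩
        · show (j : ℕ∞) ≤ order ((X : k⟦X⟧) ^ j)
          rw [order_X_pow]
        · show (j : ℕ∞) ≤ order ((X : k⟦X⟧) ^ j)
          rw [order_X_pow]
        · show (δ : ℕ∞) ≤ order ((X : k⟦X⟧) ^ j - (X : k⟦X⟧) ^ j)
          rw [sub_self, order_zero]
          exact le_top
      · show gc k δ ∈ J j δ
        rw [mem_J]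
        refine ⟨?_, ?_, ?_⟩
        · show (j : ℕ∞) ≤ order ((X : k⟦X⟧) ^ δ)
          rw [order_X_pow]
          exact_mod_cast hj
        · show (j : ℕ∞) ≤ order (0 : k⟦X⟧)
          rw [order_zero]
          exact le_top
        · show (δ : ℕ∞) ≤ order ((X : k⟦X⟧) ^ δ - 0)
          rw [sub_zero, order_X_pow]
    exact hle hw
  · intro hw
    rw [mem_J] at hw
    obtain ⟨w₂, h2⟩ := exists_eq_X_pow_mul hw.2.1
    obtain ⟨c, hc⟩ := exists_eq_X_pow_mul hw.2.2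
    refine Submodule.mem_span_pair.2 ⟨⟨(w₂, w₂), H.diag_mem _⟩, ⟨(c, c), H.diag_mem _⟩, ?_⟩
    refine Prod.ext ?_ ?_
    · show w₂ * (X : k⟦X⟧) ^ j + c * (X : k⟦X⟧) ^ δ = w.1
      linear_combination -h2 - hc
    · show w₂ * (X : k⟦X⟧) ^ j + c * 0 = w.2
      linear_combination -h2


/-! ### (J2) Values of `Hom(K, I_j)` at the Koszul syzygy -/

/-- The module `I_j`. -/
noncomputable abbrev Ij (O : Subalgebra k (k⟦X⟧ × k⟦X⟧)) (δ j : ℕ) :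
    Submodule ↥O (k⟦X⟧ × k⟦X⟧) := Mg O (gd k j) (gc k δ)

/-- Evaluation at the Koszul syzygy. -/
noncomputable abbrev evK (H : Hyp O δ) (i j : ℕ) :
    HomK O (gd k i) (gc k δ) (Ij O δ j) →ₗ[↥O] (k⟦X⟧ × k⟦X⟧) :=
  ev O (gd k i) (gc k δ) (Ij O δ j) (koszul O (gd k i) (gc k δ) (gd_mem H i) (gc_mem H))

lemma evK_mem_J (H : Hyp O δ) {i j : ℕ} (hi : i ≤ δ) (hj : j ≤ δ)
    (φ : HomK O (gd k i) (gc k δ) (Ij O δ j)) : evK H i j φ ∈ J (max i j) δ := by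
  set w := evK H i j φ with hw
  have hwN : w ∈ J j δ := by
    rw [← mem_Mg_iff H hj]
    exact (φ _).2
  rw [mem_J] at hwN
  have hX : (X : k⟦X⟧) ^ i ≠ 0 := pow_ne_zero i X_ne_zero
  have hXδ : (X : k⟦X⟧) ^ δ ≠ 0 := pow_ne_zero δ X_ne_zero
  -- order of the first component
  have h1 : (i : ℕ∞) ≤ order w.1 := by
    have ha : ((-(X : k⟦X⟧) ^ (2 * δ - i), (0 : k⟦X⟧)) : k⟦X⟧ × k⟦X⟧) ∈ O := by
      rw [H.mem]
      show (δ : ℕ∞) ≤ order (-(X : k⟦X⟧) ^ (2 * δ - i) - 0)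
      rw [sub_zero, order_neg, order_X_pow]
      exact_mod_cast (by omega : δ ≤ 2 * δ - i)
    have hab : ((-(X : k⟦X⟧) ^ (2 * δ - i), (0 : k⟦X⟧)) : k⟦X⟧ × k⟦X⟧) * gd k i +
        gc k δ * gc k δ = 0 := by
      refine Prod.ext ?_ ?_
      · show -(X : k⟦X⟧) ^ (2 * δ - i) * (X : k⟦X⟧) ^ i + (X : k⟦X⟧) ^ δ * (X : k⟦X⟧) ^ δ = 0
        rw [neg_mul, ← pow_add, ← pow_add, show 2 * δ - i + i = δ + δ by omega]
        ring
      · show (0 : k⟦X⟧) * (X : k⟦X⟧) ^ i + 0 * 0 = 0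
        ring
    set κ := kerElt O (gd k i) (gc k δ) _ _ ha (gc_mem H) hab with hκ
    have key := key_identity (gd_mem H i) (gc_mem H) φ κ
    have hn : ((φ κ : ↥(Ij O δ j)) : k⟦X⟧ × k⟦X⟧) ∈ J j δ := by
      rw [← mem_Mg_iff H hj]
      exact (φ κ).2
    rw [mem_J] at hn
    have k1 : (X : k⟦X⟧) ^ i * ((φ κ : ↥(Ij O δ j)) : k⟦X⟧ × k⟦X⟧).1 = (X : k⟦X⟧) ^ δ * w.1 :=
      congrArg Prod.fst key
    have k2 : (X : k⟦X⟧) ^ i * ((φ κ : ↥(Ij O δ j)) : k⟦X⟧ × k⟦X⟧).2 = 0 * w.2 :=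
      congrArg Prod.snd key
    rw [zero_mul] at k2
    have k3 : ((φ κ : ↥(Ij O δ j)) : k⟦X⟧ × k⟦X⟧).2 = 0 :=
      (mul_eq_zero.1 k2).resolve_left hX
    have k4 := hn.2.2
    rw [k3, sub_zero] at k4
    obtain ⟨c, hc⟩ := exists_eq_X_pow_mul k4
    rw [hc] at k1
    have k5 : w.1 = (X : k⟦X⟧) ^ i * c := by
      apply mul_left_cancel₀ hXδ
      rw [← k1]
      ring
    rw [k5]
    exact le_order_X_pow_mul c le_rfl
  -- order of the second component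
  have h2 : (i : ℕ∞) ≤ order w.2 := by
    have hb : (((0 : k⟦X⟧), (X : k⟦X⟧) ^ δ) : k⟦X⟧ × k⟦X⟧) ∈ O := by
      rw [H.mem]
      show (δ : ℕ∞) ≤ order (0 - (X : k⟦X⟧) ^ δ)
      rw [zero_sub, order_neg, order_X_pow]
    have hab : (0 : k⟦X⟧ × k⟦X⟧) * gd k i +
        (((0 : k⟦X⟧), (X : k⟦X⟧) ^ δ) : k⟦X⟧ × k⟦X⟧) * gc k δ = 0 := by
      refine Prod.ext ?_ ?_
      · show (0 : k⟦X⟧) * (X : k⟦X⟧) ^ i + 0 * (X : k⟦X⟧) ^ δ = 0
        ring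
      · show (0 : k⟦X⟧) * (X : k⟦X⟧) ^ i + (X : k⟦X⟧) ^ δ * 0 = 0
        ring
    set κ := kerElt O (gd k i) (gc k δ) _ _ O.zero_mem hb hab with hκ
    have key := key_identity (gd_mem H i) (gc_mem H) φ κ
    have hn : ((φ κ : ↥(Ij O δ j)) : k⟦X⟧ × k⟦X⟧) ∈ J j δ := by
      rw [← mem_Mg_iff H hj]
      exact (φ κ).2
    rw [mem_J] at hn
    have k1 : (X : k⟦X⟧) ^ i * ((φ κ : ↥(Ij O δ j)) : k⟦X⟧ × k⟦X⟧).1 = 0 * w.1 :=
      congrArg Prod.fst key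
    have k2 : (X : k⟦X⟧) ^ i * ((φ κ : ↥(Ij O δ j)) : k⟦X⟧ × k⟦X⟧).2 = (X : k⟦X⟧) ^ δ * w.2 :=
      congrArg Prod.snd key
    rw [zero_mul] at k1
    have k3 : ((φ κ : ↥(Ij O δ j)) : k⟦X⟧ × k⟦X⟧).1 = 0 :=
      (mul_eq_zero.1 k1).resolve_left hX
    have k4 := hn.2.2
    rw [k3, zero_sub, order_neg] at k4
    obtain ⟨c, hc⟩ := exists_eq_X_pow_mul k4
    rw [hc] at k2
    have k5 : w.2 = (X : k⟦X⟧) ^ i * c := by
      apply mul_left_cancel₀ hXδ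
      rw [← k2]
      ring
    rw [k5]
    exact le_order_X_pow_mul c le_rfl
  rw [mem_J]
  refine ⟨?_, ?_, hwN.2.2⟩
  · rcases le_total i j with h | h
    · rw [max_eq_right h]
      exact hwN.1
    · rw [max_eq_left h]
      exact h1
  · rcases le_total i j with h | h
    · rw [max_eq_right h]
      exact hwN.2.1
    · rw [max_eq_left h]
      exact h2

lemma exists_evK_eq (H : Hyp O δ) {i j : ℕ} (hi : i ≤ δ) (hj : j ≤ δ) (w : k⟦X⟧ × k⟦X⟧)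
    (hw : w ∈ J (max i j) δ) :
    ∃ φ : HomK O (gd k i) (gc k δ) (Ij O δ j), evK H i j φ = w := by
  rw [mem_J] at hw
  have hX : (X : k⟦X⟧) ^ i ≠ 0 := pow_ne_zero i X_ne_zero
  have hXδ : (X : k⟦X⟧) ^ δ ≠ 0 := pow_ne_zero δ X_ne_zero
  have hwi : (i : ℕ∞) ≤ order w.2 := le_trans (by exact_mod_cast le_max_left i j) hw.2.1
  have hwj1 : (j : ℕ∞) ≤ order w.1 := le_trans (by exact_mod_cast le_max_right i j) hw.1
  have hwj2 : (j : ℕ∞) ≤ order w.2 := le_trans (by exact_mod_cast le_max_right i j) hw.2.1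
  obtain ⟨w₂, hw₂⟩ := exists_eq_X_pow_mul hwi
  apply exists_hom_of_ev (gd_mem H i) (gc_mem H) (gd_reg i) w
  intro a b ha hb hab
  have e1 : a.1 * (X : k⟦X⟧) ^ i + b.1 * (X : k⟦X⟧) ^ δ = 0 := congrArg Prod.fst hab
  have e2 : a.2 * (X : k⟦X⟧) ^ i + b.2 * 0 = 0 := congrArg Prod.snd hab
  rw [mul_zero, add_zero] at e2
  have a2 : a.2 = 0 := (mul_eq_zero.1 e2).resolve_right hX
  have ha' := (H.mem a).1 ha
  rw [a2, sub_zero] at ha'
  obtain ⟨a', ha'⟩ := exists_eq_X_pow_mul ha'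
  have b1 : b.1 = (X : k⟦X⟧) ^ i * (-a') := by
    apply mul_left_cancel₀ hXδ
    rw [ha'] at e1
    linear_combination e1
  have hb' := (H.mem b).1 hb
  have hb2 : (i : ℕ∞) ≤ order b.2 := by
    have : b.2 = b.1 - (b.1 - b.2) := by ring
    rw [this]
    refine le_order_sub' ?_ (le_trans (by exact_mod_cast hi) hb')
    rw [b1]
    exact le_order_X_pow_mul _ le_rfl
  obtain ⟨b₂, hb₂⟩ := exists_eq_X_pow_mul hb2
  refine ⟨(-a' * w.1, b₂ * w.2), ?_, ?_⟩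
  · rw [mem_Mg_iff H hj, mem_J]
    refine ⟨le_order_mul_left' _ hwj1, le_order_mul_left' _ hwj2, ?_⟩
    show (δ : ℕ∞) ≤ order (-a' * w.1 - b₂ * w.2)
    have : -a' * w.1 - b₂ * w.2 = -a' * (w.1 - w.2) + (b.1 - b.2) * w₂ := by
      rw [b1, hb₂]
      linear_combination (-a' - b₂) * hw₂
    rw [this]
    exact le_order_add' (le_order_mul_left' _ hw.2.2) (le_order_mul_right' _ hb')
  · refine Prod.ext ?_ ?_
    · show (X : k⟦X⟧) ^ i * (-a' * w.1) = b.1 * w.1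
      rw [b1]
      ring
    · show (X : k⟦X⟧) ^ i * (b₂ * w.2) = b.2 * w.2
      rw [hb₂]
      ring


/-! ### (J3) Values on the image of restriction -/

lemma evK_res_mem_J (H : Hyp O δ) {i j : ℕ} (hi : i ≤ δ) (hj : j ≤ δ)
    (φ : HomK O (gd k i) (gc k δ) (Ij O δ j))
    (hφ : φ ∈ resRange O (gd k i) (gc k δ) (Ij O δ j)) :
    evK H i j φ ∈ J (i + j) (δ + min i j) := by
  obtain ⟨n₁, hn₁, n₂, hn₂, he⟩ := ev_resRange (gd_mem H i) (gc_mem H) φ hφ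
  rw [mem_Mg_iff H hj, mem_J] at hn₁ hn₂
  show ev O (gd k i) (gc k δ) (Ij O δ j) (koszul O (gd k i) (gc k δ) (gd_mem H i) (gc_mem H)) φ ∈
    J (i + j) (δ + min i j)
  rw [he, mem_J]
  have hA1 : ((i + j : ℕ) : ℕ∞) ≤ order ((X : k⟦X⟧) ^ i * n₂.1) := by
    rw [order_X_pow_mul, Nat.cast_add]
    exact add_le_add le_rfl hn₂.1
  have hA2 : ((i + j : ℕ) : ℕ∞) ≤ order ((X : k⟦X⟧) ^ i * n₂.2) := by
    rw [order_X_pow_mul, Nat.cast_add]
    exact add_le_add le_rfl hn₂.2.1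
  have hB1 : ((δ + j : ℕ) : ℕ∞) ≤ order ((X : k⟦X⟧) ^ δ * n₁.1) := by
    rw [order_X_pow_mul, Nat.cast_add]
    exact add_le_add le_rfl hn₁.1
  have hA3 : ((δ + i : ℕ) : ℕ∞) ≤ order ((X : k⟦X⟧) ^ i * (n₂.1 - n₂.2)) := by
    rw [order_X_pow_mul, Nat.cast_add, add_comm]
    exact add_le_add le_rfl hn₂.2.2
  refine ⟨?_, ?_, ?_⟩
  · show ((i + j : ℕ) : ℕ∞) ≤ order ((X : k⟦X⟧) ^ i * n₂.1 - (X : k⟦X⟧) ^ δ * n₁.1)
    exact le_order_sub' hA1 (le_trans (by exact_mod_cast (by omega : i + j ≤ δ + j)) hB1)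
  · show ((i + j : ℕ) : ℕ∞) ≤ order ((X : k⟦X⟧) ^ i * n₂.2 - 0 * n₁.2)
    rw [zero_mul, sub_zero]
    exact hA2
  · show ((δ + min i j : ℕ) : ℕ∞) ≤ order (((X : k⟦X⟧) ^ i * n₂.1 - (X : k⟦X⟧) ^ δ * n₁.1) -
      ((X : k⟦X⟧) ^ i * n₂.2 - 0 * n₁.2))
    have : ((X : k⟦X⟧) ^ i * n₂.1 - (X : k⟦X⟧) ^ δ * n₁.1) -
        ((X : k⟦X⟧) ^ i * n₂.2 - 0 * n₁.2) =
        (X : k⟦X⟧) ^ i * (n₂.1 - n₂.2) - (X : k⟦X⟧) ^ δ * n₁.1 := by ring
    rw [this]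
    refine le_order_sub' (le_trans ?_ hA3) (le_trans ?_ hB1)
    · exact_mod_cast (by have := min_le_left i j; omega : δ + min i j ≤ δ + i)
    · exact_mod_cast (by have := min_le_right i j; omega : δ + min i j ≤ δ + j)

lemma exists_evK_res_eq (H : Hyp O δ) {i j : ℕ} (hi : i ≤ δ) (hj : j ≤ δ) (w : k⟦X⟧ × k⟦X⟧)
    (hw : w ∈ J (i + j) (δ + min i j)) :
    ∃ φ ∈ resRange O (gd k i) (gc k δ) (Ij O δ j), evK H i j φ = w := by
  rw [mem_J] at hw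
  obtain ⟨w₂, hw₂⟩ := exists_eq_X_pow_mul hw.2.1
  obtain ⟨c, hc⟩ := exists_eq_X_pow_mul hw.2.2
  rcases le_total i j with hij | hij
  · rw [min_eq_left hij] at hc
    have hn₂ : (((X : k⟦X⟧) ^ j * w₂ + (X : k⟦X⟧) ^ δ * c, (X : k⟦X⟧) ^ j * w₂) : k⟦X⟧ × k⟦X⟧) ∈
        Ij O δ j := by
      rw [mem_Mg_iff H hj, mem_J]
      refine ⟨?_, ?_, ?_⟩
      · exact le_order_add' (le_order_X_pow_mul _ le_rfl) (le_order_X_pow_mul _ hj)
      · exact le_order_X_pow_mul _ le_rfl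
      · show (δ : ℕ∞) ≤ order ((X : k⟦X⟧) ^ j * w₂ + (X : k⟦X⟧) ^ δ * c - (X : k⟦X⟧) ^ j * w₂)
        rw [add_sub_cancel_left]
        exact le_order_X_pow_mul _ le_rfl
    obtain ⟨φ, hφ, he⟩ := exists_resRange_ev (gd_mem H i) (gc_mem H) 0 _
      (Ij O δ j).zero_mem hn₂
    refine ⟨φ, hφ, ?_⟩
    show ev O (gd k i) (gc k δ) (Ij O δ j) (koszul O (gd k i) (gc k δ) (gd_mem H i) (gc_mem H)) φ = w
    rw [he]
    refine Prod.ext ?_ ?_
    · show (X : k⟦X⟧) ^ i * ((X : k⟦X⟧) ^ j * w₂ + (X : k⟦X⟧) ^ δ * c) - (X : k⟦X⟧) ^ δ * 0 = w.1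
      rw [pow_add] at hw₂ hc
      linear_combination -hw₂ - hc
    · show (X : k⟦X⟧) ^ i * ((X : k⟦X⟧) ^ j * w₂) - 0 * 0 = w.2
      rw [pow_add] at hw₂
      linear_combination -hw₂
  · rw [min_eq_right hij] at hc
    have hn₂ : (((X : k⟦X⟧) ^ j * w₂, (X : k⟦X⟧) ^ j * w₂) : k⟦X⟧ × k⟦X⟧) ∈ Ij O δ j := by
      rw [mem_Mg_iff H hj, mem_J]
      refine ⟨le_order_X_pow_mul _ le_rfl, le_order_X_pow_mul _ le_rfl, ?_⟩
      show (δ : ℕ∞) ≤ order ((X : k⟦X⟧) ^ j * w₂ - (X : k⟦X⟧) ^ j * w₂)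
      rw [sub_self, order_zero]
      exact le_top
    have hn₁ : (((X : k⟦X⟧) ^ j * (-c), (X : k⟦X⟧) ^ j * (-c)) : k⟦X⟧ × k⟦X⟧) ∈ Ij O δ j := by
      rw [mem_Mg_iff H hj, mem_J]
      refine ⟨le_order_X_pow_mul _ le_rfl, le_order_X_pow_mul _ le_rfl, ?_⟩
      show (δ : ℕ∞) ≤ order ((X : k⟦X⟧) ^ j * (-c) - (X : k⟦X⟧) ^ j * (-c))
      rw [sub_self, order_zero]
      exact le_top
    obtain ⟨φ, hφ, he⟩ := exists_resRange_ev (gd_mem H i) (gc_mem H) _ _ hn₁ hn₂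
    refine ⟨φ, hφ, ?_⟩
    show ev O (gd k i) (gc k δ) (Ij O δ j) (koszul O (gd k i) (gc k δ) (gd_mem H i) (gc_mem H)) φ = w
    rw [he]
    refine Prod.ext ?_ ?_
    · show (X : k⟦X⟧) ^ i * ((X : k⟦X⟧) ^ j * w₂) - (X : k⟦X⟧) ^ δ * ((X : k⟦X⟧) ^ j * (-c)) = w.1
      rw [pow_add] at hw₂ hc
      linear_combination -hw₂ - hc
    · show (X : k⟦X⟧) ^ i * ((X : k⟦X⟧) ^ j * w₂) - 0 * ((X : k⟦X⟧) ^ j * (-c)) = w.2
      rw [pow_add] at hw₂
      linear_combination -hw₂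

/-! ### (J4) Jumps of `J p e` -/

/-- The jump set of `J p e`. -/
def V (p e : ℕ) : Set ℕ := {m | (m % 2 = 0 ∧ p ≤ m / 2) ∨ (m % 2 = 1 ∧ e ≤ m / 2)}

lemma mem_V {p e m : ℕ} : m ∈ V p e ↔ (m % 2 = 0 ∧ p ≤ m / 2) ∨ (m % 2 = 1 ∧ e ≤ m / 2) :=
  Iff.rfl

lemma jump_mem_V {p e m : ℕ} {w : k⟦X⟧ × k⟦X⟧} (hw : w ∈ J p e) (h1 : w ∈ Fil O m)
    (h2 : w ∉ Fil O (m + 1)) : m ∈ V p e := by
  rw [mem_J] at hw
  rw [mem_Fil] at h1 h2
  rw [mem_V]
  rcases Nat.even_or_odd' m with ⟨q, rfl | rfl⟩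
  · left
    refine ⟨by omega, ?_⟩
    rw [show 2 * q / 2 = q by omega]
    rw [show (2 * q + 1) / 2 = q by omega, show 2 * q / 2 = q by omega] at h1
    rw [show (2 * q + 1 + 1) / 2 = q + 1 by omega, show (2 * q + 1) / 2 = q by omega] at h2
    by_contra hlt
    rw [not_le] at hlt
    apply h2
    refine ⟨le_trans ?_ hw.1, h1.2⟩
    exact_mod_cast hlt
  · right
    refine ⟨by omega, ?_⟩
    rw [show (2 * q + 1) / 2 = q by omega]
    rw [show (2 * q + 1 + 1) / 2 = q + 1 by omega, show (2 * q + 1) / 2 = q by omega] at h1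
    rw [show (2 * q + 1 + 1 + 1) / 2 = q + 1 by omega,
      show (2 * q + 1 + 1) / 2 = q + 1 by omega] at h2
    by_contra hlt
    rw [not_le] at hlt
    apply h2
    refine ⟨h1.1, ?_⟩
    have : w.2 = w.1 - (w.1 - w.2) := by ring
    rw [this]
    refine le_order_sub' h1.1 (le_trans ?_ hw.2.2)
    exact_mod_cast hlt

lemma exists_jump {p e m : ℕ} (hpe : p ≤ e) (hm : m ∈ V p e) :
    ∃ w : k⟦X⟧ × k⟦X⟧, w ∈ J p e ∧ w ∈ Fil O m ∧ w ∉ Fil O (m + 1) := by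
  rw [mem_V] at hm
  rcases hm with ⟨hm, hq⟩ | ⟨hm, hq⟩
  · obtain ⟨q, rfl⟩ : ∃ q, m = 2 * q := ⟨m / 2, by omega⟩
    rw [show 2 * q / 2 = q by omega] at hq
    refine ⟨((X : k⟦X⟧) ^ q, (X : k⟦X⟧) ^ q), ?_, ?_, ?_⟩
    · rw [mem_J]
      refine ⟨?_, ?_, ?_⟩
      · show (p : ℕ∞) ≤ order ((X : k⟦X⟧) ^ q)
        rw [order_X_pow]
        exact_mod_cast hq
      · show (p : ℕ∞) ≤ order ((X : k⟦X⟧) ^ q)
        rw [order_X_pow]
        exact_mod_cast hq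
      · show (e : ℕ∞) ≤ order ((X : k⟦X⟧) ^ q - (X : k⟦X⟧) ^ q)
        rw [sub_self, order_zero]
        exact le_top
    · rw [mem_Fil, show (2 * q + 1) / 2 = q by omega, show 2 * q / 2 = q by omega]
      refine ⟨?_, ?_⟩
      · show (q : ℕ∞) ≤ order ((X : k⟦X⟧) ^ q)
        rw [order_X_pow]
      · show (q : ℕ∞) ≤ order ((X : k⟦X⟧) ^ q)
        rw [order_X_pow]
    · rw [mem_Fil, show (2 * q + 1 + 1) / 2 = q + 1 by omega]
      rintro ⟨h, -⟩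
      have h' : ((q + 1 : ℕ) : ℕ∞) ≤ order ((X : k⟦X⟧) ^ q) := h
      rw [order_X_pow] at h'
      have : q + 1 ≤ q := by exact_mod_cast h'
      omega
  · obtain ⟨q, rfl⟩ : ∃ q, m = 2 * q + 1 := ⟨m / 2, by omega⟩
    rw [show (2 * q + 1) / 2 = q by omega] at hq
    refine ⟨((0 : k⟦X⟧), (X : k⟦X⟧) ^ q), ?_, ?_, ?_⟩
    · rw [mem_J]
      refine ⟨?_, ?_, ?_⟩
      · show (p : ℕ∞) ≤ order (0 : k⟦X⟧)
        rw [order_zero]
        exact le_top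
      · show (p : ℕ∞) ≤ order ((X : k⟦X⟧) ^ q)
        rw [order_X_pow]
        exact_mod_cast le_trans hpe hq
      · show (e : ℕ∞) ≤ order ((0 : k⟦X⟧) - (X : k⟦X⟧) ^ q)
        rw [zero_sub, order_neg, order_X_pow]
        exact_mod_cast hq
    · rw [mem_Fil, show (2 * q + 1 + 1) / 2 = q + 1 by omega, show (2 * q + 1) / 2 = q by omega]
      refine ⟨?_, ?_⟩
      · show ((q + 1 : ℕ) : ℕ∞) ≤ order (0 : k⟦X⟧)
        rw [order_zero]
        exact le_top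
      · show (q : ℕ∞) ≤ order ((X : k⟦X⟧) ^ q)
        rw [order_X_pow]
    · rw [mem_Fil, show (2 * q + 1 + 1) / 2 = q + 1 by omega]
      rintro ⟨-, h⟩
      have h' : ((q + 1 : ℕ) : ℕ∞) ≤ order ((X : k⟦X⟧) ^ q) := h
      rw [order_X_pow] at h'
      have : q + 1 ≤ q := by exact_mod_cast h'
      omega

/-! ### The gained set and the count -/

theorem gained_eq (H : Hyp O δ) {i j : ℕ} (hi : i ≤ δ) (hj : j ≤ δ) :
    FiltLen.gained (P := HomK O (gd k i) (gc k δ) (Ij O δ j)) (Fil O) (evK H i j)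
      (resRange O (gd k i) (gc k δ) (Ij O δ j)) =
    {m | m ∈ V (max i j) δ ∧ m ∉ V (i + j) (δ + min i j)} := by
  ext m
  constructor
  · rintro ⟨⟨φ, h1, h2⟩, hno⟩
    refine ⟨jump_mem_V (evK_mem_J H hi hj φ) h1 h2, ?_⟩
    intro hV
    obtain ⟨w, hwJ, hw1, hw2⟩ := exists_jump (O := O)
      (by have := min_le_left i j; have := min_le_right i j; omega) hV
    obtain ⟨ψ, hψ, he⟩ := exists_evK_res_eq H hi hj w hwJ
    apply hno
    refine ⟨ψ, hψ, ?_, ?_⟩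
    · rw [he]; exact hw1
    · rw [he]; exact hw2
  · rintro ⟨hV, hnV⟩
    refine ⟨?_, ?_⟩
    · obtain ⟨w, hwJ, hw1, hw2⟩ := exists_jump (O := O) (max_le hi hj) hV
      obtain ⟨φ, he⟩ := exists_evK_eq H hi hj w hwJ
      refine ⟨φ, ?_, ?_⟩
      · rw [he]; exact hw1
      · rw [he]; exact hw2
    · rintro ⟨ψ, hψ, h1, h2⟩
      exact hnV (jump_mem_V (evK_res_mem_J H hi hj ψ hψ) h1 h2)

lemma ncard_V (δ i j : ℕ) (hi : i ≤ δ) (hj : j ≤ δ) :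
    {m | m ∈ V (max i j) δ ∧ m ∉ V (i + j) (δ + min i j)}.ncard = 2 * min i j := by
  classical
  set F : Finset ℕ := (Finset.Ico (max i j) (i + j)).image (fun l => 2 * l) ∪
    (Finset.Ico δ (δ + min i j)).image (fun l => 2 * l + 1) with hF
  have hset : {m | m ∈ V (max i j) δ ∧ m ∉ V (i + j) (δ + min i j)} = ↑F := by
    ext n
    simp only [hF, mem_V, Set.mem_ofPred_eq, Finset.coe_union, Finset.coe_image, Finset.coe_Ico,
      Set.mem_union, Set.mem_image, Set.mem_Ico]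
    rcases le_total i j with hij | hij
    · rw [min_eq_left hij, max_eq_right hij]
      constructor
      · intro h
        by_cases hpar : n % 2 = 0
        · left
          exact ⟨n / 2, by omega, by omega⟩
        · right
          exact ⟨n / 2, by omega, by omega⟩
      · rintro (⟨l, hl, rfl⟩ | ⟨l, hl, rfl⟩) <;> omega
    · rw [min_eq_right hij, max_eq_left hij]
      constructor
      · intro h
        by_cases hpar : n % 2 = 0
        · left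
          exact ⟨n / 2, by omega, by omega⟩
        · right
          exact ⟨n / 2, by omega, by omega⟩
      · rintro (⟨l, hl, rfl⟩ | ⟨l, hl, rfl⟩) <;> omega
  rw [hset, Set.ncard_coe_finset, hF, Finset.card_union_of_disjoint]
  · rw [Finset.card_image_of_injective _ (fun a b hab => by simpa using hab),
      Finset.card_image_of_injective _ (fun a b hab => by simpa using hab), Nat.card_Ico,
      Nat.card_Ico]
    rcases le_total i j with hij | hij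
    · rw [min_eq_left hij, max_eq_right hij]
      omega
    · rw [min_eq_right hij, max_eq_left hij]
      omega
  · rw [Finset.disjoint_left]
    intro n h1 h2
    rw [Finset.mem_image] at h1 h2
    obtain ⟨l, -, rfl⟩ := h1
    obtain ⟨l', -, h⟩ := h2
    omega

lemma mem_resRange_of_large (H : Hyp O δ) {i j : ℕ} (hi : i ≤ δ) (hj : j ≤ δ)
    (φ : HomK O (gd k i) (gc k δ) (Ij O δ j))
    (hφ : evK H i j φ ∈ Fil O (2 * (δ + i + j))) :
    φ ∈ resRange O (gd k i) (gc k δ) (Ij O δ j) := by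
  rw [mem_Fil, show (2 * (δ + i + j) + 1) / 2 = δ + i + j by omega,
    show 2 * (δ + i + j) / 2 = δ + i + j by omega] at hφ
  have hJ : evK H i j φ ∈ J (i + j) (δ + min i j) := by
    rw [mem_J]
    refine ⟨le_trans ?_ hφ.1, le_trans ?_ hφ.2, le_trans ?_ (le_order_sub' hφ.1 hφ.2)⟩
    · exact_mod_cast (by omega : i + j ≤ δ + i + j)
    · exact_mod_cast (by omega : i + j ≤ δ + i + j)
    · exact_mod_cast (by have := min_le_left i j; omega : δ + min i j ≤ δ + i + j)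
  obtain ⟨ψ, hψ, he⟩ := exists_evK_res_eq H hi hj _ hJ
  have : φ = ψ := ev_injective (gd_mem H i) (gc_mem H) (gd_reg i) φ ψ he.symm
  rw [this]
  exact hψ

/-- **Ext¹ between the rank-one modules over the two-branch `A_{2δ-1}` singularity.** -/
theorem length_ext_Ij (H : Hyp O δ) {i j : ℕ} (hi : i ≤ δ) (hj : j ≤ δ) :
    Module.length ↥O (Abelian.Ext (ModuleCat.of ↥O ↥(Mg O (gd k i) (gc k δ)))
      (ModuleCat.of ↥O ↥(Mg O (gd k j) (gc k δ))) 1) = ((2 * min i j : ℕ) : ℕ∞) := by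
  rw [length_ext_one O (gd k i) (gc k δ) (Ij O δ j) H
    (koszul O (gd k i) (gc k δ) (gd_mem H i) (gc_mem H)) (2 * (δ + i + j))
    (mem_resRange_of_large H hi hj), gained_eq H hi hj, ncard_V δ i j hi hj]

end Groth.Agent.Lib.Helper88.TwoBr
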